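import Mathlib.GroupTheory.Sylow
import Mathlib.GroupTheory.SpecificGroups.Alternating
import Mathlib.GroupTheory.SpecificGroups.Dihedral
import Mathlib.LinearAlgebra.Matrix.ProjectiveSpecialLinearGroup

/-!
The target of the Gorenstein–Walter project: the simple case, stated for use by its consequences.
-/

set_option autoImplicit false

namespace Cfsg.Agent.GW

universe u

/-- `G` is `PSL(2, q)` for an odd `q > 3`, or the alternating group of degree seven. -/
def IsTarget (G : Type u) [Group G] : Prop :=
  (∃ (F : Type) (_ : Field F) (_ : Fintype F), Odd (Fintype.card F) ∧ 3 < Fintype.card F ∧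
      Nonempty (G ≃* Matrix.ProjectiveSpecialLinearGroup (Fin 2) F)) ∨
    Nonempty (G ≃* alternatingGroup (Fin 7))

/-- A finite simple group with dihedral Sylow 2-subgroups of order at least four is a target. -/
def SimpleDihedral : Prop :=
  ∀ (G : Type u) [Group G] [Finite G] [IsSimpleGroup G] (P : Sylow 2 G) (n : ℕ), 2 ≤ n →
    Nonempty ((P : Subgroup G) ≃* DihedralGroup n) → IsTarget G

/-- Every simple section of order below `N` with dihedral Sylow 2-subgroups is a target. -/
def KnownBelow (N : ℕ) : Prop :=
  ∀ (G : Type u) [Group G] [Finite G] [IsSimpleGroup G] (P : Sylow 2 G) (n : ℕ), 2 ≤ n →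
    Nonempty ((P : Subgroup G) ≃* DihedralGroup n) → Nat.card G < N → IsTarget G

theorem knownBelow_of_simple (h : SimpleDihedral.{u}) (N : ℕ) : KnownBelow.{u} N :=
  fun G _ _ _ P n hn hP _ => h G P n hn hP

theorem simpleDihedral_of_step
    (h : ∀ (G : Type u) [Group G] [Finite G] [IsSimpleGroup G] (P : Sylow 2 G) (n : ℕ), 2 ≤ n →
      Nonempty ((P : Subgroup G) ≃* DihedralGroup n) → KnownBelow.{u} (Nat.card G) → IsTarget G) :
    SimpleDihedral.{u} := by
  suffices key : ∀ N, KnownBelow.{u} N by
    intro G _ _ _ P n hn hP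
    exact key (Nat.card G + 1) G P n hn hP (Nat.lt_succ_self _)
  intro N
  induction N with
  | zero => intro G _ _ _ P n _ _ hN; exact absurd hN (Nat.not_lt_zero _)
  | succ N ih =>
    intro G _ _ _ P n hn hP hN
    refine h G P n hn hP fun H _ _ _ Q m hm hQ hH => ih H Q m hm hQ ?_
    omega

end Cfsg.Agent.GW
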