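import Mathlib.GroupTheory.Index
import Mathlib.GroupTheory.QuotientGroup.Basic
import Mathlib.Algebra.Group.Subgroup.Pointwise
import Mathlib.Tactic.Linarith
import Mathlib.Tactic.IntervalCases
import Mathlib.Tactic.Positivity
import Mathlib.Tactic.Ring
import Mathlib.Tactic.Group
import Mathlib.Data.Fintype.Powerset

/-!
Counting commuting conjugates, and the numerical inequalities of the counting step.
-/

set_option autoImplicit false
set_option linter.style.haveILetI false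

namespace Cfsg.Agent.GW

open Subgroup

universe u

variable {G : Type u} [Group G]

theorem map_conj_mul (H : Subgroup G) (a b : G) :
    (H.map (MulAut.conj b).toMonoidHom).map (MulAut.conj a).toMonoidHom = H.map (MulAut.conj (a * b)).toMonoidHom := by
  rw [map_map]; congr 1; ext x; simp [mul_assoc]

theorem map_conj_eq_self {H : Subgroup G} {g : G} (hg : g ∈ normalizer (H : Set G)) :
    H.map (MulAut.conj g).toMonoidHom = H := by
  ext x
  constructor
  · rintro ⟨y, hy, rfl⟩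
    exact (mem_normalizer_iff.1 hg y).1 hy
  · intro hx
    exact ⟨g⁻¹ * x * g, (mem_normalizer_iff''.1 hg x).1 hx, by simp [mul_assoc]⟩

theorem mem_normalizer_of_map_eq {H : Subgroup G} {g : G}
    (h : H.map (MulAut.conj g).toMonoidHom = H) : g ∈ normalizer (H : Set G) := by
  rw [mem_normalizer_iff]
  intro x
  constructor
  · intro hx
    have hm : (MulAut.conj g).toMonoidHom x ∈ H.map (MulAut.conj g).toMonoidHom := mem_map_of_mem _ hx
    rw [h] at hm
    exact hm
  · intro hx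
    rw [← h] at hx
    obtain ⟨y, hy, e⟩ := hx
    have : y = x := mul_left_cancel (mul_right_cancel (show g * y * g⁻¹ = g * x * g⁻¹ from e))
    rwa [← this]

theorem map_conj_injective (g : G) : Function.Injective fun H : Subgroup G => H.map (MulAut.conj g).toMonoidHom :=
  map_injective (f := (MulAut.conj g).toMonoidHom) (MulAut.conj g).injective

/-- The conjugates of `H` by elements of `K` are counted by the relative index of `N(H)`. -/
theorem card_conjugates_in [Finite G] (H K : Subgroup G) :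
    Nat.card {Q : Subgroup G // ∃ g ∈ K, Q = H.map (MulAut.conj g).toMonoidHom} =
      (normalizer (H : Set G)).relIndex K := by
  set S := (normalizer (H : Set G)).subgroupOf K
  have hiff : ∀ a b : K, a⁻¹ * b ∈ S ↔
      H.map (MulAut.conj (a : G)).toMonoidHom = H.map (MulAut.conj (b : G)).toMonoidHom := by
    intro a b
    rw [mem_subgroupOf, coe_mul, coe_inv]
    constructor
    · intro h
      have := congrArg (fun L : Subgroup G => L.map (MulAut.conj (a : G)).toMonoidHom) (map_conj_eq_self h)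
      simp only [map_conj_mul, mul_inv_cancel_left] at this
      exact this.symm
    · intro h
      refine mem_normalizer_of_map_eq ?_
      rw [← map_conj_mul, ← h, map_conj_mul, inv_mul_cancel, map_one]
      exact map_id _
  let f : K ⧸ S → {Q : Subgroup G // ∃ g ∈ K, Q = H.map (MulAut.conj g).toMonoidHom} :=
    Quotient.lift (fun a : K => ⟨_, a, a.2, rfl⟩) fun a b h =>
      Subtype.ext ((hiff a b).1 (QuotientGroup.leftRel_apply.1 h))
  refine (Nat.card_eq_of_bijective f ⟨?_, ?_⟩).symm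
  · intro x y
    induction x using QuotientGroup.induction_on with
    | _ a =>
      induction y using QuotientGroup.induction_on with
      | _ b => exact fun h => QuotientGroup.eq.2 ((hiff a b).2 (congrArg Subtype.val h))
  · rintro ⟨_, g, hg, rfl⟩
    exact ⟨QuotientGroup.mk (⟨g, hg⟩ : K), rfl⟩

/-- All conjugates of `H` are counted by the index of `N(H)`. -/
theorem card_conjugates [Finite G] (H : Subgroup G) :
    Nat.card {Q : Subgroup G // ∃ g : G, Q = H.map (MulAut.conj g).toMonoidHom} =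
      (normalizer (H : Set G)).index := by
  rw [← relIndex_top_right, ← card_conjugates_in]
  exact Nat.card_congr (Equiv.subtypeEquivRight fun Q => ⟨fun ⟨g, h⟩ => ⟨g, mem_top g, h⟩, fun ⟨g, _, h⟩ => ⟨g, h⟩⟩)

/-- Conjugates of `E` in stars of the conjugates of `E` inside `A` are distinct. -/
theorem count_conj [Finite G] (A E : Subgroup G) (hA : A ≤ centralizer (A : Set G))
    (Es : Finset (Subgroup G)) (hE : E ∈ Es) (hle : ∀ E' ∈ Es, E' ≤ A)
    (hconj : ∀ E' ∈ Es, ∃ c ∈ normalizer (A : Set G), E' = E.map (MulAut.conj c).toMonoidHom)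
    (hgen : ∀ E1 ∈ Es, ∀ E2 ∈ Es, E1 ≠ E2 → E1 ⊔ E2 = A) (B : ℕ)
    (hB : Nat.card {Q : Subgroup G // (∃ g ∈ normalizer (E : Set G), Q = A.map (MulAut.conj g).toMonoidHom) ∧
      Q ≤ centralizer (A : Set G)} ≤ B) :
    Es.card * (Es.card - 1) * ((normalizer (A : Set G)).relIndex (normalizer (E : Set G)) - B) ≤
      (normalizer (E : Set G)).index := by
  classical
  haveI : Finite (Subgroup G) := Finite.of_injective (fun H : Subgroup G => (H : Set G)) SetLike.coe_injective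
  haveI : Fintype (Subgroup G) := Fintype.ofFinite _
  let All : Finset (Subgroup G) :=
    Finset.univ.filter fun Q => ∃ g ∈ normalizer (E : Set G), Q = A.map (MulAut.conj g).toMonoidHom
  let T : Finset (Subgroup G) := All.filter fun Q => ¬ Q ≤ centralizer (A : Set G)
  have hT : (normalizer (A : Set G)).relIndex (normalizer (E : Set G)) - B ≤ T.card := by
    have h1 : All.card = (normalizer (A : Set G)).relIndex (normalizer (E : Set G)) := by
      rw [← card_conjugates_in, Nat.card_eq_fintype_card, Fintype.card_subtype]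
    have h2 : (All.filter fun Q => Q ≤ centralizer (A : Set G)).card ≤ B := by
      refine le_trans (le_of_eq ?_) hB
      rw [Nat.card_eq_fintype_card, Fintype.card_subtype]
      exact congrArg Finset.card (Finset.filter_filter _ _ _)
    have h3 := Finset.card_filter_add_card_filter_not (s := All) (fun Q => Q ≤ centralizer (A : Set G))
    have h4 : T.card = (All.filter fun Q => ¬ Q ≤ centralizer (A : Set G)).card := rfl
    omega
  choose c hcN hcE using hconj
  have hQ : ∀ Q ∈ T, ∃ g, g ∈ normalizer (E : Set G) ∧ Q = A.map (MulAut.conj g).toMonoidHom ∧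
      ¬ Q ≤ centralizer (A : Set G) := by
    intro Q hQ
    obtain ⟨hQA, hQC⟩ := Finset.mem_filter.1 hQ
    obtain ⟨g, hg, hgQ⟩ := (Finset.mem_filter.1 hQA).2
    exact ⟨g, hg, hgQ, hQC⟩
  choose g hgN hgA hgC using hQ
  let D := (Es.offDiag ×ˢ T : Finset ((Subgroup G × Subgroup G) × Subgroup G))
  -- the element attached to a triple
  let el : ∀ d : D, G := fun d =>
    c d.1.1.1 (Finset.mem_offDiag.1 (Finset.mem_product.1 d.2).1).1 * g d.1.2 (Finset.mem_product.1 d.2).2 *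
      (c d.1.1.1 (Finset.mem_offDiag.1 (Finset.mem_product.1 d.2).1).1)⁻¹
  let Φ : D → {Q : Subgroup G // ∃ x : G, Q = E.map (MulAut.conj x).toMonoidHom} := fun d =>
    ⟨d.1.1.2.map (MulAut.conj (el d)).toMonoidHom,
      el d * c d.1.1.2 (Finset.mem_offDiag.1 (Finset.mem_product.1 d.2).1).2.1, by
        exact (congrArg (fun L : Subgroup G => L.map (MulAut.conj (el d)).toMonoidHom)
          (hcE _ (Finset.mem_offDiag.1 (Finset.mem_product.1 d.2).1).2.1)).trans (map_conj_mul _ _ _)⟩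
  -- the first member is fixed, and with the image it generates a conjugate of `A` not in `C(A)`
  have hfix : ∀ d : D, d.1.1.1.map (MulAut.conj (el d)).toMonoidHom = d.1.1.1 := by
    intro d
    obtain ⟨⟨hi, hj, hne⟩, hq⟩ := And.intro (Finset.mem_offDiag.1 (Finset.mem_product.1 d.2).1) (Finset.mem_product.1 d.2).2
    conv_lhs => rw [hcE _ hi]
    show (E.map (MulAut.conj (c _ hi)).toMonoidHom).map (MulAut.conj (c _ hi * g _ hq * (c _ hi)⁻¹)).toMonoidHom = _
    rw [map_conj_mul, inv_mul_cancel_right, ← map_conj_mul, map_conj_eq_self (hgN _ hq), ← hcE _ hi]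
  have hsup : ∀ d : D, d.1.1.1 ⊔ (Φ d).1 = A.map (MulAut.conj (el d)).toMonoidHom := by
    intro d
    have hm := Finset.mem_offDiag.1 (Finset.mem_product.1 d.2).1
    show d.1.1.1 ⊔ d.1.1.2.map _ = _
    conv_lhs => rw [← hfix d]
    rw [← Subgroup.map_sup, hgen _ hm.1 _ hm.2.1 hm.2.2]
  have hbad : ∀ d : D, ¬ A.map (MulAut.conj (el d)).toMonoidHom ≤ centralizer (A : Set G) := by
    intro d hle'
    have hi := (Finset.mem_offDiag.1 (Finset.mem_product.1 d.2).1).1
    have hq := (Finset.mem_product.1 d.2).2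
    apply hgC _ hq
    rw [hgA _ hq]
    rintro _ ⟨a, ha, rfl⟩
    have h1 : el d * (c _ hi * a * (c _ hi)⁻¹) * (el d)⁻¹ ∈ centralizer (A : Set G) :=
      hle' ⟨_, (mem_normalizer_iff.1 (hcN _ hi) a).1 ha, rfl⟩
    have e : el d * (c _ hi * a * (c _ hi)⁻¹) * (el d)⁻¹ = c _ hi * (g _ hq * a * (g _ hq)⁻¹) * (c _ hi)⁻¹ := by
      show c _ hi * g _ hq * (c _ hi)⁻¹ * (c _ hi * a * (c _ hi)⁻¹) * (c _ hi * g _ hq * (c _ hi)⁻¹)⁻¹ = _
      group
    rw [e] at h1
    rw [mem_centralizer_iff] at h1 ⊢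
    intro x hx
    have h2 := h1 (c _ hi * x * (c _ hi)⁻¹) ((mem_normalizer_iff.1 (hcN _ hi) x).1 hx)
    show x * (g _ hq * a * (g _ hq)⁻¹) = g _ hq * a * (g _ hq)⁻¹ * x
    have h3 := congrArg (fun y => (c _ hi)⁻¹ * y * c _ hi) h2
    simp only [← mul_assoc, inv_mul_cancel, one_mul, inv_mul_cancel_right] at h3
    simp only [← mul_assoc]
    exact h3
  have hΦ : Function.Injective Φ := by
    intro d d' h
    have hm := Finset.mem_offDiag.1 (Finset.mem_product.1 d.2).1
    have hm' := Finset.mem_offDiag.1 (Finset.mem_product.1 d'.2).1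
    have hw : (Φ d).1 = (Φ d').1 := congrArg Subtype.val h
    have habel : ∀ x : G, A.map (MulAut.conj x).toMonoidHom ≤
        centralizer (A.map (MulAut.conj x).toMonoidHom : Set G) := by
      rintro x _ ⟨a, ha, rfl⟩
      rw [mem_centralizer_iff]
      rintro _ ⟨b, hb, rfl⟩
      rw [← map_mul, ← map_mul, mem_centralizer_iff.1 (hA ha) b hb]
    have hij : d.1.1.1 = d'.1.1.1 := by
      by_contra hne
      apply hbad d
      rw [← hsup d]
      have hAgen : d.1.1.1 ⊔ d'.1.1.1 = A := hgen _ hm.1 _ hm'.1 hne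
      -- both members centralise the image
      have hi_w : d.1.1.1 ≤ centralizer ((Φ d).1 : Set G) :=
        ((le_sup_left).trans (hsup d).le).trans ((habel _).trans (centralizer_le (SetLike.coe_subset_coe.2 (le_sup_right.trans (hsup d).le))))
      have hj_w : d'.1.1.1 ≤ centralizer ((Φ d).1 : Set G) := by
        rw [hw]
        exact ((le_sup_left).trans (hsup d').le).trans ((habel _).trans (centralizer_le (SetLike.coe_subset_coe.2 (le_sup_right.trans (hsup d').le))))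
      refine sup_le ((hle _ hm.1).trans hA) ?_
      rw [le_centralizer_iff]
      exact hAgen ▸ sup_le hi_w hj_w
    have hAA : A.map (MulAut.conj (el d)).toMonoidHom = A.map (MulAut.conj (el d')).toMonoidHom := by
      rw [← hsup d, ← hsup d', hw, hij]
    obtain ⟨⟨⟨i, j⟩, Q⟩, hd⟩ := d
    obtain ⟨⟨⟨i', j'⟩, Q'⟩, hd'⟩ := d'
    dsimp only at hij hm hm'
    subst hij
    have hQQ : Q = Q' := by
      have hq := (Finset.mem_product.1 hd).2
      have hq' := (Finset.mem_product.1 hd').2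
      refine (hgA _ hq).trans (Eq.trans ?_ (hgA _ hq').symm)
      apply map_conj_injective (c i hm.1)
      have e : ∀ y : G, (A.map (MulAut.conj y).toMonoidHom).map (MulAut.conj (c i hm.1)).toMonoidHom =
          A.map (MulAut.conj (c i hm.1 * y * (c i hm.1)⁻¹)).toMonoidHom := by
        intro y
        conv_rhs => rw [← map_conj_eq_self (hcN i hm.1), map_conj_mul, inv_mul_cancel_right]
        rw [map_conj_mul]
      show Subgroup.map _ _ = Subgroup.map _ _
      rw [e, e]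
      exact hAA
    subst hQQ
    have hjj : j = j' := map_conj_injective _ hw
    subst hjj
    rfl
  have hcard := Nat.card_le_card_of_injective Φ hΦ
  rw [card_conjugates, Nat.card_eq_finsetCard, Finset.card_product, Finset.offDiag_card] at hcard
  refine le_trans (Nat.mul_le_mul ?_ hT) hcard
  rw [Nat.mul_sub, mul_one]

/-! ### Numerical inequalities -/

/-- The lower bound on `(J - 1) * J`. -/
theorem four_mul_le {c J : ℕ} (h3 : 3 ≤ c) (hJ : (c - 1) * (c - 2) ≤ 2 * J) :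
    c * (c - 3) * ((c - 1) * (c - 2)) ≤ 4 * ((J - 1) * J) := by
  have h1 : c * (c - 3) ≤ 2 * (J - 1) := by
    obtain ⟨d, rfl⟩ : ∃ d, c = d + 3 := ⟨c - 3, by omega⟩
    have e : (d + 3 - 1) * (d + 3 - 2) = (d + 3) * (d + 3 - 3) + 2 := by
      simp only [show d + 3 - 1 = d + 2 by omega, show d + 3 - 2 = d + 1 by omega, Nat.add_sub_cancel]
      ring
    omega
  calc c * (c - 3) * ((c - 1) * (c - 2)) ≤ 2 * (J - 1) * (2 * J) := Nat.mul_le_mul h1 hJ
    _ = 4 * ((J - 1) * J) := by ring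

theorem num_irr {q c k M I J : ℕ} (hI : 16 * I ≤ 15 * M ^ 2) (hJ : (c - 1) * (c - 2) ≤ 2 * J)
    (hq : 3 ≤ q) (hqc : 4 * q ≤ c) (hk : 2 ≤ k) (hkq : k ≤ q + 1) (hM : M ≤ 2 * k * c) :
    I < (k - 1) * (J - 1) * J := by
  have h4 := four_mul_le (by omega) hJ
  have hM2 : M ^ 2 ≤ (2 * k * c) ^ 2 := Nat.pow_le_pow_left hM 2
  have key : 15 * k ^ 2 * c < (k - 1) * ((c - 1) * (c - 2) * (c - 3)) := by
    obtain ⟨d, rfl⟩ : ∃ d, c = d + 12 := ⟨c - 12, by omega⟩
    obtain ⟨e, rfl⟩ : ∃ e, k = e + 2 := ⟨k - 2, by omega⟩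
    have hde : 4 * e ≤ d + 8 := by omega
    rw [show d + 12 - 1 = d + 11 by omega, show d + 12 - 2 = d + 10 by omega,
      show d + 12 - 3 = d + 9 by omega, show e + 2 - 1 = e + 1 by omega]
    nlinarith [Nat.mul_le_mul_left (e * (d + 12)) hde, Nat.mul_le_mul_left (e * d) hde,
      Nat.zero_le (d * d * d), Nat.zero_le (e * d), Nat.zero_le (e * e)]
  have h5 := Nat.mul_le_mul_left (k - 1) h4
  have key' : 60 * k ^ 2 * c ^ 2 < 16 * ((k - 1) * ((J - 1) * J)) := by
    have := Nat.mul_lt_mul_of_pos_left key (show 0 < 4 * c by omega)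
    nlinarith
  rw [mul_assoc]
  nlinarith

theorem num_inv {q c k M I J : ℕ} (hI : 16 * I ≤ 15 * M ^ 2) (hJ : (c - 1) * (c - 2) ≤ 2 * J)
    (hq : 3 ≤ q) (hqc : 4 * q ≤ c) (hk : 3 ≤ k) (hkq : k ≤ q + 1) (hM : 4 * M ≤ (4 * k + c) * c) :
    I < (k - 1) * (J - 1) * J := by
  have h4 := four_mul_le (by omega) hJ
  have hM2 : (4 * M) ^ 2 ≤ ((4 * k + c) * c) ^ 2 := Nat.pow_le_pow_left hM 2
  have key : 15 * (4 * k + c) ^ 2 * c < 64 * (k - 1) * ((c - 1) * (c - 2) * (c - 3)) := by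
    obtain ⟨d, rfl⟩ : ∃ d, c = d + 12 := ⟨c - 12, by omega⟩
    obtain ⟨e, rfl⟩ : ∃ e, k = e + 3 := ⟨k - 3, by omega⟩
    have hde : 4 * e ≤ d + 4 := by omega
    rw [show d + 12 - 1 = d + 11 by omega, show d + 12 - 2 = d + 10 by omega,
      show d + 12 - 3 = d + 9 by omega, show e + 3 - 1 = e + 2 by omega]
    nlinarith [Nat.mul_le_mul_left (e * (d + 12)) hde, Nat.mul_le_mul_left (e * d) hde,
      Nat.zero_le (d * d * d), Nat.zero_le (e * d), Nat.zero_le (e * e)]
  have h5 := Nat.mul_le_mul_left (k - 1) h4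
  have key' : 15 * (4 * k + c) ^ 2 * c ^ 2 < 256 * ((k - 1) * ((J - 1) * J)) := by
    have := Nat.mul_lt_mul_of_pos_left key (show 0 < c by omega)
    nlinarith
  rw [mul_assoc]
  nlinarith

theorem num_tr {q Q c k M I J : ℕ} (hI : 16 * I ≤ 15 * M ^ 2) (hJ : (c - 1) * (c - 2) ≤ 2 * J)
    (hq : 3 ≤ q) (hQ : q ^ 2 ≤ Q) (hQc : 4 * Q ≤ c) (hM : M ≤ 4 * q * c) (hk0 : 0 < k)
    (hk : (q - 1) * k ≤ q * (Q - 1)) : I * k < q * (q - 1) * (J - 1) * J := by
  have hq9 : 9 ≤ Q := le_trans (by nlinarith) hQ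
  have h4 := four_mul_le (by omega) hJ
  have hM2 : M ^ 2 ≤ (4 * q * c) ^ 2 := Nat.pow_le_pow_left hM 2
  obtain ⟨s, rfl⟩ : ∃ s, q = s + 1 := ⟨q - 1, by omega⟩
  rw [Nat.add_sub_cancel] at hk ⊢
  -- `9 s ^ 2` dominates `4 q ^ 2`
  have hsq : 4 * (s + 1) ^ 2 ≤ 9 * s ^ 2 := by nlinarith
  have key : 135 * (c * (Q - 1)) < (c - 1) * (c - 2) * (c - 3) := by
    obtain ⟨d, rfl⟩ : ∃ d, c = d + 36 := ⟨c - 36, by omega⟩
    have hQd : 4 * (Q - 1) ≤ d + 32 := by omega
    rw [show d + 36 - 1 = d + 35 by omega, show d + 36 - 2 = d + 34 by omega,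
      show d + 36 - 3 = d + 33 by omega]
    have := Nat.mul_le_mul_left (135 * (d + 36)) hQd
    nlinarith [Nat.zero_le (d * d * d), Nat.zero_le (d * d)]
  have h5 : 60 * (s + 1) * c * k * s < s ^ 2 * ((c - 1) * (c - 2) * (c - 3)) := by
    have h6 : 60 * (s + 1) * c * (s * k) ≤ 60 * (s + 1) * c * ((s + 1) * (Q - 1)) := Nat.mul_le_mul_left _ hk
    have h7 : 4 * (60 * (s + 1) * c * ((s + 1) * (Q - 1))) ≤ 4 * (s ^ 2 * (135 * (c * (Q - 1)))) := by
      have := Nat.mul_le_mul_left (60 * (c * (Q - 1))) hsq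
      nlinarith
    have h8 := Nat.mul_lt_mul_of_pos_left key (show 0 < s ^ 2 from pow_pos (by omega) 2)
    nlinarith
  have h9 : 60 * (s + 1) * c * k < s * ((c - 1) * (c - 2) * (c - 3)) :=
    Nat.lt_of_mul_lt_mul_right (a := s) (by nlinarith)
  have h10 := Nat.mul_lt_mul_of_pos_left h9 (show 0 < (s + 1) * c from Nat.mul_pos (by omega) (by omega))
  have h11 := Nat.mul_le_mul_left ((s + 1) * s) h4
  have h12 := Nat.mul_le_mul_right k (le_trans hI (Nat.mul_le_mul_left 15 hM2))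
  rw [mul_assoc ((s + 1) * s)]
  nlinarith

theorem symp_aux {q : ℕ} (hq : 5 ≤ q) : 30 * (q * (q + 1)) ^ 3 <
    (q - 1) ^ 2 * ((4 * q - 1) * (4 * q - 2) * (4 * q - 3) * (4 * q - 8)) := by
  obtain ⟨t, rfl⟩ : ∃ t, q = t + 5 := ⟨q - 5, by omega⟩
  rw [show t + 5 - 1 = t + 4 by omega, show 4 * (t + 5) - 1 = 4 * t + 19 by omega,
    show 4 * (t + 5) - 2 = 4 * t + 18 by omega, show 4 * (t + 5) - 3 = 4 * t + 17 by omega,
    show 4 * (t + 5) - 8 = 4 * t + 12 by omega]
  ring_nf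
  nlinarith [Nat.zero_le (t ^ 2), Nat.zero_le (t ^ 3), Nat.zero_le (t ^ 4), Nat.zero_le (t ^ 5), Nat.zero_le (t ^ 6)]

theorem num_symp {q c k M I J : ℕ} (hI : 16 * I ≤ 15 * M ^ 2) (hJ : (c - 1) * (c - 2) ≤ 2 * J)
    (hq : 3 ≤ q) (hqc : 4 * q ≤ c) (hk0 : 0 < k)
    (hk : (5 ≤ q ∧ k ≤ q * (q + 1)) ∨ (q = 3 ∧ k ≤ 6)) (hM : M ≤ 2 * k * c) :
    I * k < (q - 1) ^ 2 * (J - 1) * (J - (2 * c + 5)) * J := by
  have h4 := four_mul_le (by omega) hJ
  have hM2 : M ^ 2 ≤ (2 * k * c) ^ 2 := Nat.pow_le_pow_left hM 2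
  have h8 : (c - 8) * (c + 1) ≤ 2 * (J - (2 * c + 5)) := by
    obtain ⟨d, rfl⟩ : ∃ d, c = d + 12 := ⟨c - 12, by omega⟩
    have e : (d + 12 - 1) * (d + 12 - 2) = (d + 12 - 8) * (d + 12 + 1) + 2 * (2 * (d + 12) + 5) := by
      rw [show d + 12 - 1 = d + 11 by omega, show d + 12 - 2 = d + 10 by omega, show d + 12 - 8 = d + 4 by omega]
      ring
    omega
  have hmono : ∀ a, 4 * q - a ≤ c - a := fun a => by omega
  have key : 30 * k ^ 3 * c < (q - 1) ^ 2 * ((c - 1) * (c - 2) * (c - 3) * ((c - 8) * (c + 1))) := by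
    rcases hk with ⟨h5, hkq⟩ | ⟨rfl, hk6⟩
    · have a1 : 30 * k ^ 3 ≤ 30 * (q * (q + 1)) ^ 3 := Nat.mul_le_mul_left _ (Nat.pow_le_pow_left hkq 3)
      have a3 : (4 * q - 1) * (4 * q - 2) * (4 * q - 3) * (4 * q - 8) ≤ (c - 1) * (c - 2) * (c - 3) * (c - 8) :=
        Nat.mul_le_mul (Nat.mul_le_mul (Nat.mul_le_mul (hmono 1) (hmono 2)) (hmono 3)) (hmono 8)
      calc 30 * k ^ 3 * c < (q - 1) ^ 2 * ((4 * q - 1) * (4 * q - 2) * (4 * q - 3) * (4 * q - 8)) * (c + 1) :=
            Nat.mul_lt_mul'' (lt_of_le_of_lt a1 (symp_aux h5)) (Nat.lt_succ_self c)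
        _ ≤ (q - 1) ^ 2 * ((c - 1) * (c - 2) * (c - 3) * (c - 8)) * (c + 1) :=
            Nat.mul_le_mul_right _ (Nat.mul_le_mul_left _ a3)
        _ = _ := by ring
    · have a1 : 30 * k ^ 3 ≤ 30 * 216 := Nat.mul_le_mul_left _ (le_trans (Nat.pow_le_pow_left hk6 3) (by norm_num))
      have a3 : 11 * 10 * 9 * 4 ≤ (c - 1) * (c - 2) * (c - 3) * (c - 8) :=
        Nat.mul_le_mul (Nat.mul_le_mul (Nat.mul_le_mul (hmono 1) (hmono 2)) (hmono 3)) (hmono 8)
      calc 30 * k ^ 3 * c < (3 - 1) ^ 2 * (11 * 10 * 9 * 4) * (c + 1) :=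
            Nat.mul_lt_mul'' (lt_of_le_of_lt a1 (by norm_num)) (Nat.lt_succ_self c)
        _ ≤ (3 - 1) ^ 2 * ((c - 1) * (c - 2) * (c - 3) * (c - 8)) * (c + 1) :=
            Nat.mul_le_mul_right _ (Nat.mul_le_mul_left _ a3)
        _ = _ := by ring
  have h11 : (q - 1) ^ 2 * (c * (c - 3) * ((c - 1) * (c - 2)) * ((c - 8) * (c + 1))) ≤
      (q - 1) ^ 2 * (4 * ((J - 1) * J) * (2 * (J - (2 * c + 5)))) :=
    Nat.mul_le_mul_left _ (Nat.mul_le_mul h4 h8)
  have key2 : c * (30 * k ^ 3 * c) < c * ((q - 1) ^ 2 * ((c - 1) * (c - 2) * (c - 3) * ((c - 8) * (c + 1)))) :=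
    Nat.mul_lt_mul_of_pos_left key (by omega)
  have h12 := Nat.mul_le_mul_right k (le_trans hI (Nat.mul_le_mul_left 15 hM2))
  nlinarith

theorem num_a7 {k M I : ℕ} (hI : 16 * I ≤ 15 * M ^ 2) (hk : 2 ≤ k) (hk4 : k ≤ 4)
    (hM : M ≤ 24 * k ∨ (3 ≤ k ∧ 4 * M ≤ (4 * k + 12) * 12)) : I < (k - 1) * 30 * 105 := by
  have hM' : M ≤ 24 * k := by
    rcases hM with h | ⟨h3, h⟩ <;> omega
  have := Nat.pow_le_pow_left hM' 2
  interval_cases k <;> omega

end Cfsg.Agent.GW
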