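import Cfsg.Agent.Lib.GW.SplitDef
import Cfsg.Agent.Lib.GW.Count

/-!
The irreducible configuration: the conjugates of the fixed line under the centraliser.
-/

set_option autoImplicit false
set_option linter.unusedSectionVars false
set_option linter.style.haveILetI false

namespace Cfsg.Agent.GW

open Cfsg.Agent.TwoFus Cfsg.Agent.BenderUnique Subgroup

universe u

/-- Subgroups inside `N` meeting pairwise inside `K` are few. -/
theorem card_mul_le_outside {G : Type u} [Group G] [Finite G] {N K : Subgroup G} (hK : K ≤ N) {d : ℕ}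
    (s : Finset (Subgroup G)) (hN : ∀ Q ∈ s, Q ≤ N)
    (hd : ∀ Q ∈ s, Nat.card (Q ⊓ K : Subgroup G) + d ≤ Nat.card Q)
    (hi : ∀ Q ∈ s, ∀ R ∈ s, Q ≠ R → Q ⊓ R ≤ K) :
    s.card * d + Nat.card K ≤ Nat.card N := by
  classical
  haveI : Fintype G := Fintype.ofFinite G
  have hc : ∀ H : Subgroup G, Nat.card H = (Finset.univ.filter fun g => g ∈ H).card := fun H => by
    rw [Nat.card_eq_fintype_card, Fintype.card_subtype]
  let F : Subgroup G → Finset G := fun Q => Finset.univ.filter fun g => g ∈ Q ∧ g ∉ K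
  have hF : ∀ Q ∈ s, d ≤ (F Q).card := by
    intro Q hQ
    have h1 := Finset.card_filter_add_card_filter_not (s := Finset.univ.filter fun g => g ∈ Q)
      (fun g => g ∈ K)
    rw [Finset.filter_filter, Finset.filter_filter] at h1
    have h2 := hd Q hQ
    rw [hc, hc] at h2
    have h3 : (Finset.univ.filter fun g => g ∈ Q ∧ g ∈ K) =
        Finset.univ.filter fun g => g ∈ Q ⊓ K := by
      ext g; simp [mem_inf]
    rw [h3] at h1
    show d ≤ (Finset.univ.filter fun g => g ∈ Q ∧ g ∉ K).card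
    omega
  have hdis : (s : Set (Subgroup G)).PairwiseDisjoint F := by
    intro Q hQ R hR hne
    refine Finset.disjoint_left.2 fun g h1 h2 => ?_
    exact (Finset.mem_filter.1 h1).2.2 (hi Q hQ R hR hne ⟨(Finset.mem_filter.1 h1).2.1,
      (Finset.mem_filter.1 h2).2.1⟩)
  have h4 : s.card * d ≤ (Finset.univ.filter fun g => g ∈ N ∧ g ∉ K).card := by
    refine le_trans ?_ (Finset.card_le_card (s := s.biUnion F) ?_)
    · rw [Finset.card_biUnion hdis, ← smul_eq_mul]
      exact Finset.card_nsmul_le_sum s _ d hF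
    · intro g hg
      obtain ⟨Q, hQ, hgQ⟩ := Finset.mem_biUnion.1 hg
      exact Finset.mem_filter.2 ⟨Finset.mem_univ _, hN Q hQ (Finset.mem_filter.1 hgQ).2.1,
        (Finset.mem_filter.1 hgQ).2.2⟩
  have h5 := Finset.card_filter_add_card_filter_not (s := Finset.univ.filter fun g => g ∈ N)
    (fun g => g ∈ K)
  rw [Finset.filter_filter, Finset.filter_filter] at h5
  have h6 : (Finset.univ.filter fun g => g ∈ N ∧ g ∈ K) = Finset.univ.filter fun g => g ∈ K := by
    ext g
    simp only [Finset.mem_filter, Finset.mem_univ, true_and]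
    exact ⟨fun h => h.2, fun h => ⟨hK h, h⟩⟩
  rw [h6, ← hc, ← hc] at h5
  omega

theorem sup_comm_pair {G : Type u} [Group G] {a b : G} (h : a * b = b * a) :
    zpowers a ⊔ zpowers b ≤ centralizer ((zpowers a ⊔ zpowers b : Subgroup G) : Set G) := by
  rw [zpowers_eq_closure, zpowers_eq_closure, ← Subgroup.closure_union, centralizer_closure, closure_le]
  intro x hx
  rw [SetLike.mem_coe, mem_centralizer_iff]
  intro w hw
  rcases hx with rfl | rfl <;> rcases hw with rfl | rfl <;> first | rfl | exact h | exact h.symm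

theorem card_map_conj {G : Type u} [Group G] (H : Subgroup G) (g : G) :
    Nat.card (H.map (MulAut.conj g).toMonoidHom) = Nat.card H :=
  card_map_of_injective (MulAut.conj g).injective

namespace Core

variable {G : Type u} [Group G] [Finite G] {c : Core G} {a : G} {q : ℕ} [hq : Fact q.Prime]
  {e f y : G}

/-- A plane of `N` through the line `⟨f⟩`. -/
def IrrPlane (q : ℕ) (f : G) (N A : Subgroup G) : Prop :=
  zpowers f ≤ A ∧ A ≤ N ∧ Nat.card A = q ^ 2

namespace Irr

variable {N : Subgroup G} (R : c.Irr a q e f y N)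

include R

theorem e_W : e ∈ c.W a := R.e_mem.2

theorem a_e : a * e * a⁻¹ = e :=
  mul_inv_eq_iff_eq_mul.2 ((R.refl.mem_W.1 R.e_W).2).symm

theorem e_N : e ∈ N := R.N_eq ▸ mem_sup_left (mem_sup_left (mem_zpowers e))
theorem y_N : y ∈ N := R.N_eq ▸ mem_sup_left (mem_sup_right (mem_zpowers y))
theorem f_N : f ∈ N := R.N_eq ▸ mem_sup_right (mem_zpowers f)

theorem e_not_f : e ∉ zpowers f := fun hm => by
  obtain ⟨i, hi⟩ := hm
  have h : a * e * a⁻¹ = e⁻¹ := by
    rw [← hi]
    show a * f ^ i * a⁻¹ = (f ^ i)⁻¹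
    rw [← conj_zpow, R.f_inv, inv_zpow]
  rw [R.a_e] at h
  exact R.e_ne (eq_one_of_sq_odd (by nth_rewrite 1 [h]; rw [inv_mul_cancel])
    (c.odd_of_mem_U (c.Qc_le_U R.ne_two R.e_mem.1)))

theorem y_not_f : y ∉ zpowers f := fun hy => R.f_ne (by
  obtain ⟨i, rfl⟩ := hy
  have h1 := R.conj
  rw [((show Commute f e from R.ef.symm).zpow_left i).eq, mul_inv_cancel_right] at h1
  exact mul_eq_left.1 h1.symm)

theorem inv_plane {v : G} (hv : v ∈ zpowers y ⊔ zpowers f) : a * v * a⁻¹ = v⁻¹ := by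
  have hc : Commute y f := R.yf
  have hle : zpowers y ≤ normalizer (zpowers f : Set G) := le_trans (zpowers_le.2
    (mem_centralizer_iff.2 (by rintro _ ⟨i, rfl⟩; exact (hc.zpow_right i).eq.symm)))
    (centralizer_le_normalizer _)
  rw [← SetLike.mem_coe, coe_mul_of_left_le_normalizer_right _ _ hle] at hv
  obtain ⟨_, ⟨i, rfl⟩, _, ⟨j, rfl⟩, rfl⟩ := Set.mem_mul.1 hv
  show a * (y ^ i * f ^ j) * a⁻¹ = (y ^ i * f ^ j)⁻¹
  rw [← conj_mul, ← conj_zpow, ← conj_zpow, R.y_inv, R.f_inv, mul_inv_rev, inv_zpow, inv_zpow]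
  exact ((hc.zpow_zpow i j).inv_inv).eq

theorem e_norm : e ∈ normalizer ((zpowers y ⊔ zpowers f : Subgroup G) : Set G) := by
  have hfe : e * f * e⁻¹ = f := mul_inv_eq_iff_eq_mul.2 R.ef
  have hye : e * y * e⁻¹ = f⁻¹ * y := by
    have h1 : y * e = e * f * y := by rw [← R.conj]; group
    have h2 : f * (e * y) = y * e := by
      rw [h1, R.ef]; group
    rw [eq_inv_mul_iff_mul_eq]
    calc f * (e * y * e⁻¹) = f * (e * y) * e⁻¹ := by group
      _ = y := by rw [h2, mul_inv_cancel_right]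
  have hle : zpowers y ⊔ zpowers f ≤ (zpowers y ⊔ zpowers f).comap (MulAut.conj e).toMonoidHom := by
    refine sup_le (zpowers_le.2 ?_) (zpowers_le.2 ?_)
    · show e * y * e⁻¹ ∈ zpowers y ⊔ zpowers f
      rw [hye]
      exact mul_mem (mem_sup_right (inv_mem (mem_zpowers f))) (mem_sup_left (mem_zpowers y))
    · show e * f * e⁻¹ ∈ zpowers y ⊔ zpowers f
      rw [hfe]
      exact mem_sup_right (mem_zpowers f)
  exact mem_normalizer_fintype fun r hr => hle hr

theorem normal_form {r : G} (hr : r ∈ N) :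
    ∃ i : ℤ, ∃ v ∈ zpowers y ⊔ zpowers f, r = e ^ i * v := by
  rw [R.N_eq, sup_assoc, ← SetLike.mem_coe,
    coe_mul_of_left_le_normalizer_right _ _ (zpowers_le.2 R.e_norm)] at hr
  obtain ⟨_, ⟨i, rfl⟩, v, hv, rfl⟩ := Set.mem_mul.1 hr
  exact ⟨i, v, hv, rfl⟩

theorem fixed_mem {r : G} (hr : r ∈ N) (hf : a * r * a⁻¹ = r) : r ∈ zpowers e := by
  obtain ⟨i, v, hv, rfl⟩ := R.normal_form hr
  rw [← conj_mul, ← conj_zpow, R.a_e, R.inv_plane hv, mul_right_inj] at hf
  have hvN : v ∈ N := (sup_le (zpowers_le.2 R.y_N) (zpowers_le.2 R.f_N)) hv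
  rw [eq_one_of_sq_odd (by nth_rewrite 1 [← hf]; rw [inv_mul_cancel])
    (c.odd_of_mem_U (c.Qc_le_U R.ne_two (R.N_le hvN))), mul_one]
  exact zpow_mem (mem_zpowers e) i

theorem plane_conj {A : Subgroup G} (hA : IrrPlane q f N A) {g : G} (hg : g ∈ c.C) :
    IrrPlane q f N (A.map (MulAut.conj g).toMonoidHom) := by
  refine ⟨?_, ?_, (card_map_conj A g).trans hA.2.2⟩
  · calc zpowers f = (zpowers f).map (MulAut.conj g).toMonoidHom := (map_conj_eq_self (R.normal hg)).symm
      _ ≤ _ := map_mono hA.1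
  · calc A.map (MulAut.conj g).toMonoidHom ≤ N.map (MulAut.conj g).toMonoidHom := map_mono hA.2.1
      _ = N := map_conj_eq_self (R.N_norm hg)

omit R in
theorem plane_eq_of_mem {A B : Subgroup G} (hA : IrrPlane q f N A) (hB : IrrPlane q f N B)
    (hfo : orderOf f = q) {r : G} (hrA : r ∈ A) (hrB : r ∈ B) (hr : r ∉ zpowers f) : A = B := by
  have hdvd : Nat.card (A ⊓ B : Subgroup G) ∣ q ^ 2 := hA.2.2 ▸ card_dvd_of_le inf_le_left
  obtain ⟨i, hi, hci⟩ := (Nat.dvd_prime_pow hq.out).1 hdvd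
  have hlt : q < Nat.card (A ⊓ B : Subgroup G) := by
    rw [← hfo, ← Nat.card_zpowers]
    refine lt_of_le_of_ne (card_le_of_le (le_inf hA.1 hB.1)) fun h => hr ?_
    rw [eq_of_le_of_card_ge (le_inf hA.1 hB.1) h.ge]
    exact ⟨hrA, hrB⟩
  have hi2 : i = 2 := by
    rw [hci] at hlt
    by_contra h2
    have := Nat.pow_le_pow_right hq.out.pos (show i ≤ 1 by omega)
    rw [pow_one] at this
    omega
  have h1 : A ⊓ B = A := eq_of_le_of_card_ge inf_le_left (by rw [hA.2.2, hci, hi2])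
  exact eq_of_le_of_card_ge (h1 ▸ inf_le_right) (by rw [hA.2.2, hB.2.2])

theorem plane_of_mem {A : Subgroup G} (hf : zpowers f ≤ A) (hle : A ≤ N) {r : G} (hr : r ∈ A)
    (hrf : r ∉ zpowers f) (hcomm : A ≤ centralizer (A : Set G)) : IrrPlane q f N A := by
  refine ⟨hf, hle, ?_⟩
  have hdvd : Nat.card A ∣ q ^ 3 := R.N_card ▸ card_dvd_of_le hle
  obtain ⟨i, hi, hci⟩ := (Nat.dvd_prime_pow hq.out).1 hdvd
  have hlt : q < Nat.card A := by
    rw [← R.f_order, ← Nat.card_zpowers]
    refine lt_of_le_of_ne (card_le_of_le hf) fun h => hrf ?_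
    rw [eq_of_le_of_card_ge hf h.ge]
    exact hr
  rw [hci] at hlt
  interval_cases i
  · simp at hlt; have := hq.out.one_lt; omega
  · simp at hlt
  · exact hci
  · exfalso
    have he : A = N := eq_of_le_of_card_ge hle (by rw [R.N_card, hci])
    have h1 := mem_centralizer_iff.1 (hcomm (he ▸ R.e_N)) y (he ▸ R.y_N)
    have h2 := R.conj
    rw [h1, mul_inv_cancel_right] at h2
    exact R.f_ne (mul_eq_left.1 h2.symm)

theorem plane_e : IrrPlane q f N (zpowers e ⊔ zpowers f) := by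
  refine R.plane_of_mem le_sup_right (sup_le (zpowers_le.2 R.e_N) (zpowers_le.2 R.f_N))
    (mem_sup_left (mem_zpowers e)) R.e_not_f ?_
  exact sup_comm_pair R.ef

theorem plane_y : IrrPlane q f N (zpowers y ⊔ zpowers f) := by
  refine R.plane_of_mem le_sup_right (sup_le (zpowers_le.2 R.y_N) (zpowers_le.2 R.f_N))
    (mem_sup_left (mem_zpowers y)) R.y_not_f ?_
  exact sup_comm_pair R.yf

theorem exists_outside {A : Subgroup G} (hA : IrrPlane q f N A) : ∃ r ∈ A, r ∉ zpowers f := by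
  by_contra hno
  push Not at hno
  have h := card_le_of_le (show A ≤ zpowers f from fun r hr => hno r hr)
  rw [hA.2.2, Nat.card_zpowers, R.f_order] at h
  have := hq.out.one_lt
  nlinarith

theorem fixed_plane {A : Subgroup G} (hA : IrrPlane q f N A)
    (hfix : A.map (MulAut.conj a).toMonoidHom = A) :
    A = zpowers e ⊔ zpowers f ∨ A = zpowers y ⊔ zpowers f := by
  obtain ⟨r, hr, hrf⟩ := R.exists_outside hA
  obtain ⟨i, v, hv, rfl⟩ := R.normal_form (hA.2.1 hr)
  by_cases hvf : v ∈ zpowers f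
  · left
    exact plane_eq_of_mem hA R.plane_e R.f_order hr
      (mul_mem (mem_sup_left (zpow_mem (mem_zpowers e) i)) (mem_sup_right hvf)) hrf
  right
  have har : a * (e ^ i * v) * a⁻¹ ∈ A :=
    (mem_normalizer_iff.1 (mem_normalizer_of_map_eq hfix) _).1 hr
  rw [← conj_mul, ← conj_zpow, R.a_e, R.inv_plane hv] at har
  have hm : e ^ i * (v * v) * (e ^ i)⁻¹ ∈ A := by
    have := mul_mem hr (inv_mem har)
    rwa [show e ^ i * v * (e ^ i * v⁻¹)⁻¹ = e ^ i * (v * v) * (e ^ i)⁻¹ by group] at this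
  refine plane_eq_of_mem hA R.plane_y R.f_order hm
    ((mem_normalizer_iff.1 (zpow_mem R.e_norm i) _).1 (mul_mem hv hv)) fun h => hvf ?_
  have hC : e ^ i ∈ normalizer (zpowers f : Set G) :=
    zpow_mem (R.normal (c.Qc_le_C q R.e_mem.1)) i
  have hvv : v * v ∈ zpowers f := (mem_normalizer_iff.1 hC _).2 h
  have hvN : v ∈ N := (sup_le (zpowers_le.2 R.y_N) (zpowers_le.2 R.f_N)) hv
  obtain ⟨j, hj⟩ := c.odd_of_mem_U (c.Qc_le_U R.ne_two (R.N_le hvN))
  have e1 : v = (v * v) ^ (j + 1) := by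
    rw [← pow_two, ← pow_mul, show 2 * (j + 1) = orderOf v + 1 by omega, pow_succ, pow_orderOf_eq_one,
      one_mul]
  rw [e1]
  exact pow_mem hvv _

theorem a_plane_e : (zpowers e ⊔ zpowers f).map (MulAut.conj a).toMonoidHom = zpowers e ⊔ zpowers f := by
  rw [Subgroup.map_sup, MonoidHom.map_zpowers, map_conj_eq_self (R.normal R.refl.mem_C)]
  show zpowers (a * e * a⁻¹) ⊔ _ = _
  rw [R.a_e]

theorem a_plane_y : (zpowers y ⊔ zpowers f).map (MulAut.conj a).toMonoidHom = zpowers y ⊔ zpowers f := by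
  rw [Subgroup.map_sup, MonoidHom.map_zpowers, map_conj_eq_self (R.normal R.refl.mem_C)]
  show zpowers (a * y * a⁻¹) ⊔ _ = _
  rw [R.y_inv, zpowers_inv]

theorem plane_e_ne : (zpowers e ⊔ zpowers f) ≠ zpowers y ⊔ zpowers f := fun h => by
  have h1 := R.inv_plane (show e ∈ zpowers y ⊔ zpowers f from h ▸ mem_sup_left (mem_zpowers e))
  rw [R.a_e] at h1
  exact R.e_ne (eq_one_of_sq_odd (by nth_rewrite 1 [h1]; rw [inv_mul_cancel])
    (c.odd_of_mem_U (c.Qc_le_U R.ne_two R.e_mem.1)))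

/-- There are at most four planes when `q = 3`. -/
theorem planes_le (h3 : q = 3) (s : Finset (Subgroup G)) (hs : ∀ A ∈ s, IrrPlane q f N A) :
    s.card ≤ 4 := by
  have hK : zpowers f ≤ N := zpowers_le.2 R.f_N
  have h := card_mul_le_outside hK (d := 6) s (fun A hA => (hs A hA).2.1) (fun A hA => by
      rw [inf_eq_right.2 (hs A hA).1, Nat.card_zpowers, R.f_order, (hs A hA).2.2, h3]; norm_num) fun A hA B hB hne r hr => by
    by_contra hrf
    exact hne (plane_eq_of_mem (hs A hA) (hs B hB) R.f_order hr.1 hr.2 hrf)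
  rw [Nat.card_zpowers, R.f_order, R.N_card, h3] at h
  omega

/-- A fifth plane is one of four known ones. -/
theorem plane_mem (h3 : q = 3) (s : Finset (Subgroup G)) (hs : ∀ A ∈ s, IrrPlane q f N A) (h4 : 4 ≤ s.card)
    {B : Subgroup G} (hB : IrrPlane q f N B) : B ∈ s := by
  classical
  by_contra hBs
  have := R.planes_le h3 (insert B s) (fun A hA => by
    rcases Finset.mem_insert.1 hA with rfl | hA
    · exact hB
    · exact hs A hA)
  rw [Finset.card_insert_of_notMem hBs] at this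
  omega

/-- `U` fixes the plane of `e` when `q = 3`. -/
theorem U_fix (h3 : q = 3) : c.U ≤ normalizer ((zpowers e ⊔ zpowers f : Subgroup G) : Set G) := by
  classical
  haveI : Finite (Subgroup G) := Finite.of_injective (fun H : Subgroup G => (H : Set G)) SetLike.coe_injective
  haveI : Fintype (Subgroup G) := Fintype.ofFinite _
  set A₀ := zpowers e ⊔ zpowers f with hA₀
  set A₁ := zpowers y ⊔ zpowers f with hA₁
  let O : Finset (Subgroup G) :=
    Finset.univ.filter fun Q => ∃ g ∈ c.U, Q = A₀.map (MulAut.conj g).toMonoidHom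
  have hmemO : ∀ {Q}, Q ∈ O ↔ ∃ g ∈ c.U, Q = A₀.map (MulAut.conj g).toMonoidHom :=
    fun {Q} => by simp only [O, Finset.mem_filter, Finset.mem_univ, true_and]
  have hOp : ∀ Q ∈ O, IrrPlane q f N Q := fun Q hQ => by
    obtain ⟨g, hg, rfl⟩ := hmemO.1 hQ
    exact R.plane_conj R.plane_e (c.U_le hg)
  have hOc : O.card = (normalizer (A₀ : Set G)).relIndex c.U := by
    rw [← card_conjugates_in, Nat.card_eq_fintype_card, Fintype.card_subtype]
  have hodd : Odd O.card := hOc ▸ c.U_odd.of_dvd_nat (relIndex_dvd_card _ _)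
  have hle := R.planes_le h3 O hOp
  rcases (show O.card = 1 ∨ O.card = 3 by obtain ⟨k, hk⟩ := hodd; omega) with h1 | h3O
  · exact relIndex_eq_one.1 (hOc ▸ h1)
  exfalso
  have hA₀O : A₀ ∈ O := hmemO.2 ⟨1, one_mem _, (map_conj_eq_self (one_mem _)).symm⟩
  have haO : ∀ Q ∈ O, Q.map (MulAut.conj a).toMonoidHom ∈ O := fun Q hQ => by
    obtain ⟨g, hg, rfl⟩ := hmemO.1 hQ
    refine hmemO.2 ⟨a * g * a⁻¹, c.U_conj a R.refl.mem_C g hg, ?_⟩
    rw [map_conj_mul]
    nth_rewrite 2 [hA₀]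
    rw [← R.a_plane_e, ← hA₀, map_conj_mul, inv_mul_cancel_right]
  have hA₁O : A₁ ∉ O := by
    intro hA₁O
    have hc : 0 < ((O.erase A₀).erase A₁).card := by
      rw [Finset.card_erase_of_mem (Finset.mem_erase.2 ⟨R.plane_e_ne.symm, hA₁O⟩),
        Finset.card_erase_of_mem hA₀O, h3O]
      norm_num
    obtain ⟨W, hW⟩ := Finset.card_pos.1 hc
    obtain ⟨hW1, hW'⟩ := Finset.mem_erase.1 hW
    obtain ⟨hW0, hWO⟩ := Finset.mem_erase.1 hW'
    have hone : ∀ V ∈ (O.erase A₀).erase A₁, V = W := by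
      intro V hV
      refine Finset.card_le_one.1 ?_ V hV W hW
      rw [Finset.card_erase_of_mem (Finset.mem_erase.2 ⟨R.plane_e_ne.symm, hA₁O⟩),
        Finset.card_erase_of_mem hA₀O, h3O]
    have hWa : W.map (MulAut.conj a).toMonoidHom = W := by
      refine hone _ (Finset.mem_erase.2 ⟨fun h => hW1 ?_, Finset.mem_erase.2 ⟨fun h => hW0 ?_, haO W hWO⟩⟩)
      · exact map_conj_injective a (h.trans R.a_plane_y.symm)
      · exact map_conj_injective a (h.trans R.a_plane_e.symm)
    rcases R.fixed_plane (hOp W hWO) hWa with h | h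
    · exact hW0 h
    · exact hW1 h
  have honly : ∀ B, IrrPlane q f N B → B ∉ O → B = A₁ := by
    intro B hB hBO
    have hm := R.plane_mem h3 (insert A₁ O) (fun A hA => by
      rcases Finset.mem_insert.1 hA with rfl | hA
      · exact R.plane_y
      · exact hOp A hA) (by rw [Finset.card_insert_of_notMem hA₁O, h3O]) hB
    exact (Finset.mem_insert.1 hm).resolve_right hBO
  have hUA₁ : ∀ u ∈ c.U, A₁.map (MulAut.conj u).toMonoidHom = A₁ := by
    intro u hu
    refine honly _ (R.plane_conj R.plane_y (c.U_le hu)) fun h => hA₁O ?_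
    obtain ⟨g, hg, e1⟩ := hmemO.1 h
    refine hmemO.2 ⟨u⁻¹ * g, mul_mem (inv_mem hu) hg, ?_⟩
    rw [← map_conj_mul, ← e1, map_conj_mul, inv_mul_cancel, map_conj_eq_self (one_mem _)]
  refine R.y_not_f (R.no_plane A₁ R.plane_y.2.1 (sup_comm_pair R.yf) (fun g hg => ?_)
    (mem_sup_left (mem_zpowers y)))
  refine mem_normalizer_of_map_eq (honly _ (R.plane_conj R.plane_y hg) fun h => ?_)
  set B := A₁.map (MulAut.conj g).toMonoidHom with hBdef
  have hUB : ∀ u ∈ c.U, B.map (MulAut.conj u).toMonoidHom = B := by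
    intro u hu
    have h' : g⁻¹ * u * g ∈ c.U := by
      have := c.U_conj g⁻¹ (inv_mem hg) u hu
      rwa [inv_inv] at this
    calc B.map (MulAut.conj u).toMonoidHom
        = A₁.map (MulAut.conj (g * (g⁻¹ * u * g))).toMonoidHom := by
          rw [hBdef, map_conj_mul]; congr 3; group
      _ = B := by rw [← map_conj_mul, hUA₁ _ h']
  obtain ⟨u, hu, e1⟩ := hmemO.1 h
  have hB0 : B = A₀ := by
    have := hUB u⁻¹ (inv_mem hu)
    nth_rewrite 1 [e1] at this
    rw [map_conj_mul, inv_mul_cancel, map_conj_eq_self (one_mem _)] at this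
    exact this.symm
  have hsingle : O.card ≤ 1 := Finset.card_le_one.2 fun Q hQ Q' hQ' => by
    obtain ⟨v, hv, rfl⟩ := hmemO.1 hQ
    obtain ⟨v', hv', rfl⟩ := hmemO.1 hQ'
    rw [← hB0, hUB v hv, hUB v' hv']
  omega

/-- The rotations move the plane of `e` at most once when `q = 3`. -/
theorem x_plane (h3 : q = 3) :
    (zpowers e ⊔ zpowers f).map (MulAut.conj c.d.x).toMonoidHom = zpowers e ⊔ zpowers f ∨
    (zpowers e ⊔ zpowers f).map (MulAut.conj c.d.x).toMonoidHom = zpowers y ⊔ zpowers f := by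
  classical
  set A₀ := zpowers e ⊔ zpowers f with hA₀
  set A₁ := zpowers y ⊔ zpowers f with hA₁
  set x := c.d.x with hx
  by_contra hno
  push Not at hno
  obtain ⟨h20, h21⟩ := hno
  have hxC : x ∈ c.C := c.P_le c.d.hx
  have hax : a * x * a⁻¹ = x⁻¹ := by
    rcases c.d.cases a R.refl.1 with ⟨i, hi⟩ | ⟨i, hi⟩
    · exact absurd (hi ▸ zpow_mem (mem_zpowers _) i) R.refl.2
    · rw [hi, mul_inv_rev, show c.d.x ^ i * c.d.y * x * (c.d.y⁻¹ * (c.d.x ^ i)⁻¹) =
        c.d.x ^ i * (c.d.y * x * c.d.y⁻¹) * (c.d.x ^ i)⁻¹ by group, hx, c.d.inv]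
      group
  set A₂ := A₀.map (MulAut.conj x).toMonoidHom with hA₂
  set A₃ := A₂.map (MulAut.conj a).toMonoidHom with hA₃
  have hp2 : IrrPlane q f N A₂ := R.plane_conj R.plane_e hxC
  have hp3 : IrrPlane q f N A₃ := R.plane_conj hp2 R.refl.mem_C
  have h3' : A₃ = A₀.map (MulAut.conj x⁻¹).toMonoidHom := by
    have haA₀ : A₀.map (MulAut.conj a).toMonoidHom = A₀ := R.a_plane_e
    conv_rhs => rw [← haA₀, map_conj_mul]
    rw [hA₃, hA₂, map_conj_mul, ← hax]
    congr 3
    group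
  have hx3 : A₃.map (MulAut.conj x).toMonoidHom = A₀ := by
    rw [h3', map_conj_mul, mul_inv_cancel, map_conj_eq_self (one_mem _)]
  have h32 : A₃ ≠ A₂ := fun h => by
    rcases R.fixed_plane hp2 h with h' | h'
    · exact h20 h'
    · exact h21 h'
  have h30 : A₃ ≠ A₀ := fun h => h20 (map_conj_injective a (h.trans R.a_plane_e.symm))
  have h31 : A₃ ≠ A₁ := fun h => h21 (map_conj_injective a (h.trans R.a_plane_y.symm))
  -- `x` fixes the inverted plane
  have hx1 : A₁.map (MulAut.conj x).toMonoidHom = A₁ := by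
    have hxe : x * e * x⁻¹ ∈ N := (mem_normalizer_iff.1 (R.N_norm hxC) e).1 R.e_N
    obtain ⟨i, v, hv, hiv⟩ := R.normal_form hxe
    have hxe2 : x * e * x⁻¹ ∈ A₂ := ⟨e, mem_sup_left (mem_zpowers e), rfl⟩
    have hxef : x * e * x⁻¹ ∉ zpowers f := fun h =>
      R.e_not_f ((mem_normalizer_iff.1 (R.normal hxC) e).2 h)
    have hvf : v ∉ zpowers f := fun h => h20 (plane_eq_of_mem hp2 R.plane_e R.f_order hxe2
      (hiv ▸ mul_mem (mem_sup_left (zpow_mem (mem_zpowers e) i)) (mem_sup_right h)) hxef)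
    have hi1 : e ^ i ≠ 1 := fun h => h21 (plane_eq_of_mem hp2 R.plane_y R.f_order hxe2
      (by rw [hiv, h, one_mul]; exact hv) hxef)
    have hinv : x⁻¹ * e * x = e ^ i * v⁻¹ := by
      have h : a * (x * e * x⁻¹) * a⁻¹ = a * (e ^ i * v) * a⁻¹ := by rw [hiv]
      have e1 : a * (e ^ i * v) * a⁻¹ = e ^ i * v⁻¹ := by
        rw [← conj_mul, ← conj_zpow, R.a_e, R.inv_plane hv]
      rw [e1] at h
      rw [← h]
      calc x⁻¹ * e * x = a * x * a⁻¹ * (a * e * a⁻¹) * (a * x * a⁻¹)⁻¹ := by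
            rw [hax, R.a_e, inv_inv]
        _ = _ := by group
    have he : x * (e ^ i * v⁻¹) * x⁻¹ = e := by rw [← hinv]; group
    have hpow : e ^ i = e ∨ e ^ i = e⁻¹ := by
      have hmod : e ^ i = e ^ (i % 3) := by
        have := zpow_mod_orderOf e i
        rw [R.e_order, h3] at this
        exact this.symm
      have h01 : 0 ≤ i % 3 := Int.emod_nonneg _ (by norm_num)
      have h02 : i % 3 < 3 := Int.emod_lt_of_pos _ (by norm_num)
      rw [hmod] at hi1 ⊢
      rcases (show i % 3 = 0 ∨ i % 3 = 1 ∨ i % 3 = 2 by omega) with h | h | h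
      · exact absurd (by rw [h, zpow_zero]) hi1
      · left; rw [h, zpow_one]
      · right
        rw [h]
        refine eq_inv_of_mul_eq_one_left ?_
        rw [← zpow_add_one, show (2 : ℤ) + 1 = ((3 : ℕ) : ℤ) by norm_num, zpow_natCast]
        have := R.e_pow
        rw [h3] at this
        exact this
    have hkey : x * v⁻¹ * x⁻¹ ∈ A₁ := by
      rcases hpow with h | h <;> rw [h] at he hiv
      · have : x * v⁻¹ * x⁻¹ = v⁻¹ := by
          rw [← conj_mul, hiv] at he
          rw [eq_inv_iff_mul_eq_one]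
          calc x * v⁻¹ * x⁻¹ * v = (e * v)⁻¹ * (e * v * (x * v⁻¹ * x⁻¹)) * v := by group
            _ = 1 := by rw [he]; group
        rw [this]; exact inv_mem hv
      · have : x * v⁻¹ * x⁻¹ = e⁻¹ * v * e := by
          rw [← conj_mul, ← conj_inv, hiv] at he
          calc x * v⁻¹ * x⁻¹ = (e⁻¹ * v) * ((e⁻¹ * v)⁻¹ * (x * v⁻¹ * x⁻¹)) := by group
            _ = e⁻¹ * v * e := by rw [he]
        rw [this]
        have h' := (mem_normalizer_iff.1 (inv_mem R.e_norm) v).1 hv
        rwa [inv_inv] at h'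
    refine plane_eq_of_mem (R.plane_conj R.plane_y hxC) R.plane_y R.f_order
      ⟨v⁻¹, inv_mem hv, rfl⟩ hkey fun h => hvf ?_
    exact inv_mem_iff.1 ((mem_normalizer_iff.1 (R.normal hxC) v⁻¹).2 h)
  -- so `x` has a three-cycle on the planes
  have hne10 : A₁ ≠ A₀ := R.plane_e_ne.symm
  have hset : ({A₀, A₁, A₂, A₃} : Finset (Subgroup G)).card = 4 := by
    rw [Finset.card_insert_of_notMem, Finset.card_insert_of_notMem, Finset.card_insert_of_notMem,
      Finset.card_singleton]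
    · simp [h32.symm]
    · simp [Ne.symm h21, h31.symm]
    · simp [hne10.symm, Ne.symm h20, h30.symm]
  have hmem := R.plane_mem h3 {A₀, A₁, A₂, A₃} (fun A hA => by
    simp only [Finset.mem_insert, Finset.mem_singleton] at hA
    rcases hA with rfl | rfl | rfl | rfl
    · exact R.plane_e
    · exact R.plane_y
    · exact hp2
    · exact hp3) hset.ge (R.plane_conj hp2 hxC)
  simp only [Finset.mem_insert, Finset.mem_singleton] at hmem
  have hx2 : A₂.map (MulAut.conj x).toMonoidHom = A₃ := by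
    rcases hmem with h | h | h | h
    · exact absurd (map_conj_injective x (h.trans hx3.symm)) h32.symm
    · exact absurd (map_conj_injective x (h.trans hx1.symm)) h21
    · exact absurd (map_conj_injective x (h.trans hA₂)) h20
    · exact h
  have hcube : x * (x * x) ∈ normalizer (A₀ : Set G) := mem_normalizer_of_map_eq (by
    rw [← map_conj_mul, ← map_conj_mul, ← hA₂, hx2, hx3])
  refine h20 (map_conj_eq_self ?_)
  haveI : Fact (Nat.Prime 2) := ⟨Nat.prime_two⟩
  obtain ⟨k, hk⟩ := c.P.isPGroup' ⟨x, c.d.hx⟩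
  have hk' : x ^ 2 ^ k = 1 := congrArg Subtype.val hk
  obtain ⟨s, t, hst⟩ := Int.isCoprime_iff_gcd_eq_one.2 (show Int.gcd ((3 : ℕ) : ℤ) ((2 ^ k : ℕ) : ℤ) = 1 by
    rw [Int.gcd_natCast_natCast]
    exact Nat.Coprime.pow_right k (by norm_num))
  have e3 : x = (x * (x * x)) ^ s := by
    rw [show x * (x * x) = x ^ ((3 : ℕ) : ℤ) by rw [zpow_natCast]; simp [pow_succ, mul_assoc],
      ← zpow_mul, mul_comm]
    conv_lhs => rw [← zpow_one x, ← hst, zpow_add, mul_comm t, zpow_mul x _ t, zpow_natCast, hk', one_zpow,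
      mul_one]
  rw [e3]
  exact zpow_mem hcube s

/-- The centraliser moves the plane of `e` at most once when `q = 3`. -/
theorem plane_orbit (h3 : q = 3) {g : G} (hg : g ∈ c.C) :
    (zpowers e ⊔ zpowers f).map (MulAut.conj g).toMonoidHom = zpowers e ⊔ zpowers f ∨
    (zpowers e ⊔ zpowers f).map (MulAut.conj g).toMonoidHom =
      (zpowers e ⊔ zpowers f).map (MulAut.conj c.d.x).toMonoidHom := by
  set A₀ := zpowers e ⊔ zpowers f with hA₀
  set x := c.d.x with hx
  have hU := R.U_fix h3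
  obtain ⟨u, hu, s, hs, rfl⟩ := c.U_sup g hg
  have hsC : s ∈ c.C := c.P_le hs
  have hu' : s⁻¹ * u * s ∈ c.U := by
    have := c.U_conj s⁻¹ (inv_mem hsC) u hu
    rwa [inv_inv] at this
  rw [show u * s = s * (s⁻¹ * u * s) by group, ← map_conj_mul, map_conj_eq_self (hU hu')]
  obtain ⟨i, hi⟩ : ∃ i : ℤ, A₀.map (MulAut.conj s).toMonoidHom = A₀.map (MulAut.conj (x ^ i)).toMonoidHom := by
    by_cases hsx : s ∈ zpowers x
    · obtain ⟨i, rfl⟩ := hsx; exact ⟨i, rfl⟩
    · obtain ⟨i, hi⟩ := c.d.idx s hs a R.refl.1 hsx R.refl.2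
      refine ⟨i, ?_⟩
      have h' : s * x ^ i = a := by rw [show x ^ i = s⁻¹ * a from hi, mul_inv_cancel_left]
      have hss : s * s = 1 := c.d.out_sq s hs hsx
      rw [show x ^ i = s * a by rw [show x ^ i = s⁻¹ * a from hi, inv_eq_of_mul_eq_one_right hss],
        ← map_conj_mul, R.a_plane_e]
  rw [hi]
  have h2 : x * x ∈ normalizer (A₀ : Set G) := by
    rcases R.x_plane h3 with h | h
    · exact mul_mem (mem_normalizer_of_map_eq h) (mem_normalizer_of_map_eq h)
    · have hax : a * x * a⁻¹ = x⁻¹ := by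
        rcases c.d.cases a R.refl.1 with ⟨j, hj⟩ | ⟨j, hj⟩
        · exact absurd (hj ▸ zpow_mem (mem_zpowers _) j) R.refl.2
        · rw [hj, mul_inv_rev, show c.d.x ^ j * c.d.y * x * (c.d.y⁻¹ * (c.d.x ^ j)⁻¹) =
            c.d.x ^ j * (c.d.y * x * c.d.y⁻¹) * (c.d.x ^ j)⁻¹ by group, hx, c.d.inv]
          group
      refine mem_normalizer_of_map_eq ?_
      have h' : A₀.map (MulAut.conj x).toMonoidHom = A₀.map (MulAut.conj x⁻¹).toMonoidHom := by
        have haA₀ : A₀.map (MulAut.conj a).toMonoidHom = A₀ := R.a_plane_e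
        conv_lhs => rw [h, ← R.a_plane_y, ← h]
        conv_rhs => rw [← haA₀, map_conj_mul, ← hax, inv_mul_cancel_right]
        rw [map_conj_mul]
      rw [← map_conj_mul, h', map_conj_mul, mul_inv_cancel, map_conj_eq_self (one_mem _)]
  rcases Int.even_or_odd i with ⟨k, hk⟩ | ⟨k, hk⟩
  · left
    refine map_conj_eq_self ?_
    rw [hk, ← two_mul, zpow_mul, zpow_two]
    exact zpow_mem h2 k
  · right
    rw [hk, add_comm, zpow_add, zpow_one, ← map_conj_mul, zpow_mul, zpow_two,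
      map_conj_eq_self (zpow_mem h2 k)]

/-- The conjugates of `⟨e⟩` under the centraliser of the central involution are few. -/
theorem orbit_le :
    (5 ≤ q ∧ (normalizer (zpowers e : Set G)).relIndex c.C ≤ q * (q + 1)) ∨
      (q = 3 ∧ (normalizer (zpowers e : Set G)).relIndex c.C ≤ 6) := by
  classical
  haveI : Finite (Subgroup G) := Finite.of_injective (fun H : Subgroup G => (H : Set G)) SetLike.coe_injective
  haveI : Fintype (Subgroup G) := Fintype.ofFinite _
  set s : Finset (Subgroup G) :=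
    Finset.univ.filter fun Q => ∃ g ∈ c.C, Q = (zpowers e).map (MulAut.conj g).toMonoidHom with hs
  have hrel : (normalizer (zpowers e : Set G)).relIndex c.C = s.card := by
    rw [← card_conjugates_in, Nat.card_eq_fintype_card, Fintype.card_subtype]
  have hmem : ∀ {Q}, Q ∈ s ↔ ∃ g ∈ c.C, Q = (zpowers e).map (MulAut.conj g).toMonoidHom :=
    fun {Q} => by simp [hs]
  have hcard : ∀ Q ∈ s, Nat.card Q = q := fun Q hQ => by
    obtain ⟨g, -, rfl⟩ := hmem.1 hQ
    rw [card_map_conj, Nat.card_zpowers, R.e_order]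
  have hne : ∀ Q ∈ s, Q ≠ zpowers f := fun Q hQ h => by
    obtain ⟨g, hg, rfl⟩ := hmem.1 hQ
    have h' := map_conj_injective g (h.trans (map_conj_eq_self (R.normal hg)).symm)
    exact R.e_not_f (h' ▸ mem_zpowers e)
  have hbot : ∀ Q : Subgroup G, Nat.card Q = q → ∀ Q' : Subgroup G, Nat.card Q' = q → Q ≠ Q' → Q ⊓ Q' = ⊥ := by
    intro Q h Q' h' hQQ
    have hd : Nat.card (Q ⊓ Q' : Subgroup G) ∣ q := h ▸ card_dvd_of_le inf_le_left
    rcases (Nat.dvd_prime hq.out).1 hd with h1 | h1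
    · exact card_eq_one.1 h1
    · exact absurd ((eq_of_le_of_card_ge inf_le_left (by rw [h, h1])).symm.trans
        (eq_of_le_of_card_ge inf_le_right (by rw [h', h1]))) hQQ
  have hcf : Nat.card (zpowers f) = q := by rw [Nat.card_zpowers, R.f_order]
  have key : ∀ B : Subgroup G, zpowers f ≤ B → ∀ t ⊆ s, (∀ Q ∈ t, Q ≤ B) →
      t.card * (q - 1) + q ≤ Nat.card B := fun B hB t ht hle => by
    have := card_mul_le_outside hB (d := q - 1) t hle (fun Q hQ => by
        rw [hbot Q (hcard Q (ht hQ)) _ hcf (hne Q (ht hQ)), card_bot, hcard Q (ht hQ)]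
        have := hq.out.one_lt
        omega) fun Q hQ Q' hQ' h => by
      rw [hbot Q (hcard Q (ht hQ)) Q' (hcard Q' (ht hQ')) h]; exact bot_le
    rwa [hcf] at this
  by_cases h3 : q = 3
  · right
    refine ⟨h3, hrel ▸ ?_⟩
    set A₀ := zpowers e ⊔ zpowers f with hA₀
    set B := A₀.map (MulAut.conj c.d.x).toMonoidHom with hB
    have hsub : ∀ Q ∈ s, Q ≤ A₀ ∨ Q ≤ B := fun Q hQ => by
      obtain ⟨g, hg, rfl⟩ := hmem.1 hQ
      rcases R.plane_orbit h3 hg with h | h
      · left; exact le_trans (map_mono le_sup_left) h.le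
      · right; exact le_trans (map_mono le_sup_left) h.le
    have hb : ∀ D, IrrPlane q f N D → (s.filter fun Q => Q ≤ D).card ≤ 3 := fun D hD => by
      have := key D hD.1 _ (Finset.filter_subset _ s) fun Q hQ => (Finset.mem_filter.1 hQ).2
      rw [hD.2.2, h3] at this
      omega
    calc s.card ≤ ((s.filter fun Q => Q ≤ A₀) ∪ (s.filter fun Q => Q ≤ B)).card :=
          Finset.card_le_card fun Q hQ => by
            rcases hsub Q hQ with h | h
            · exact Finset.mem_union_left _ (Finset.mem_filter.2 ⟨hQ, h⟩)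
            · exact Finset.mem_union_right _ (Finset.mem_filter.2 ⟨hQ, h⟩)
      _ ≤ 3 + 3 := le_trans (Finset.card_union_le _ _) (add_le_add (hb _ R.plane_e)
          (hb _ (R.plane_conj R.plane_e (c.P_le c.d.hx))))
      _ = 6 := rfl
  · left
    have h5 : 5 ≤ q := by
      have h2 := hq.out.two_le
      have hne2 := R.ne_two
      by_contra h
      interval_cases q <;> first | omega | exact absurd hq.out (by norm_num)
    refine ⟨h5, hrel ▸ ?_⟩
    have hall := key N (zpowers_le.2 R.f_N) s subset_rfl fun Q hQ => by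
      obtain ⟨g, hg, rfl⟩ := hmem.1 hQ
      exact le_trans (map_mono (zpowers_le.2 R.e_N)) (map_conj_eq_self (R.N_norm hg)).le
    rw [R.N_card] at hall
    have hpos : 0 < q - 1 := by omega
    refine Nat.le_of_mul_le_mul_right ?_ hpos
    obtain ⟨p, rfl⟩ : ∃ p, q = p + 1 := ⟨q - 1, by omega⟩
    rw [Nat.add_sub_cancel] at hall ⊢
    nlinarith

end Irr

end Core

end Cfsg.Agent.GW
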