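import Cfsg.Agent.Lib.GW.Trans

/-!
No reflection is mixed on an elementary abelian normal subgroup of `C`.
-/

set_option autoImplicit false
set_option linter.unusedSectionVars false
set_option linter.style.haveILetI false

namespace Cfsg.Agent.GW.Core

open Subgroup

universe u

variable {G : Type u} [Group G] [Finite G] {c : Core G} {a : G} {q : ℕ} [hq : Fact q.Prime]

theorem MixAb.false {A : Subgroup G} (h : c.MixAb a q A) (ha : c.Refl a) (hC : IsCoatom c.C) (hq2 : q ≠ 2)
    (hS : c.SecAll)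
    (hside : (c.W (c.d.x * a)).relIndex c.U ≤ (c.W a).relIndex c.U ∨ c.NeverMixed (c.d.x * a)) :
    False := by
  obtain ⟨B, hB⟩ := h.exists_min ha hC hq2
  have hb := hB.toMixAb
  obtain ⟨f, hfB, hf1, hf, hline⟩ := hb.exists_line ha hC hq2 hS
  by_cases hcard : Nat.card (B ⊓ c.W a : Subgroup G) = q
  · exact hb.planar_false ha hC hq2 hS hfB hf1 hf hline hcard hside
  have hnorm : c.C ≤ normalizer (zpowers f : Set G) := by
    by_contra hn
    exact hcard (hB.plane_or_normal ha hC hq2 hS hfB hf1 hf hline hn)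
  refine NormalLine.trans_false ⟨hb, ha, hC, hq2, hfB, hf1, hf, hline, hnorm⟩ hS ?_ hside
  refine lt_of_le_of_ne ?_ (Ne.symm hcard)
  obtain ⟨j, hj⟩ : ∃ j, Nat.card (B ⊓ c.W a : Subgroup G) = q ^ j :=
    ((BenderUnique.coreIn_pGroup q c.C).to_le (inf_le_left.trans hb.le)).exists_card_eq
  rcases j with _ | j
  · exact absurd (card_eq_one.1 (by rw [hj, pow_zero])) hb.fix
  · rw [hj]; exact Nat.le_self_pow (Nat.succ_ne_zero j) q

end Cfsg.Agent.GW.Core
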