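import Cfsg.Agent.Lib.GW.Setup
import Cfsg.Agent.Lib.DGroup.Ratio

/-!
The index of the centraliser of an involution in terms of the indices of the subgroups `W`.
-/

set_option autoImplicit false
set_option linter.unusedSectionVars false
set_option linter.style.haveILetI false

namespace Cfsg.Agent.GW

open Cfsg.Agent.TwoFus Subgroup

universe u

namespace Core

variable {G : Type u} [Group G] [Finite G] (c : Core G) {a : G}

theorem mul_eq_mul_split {u u' s s' : G} (hu : u ∈ c.U) (hu' : u' ∈ c.U) (hs : s ∈ (c.P : Subgroup G))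
    (hs' : s' ∈ (c.P : Subgroup G)) (e : u * s = u' * s') : u = u' ∧ s = s' := by
  haveI : Fact (Nat.Prime 2) := ⟨Nat.prime_two⟩
  have h : u'⁻¹ * u = s' * s⁻¹ := by
    rw [eq_mul_inv_iff_mul_eq, mul_assoc, e, inv_mul_cancel_left]
  have h2 : u'⁻¹ * u ∈ (c.P : Subgroup G) := h ▸ mul_mem hs' (inv_mem hs)
  obtain ⟨k, hk⟩ := c.P.isPGroup' ⟨_, h2⟩
  have hk' : (u'⁻¹ * u) ^ (2 ^ k) = 1 := congrArg Subtype.val hk
  have ho : Odd (orderOf (u'⁻¹ * u)) := c.odd_of_mem_U (mul_mem (inv_mem hu') hu)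
  have h1 : orderOf (u'⁻¹ * u) = 1 :=
    Nat.eq_one_of_dvd_coprimes (Nat.Coprime.pow_right k (Nat.coprime_two_right.2 ho)) dvd_rfl
      (orderOf_dvd_of_pow_eq_one hk')
  have h3 : u = u' := (inv_mul_eq_one.1 (orderOf_eq_one_iff.1 h1)).symm
  subst h3
  exact ⟨rfl, mul_left_cancel e⟩

theorem C_card : Nat.card c.C = Nat.card c.U * (2 * c.d.m) := by
  let f : c.U × (c.P : Subgroup G) → c.C := fun p => ⟨p.1 * p.2, mul_mem (c.U_le p.1.2) (c.P_le p.2.2)⟩
  have hf : Function.Bijective f := by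
    constructor
    · rintro ⟨u, s⟩ ⟨u', s'⟩ e
      obtain ⟨h1, h2⟩ := c.mul_eq_mul_split u.2 u'.2 s.2 s'.2 (congrArg Subtype.val e)
      exact Prod.ext (Subtype.ext h1) (Subtype.ext h2)
    · rintro ⟨g, hg⟩
      obtain ⟨u, hu, s, hs, e⟩ := c.U_sup g hg
      exact ⟨(⟨u, hu⟩, ⟨s, hs⟩), Subtype.ext e.symm⟩
  rw [← c.d.card, ← Nat.card_prod, Nat.card_eq_of_bijective f hf]

theorem x_mul_refl (ha : c.Refl a) : c.Refl (c.d.x * a) :=
  ⟨mul_mem c.d.hx ha.1, fun h => ha.2 (by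
    have := mul_mem (inv_mem (Subgroup.mem_zpowers c.d.x)) h
    rwa [inv_mul_cancel_left] at this)⟩

/-- An element of `P` centralising a reflection lies in its four-group. -/
theorem cent_refl_cases (ha : c.Refl a) {s : G} (hs : s ∈ (c.P : Subgroup G)) (hsa : s * a = a * s) :
    s = 1 ∨ s = c.d.z ∨ s = a ∨ s = c.d.z * a := by
  have key : ∀ t ∈ Subgroup.zpowers c.d.x, t * a = a * t → t = 1 ∨ t = c.d.z := by
    intro t ht hta
    refine c.d.sq_cases ht ?_
    obtain ⟨i, rfl⟩ := ht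
    rcases c.d.cases a ha.1 with ⟨j, hj⟩ | ⟨j, hj⟩
    · exact absurd (hj ▸ zpow_mem (Subgroup.mem_zpowers _) j) ha.2
    change c.d.x ^ i * a = a * c.d.x ^ i at hta
    rw [hj, ← mul_assoc, ← zpow_add, mul_assoc, c.d.swap, ← mul_assoc, ← zpow_add] at hta
    have h2 := mul_right_cancel hta
    show c.d.x ^ i * c.d.x ^ i = 1
    rw [← zpow_add]
    rw [zpow_add, zpow_add, zpow_neg] at h2
    have h3 : c.d.x ^ i * c.d.x ^ j = (c.d.x ^ i)⁻¹ * c.d.x ^ j :=
      h2.trans ((Commute.refl c.d.x).zpow_zpow j i |>.inv_right.eq)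
    have h4 := mul_right_cancel h3
    rw [zpow_add]
    nth_rewrite 1 [h4]
    rw [inv_mul_cancel]
  by_cases hx : s ∈ Subgroup.zpowers c.d.x
  · rcases key s hx hsa with e | e
    · exact Or.inl e
    · exact Or.inr (Or.inl e)
  · have hm := c.d.idx a ha.1 s hs ha.2 hx
    have hcm : a⁻¹ * s * a = a * (a⁻¹ * s) := by
      rw [mul_assoc, hsa, inv_mul_cancel_left, mul_inv_cancel_left]
    rcases key _ hm hcm with e | e
    · rw [inv_mul_eq_one] at e
      exact Or.inr (Or.inr (Or.inl e.symm))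
    · rw [inv_mul_eq_iff_eq_mul, ha.comm] at e
      exact Or.inr (Or.inr (Or.inr e))

theorem klein_cent_eq (ha : c.Refl a) {g : G} (hg : g ∈ centralizer ({c.d.z, a} : Set G)) :
    ∃ w ∈ c.W a, ∃ v, (v = 1 ∨ v = c.d.z ∨ v = a ∨ v = c.d.z * a) ∧ g = w * v := by
  have hgz : g * c.d.z = c.d.z * g := (mem_centralizer_iff.1 hg _ (Or.inl rfl)).symm
  have hga : g * a = a * g := (mem_centralizer_iff.1 hg _ (Or.inr rfl)).symm
  obtain ⟨u, hu, s, hs, rfl⟩ := c.U_sup g (c.mem_C.2 hgz)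
  have hu' : a * u * a⁻¹ ∈ c.U := c.U_conj a ha.mem_C u hu
  obtain ⟨h1, h2⟩ := c.mul_eq_mul_split hu hu' (mul_mem hs ha.1) (mul_mem ha.1 hs) (by
    rw [← mul_assoc, hga]; group)
  refine ⟨u, ha.mem_W.2 ⟨hu, ?_⟩, s, c.cent_refl_cases ha hs h2, rfl⟩
  conv_lhs => rw [h1]
  rw [inv_mul_cancel_right]

theorem klein_cent_card (ha : c.Refl a) :
    Nat.card (centralizer ({c.d.z, a} : Set G)) = 4 * Nat.card (c.W a) := by
  obtain ⟨V, hVP, hV, hzV, haV, hall⟩ := ha.exists_klein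
  have hmem : ∀ p : c.W a × V, (p.1 : G) * p.2 ∈ centralizer ({c.d.z, a} : Set G) := by
    rintro ⟨⟨w, hw⟩, ⟨v, hv⟩⟩
    have hwU := ha.mem_W.1 hw
    have hwz : Commute w c.d.z := c.mem_C.1 (c.U_le hwU.1)
    have hvz : Commute v c.d.z := c.d.z_comm (hVP hv)
    have hva : Commute v a := by
      rcases hall v hv with rfl | rfl | rfl | rfl
      · exact Commute.one_left _
      · exact ha.comm.symm
      · exact Commute.refl _
      · exact (show Commute c.d.z a from ha.comm.symm).mul_left (Commute.refl _)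
    rw [mem_centralizer_iff]
    rintro b (hb | hb)
    · rw [hb]; exact ((hwz.mul_left hvz).eq).symm
    · rw [Set.mem_singleton_iff.1 hb]
      exact (((show Commute w a from hwU.2).mul_left hva).eq).symm
  let f : c.W a × V → centralizer ({c.d.z, a} : Set G) := fun p => ⟨p.1 * p.2, hmem p⟩
  have hf : Function.Bijective f := by
    constructor
    · rintro ⟨w, v⟩ ⟨w', v'⟩ e
      obtain ⟨h1, h2⟩ := c.mul_eq_mul_split (Subgroup.mem_inf.1 w.2).1 (Subgroup.mem_inf.1 w'.2).1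
        (hVP v.2) (hVP v'.2) (congrArg Subtype.val e)
      exact Prod.ext (Subtype.ext h1) (Subtype.ext h2)
    · rintro ⟨g, hg⟩
      obtain ⟨w, hw, v, hv, rfl⟩ := c.klein_cent_eq ha hg
      refine ⟨(⟨w, hw⟩, ⟨v, ?_⟩), rfl⟩
      rcases hv with rfl | rfl | rfl | rfl
      exacts [one_mem _, hzV, haV, mul_mem hzV haV]
  rw [← Nat.card_eq_of_bijective f hf, Nat.card_prod, hV.card_four, mul_comm]

theorem relIndex_mul_card_W (a : G) : (c.W a).relIndex c.U * Nat.card (c.W a) = Nat.card c.U := by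
  have := relIndex_mul_relIndex (⊥ : Subgroup G) (c.W a) c.U bot_le inf_le_left
  rw [relIndex_bot_left, relIndex_bot_left] at this
  rw [mul_comm]; exact this

/-- Conjugation by a rotation does not change the order of `W`. -/
theorem card_W_conj {s : G} (hs : s ∈ (c.P : Subgroup G)) (a : G) :
    Nat.card (c.W (s * a * s⁻¹)) = Nat.card (c.W a) := by
  have e : c.W (s * a * s⁻¹) = (c.W a).map (MulAut.conj s).toMonoidHom := by
    ext g
    simp only [W, mem_inf, mem_centralizer_singleton_iff]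
    constructor
    · rintro ⟨hg, hga⟩
      refine ⟨s⁻¹ * g * s, ⟨?_, ?_⟩, ?_⟩
      · have := c.U_conj s⁻¹ (inv_mem (c.P_le hs)) g hg
        rwa [inv_inv] at this
      · refine mem_centralizer_singleton_iff.2 ?_
        calc s⁻¹ * g * s * a = s⁻¹ * (g * (s * a * s⁻¹)) * s := by group
          _ = s⁻¹ * (s * a * s⁻¹ * g) * s := by rw [hga]
          _ = a * (s⁻¹ * g * s) := by group
      · show s * (s⁻¹ * g * s) * s⁻¹ = g
        group
    · rintro ⟨w, ⟨hw, hwa⟩, rfl⟩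
      replace hwa : w * a = a * w := mem_centralizer_singleton_iff.1 hwa
      refine ⟨c.U_conj s (c.P_le hs) w hw, ?_⟩
      show s * w * s⁻¹ * (s * a * s⁻¹) = s * a * s⁻¹ * (s * w * s⁻¹)
      calc s * w * s⁻¹ * (s * a * s⁻¹) = s * (w * a) * s⁻¹ := by group
        _ = s * (a * w) * s⁻¹ := by rw [hwa]
        _ = s * a * s⁻¹ * (s * w * s⁻¹) := by group
  rw [e]
  exact (Nat.card_congr (equivMapOfInjective _ _ (MulAut.conj s).injective).toEquiv).symm

theorem card_W_shift (i j : ℤ) :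
    Nat.card (c.W (c.d.x ^ (i + 2 * j) * c.d.y)) = Nat.card (c.W (c.d.x ^ i * c.d.y)) := by
  rw [← c.card_W_conj (zpow_mem c.d.hx j) (c.d.x ^ i * c.d.y)]
  have e : c.d.x ^ j * (c.d.x ^ i * c.d.y) * (c.d.x ^ j)⁻¹ = c.d.x ^ (i + 2 * j) * c.d.y := by
    rw [← zpow_neg, mul_assoc, mul_assoc, c.d.swap, neg_neg, ← mul_assoc, ← mul_assoc, ← zpow_add,
      ← zpow_add]
    congr 2
    ring
  rw [e]

theorem index_bound (ha : c.Refl a) :
    16 * c.C.index ≤
      15 * (c.d.m * ((c.W a).relIndex c.U + (c.W (c.d.x * a)).relIndex c.U)) ^ 2 := by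
  obtain ⟨f, -, hf, hG⟩ := DGroup.order_formula c.P c.d c.one_class
  have hy : c.Refl c.d.y := ⟨c.d.hy, c.d.ynot⟩
  have hxy := c.x_mul_refl hy
  obtain ⟨i, rfl⟩ : ∃ i : ℤ, a = c.d.x ^ i * c.d.y := by
    rcases c.d.cases a ha.1 with ⟨i, hi⟩ | hi
    · exact absurd (hi ▸ zpow_mem (Subgroup.mem_zpowers _) i) ha.2
    · exact hi
  set r₁ := (c.W c.d.y).relIndex c.U with hr₁
  set r₂ := (c.W (c.d.x * c.d.y)).relIndex c.U with hr₂
  have hcan : ∀ {g g' : G}, Nat.card (c.W g) = Nat.card (c.W g') →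
      (c.W g).relIndex c.U = (c.W g').relIndex c.U := fun {g g'} e => by
    have h1 := c.relIndex_mul_card_W g
    have h2 := c.relIndex_mul_card_W g'
    rw [e] at h1
    exact Nat.eq_of_mul_eq_mul_right Nat.card_pos (h1.trans h2.symm)
  have hsum : (c.W (c.d.x ^ i * c.d.y)).relIndex c.U +
      (c.W (c.d.x * (c.d.x ^ i * c.d.y))).relIndex c.U = r₁ + r₂ := by
    rw [← mul_assoc, ← zpow_one_add]
    rcases Int.even_or_odd' i with ⟨j, rfl | rfl⟩
    · congr 1
      · exact hcan (by simpa using c.card_W_shift 0 j)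
      · exact hcan (by simpa using c.card_W_shift 1 j)
    · rw [add_comm r₁]
      congr 1
      · exact hcan (by have := c.card_W_shift 1 j; rw [add_comm] at this; simpa using this)
      · refine hcan ?_
        have := c.card_W_shift 0 (j + 1)
        rw [show (0 : ℤ) + 2 * (j + 1) = 1 + (2 * j + 1) by ring, zpow_zero, one_mul] at this
        exact this
  rw [hsum]
  set U := Nat.card c.U with hU
  set w₁ := Nat.card (c.W c.d.y) with hw₁
  set w₂ := Nat.card (c.W (c.d.x * c.d.y)) with hw₂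
  have e₁ : r₁ * w₁ = U := c.relIndex_mul_card_W _
  have e₂ : r₂ * w₂ = U := c.relIndex_mul_card_W _
  have hCc : (Nat.card c.C : ℚ) = U * (2 * c.d.m) := by exact_mod_cast c.C_card
  have hk₁ : (Nat.card (centralizer ({c.d.z, c.d.y} : Set G)) : ℚ) = 4 * w₁ := by
    exact_mod_cast c.klein_cent_card hy
  have hk₂ : (Nat.card (centralizer ({c.d.z, c.d.x * c.d.y} : Set G)) : ℚ) = 4 * w₂ := by
    exact_mod_cast c.klein_cent_card hxy
  have hind : (c.C.index : ℚ) * (U * (2 * c.d.m)) = Nat.card G := by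
    rw [← hCc, mul_comm]
    exact_mod_cast c.C.card_mul_index
  have hUpos : (0 : ℚ) < U := Nat.cast_pos.2 Nat.card_pos
  have hw₁pos : (0 : ℚ) < w₁ := Nat.cast_pos.2 Nat.card_pos
  have hw₂pos : (0 : ℚ) < w₂ := Nat.cast_pos.2 Nat.card_pos
  have hmpos : (0 : ℚ) < c.d.m := Nat.cast_pos.2 (by have := c.d.two_le; omega)
  have q₁ : (r₁ : ℚ) = U / w₁ := by
    rw [eq_div_iff hw₁pos.ne']; exact_mod_cast e₁
  have q₂ : (r₂ : ℚ) = U / w₂ := by
    rw [eq_div_iff hw₂pos.ne']; exact_mod_cast e₂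
  have key : (Nat.card G : ℚ) / f = U * (c.d.m : ℚ) ^ 3 * ((r₁ : ℚ) + r₂) ^ 2 ∨ f = 0 := by
    by_cases hf0 : f = 0
    · exact Or.inr hf0
    left
    rw [hG, mul_div_cancel_left₀ _ hf0, DGroup.centFactor]
    split_ifs with hm
    · have hzx : c.d.z = c.d.x := by rw [Dih.z, hm]; norm_num
      have hww : w₂ = w₁ := by rw [hw₂, ← hzx, hy.W_eq]
      rw [hCc, hk₁, q₁, q₂, hm, hww]
      field_simp
      ring
    · rw [hCc, hk₁, hk₂, q₁, q₂]
      field_simp
      ring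
  have hfin : (16 * c.C.index : ℚ) ≤ 15 * ((c.d.m : ℚ) * (r₁ + r₂)) ^ 2 := by
    rcases key with key | hf0
    · have h0 : 0 ≤ U * (c.d.m : ℚ) ^ 3 * ((r₁ : ℚ) + r₂) ^ 2 := by positivity
      by_cases hf0 : f = 0
      · rw [hf0, zero_mul] at hG
        exact absurd hG (Nat.cast_ne_zero.2 Nat.card_pos.ne')
      have hG' : (Nat.card G : ℚ) ≤ 15 / 8 * (U * (c.d.m : ℚ) ^ 3 * ((r₁ : ℚ) + r₂) ^ 2) := by
        rw [div_eq_iff hf0] at key
        rw [key, mul_comm (15 / 8 : ℚ)]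
        exact mul_le_mul_of_nonneg_left hf h0
      rw [← hind] at hG'
      refine le_of_mul_le_mul_right (a := (U : ℚ) * (2 * c.d.m)) ?_ (by positivity)
      nlinarith
    · rw [hf0, zero_mul] at hG
      exact absurd hG (Nat.cast_ne_zero.2 Nat.card_pos.ne')
  exact_mod_cast hfin

theorem m_mul_relIndex (ha : c.Refl a) {H : Subgroup G} (hz : c.d.z ∈ H) (haH : a ∈ H)
    (hW : c.W a ≤ H) :
    c.d.m * (c.W a).relIndex c.U =
      2 * (H ⊓ c.C).relIndex c.C * (centralizer ({a} : Set G)).relIndex (H ⊓ c.C) := by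
  set K := centralizer ({a} : Set G) ⊓ (H ⊓ c.C) with hK
  have hKeq : K = centralizer ({c.d.z, a} : Set G) := by
    ext g
    rw [hK, mem_inf, mem_inf, c.mem_C, mem_centralizer_singleton_iff, mem_centralizer_iff]
    constructor
    · rintro ⟨h1, -, h2⟩ _ (rfl | rfl)
      exacts [h2.symm, h1.symm]
    · intro h
      obtain ⟨w, hw, v, hv, e⟩ := c.klein_cent_eq ha (mem_centralizer_iff.2 h)
      refine ⟨(h a (Or.inr rfl)).symm, e ▸ mul_mem (hW hw) ?_, (h c.d.z (Or.inl rfl)).symm⟩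
      rcases hv with rfl | rfl | rfl | rfl
      exacts [one_mem _, hz, haH, mul_mem hz haH]
  have h1 := relIndex_mul_relIndex K (H ⊓ c.C) c.C inf_le_right inf_le_right
  rw [hK, inf_relIndex_right, ← hK] at h1
  have h2 := relIndex_mul_relIndex (⊥ : Subgroup G) K c.C bot_le (inf_le_right.trans inf_le_right)
  rw [relIndex_bot_left, relIndex_bot_left, c.C_card, hKeq, c.klein_cent_card ha, ← hKeq,
    ← c.relIndex_mul_card_W a, ← h1] at h2
  refine Nat.eq_of_mul_eq_mul_right (m := 2 * Nat.card (c.W a)) (Nat.mul_pos two_pos Nat.card_pos) ?_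
  linarith

end Core

end Cfsg.Agent.GW
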