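import Cfsg.Agent.Lib.GW.OtherSide
import Cfsg.Agent.Lib.GW.Count
import Cfsg.Agent.Lib.GW.Index

/-!
The counting contradiction for a plane on which a reflection is mixed.
-/

set_option autoImplicit false
set_option linter.unusedSectionVars false
set_option linter.style.haveILetI false

namespace Cfsg.Agent.GW

open Cfsg.Agent.TwoFus Cfsg.Agent.BenderUnique Subgroup

universe u

/-- Two ways of counting the cosets of an intersection. -/
theorem index_mul_relIndex {G : Type u} [Group G] (H K : Subgroup G) :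
    H.index * K.relIndex H = K.index * H.relIndex K := by
  have h1 := relIndex_mul_index (inf_le_left : H ⊓ K ≤ H)
  have h2 := relIndex_mul_index (inf_le_right : H ⊓ K ≤ K)
  rw [inf_relIndex_left] at h1
  rw [inf_relIndex_right] at h2
  rw [mul_comm H.index, h1, ← h2, mul_comm]

namespace Core

variable {G : Type u} [Group G] [Finite G] {c : Core G} {a : G} {q : ℕ} [hq : Fact q.Prime]

theorem MixAb.planar_false_of_bound {A : Subgroup G} (h : c.MixAb a q A) (ha : c.Refl a)
    (hC : IsCoatom c.C) (hq2 : q ≠ 2) (hS : c.SecAll) {f : G} (hfA : f ∈ A) (hf1 : f ≠ 1)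
    (hf : a * f * a⁻¹ = f⁻¹) (hline : ∀ y ∈ A, a * y * a⁻¹ = y⁻¹ → y ∈ zpowers f)
    (hE : Nat.card (A ⊓ c.W a : Subgroup G) = q)
    (hside : (c.W (c.d.x * a)).relIndex c.U ≤ (c.W a).relIndex c.U ∨
      ((c.P : Subgroup G) ≤ normalizer ((A ⊓ c.W a : Subgroup G) : Set G) ∧
        ∀ T : Subgroup G, IsCyclic T →
          (∀ y, y ∈ T ↔ y ∈ normalizer ((A ⊓ c.W a : Subgroup G) : Set G) ∧ y ∈ c.U ∧
            a * y * a⁻¹ = y⁻¹) →
          (c.W (c.d.x * a)).relIndex c.U ≤ Nat.card T ^ 2)) :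
    False := by
  classical
  haveI : Finite (Subgroup G) :=
    Finite.of_injective (fun H : Subgroup G => (H : Set G)) SetLike.coe_injective
  haveI : Fintype (Subgroup G) := Fintype.ofFinite _
  have hqp : q.Prime := hq.out
  have hq3 : 3 ≤ q := by
    have := hqp.two_le
    omega
  set E := A ⊓ c.W a with hEd
  set H := normalizer (E : Set G) with hH
  have hEA : E ≤ A := inf_le_left
  obtain ⟨hI, hO⟩ := h.local_inner ha hC hq2 h.fix le_rfl (H := H) (centralizer_le_normalizer _) le_rfl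
  obtain ⟨T, cc, hTc, hTmem, hTcc, horb, -, hbranch⟩ := hS a H ha hI hO
  have hAcH : A ≤ H := (h.comm.trans (centralizer_le hEA)).trans (centralizer_le_normalizer _)
  have hfT : f ∈ T := (hTmem f).2 ⟨hAcH hfA, h.le_U hq2 hfA, hf⟩
  have hqT : q ≤ Nat.card T := by
    rw [← h.order hfA hf1, ← Nat.card_zpowers]
    exact card_le_of_le (zpowers_le.2 hfT)
  have hqc : 4 * q ≤ cc := le_trans (by omega) hTcc
  have hWH : c.W a ≤ H := by
    intro w hw
    refine mem_normalizer_fintype fun y hy => ?_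
    have hwU := ha.mem_W.1 hw
    refine ⟨h.conj_mem (c.U_le hwU.1) hy.1, ha.mem_W.2 ⟨?_, ?_⟩⟩
    · exact c.U_conj w (c.U_le hwU.1) y (h.le_U hq2 hy.1)
    · exact (((show Commute w a from hwU.2).mul_left (ha.mem_W.1 hy.2).2).mul_left
        (show Commute w a from hwU.2).inv_left).eq
  have hA0 : A ≠ ⊥ := fun e => h.fix (by rw [e, bot_inf_eq])
  have hNA : normalizer (A : Set G) = c.C := normalizer_eq_C hC h.le_C hA0 h.norm
  -- the conjugates of `E` in `A`
  set Es : Finset (Subgroup G) :=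
    Finset.univ.filter fun Q => ∃ g ∈ c.C, Q = E.map (MulAut.conj g).toMonoidHom with hEs
  set k := Es.card with hk
  have hmem : ∀ Q, Q ∈ Es ↔ ∃ g ∈ c.C, Q = E.map (MulAut.conj g).toMonoidHom :=
    fun Q => Finset.mem_filter.trans (and_iff_right (Finset.mem_univ Q))
  have hkrel : k = H.relIndex c.C := by
    rw [hH, ← card_conjugates_in, Nat.card_eq_fintype_card, Fintype.card_subtype]
  have hEs0 : E ∈ Es := (hmem E).2 ⟨1, one_mem _, by
    rw [map_one]; exact (Subgroup.map_id E).symm⟩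
  have hleA : ∀ Q ∈ Es, Q ≤ A := by
    intro Q hQ
    obtain ⟨g, hg, rfl⟩ := (hmem Q).1 hQ
    rintro _ ⟨y, hy, rfl⟩
    exact h.conj_mem hg (hEA hy)
  have hQcard : ∀ Q ∈ Es, Nat.card Q = q := by
    intro Q hQ
    obtain ⟨g, hg, rfl⟩ := (hmem Q).1 hQ
    rw [card_map_of_injective (MulAut.conj g).injective, hE]
  have hAcard : Nat.card A = q * q := by rw [h.card_eq ha hq2 hfA hf1 hf hline, ← hEd, hE]
  have hgen : ∀ E1 ∈ Es, ∀ E2 ∈ Es, E1 ≠ E2 → E1 ⊔ E2 = A := by
    intro E1 h1 E2 h2 hne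
    have hle : E1 ⊔ E2 ≤ A := sup_le (hleA _ h1) (hleA _ h2)
    refine eq_of_le_of_card_ge hle ?_
    have hlt : E1 < E1 ⊔ E2 := lt_of_le_of_ne le_sup_left fun e => hne
      (eq_of_le_of_card_ge (e ▸ le_sup_right : E2 ≤ E1) (by rw [hQcard _ h1, hQcard _ h2])).symm
    have hdvd : Nat.card (E1 ⊔ E2 : Subgroup G) ∣ q ^ 2 := by
      rw [pow_two, ← hAcard]; exact card_dvd_of_le hle
    obtain ⟨j, hj, hjc⟩ := (Nat.dvd_prime_pow hqp).1 hdvd
    have h3 : Nat.card E1 < Nat.card (E1 ⊔ E2 : Subgroup G) :=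
      lt_of_not_ge fun hge => hlt.ne (eq_of_le_of_card_ge hlt.le hge)
    rw [hQcard _ h1, hjc] at h3
    rw [hjc, hAcard, ← pow_two]
    refine Nat.pow_le_pow_right hqp.pos ?_
    by_contra hj2
    have : q ^ j ≤ q ^ 1 := Nat.pow_le_pow_right hqp.pos (by omega)
    rw [pow_one] at this
    omega
  have hk2 : 2 ≤ k := by
    by_contra hlt
    have hk1 : H.relIndex c.C = 1 := by
      have : 0 < k := Finset.card_pos.2 ⟨E, hEs0⟩
      omega
    exact ha.no_normal hC hq2 h.mixed h.fix (le_inf (hEA.trans h.le) inf_le_right)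
      (relIndex_eq_one.1 hk1)
  have hkq : k ≤ q + 1 := by
    have hfE : f ∉ E := fun hfE => hf1 (eq_one_of_sq_odd (by
      have h2 : a * f * a⁻¹ = f := mul_inv_eq_iff_eq_mul.2 ((ha.mem_W.1 hfE.2).2).symm
      nth_rewrite 1 [h2.symm.trans hf]
      rw [inv_mul_cancel]) (c.odd_of_mem_U (h.le_U hq2 hfA)))
    have hex : ∀ Q : (Es.erase E : Finset (Subgroup G)), ∃ e : E, f * (e : G)⁻¹ ∈ (Q : Subgroup G) := by
      rintro ⟨Q, hQ⟩
      obtain ⟨hQE, hQs⟩ := Finset.mem_erase.1 hQ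
      have hf' : f ∈ Q ⊔ E := (hgen Q hQs E hEs0 hQE).symm ▸ hfA
      have hn : E ≤ normalizer (Q : Set G) :=
        (hEA.trans (h.comm.trans (centralizer_le (hleA Q hQs)))).trans (centralizer_le_normalizer _)
      rw [← SetLike.mem_coe, coe_mul_of_right_le_normalizer_left Q E hn] at hf'
      obtain ⟨e', he', e, he, rfl⟩ := Set.mem_mul.1 hf'
      exact ⟨⟨e, he⟩, by simpa using he'⟩
    choose e he using hex
    have hinj : Function.Injective e := by
      rintro ⟨Q, hQ⟩ ⟨Q', hQ'⟩ heq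
      have h1 := he ⟨Q, hQ⟩
      have h2 := he ⟨Q', hQ'⟩
      rw [← heq] at h2
      set p := f * ((e ⟨Q, hQ⟩ : E) : G)⁻¹ with hp
      have hp1 : p ≠ 1 := fun hp1 => hfE (by
        rw [hp, mul_inv_eq_one] at hp1
        rw [hp1]; exact (e ⟨Q, hQ⟩).2)
      have hz : ∀ R ∈ Es, p ∈ R → zpowers p = R := fun R hR hpR =>
        eq_of_le_of_card_ge (zpowers_le.2 hpR)
          (by rw [hQcard R hR, Nat.card_zpowers, h.order (hleA R hR hpR) hp1])
      exact Subtype.ext ((hz Q (Finset.mem_erase.1 hQ).2 h1).symm.trans (hz Q' (Finset.mem_erase.1 hQ').2 h2))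
    have hle := Nat.card_le_card_of_injective e hinj
    rw [Nat.card_eq_finsetCard, Finset.card_erase_of_mem hEs0, hE] at hle
    omega
  have hconj : ∀ E' ∈ Es, ∃ g ∈ normalizer (A : Set G), E' = E.map (MulAut.conj g).toMonoidHom := by
    intro E' hE'
    rw [hNA]
    exact (hmem E').1 hE'
  -- the conjugates of `A` inside its centraliser
  have hcent : ∀ g ∈ H, A.map (MulAut.conj g).toMonoidHom ≤ centralizer (A : Set G) →
      Commute (g * f * g⁻¹) f := fun g _ hle =>
    (mem_centralizer_iff.1 (hle (mem_map_of_mem _ hfA)) f hfA).symm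
  let B : Type u := {Q : Subgroup G // (∃ g ∈ normalizer (E : Set G), Q = A.map (MulAut.conj g).toMonoidHom) ∧
    Q ≤ centralizer (A : Set G)}
  have hcount : ∀ n, Nat.card B ≤ n → k * (k - 1) * (c.C.relIndex H - n) ≤ H.index := by
    intro n hn
    have := count_conj A E h.comm Es hEs0 hleA hconj hgen n hn
    rwa [hNA] at this
  -- the index
  have hI16 := c.index_bound ha
  set b := c.d.x * a with hb
  set M := c.d.m * ((c.W a).relIndex c.U + (c.W b).relIndex c.U) with hM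
  have hzH : c.d.z ∈ H := hI.z_mem
  have haH : a ∈ H := hI.a_mem
  have hna : c.d.m * (c.W a).relIndex c.U ≤ k * cc := by
    rw [c.m_mul_relIndex ha hzH haH hWH, inf_relIndex_right, ← hkrel, mul_comm 2 k, mul_assoc]
    exact Nat.mul_le_mul_left k horb
  have hMbound : M ≤ 2 * k * cc ∨ (3 ≤ k ∧ 4 * M ≤ (4 * k + cc) * cc) := by
    rcases hside with hle | ⟨hPH, hbd⟩
    · left
      calc M ≤ c.d.m * ((c.W a).relIndex c.U + (c.W a).relIndex c.U) :=
            Nat.mul_le_mul_left _ (Nat.add_le_add_left hle _)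
        _ = 2 * (c.d.m * (c.W a).relIndex c.U) := by ring
        _ ≤ 2 * (k * cc) := Nat.mul_le_mul_left _ hna
        _ = 2 * k * cc := by ring
    right
    have hkU : k = H.relIndex c.U := by
      rw [hkrel, hH, ← card_conjugates_in, ← card_conjugates_in]
      refine Nat.card_congr (Equiv.subtypeEquivRight fun Q => ⟨?_, fun ⟨g, hg, e⟩ => ⟨g, c.U_le hg, e⟩⟩)
      rintro ⟨g, hg, rfl⟩
      obtain ⟨u, hu, s, hs, rfl⟩ := c.U_sup g hg
      exact ⟨u, hu, by rw [← map_conj_mul, map_conj_eq_self (hPH hs)]⟩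
    have hkodd : Odd k := hkU ▸ c.U_odd.of_dvd_nat (relIndex_dvd_card H c.U)
    have hk3 : 3 ≤ k := by
      obtain ⟨j, hj⟩ := hkodd
      omega
    refine ⟨hk3, ?_⟩
    have hmT : c.d.m * Nat.card T ≤ cc := by
      refine Nat.le_of_mul_le_mul_left (c := k) ?_ (by omega)
      calc k * (c.d.m * Nat.card T) = c.d.m * (Nat.card T * H.relIndex c.U) := by rw [← hkU]; ring
        _ ≤ c.d.m * ((c.W a).relIndex (c.U ⊓ H) * H.relIndex c.U) :=
          Nat.mul_le_mul_left _ (Nat.mul_le_mul_right _ (ha.card_T_le hTmem))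
        _ = c.d.m * (c.W a).relIndex c.U := by
          rw [← inf_relIndex_left c.U H, relIndex_mul_relIndex _ _ _ (le_inf ha.W_le hWH) inf_le_left]
        _ ≤ k * cc := hna
    have hnb := hbd T hTc hTmem
    calc 4 * M = 4 * (c.d.m * (c.W a).relIndex c.U) + 4 * (c.d.m * (c.W b).relIndex c.U) := by
          rw [hM]; ring
      _ ≤ 4 * (k * cc) + 4 * (c.d.m * Nat.card T ^ 2) :=
          Nat.add_le_add (Nat.mul_le_mul_left _ hna) (Nat.mul_le_mul_left _ (Nat.mul_le_mul_left _ hnb))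
      _ = 4 * (k * cc) + (c.d.m * Nat.card T) * (4 * Nat.card T) := by ring
      _ ≤ 4 * (k * cc) + cc * cc := Nat.add_le_add_left (Nat.mul_le_mul hmT hTcc) _
      _ = (4 * k + cc) * cc := by ring
  have hIk := index_mul_relIndex H c.C
  rw [← hkrel] at hIk
  have hfinal : ∀ n, Nat.card B ≤ n →
      (k - 1) * (c.C.relIndex H - n) * c.C.relIndex H ≤ c.C.index := by
    intro n hn
    refine Nat.le_of_mul_le_mul_right ?_ (show 0 < k by omega)
    calc (k - 1) * (c.C.relIndex H - n) * c.C.relIndex H * k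
        = k * (k - 1) * (c.C.relIndex H - n) * c.C.relIndex H := by ring
      _ ≤ H.index * c.C.relIndex H := Nat.mul_le_mul_right _ (hcount n hn)
      _ = c.C.index * k := hIk
  rcases hbranch with ⟨hJ, hfix⟩ | ⟨rfl, hJ, h75⟩
  · have hB : Nat.card B ≤ 1 := by
      have hone : ∀ Q : B, Q.1 = A := by
        rintro ⟨Q, ⟨g, hg, rfl⟩, hle⟩
        exact map_conj_eq_self (hNA.symm ▸ hfix f hfT hf1 g hg (hcent g hg hle))
      haveI : Subsingleton B := ⟨fun Q Q' => Subtype.ext ((hone Q).trans (hone Q').symm)⟩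
      exact Finite.card_le_one_iff_subsingleton.2 inferInstance
    have hf' := hfinal 1 hB
    rcases hMbound with hM' | ⟨hk3, hM'⟩
    · exact absurd (num_irr hI16 hJ hq3 hqc hk2 hkq hM') (not_lt.2 hf')
    · exact absurd (num_inv hI16 hJ hq3 hqc hk3 hkq hM') (not_lt.2 hf')
  · have hB : Nat.card B ≤ 75 := by
      refine le_trans ?_ (h75 f hfT hf1)
      have hex : ∀ Q : B, ∃ g ∈ H, Q.1 = A.map (MulAut.conj g).toMonoidHom := fun Q => Q.2.1
      choose g hg hgQ using hex
      refine Nat.card_le_card_of_injective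
        (fun Q => ⟨g Q * c.d.z * (g Q)⁻¹, g Q, hg Q, rfl, hcent _ (hg Q) (hgQ Q ▸ Q.2.2)⟩) ?_
      intro Q Q' e
      have e' : g Q * c.d.z * (g Q)⁻¹ = g Q' * c.d.z * (g Q')⁻¹ := congrArg Subtype.val e
      have hmC : (g Q')⁻¹ * g Q ∈ c.C := c.mem_C.2 (by
        calc (g Q')⁻¹ * g Q * c.d.z = (g Q')⁻¹ * (g Q * c.d.z * (g Q)⁻¹) * g Q := by group
          _ = c.d.z * ((g Q')⁻¹ * g Q) := by rw [e']; group)
      refine Subtype.ext ?_
      rw [hgQ Q, hgQ Q']
      have := map_conj_eq_self (hNA.symm ▸ hmC : (g Q')⁻¹ * g Q ∈ normalizer (A : Set G))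
      conv_rhs => rw [← this, map_conj_mul, mul_inv_cancel_left]
    have hf' := hfinal 75 hB
    rw [hJ] at hf'
    have hq : q = 3 := by omega
    refine absurd (num_a7 (k := k) hI16 hk2 (by omega) ?_) (not_lt.2 (le_trans (le_of_eq (by norm_num)) hf'))
    rcases hMbound with hM' | hM'
    · exact Or.inl (le_of_le_of_eq hM' (by ring))
    · exact Or.inr hM'

/-- The counting contradiction when the other reflection class is small or never mixed. -/
theorem MixAb.planar_false {A : Subgroup G} (h : c.MixAb a q A) (ha : c.Refl a) (hC : IsCoatom c.C)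
    (hq2 : q ≠ 2) (hS : c.SecAll) {f : G} (hfA : f ∈ A) (hf1 : f ≠ 1) (hf : a * f * a⁻¹ = f⁻¹)
    (hline : ∀ y ∈ A, a * y * a⁻¹ = y⁻¹ → y ∈ zpowers f)
    (hE : Nat.card (A ⊓ c.W a : Subgroup G) = q)
    (hside : (c.W (c.d.x * a)).relIndex c.U ≤ (c.W a).relIndex c.U ∨ c.NeverMixed (c.d.x * a)) :
    False := by
  refine h.planar_false_of_bound ha hC hq2 hS hfA hf1 hf hline hE (hside.imp id fun hn => ?_)
  have hbR : c.Refl (c.d.x * a) := c.x_mul_refl ha
  set E := A ⊓ c.W a
  set H := normalizer (E : Set G) with hH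
  have hEA : E ≤ A := inf_le_left
  have haH : a ∈ H := centralizer_le_normalizer _
    (mem_centralizer_iff.2 fun y hy => (ha.mem_W.1 hy.2).2)
  refine ⟨?_, fun T _ hT => ha.other_bound hbR rfl hn hC hS hq2 h.mixed (hEA.trans h.le)
    (centralizer_le_normalizer _) hT⟩
  set b := c.d.x * a with hb
  have hbH : b ∈ H := by
    refine mem_normalizer_fintype fun y hy => ?_
    show b * y * b⁻¹ ∈ E
    rcases hn.dichotomy hbR q hq2 with hd | hd
    · rwa [hd y (h.le hy.1)]
    · rw [hd y (h.le hy.1)]; exact inv_mem hy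
  have hxH : c.d.x ∈ H := by
    have e : c.d.x = b * a := by rw [hb, mul_assoc, ha.sq, mul_one]
    rw [e]; exact mul_mem hbH haH
  intro s hs
  by_cases hsx : s ∈ zpowers c.d.x
  · exact (zpowers_le.2 hxH) hsx
  · have h1 := mul_mem haH ((zpowers_le.2 hxH) (c.d.idx a ha.1 s hs ha.2 hsx))
    rwa [mul_inv_cancel_left] at h1

end Core

end Cfsg.Agent.GW
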