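import Cfsg.Agent.Lib.GW.Mixed

/-!
The finer facts of a section with the four-group inner, used in the symplectic case.
-/

set_option autoImplicit false
set_option linter.unusedSectionVars false

namespace Cfsg.Agent.GW.Core

open Subgroup

universe u

variable {G : Type u} [Group G] [Finite G] (c : Core G)

/-- The finer facts of a section. -/
def SecFine (a : G) (H : Subgroup G) : Prop :=
  ∃ (T : Subgroup G) (cc : ℕ), IsCyclic T ∧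
    (∀ y, y ∈ T ↔ y ∈ H ∧ y ∈ c.U ∧ a * y * a⁻¹ = y⁻¹) ∧ 4 * Nat.card T ≤ cc ∧
    2 * (centralizer ({a} : Set G)).relIndex (H ⊓ c.C) ≤ cc ∧
    (((cc - 1) * (cc - 2) ≤ 2 * c.C.relIndex H ∧
        (∀ y ∈ T, y ≠ 1 → ∀ g ∈ H, Commute (g * y * g⁻¹) y → g ∈ c.C) ∧
        (∀ w ∈ H ⊓ c.C, w * w = 1 → ∀ y ∈ T, y ≠ 1 → w * y = y * w → w = 1 ∨ w = c.d.z) ∧
        (∀ w ∈ H, w * w = 1 → ∀ r ∈ H ⊓ c.U, w * r * w⁻¹ = r⁻¹ →
          ∃ t ∈ T, ∃ o ∈ Cfsg.oddCore H, r = t * (o : G)) ∧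
        (∀ y ∈ T, y ≠ 1 →
          Nat.card {v : G // ∃ g ∈ H, g * c.d.z * g⁻¹ = v ∧
            Odd (Nat.card (closure ({y, g * y * g⁻¹} : Set G)))} ≤ 2 * cc + 5)) ∨
      (cc = 12 ∧ ∀ y ∈ T, y ≠ 1 → ∃ g : H, (g : G) ∉ c.C ∧ g ∈ res H ∧
        ∃ o ∈ Cfsg.oddCore H, (g : G) * y * (g : G)⁻¹ = y * (o : G)))

/-- All sections have these facts. -/
def SecFineAll : Prop :=
  ∀ (a : G) (H : Subgroup G), c.Refl a → c.Inner a H →
    (∀ o ∈ Cfsg.oddCore H, (o : G) * c.d.z = c.d.z * o ∧ (o : G) * a = a * o) → c.SecFine a H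

end Cfsg.Agent.GW.Core
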