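import Cfsg.Agent.Lib.GW.SecPairs
import Cfsg.Agent.Lib.GW.SecFineDef

/-!
The finer facts of a section with the four-group inner: proofs.
-/

set_option autoImplicit false
set_option linter.unusedSectionVars false
set_option linter.style.haveILetI false

namespace Cfsg.Agent.GW

open Cfsg.Agent.TwoFus Subgroup Cfsg.Agent.AutPSL

universe u

local notation "P2" F => Matrix.ProjectiveSpecialLinearGroup (Fin 2) F

/-- An involution commuting with an involution of the socle and with a nontrivial odd element of its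
centraliser there is that involution. -/
theorem torus_cent_invol {F : Type} [Field F] [Fintype F] {X : Type u} [Group X] [Finite X]
    [IsSimpleGroup (P2 F)] (hnc : ¬ IsMulCommutative (P2 F)) (hodd : Odd (Fintype.card F))
    (L : Subgroup X) (ι : X →* MulAut (P2 F)) (hι : Function.Injective ι)
    (hL : L.map ι = Cfsg.Inn (P2 F)) (hfld : ∀ x : X, Odd (orderOf (fldHom (ι x))))
    {v w x : X} (hv : v ∈ L) (hvo : orderOf v = 2) (hwo : orderOf w = 2) (hwv : w * v = v * w)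
    (hx : x ∈ L) (hx1 : x ≠ 1) (hxo : Odd (orderOf x)) (hxv : x * v = v * x) (hwx : w * x = x * w) :
    w = v := by
  obtain ⟨Kd, hKn, hLK, hKi, -, A, s, -, hAc, hvA, -, -, hss, -, hinv, -, hall⟩ :=
    psl_centralizer (F := F) hnc hodd L ι hι hL hfld hv hvo
  haveI := hKn
  have hw2 : w * w = 1 := sq_one hwo
  have hs' : s⁻¹ = s := inv_eq_of_mul_eq_one_right hss
  have hcomA : ∀ p r : X, p ∈ A → r ∈ A → p * r = r * p := fun p r hp hr =>
    congrArg Subtype.val (hAc.isMulCommutative.is_comm.comm (⟨p, hp⟩ : A) ⟨r, hr⟩)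
  have hxA : x ∈ A := (hall x (hLK hx) hxv).resolve_right fun h1 => hx1 (eq_one_of_sq_odd (by
    have h2 := hinv _ h1
    rw [hs'] at h2
    calc x * x = x * s * (s * (x * s) * s) := by
          rw [mul_assoc s, mul_assoc x s s, hss, mul_one, ← mul_assoc (x * s), mul_assoc x s s, hss,
            mul_one]
      _ = 1 := by rw [h2, mul_inv_cancel]) hxo)
  have hwK : w ∈ Kd := by
    have h1 := Subgroup.pow_index_mem Kd w
    obtain ⟨k, hk⟩ := hKi
    rwa [hk, pow_succ, pow_mul, pow_two, hw2, one_pow, one_mul] at h1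
  rcases hall w hwK hwv with h | h
  · refine (eq_of_cyclic_sq hAc hvA (sq_one hvo) ?_ h hw2).resolve_left ?_
    · intro e; rw [e, orderOf_one] at hvo; omega
    · intro e; rw [e, orderOf_one] at hwo; omega
  · exfalso
    refine hx1 (eq_one_of_sq_odd ?_ hxo)
    have h2 : w * x * w⁻¹ = x⁻¹ := by
      calc w * x * w⁻¹ = w * s * (s * x * s⁻¹) * (w * s)⁻¹ := by
            rw [hs', _root_.mul_inv_rev, hs']
            simp only [mul_assoc]
            rw [← mul_assoc s s, hss, one_mul, ← mul_assoc s s, hss, one_mul]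
        _ = w * s * x⁻¹ * (w * s)⁻¹ := by rw [hinv x hxA]
        _ = x⁻¹ := by rw [hcomA _ _ h (inv_mem hxA), mul_inv_cancel_right]
    rw [hwx, mul_inv_cancel_right] at h2
    exact mul_eq_one_iff_eq_inv.2 h2

/-- In `A₇` the centraliser of an element of order three is not inside that of an involution. -/
theorem seven_move {X : Type u} [Group X] [Finite X] (e : X ≃* alternatingGroup (Fin 7)) {v x : X}
    (hv : orderOf v = 2) (hx1 : x ≠ 1) (hxo : Odd (orderOf x)) (hxv : x * v = v * x) :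
    ∃ g : X, g * x = x * g ∧ g * v ≠ v * g := by
  obtain ⟨κ, hκ, hκv, hr⟩ := seven_range e hv
  obtain ⟨g, hg⟩ : Equiv.swap (0 : Fin 7) 1 * Equiv.swap 1 2 ∈ κ.range := by
    rw [hr, Equiv.Perm.mem_alternatingGroup]; decide +kernel
  refine ⟨g, hκ ?_, fun h => ?_⟩
  · rw [map_mul, map_mul, hg]
    rcases (seven_odd_cent hκ hκv hxv hxo).resolve_left hx1 with e1 | e1 <;> rw [e1] <;> decide +kernel
  · have h1 := congrArg κ h
    rw [map_mul, map_mul, hg, hκv] at h1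
    exact absurd h1 (by decide +kernel)

namespace Core

variable {G : Type u} [Group G] [Finite G] {c : Core G} {a : G} {H : Subgroup G} {ha : c.Refl a}

namespace SecHyp

variable (hs : c.SecHyp ha H)

include hs

/-- An involution of the centraliser commuting with a nontrivial inverted element is central. -/
theorem cent_clause {L : Subgroup (H ⧸ Cfsg.oddCore H)} (hf : SocleFacts (H ⧸ Cfsg.oddCore H) L)
    (hcw : ∀ w x : H ⧸ Cfsg.oddCore H, orderOf w = 2 → w * hs.zb = hs.zb * w → x ∈ L → x ≠ 1 →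
      Odd (orderOf x) → x * hs.zb = hs.zb * x → w * x = x * w → w = hs.zb)
    {T : Subgroup G} (hT : ∀ y, y ∈ T ↔ y ∈ H ∧ y ∈ c.U ∧ a * y * a⁻¹ = y⁻¹) :
    ∀ w ∈ H ⊓ c.C, w * w = 1 → ∀ y ∈ T, y ≠ 1 → w * y = y * w → w = 1 ∨ w = c.d.z := by
  intro w hw hww y hy hy1 hwy
  set wH : H := ⟨w, hw.1⟩
  obtain ⟨hyH, hyU, hya⟩ := (hT y).1 hy
  obtain ⟨h1, h2, h3⟩ := hs.mo_T ⟨hyH, hyU, hya⟩ hy1
  have hwH2 : wH * wH = 1 := Subtype.ext hww
  by_cases e : mo H wH = 1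
  · exact Or.inl (congrArg Subtype.val (eq_one_of_sq_odd hwH2 (odd_of_mem_core ((mo_ker _).1 e))))
  right
  have hw2 : orderOf (mo H wH) = 2 :=
    Invol.order_two_of_sq (by rw [← map_mul, hwH2, map_one]) e
  have hxL : mo H ⟨y, hyH⟩ ∈ L := hf.inverted_mem hs.ab _ (sq_one (invol_mo hs.a_ord)) h2 (by
    rw [← map_inv, ← map_mul, ← map_mul, ← map_inv]; exact congrArg _ (Subtype.ext hya))
  have e2 := hcw _ _ hw2 ((hs.mem_C_iff wH).1 hw.2) hxL h1 h2 h3 (by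
    rw [← map_mul, ← map_mul]; exact congrArg _ (Subtype.ext hwy))
  exact congrArg Subtype.val (invol_eq_of_mo (sq_one hs.z_ord) hwH2 hs.z_core e2.symm).symm

/-- Inverted elements of `H ∩ U` lie in the torus group times the odd core. -/
theorem inv_lift_clause {L : Subgroup (H ⧸ Cfsg.oddCore H)} (hf : SocleFacts (H ⧸ Cfsg.oddCore H) L)
    (hzL : hs.zb ∈ L) (haL : hs.ab ∈ L) {TL : Subgroup (H ⧸ Cfsg.oddCore H)}
    (hodd : ∀ x ∈ L, x * hs.zb = hs.zb * x → Odd (orderOf x) → x ∈ TL)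
    (hor : ∀ w, orderOf w = 2 → w * hs.zb = hs.zb * w →
      (∀ x ∈ TL, w * x = x * w) ∨ (∀ x ∈ TL, w * x * w⁻¹ = x⁻¹))
    {T : Subgroup G} (hT : ∀ y, y ∈ T ↔ y ∈ H ∧ y ∈ c.U ∧ a * y * a⁻¹ = y⁻¹) :
    ∀ w ∈ H, w * w = 1 → ∀ r ∈ H ⊓ c.U, w * r * w⁻¹ = r⁻¹ →
      ∃ t ∈ T, ∃ o ∈ Cfsg.oddCore H, r = t * (o : G) := by
  intro w hw hww r hr hwr
  set rH : H := ⟨r, hr.1⟩ with hrH
  by_cases e : mo H rH = 1
  · exact ⟨1, one_mem _, rH, (mo_ker _).1 e, (one_mul r).symm⟩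
  have ho : Odd (orderOf (mo H rH)) := by
    refine Odd.of_dvd_nat ?_ (orderOf_map_dvd _ _)
    rw [← Subgroup.orderOf_coe]; exact c.odd_of_mem_U hr.2
  have hrz : mo H rH * hs.zb = hs.zb * mo H rH := (hs.mem_C_iff rH).1 (c.U_le hr.2)
  have hrL : mo H rH ∈ L := hf.inverted_mem (mo H ⟨w, hw⟩) _
    (by rw [← map_mul, ← map_one (mo H)]; exact congrArg _ (Subtype.ext hww)) ho (by
      rw [← map_inv, ← map_mul, ← map_mul, ← map_inv]; exact congrArg _ (Subtype.ext hwr))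
  have hrT := hodd _ hrL hrz ho
  have hinv : hs.ab * mo H rH * hs.ab⁻¹ = (mo H rH)⁻¹ := by
    rcases hor hs.ab (invol_mo hs.a_ord) hs.za_comm.symm with h | h
    · exact absurd (hf.klein_cent hs.zb hs.ab _ hzL haL (invol_mo hs.z_ord) (invol_mo hs.a_ord)
        hs.za_ne.symm hs.za_comm hrL ho hrz.symm (h _ hrT)) e
    · exact h _ hrT
  -- the commutator with the reflection is inverted and lifts the square
  set d : G := r * (a * r⁻¹ * a⁻¹) with hd
  have hdT : d ∈ T := by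
    refine (hT d).2 ⟨mul_mem hr.1 (mul_mem (mul_mem hs.a_mem (inv_mem hr.1)) (inv_mem hs.a_mem)),
      mul_mem hr.2 (c.U_conj a ha.mem_C _ (inv_mem hr.2)), ?_⟩
    rw [hd]
    calc a * (r * (a * r⁻¹ * a⁻¹)) * a⁻¹ = a * r * (a * r⁻¹) * (a⁻¹ * a⁻¹) := by group
      _ = a * r * a⁻¹ * r⁻¹ := by rw [ha.inv_eq, ha.sq]; simp [mul_assoc]
      _ = (r * (a * r⁻¹ * a⁻¹))⁻¹ := by group
  obtain ⟨j, hj⟩ := ho
  have htT : d ^ (j + 1) ∈ T := pow_mem hdT _
  set tH : H := ⟨d ^ (j + 1), ((hT _).1 htT).1⟩ with htH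
  have hdm : mo H ⟨d, ((hT d).1 hdT).1⟩ = mo H rH * mo H rH := by
    have : (⟨d, ((hT d).1 hdT).1⟩ : H) = rH * (⟨a, hs.a_mem⟩ * rH⁻¹ * (⟨a, hs.a_mem⟩ : H)⁻¹) := rfl
    rw [this, map_mul, map_mul, map_mul, map_inv, map_inv]
    show mo H rH * (hs.ab * (mo H rH)⁻¹ * hs.ab⁻¹) = _
    rw [show hs.ab * (mo H rH)⁻¹ * hs.ab⁻¹ = (hs.ab * mo H rH * hs.ab⁻¹)⁻¹ by group, hinv, inv_inv]
  have htm : mo H tH = mo H rH := by
    rw [show tH = (⟨d, ((hT d).1 hdT).1⟩ : H) ^ (j + 1) from rfl, map_pow, hdm, ← pow_two, ← pow_mul,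
      show 2 * (j + 1) = orderOf (mo H rH) + 1 by omega, pow_succ, pow_orderOf_eq_one, one_mul]
  refine ⟨_, htT, tH⁻¹ * rH, (mo_ker _).1 (by rw [map_mul, map_inv, htm, inv_mul_cancel]), ?_⟩
  show r = d ^ (j + 1) * ((d ^ (j + 1))⁻¹ * r)
  rw [mul_inv_cancel_left]

/-- The moving element of an `A₇` section. -/
theorem seven_clause (e : (H ⧸ Cfsg.oddCore H) ≃* alternatingGroup (Fin 7))
    {L : Subgroup (H ⧸ Cfsg.oddCore H)} (hsoc : ∀ g : H, g ∈ socPre H ↔ mo H g ∈ L) (hL : L = ⊤)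
    {T : Subgroup G} (hT : ∀ y, y ∈ T ↔ y ∈ H ∧ y ∈ c.U ∧ a * y * a⁻¹ = y⁻¹) :
    ∀ y ∈ T, y ≠ 1 → ∃ g : H, (g : G) ∉ c.C ∧ g ∈ res H ∧
      ∃ o ∈ Cfsg.oddCore H, (g : G) * y * (g : G)⁻¹ = y * (o : G) := by
  intro y hy hy1
  obtain ⟨hyH, hyU, hya⟩ := (hT y).1 hy
  obtain ⟨h1, h2, h3⟩ := hs.mo_T ⟨hyH, hyU, hya⟩ hy1
  haveI := oddCore_normal (X := H)
  obtain ⟨g', hg1, hg2⟩ := seven_move e (invol_mo hs.z_ord) h1 h2 h3
  obtain ⟨g₀, rfl⟩ := QuotientGroup.mk'_surjective (Cfsg.oddCore H) g'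
  have hg0 : g₀ ∈ socPre H := (hsoc g₀).2 (hL ▸ mem_top _)
  rw [socPre, ← SetLike.mem_coe, Subgroup.mul_normal] at hg0
  obtain ⟨g, hg, o₀, ho₀, e0⟩ := Set.mem_mul.1 hg0
  have hgm : mo H g = mo H g₀ := by
    rw [← e0, map_mul, (mo_ker o₀).2 ho₀, mul_one]
  set yH : H := ⟨y, hyH⟩
  refine ⟨g, fun hgC => hg2 ?_, hg, yH⁻¹ * (g * yH * g⁻¹), (mo_ker _).1 ?_, ?_⟩
  · have := (hs.mem_C_iff g).1 hgC
    rwa [hgm] at this
  · rw [map_mul, map_inv, map_mul, map_mul, map_inv, hgm, hg1, mul_inv_cancel_right, inv_mul_cancel]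
  · show (g : G) * y * (g : G)⁻¹ = y * (y⁻¹ * ((g : G) * y * (g : G)⁻¹))
    rw [mul_inv_cancel_left]

end SecHyp

/-- Every section has the finer facts. -/
theorem secFineAll (c : Core G) : c.SecFineAll := by
  rintro a H ha ⟨hz, haH, ⟨S⟩, s1, s2⟩ hO
  have hs : c.SecHyp ha H := ⟨hz, haH, hO⟩
  have hd : DihSylow (H ⧸ Cfsg.oddCore H) := (ha.dihSylow H hz haH).quotient _ oddCore_odd
  haveI := S.normal
  haveI := S.simple
  have hzL : hs.zb ∈ S.L := S.mem_socPre.1 s1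
  have haL : hs.ab ∈ S.L := S.mem_socPre.1 s2
  rcases almost_target hd S.L S.noncomm S.cent S.target with
    ⟨htop, ⟨e⟩⟩ | ⟨F, _, _, hodd, h3, ι, hι, hL, hfld⟩
  · obtain ⟨TL, hcyc, h3', hmem⟩ := seven_torus e (invol_mo hs.z_ord)
    obtain ⟨T, h1, h2, h4, h5, -, -⟩ := hs.seven_clauses hcyc h3' hmem
      (seven_cent_card e (invol_mo hs.z_ord)) (fun x u v => seven_cent_le e u v) (seven_order e)
    exact ⟨T, 12, h1, h2, h4, h5,
      Or.inr ⟨rfl, hs.seven_clause e (fun g => S.mem_socPre) htop h2⟩⟩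
  · haveI : IsSimpleGroup (P2 F) :=
      Matrix.ProjectiveSpecialLinearGroup.rank_two_simple (by rw [Nat.card_eq_fintype_card]; omega)
    have hnc : ¬ IsMulCommutative (P2 F) := fun hc => S.noncomm (by
      have hbot : S.L.map ι = ⊥ := by
        rw [hL, Cfsg.Inn, MonoidHom.range_eq_bot_iff]
        ext p x
        simp [hc.is_comm.comm p x]
      rw [Subgroup.map_eq_bot_iff_of_injective _ hι] at hbot
      rw [hbot]
      exact ⟨⟨fun a b => Subsingleton.elim _ _⟩⟩)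
    obtain ⟨TL, -, hcyc, hzT, hcard, hoddT, hrot, hor⟩ :=
      torus_sub hd hnc hodd h3 S.L S.normal S.simple S.noncomm ι hι hL hfld hs.zb hzL (invol_mo hs.z_ord)
    have hf := socleFacts hd hnc hodd h3 S.L S.normal S.simple S.noncomm ι hι hL hfld
    have hor' := fun w hw => hor w (sq_one hw)
    obtain ⟨T, h1, h2, h4, h5, -, h7, h8⟩ :=
      hs.socle_clauses hf hzL haL hcyc hzT hcard hoddT hrot hor'
    refine ⟨T, _, h1, h2, h4, h5, Or.inl ⟨h7, h8,
      hs.cent_clause hf (fun w x m1 m2 m3 m4 m5 m6 m7 =>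
        torus_cent_invol hnc hodd S.L ι hι hL hfld hzL (invol_mo hs.z_ord) m1 m2 m3 m4 m5 m6 m7) h2,
      hs.inv_lift_clause hf hzL haL hoddT hor' h2, fun y hy hy1 => ?_⟩⟩
    obtain ⟨u1, u2, u3⟩ := (h2 y).1 hy
    refine (hs.pair_count hf hzL hcyc hoddT (fun x m1 m2 m3 m4 =>
      odd_pairs hd hnc hodd h3 S.L S.normal S.simple S.noncomm ι hι hL hfld hs.zb x hzL
        (invol_mo hs.z_ord) m1 m2 m3 m4) u1 u2 u3 hy1).trans ?_
    omega

end Core

end Cfsg.Agent.GW
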