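import Cfsg.Agent.Lib.GW.SplitDef
import Cfsg.Agent.Lib.GW.Planar
import Cfsg.Agent.Lib.GW.SecFine

/-!
The reducible configuration with the other reflection fixing an element of the plane outside the line:
that reflection gives a planar configuration whose index is too small.
-/

set_option autoImplicit false
set_option linter.unusedSectionVars false
set_option linter.style.haveILetI false

namespace Cfsg.Agent.GW

open Cfsg.Agent.TwoFus Cfsg.Agent.BenderUnique Cfsg.Agent.AutPSL Subgroup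

universe u

local notation "P2" F => Matrix.ProjectiveSpecialLinearGroup (Fin 2) F

/-- A `q`-element normalising a cyclic group of order dividing `q` centralises it. -/
theorem comm_of_qpow_conj {Y : Type u} [Group Y] {q : ℕ} [hq : Fact q.Prime] {w y : Y} {n : ℕ}
    (hw : w ^ q ^ n = 1) (hy : y ^ q = 1) (h : w * y * w⁻¹ ∈ zpowers y) : w * y = y * w := by
  obtain ⟨α, hα⟩ := h
  simp only at hα
  have hiter : ∀ k : ℕ, w ^ k * y * (w ^ k)⁻¹ = y ^ (α ^ k) := by
    intro k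
    induction k with
    | zero => simp
    | succ k ih =>
      calc w ^ (k + 1) * y * (w ^ (k + 1))⁻¹ = w * (w ^ k * y * (w ^ k)⁻¹) * w⁻¹ := by
            rw [pow_succ']; group
        _ = (w * y * w⁻¹) ^ (α ^ k) := by rw [ih, conj_zpow]
        _ = y ^ (α ^ (k + 1)) := by rw [← hα, ← zpow_mul, pow_succ']
  by_cases hy1 : y = 1
  · rw [hy1, one_mul, mul_one]
  have hor : orderOf y = q := orderOf_eq_prime hy hy1
  have h1 := hiter (q ^ n)
  rw [hw, one_mul, inv_one, mul_one] at h1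
  have h2 : (1 : ℤ) ≡ α ^ (q ^ n) [ZMOD q] := by
    rw [← hor, ← zpow_eq_zpow_iff_modEq, zpow_one]
    convert h1 using 1
    rw [hor]
  rw [← ZMod.intCast_eq_intCast_iff, Int.cast_one, Int.cast_pow, ZMod.pow_card_pow] at h2
  have h3 : y ^ α = y := by
    conv_rhs => rw [← zpow_one y]
    rw [zpow_eq_zpow_iff_modEq, hor, ← ZMod.intCast_eq_intCast_iff, Int.cast_one, ← h2]
  exact mul_inv_eq_iff_eq_mul.1 (hα.symm.trans h3)

namespace Core

variable {G : Type u} [Group G] [Finite G] {c : Core G}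

/-- In a section, an element of `U` inverted by an involution is an inverted one times a core element. -/
theorem Refl.inverted_lift {b : G} (hb : c.Refl b) {H : Subgroup G} (hI : c.Inner b H)
    (hO : ∀ o ∈ Cfsg.oddCore H, (o : G) * c.d.z = c.d.z * o ∧ (o : G) * b = b * o) {T : Subgroup G}
    (hT : ∀ y, y ∈ T ↔ y ∈ H ∧ y ∈ c.U ∧ b * y * b⁻¹ = y⁻¹) {f : G} (hfT : f ∈ T) (hf1 : f ≠ 1) :
    ∀ w ∈ H, w * w = 1 → ∀ r ∈ H ⊓ c.U, w * r * w⁻¹ = r⁻¹ →
      ∃ t ∈ T, ∃ o ∈ Cfsg.oddCore H, r = t * (o : G) := by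
  obtain ⟨hz, hbH, ⟨S⟩, s1, s2⟩ := hI
  have hs : c.SecHyp hb H := ⟨hz, hbH, hO⟩
  have hd : DihSylow (H ⧸ Cfsg.oddCore H) := (hb.dihSylow H hz hbH).quotient _ oddCore_odd
  haveI := S.normal
  haveI := S.simple
  have hzL : hs.zb ∈ S.L := S.mem_socPre.1 s1
  have hbL : hs.ab ∈ S.L := S.mem_socPre.1 s2
  rcases almost_target hd S.L S.noncomm S.cent S.target with
    ⟨-, ⟨e⟩⟩ | ⟨F, _, _, hodd, h3, ι, hι, hL, hfld⟩
  · intro w _ _ r hr _
    obtain ⟨TL, hcyc, hcard, hmem⟩ := seven_torus e (invol_mo hs.z_ord)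
    obtain ⟨hfH, hfU, hfi⟩ := (hT f).1 hfT
    obtain ⟨f1, f2, f3⟩ := hs.mo_T ⟨hfH, hfU, hfi⟩ hf1
    set rH : H := ⟨r, hr.1⟩ with hrH
    set fH : H := ⟨f, hfH⟩ with hfHd
    have hr1 : mo H rH ∈ TL := hmem _ ((hs.mem_C_iff rH).1 (c.U_le hr.2)) (by
      refine Odd.of_dvd_nat ?_ (orderOf_map_dvd _ _)
      rw [← Subgroup.orderOf_coe]; exact c.odd_of_mem_U hr.2)
    have hTL : zpowers (mo H fH) = TL := by
      refine eq_of_le_of_card_ge (zpowers_le.2 (hmem _ f3 f2)) ?_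
      rw [hcard, Nat.card_zpowers]
      have hdvd : orderOf (mo H fH) ∣ 3 := by
        rw [← hcard]; exact orderOf_dvd_natCard _ (hmem _ f3 f2)
      rcases (Nat.dvd_prime Nat.prime_three).1 hdvd with h | h
      · exact absurd (orderOf_eq_one_iff.1 h) f1
      · exact h.ge
    rw [← hTL] at hr1
    obtain ⟨i, hi⟩ := hr1
    refine ⟨f ^ i, zpow_mem hfT i, (fH ^ i)⁻¹ * rH, (mo_ker _).1 ?_, ?_⟩
    · rw [map_mul, map_inv, map_zpow, show mo H fH ^ i = mo H rH from hi, inv_mul_cancel]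
    · show r = f ^ i * ((fH ^ i)⁻¹ * rH : H)
      rw [Subgroup.coe_mul, Subgroup.coe_inv, Subgroup.coe_zpow]
      exact (mul_inv_cancel_left _ _).symm
  · haveI : IsSimpleGroup (P2 F) :=
      Matrix.ProjectiveSpecialLinearGroup.rank_two_simple (by rw [Nat.card_eq_fintype_card]; omega)
    have hnc : ¬ IsMulCommutative (P2 F) := fun hc => S.noncomm (by
      have hbot : S.L.map ι = ⊥ := by
        rw [hL, Cfsg.Inn, MonoidHom.range_eq_bot_iff]
        ext p x
        simp [hc.is_comm.comm p x]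
      rw [Subgroup.map_eq_bot_iff_of_injective _ hι] at hbot
      rw [hbot]
      exact ⟨⟨fun a b => Subsingleton.elim _ _⟩⟩)
    obtain ⟨TL, -, -, -, -, hoddT, -, hor⟩ :=
      torus_sub hd hnc hodd h3 S.L S.normal S.simple S.noncomm ι hι hL hfld hs.zb hzL
        (invol_mo hs.z_ord)
    exact hs.inv_lift_clause (socleFacts hd hnc hodd h3 S.L S.normal S.simple S.noncomm ι hι hL hfld)
      hzL hbL hoddT (fun w hw => hor w (sq_one hw)) hT

variable {a : G} {q : ℕ} [hq : Fact q.Prime] {e f y : G}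

/-- The other reflection cannot fix the plane modulo the line. -/
theorem Red.mixed_false (R : c.Red a q e f y) (hS : c.SecAll) (hF : c.SecFineAll)
    (hb : (c.d.x * a) * y * (c.d.x * a)⁻¹ * y⁻¹ ∈ zpowers f) : False := by
  classical
  have hqp : q.Prime := hq.out
  have L := R.toHeis
  have ha := L.refl
  have hC := L.hC
  have hq2 := L.ne_two
  have hbR : c.Refl (c.d.x * a) := c.x_mul_refl ha
  set b := c.d.x * a with hbdef
  have hbf : b * f * b⁻¹ = f⁻¹ := L.other_inv hF hbR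
  -- the fixed element of `y⟨f⟩`
  obtain ⟨ρ, hρz, hρρ⟩ := exists_sqrt (s := b * y * b⁻¹ * y⁻¹) (by
    obtain ⟨i, hi⟩ := hb
    simp only at hi
    rw [← hi]
    exact (c.odd_of_mem_U (zpow_mem L.f_U i)))
  have hρf : ρ ∈ zpowers f := (zpowers_le.2 hb) hρz
  have hρb : b * ρ * b⁻¹ = ρ⁻¹ := by
    obtain ⟨i, rfl⟩ := hρf
    simp only
    rw [← conj_zpow, hbf, inv_zpow]
  have hfcomm : ∀ v ∈ zpowers f, Commute y v := by
    rintro _ ⟨i, rfl⟩
    exact (show Commute y f from L.yf).zpow_right i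
  set y' := y * ρ with hy'd
  have hy'fix : b * y' * b⁻¹ = y' := by
    calc b * y' * b⁻¹ = (b * y * b⁻¹ * y⁻¹) * y * (b * ρ * b⁻¹) := by rw [hy'd]; group
      _ = ρ * ρ * y * ρ⁻¹ := by rw [← hρρ, hρb]
      _ = y' := by
        rw [hy'd, mul_assoc (ρ * ρ), ((hfcomm ρ hρf).inv_right).eq, ← mul_assoc, mul_inv_cancel_right]
        exact ((hfcomm ρ hρf).eq).symm
  -- the plane
  set A : Subgroup G := zpowers y ⊔ zpowers f with hAd
  have hyf_le : zpowers f ≤ normalizer (zpowers y : Set G) := le_trans (zpowers_le.2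
    (mem_centralizer_iff.2 (by
      rintro _ ⟨i, rfl⟩; exact ((show Commute y f from L.yf).zpow_left i).eq)))
    (centralizer_le_normalizer _)
  have hAmem : ∀ v ∈ A, ∃ i j : ℤ, v = y ^ i * f ^ j := by
    intro v hv
    rw [hAd, ← SetLike.mem_coe, coe_mul_of_right_le_normalizer_left _ _ hyf_le] at hv
    obtain ⟨_, ⟨i, rfl⟩, _, ⟨j, rfl⟩, rfl⟩ := Set.mem_mul.1 hv
    exact ⟨i, j, rfl⟩
  have hyA : y ∈ A := mem_sup_left (mem_zpowers y)
  have hfA : f ∈ A := mem_sup_right (mem_zpowers f)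
  have hy'A : y' ∈ A := mul_mem hyA ((zpowers_le.2 hfA) hρf)
  have hAQ : A ≤ c.Qc q := sup_le (zpowers_le.2 L.y_mem) (zpowers_le.2 L.f_mem)
  have hAU : A ≤ c.U := hAQ.trans (c.Qc_le_U hq2)
  have hyne : y ∉ zpowers f := fun hy => L.f_ne (by
    obtain ⟨i, rfl⟩ := hy
    have h1 := L.conj
    rw [((show Commute f e from L.ef.symm).zpow_left i).eq, mul_inv_cancel_right] at h1
    exact mul_eq_left.1 h1.symm)
  have hy'ne : y' ∉ zpowers f := fun h => hyne (by
    have := mul_mem h (inv_mem hρf)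
    rwa [hy'd, mul_inv_cancel_right] at this)
  have hAc : A ≤ centralizer (A : Set G) := fun v hv => mem_centralizer_iff.2 fun v' hv' => by
    obtain ⟨i, j, rfl⟩ := hAmem v hv
    obtain ⟨i', j', rfl⟩ := hAmem v' hv'
    have hc : Commute y f := L.yf
    exact (((Commute.refl y).zpow_zpow i' i).mul_right (hc.zpow_zpow i' j)).mul_left
      ((hc.symm.zpow_zpow j' i).mul_right ((Commute.refl f).zpow_zpow j' j))
  have hApow : ∀ v ∈ A, v ^ q = 1 := fun v hv => by
    obtain ⟨i, j, rfl⟩ := hAmem v hv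
    rw [((show Commute y f from L.yf).zpow_zpow i j).mul_pow, ← zpow_natCast, ← zpow_natCast,
      ← zpow_mul, ← zpow_mul, mul_comm i, mul_comm j, zpow_mul, zpow_mul, zpow_natCast, zpow_natCast,
      L.y_pow, L.f_pow, one_zpow, one_zpow, one_mul]
  have haA : ∀ v ∈ A, a * v * a⁻¹ = v⁻¹ := fun v hv => by
    obtain ⟨i, j, rfl⟩ := hAmem v hv
    rw [← conj_mul, ← conj_zpow, ← conj_zpow, L.y_inv, L.f_inv, inv_zpow, inv_zpow, mul_inv_rev]
    exact (((show Commute y f from L.yf).zpow_zpow i j).inv_inv).eq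
  have hy'1 : y' ≠ 1 := fun e0 => hy'ne (e0 ▸ one_mem _)
  have hy'W : y' ∈ A ⊓ c.W b := ⟨hy'A, hbR.mem_W.2 ⟨hAU hy'A, (mul_inv_eq_iff_eq_mul.1 hy'fix).symm⟩⟩
  have hfW : f ∉ c.W b := fun hfW => L.f_ne (eq_one_of_sq_odd (by
    have h2 : b * f * b⁻¹ = f := mul_inv_eq_iff_eq_mul.2 ((hbR.mem_W.1 hfW).2).symm
    nth_rewrite 1 [h2.symm.trans hbf]
    rw [inv_mul_cancel]) (c.odd_of_mem_U L.f_U))
  have h : c.MixAb b q A :=
    ⟨hAQ, hAc, hApow, R.normA, fun e0 => hy'1 (mem_bot.1 (e0 ▸ hy'W)), fun hle => hfW (hle hfA)⟩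
  obtain ⟨f0, hf0A, hf01, hf0, hline0⟩ := h.exists_line hbR hC hq2 hS
  have hff : zpowers f0 = zpowers f :=
    (eq_of_le_of_card_ge (zpowers_le.2 (hline0 f hfA hbf))
      (by rw [Nat.card_zpowers, Nat.card_zpowers, h.order hf0A hf01, L.f_order])).symm
  have hline : ∀ v ∈ A, b * v * b⁻¹ = v⁻¹ → v ∈ zpowers f := fun v hv hvi => hff ▸ hline0 v hv hvi
  have hEcard : Nat.card (A ⊓ c.W b : Subgroup G) = q := by
    have hcard := h.card_eq hbR hq2 hfA L.f_ne hbf hline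
    have hle : Nat.card A ≤ q * q := by
      have h1 := Set.natCard_mul_le (s := (zpowers y : Set G)) (t := (zpowers f : Set G))
      rw [← coe_mul_of_right_le_normalizer_left _ _ hyf_le] at h1
      refine h1.trans (le_of_eq ?_)
      show Nat.card (zpowers y) * Nat.card (zpowers f) = q * q
      rw [Nat.card_zpowers, Nat.card_zpowers, L.f_order,
        h.order hyA fun e0 => hyne (e0 ▸ one_mem _)]
    refine le_antisymm (Nat.le_of_mul_le_mul_left (hcard ▸ hle) hqp.pos) ?_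
    rw [← h.order hy'A hy'1, ← Nat.card_zpowers]
    exact card_le_of_le (zpowers_le.2 hy'W)
  have hE : A ⊓ c.W b = zpowers y' :=
    (eq_of_le_of_card_ge (zpowers_le.2 hy'W)
      (by rw [hEcard, Nat.card_zpowers, h.order hy'A hy'1])).symm
  -- the section above the fixed element
  obtain ⟨hI, hO⟩ := h.local_inner hbR hC hq2 h.fix le_rfl
    (H := normalizer ((A ⊓ c.W b : Subgroup G) : Set G)) (centralizer_le_normalizer _) le_rfl
  set H := normalizer ((A ⊓ c.W b : Subgroup G) : Set G) with hH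
  have hcH : centralizer (A : Set G) ≤ H :=
    (centralizer_le inf_le_left).trans (centralizer_le_normalizer _)
  have hbH : b ∈ H := hI.a_mem
  have haH : a ∈ H := mem_normalizer_fintype fun v hv => by
    show a * v * a⁻¹ ∈ A ⊓ c.W b
    rw [haA v hv.1]; exact inv_mem hv
  have hPH : (c.P : Subgroup G) ≤ H := by
    have hxH : c.d.x ∈ H := by
      have e0 : c.d.x = b * a := by rw [hbdef, mul_assoc, ha.sq, mul_one]
      rw [e0]; exact mul_mem hbH haH
    intro s hs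
    by_cases hsx : s ∈ zpowers c.d.x
    · exact (zpowers_le.2 hxH) hsx
    · have h1 := mul_mem haH ((zpowers_le.2 hxH) (c.d.idx a ha.1 s hs ha.2 hsx))
      rwa [mul_inv_cancel_left] at h1
  -- the translating element
  obtain ⟨r, hrU, hri, hrw, hrz⟩ := hbR.decomp (c.Qc_le_U hq2 L.e_mem.1)
  have hrQ : r ∈ c.Qc q := by
    refine (zpowers_le.2 (mul_mem L.e_mem.1 ?_)) hrz
    exact (mem_normalizer_iff.1 (normalizes_coreIn q c.C hbR.mem_C) _).1 (inv_mem L.e_mem.1)
  set w := r⁻¹ * e with hwd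
  have hwy : w * y' = y' * w := by
    have hwQ : w ∈ c.Qc q := mul_mem (inv_mem hrQ) L.e_mem.1
    obtain ⟨n, hn⟩ := coreIn_pGroup q c.C ⟨w, hwQ⟩
    refine comm_of_qpow_conj (q := q) (n := n) (congrArg Subtype.val hn) (hApow _ hy'A) ?_
    rw [← hE]
    refine ⟨h.conj_mem (c.Qc_le_C q hwQ) hy'A, hbR.mem_W.2 ⟨c.U_conj w (c.Qc_le_C q hwQ) _ (hAU hy'A), ?_⟩⟩
    have hwb : Commute w b := (hbR.mem_W.1 hrw).2
    have hy'b : Commute y' b := (mul_inv_eq_iff_eq_mul.1 hy'fix).symm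
    exact ((hwb.mul_left hy'b).mul_left hwb.inv_left).eq
  have hery : e * y' * e⁻¹ = f⁻¹ * y' := by
    have hρe : Commute ρ e := by
      obtain ⟨i, rfl⟩ := hρf
      exact (show Commute f e from L.ef.symm).zpow_left i
    have h1 : y' * e * y'⁻¹ = e * f := by
      rw [hy'd, mul_inv_rev, show y * ρ * e * (ρ⁻¹ * y⁻¹) = y * (ρ * e * ρ⁻¹) * y⁻¹ by group, hρe.eq,
        mul_inv_cancel_right, L.conj]
    have h2 : e * f = f * e := L.ef
    rw [h2] at h1
    calc e * y' * e⁻¹ = f⁻¹ * (f * e) * y' * e⁻¹ := by group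
      _ = f⁻¹ * (y' * e * y'⁻¹) * y' * e⁻¹ := by rw [h1]
      _ = f⁻¹ * y' := by group
  have hry : r * y' * r⁻¹ = f⁻¹ * y' := by
    rw [← hery]
    calc r * y' * r⁻¹ = r * (w * y' * w⁻¹) * r⁻¹ := by rw [hwy, mul_inv_cancel_right]
      _ = e * y' * e⁻¹ := by rw [hwd]; group
  have hrf : r * f = f * r := by
    have hw' : w * f * w⁻¹ ∈ zpowers f :=
      (mem_normalizer_iff.1 (L.normal (c.U_le (hbR.mem_W.1 hrw).1)) f).1 (mem_zpowers f)
    have hr' : r * f * r⁻¹ ∈ zpowers f :=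
      (mem_normalizer_iff.1 (L.normal (c.U_le hrU)) f).1 (mem_zpowers f)
    obtain ⟨n, hn⟩ := coreIn_pGroup q c.C ⟨r, hrQ⟩
    exact comm_of_qpow_conj (q := q) (n := n) (congrArg Subtype.val hn) L.f_pow hr'
  have hrn : ∀ n : ℤ, r ^ n * y' * (r ^ n)⁻¹ = f ^ (-n) * y' := by
    have hc : Commute r f := hrf
    intro n
    induction n with
    | zero => simp
    | succ n ih =>
      calc r ^ ((n : ℤ) + 1) * y' * (r ^ ((n : ℤ) + 1))⁻¹
          = r * (r ^ (n : ℤ) * y' * (r ^ (n : ℤ))⁻¹) * r⁻¹ := by rw [add_comm, zpow_add]; group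
        _ = f ^ (-(n : ℤ)) * (r * y' * r⁻¹) := by
          rw [ih, ← mul_assoc r, (hc.zpow_right _).eq]; group
        _ = _ := by rw [hry, ← mul_assoc, neg_add, zpow_add, zpow_neg_one]
    | pred n ih =>
      have hy'' : r⁻¹ * y' * r = f * y' := by
        calc r⁻¹ * y' * r = r⁻¹ * (f * (f⁻¹ * y')) * r := by group
          _ = r⁻¹ * (f * (r * y' * r⁻¹)) * r := by rw [hry]
          _ = r⁻¹ * (f * r) * y' := by group
          _ = f * y' := by rw [← hrf]; group
      calc r ^ (-(n : ℤ) - 1) * y' * (r ^ (-(n : ℤ) - 1))⁻¹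
          = r⁻¹ * (r ^ (-(n : ℤ)) * y' * (r ^ (-(n : ℤ)))⁻¹) * r := by
            rw [sub_eq_neg_add, zpow_add]; group
        _ = f ^ (- -(n : ℤ)) * (r⁻¹ * y' * r) := by
          rw [ih, ← mul_assoc r⁻¹, (hc.inv_left.zpow_right _).eq]; group
        _ = _ := by rw [hy'', ← mul_assoc, neg_sub, sub_neg_eq_add, add_comm, zpow_add, zpow_one, neg_neg]
  -- every element of `C` is an element of the section times a power of `r`
  have hsplit : ∀ g ∈ c.C, ∃ v ∈ H, ∃ i : ℤ, g = v * r ^ i := by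
    intro g hg
    set u := g⁻¹ * y' * g⁻¹⁻¹ with hu
    have huA : u ∈ A := h.conj_mem (inv_mem hg) hy'A
    obtain ⟨α, β, hαβ⟩ : ∃ α β : ℤ, u = y' ^ α * f ^ β := by
      obtain ⟨i, j, hij⟩ := hAmem u huA
      obtain ⟨k, hk⟩ := hρf
      refine ⟨i, j - k * i, ?_⟩
      rw [hij, hy'd, (hfcomm ρ ⟨k, hk⟩).mul_zpow, ← hk]
      show y ^ i * f ^ j = y ^ i * (f ^ k) ^ i * f ^ (j - k * i)
      rw [← zpow_mul, mul_assoc, ← zpow_add, add_sub_cancel]
    have hα : ¬ (q : ℤ) ∣ α := by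
      rintro ⟨t, rfl⟩
      refine hy'ne ?_
      have hu' : u ∈ zpowers f := by
        rw [hαβ, zpow_mul, zpow_natCast, hApow _ hy'A, one_zpow, one_mul]
        exact zpow_mem (mem_zpowers f) β
      have := (mem_normalizer_iff.1 (L.normal hg) u).1 hu'
      rwa [hu, inv_inv, show g * (g⁻¹ * y' * g) * g⁻¹ = y' by group] at this
    obtain ⟨σ, τ, hστ⟩ := Int.isCoprime_iff_gcd_eq_one.2 (by
      rw [Int.gcd_comm]
      exact (Nat.Prime.coprime_iff_not_dvd hqp).2 (fun h => hα (Int.natCast_dvd.2 h)) :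
      Int.gcd α q = 1)
    set i : ℤ := -(β * σ) with hi
    have hcy : Commute f y' := mem_centralizer_iff.1 (hAc hy'A) f hfA
    have hu2 : r ^ i * y' ^ α * (r ^ i)⁻¹ = u := by
      rw [← conj_zpow, hrn, (hcy.zpow_left _).mul_zpow, ← zpow_mul, hαβ, hi, neg_neg,
        show β * σ * α = β + (q : ℤ) * (-(β * τ)) by linear_combination β * hστ, zpow_add,
        zpow_mul f (q : ℤ), zpow_natCast, L.f_pow, one_zpow, mul_one]
      exact (hcy.zpow_zpow β α).eq
    refine ⟨g * r ^ i, ?_, -i, by rw [mul_assoc, ← zpow_add, add_neg_cancel, zpow_zero, mul_one]⟩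
    have hvC : g * r ^ i ∈ c.C := mul_mem hg (zpow_mem (c.U_le hrU) i)
    rw [hH, hE]
    refine mem_normalizer_of_map_eq (eq_of_le_of_card_ge ?_ ?_)
    · rw [MonoidHom.map_zpowers, zpowers_le]
      show g * r ^ i * y' * (g * r ^ i)⁻¹ ∈ zpowers y'
      have h1 : (g * r ^ i * y' * (g * r ^ i)⁻¹) ^ α = y' := by
        rw [conj_zpow]
        calc g * r ^ i * y' ^ α * (g * r ^ i)⁻¹ = g * (r ^ i * y' ^ α * (r ^ i)⁻¹) * g⁻¹ := by group
          _ = y' := by rw [hu2, hu]; group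
      have h2 : g * r ^ i * y' * (g * r ^ i)⁻¹ = y' ^ σ := by
        conv_rhs => rw [← h1]
        rw [← zpow_mul, conj_zpow, show y' ^ (α * σ) = y' by
          rw [show α * σ = 1 + (q : ℤ) * (-τ) by linear_combination hστ, zpow_add, zpow_mul,
            zpow_natCast, hApow _ hy'A, one_zpow, mul_one, zpow_one]]
      exact ⟨σ, h2.symm⟩
    · rw [card_map_of_injective (MulAut.conj _).injective]
  refine h.planar_false_of_bound hbR hC hq2 hS hfA L.f_ne hbf hline hEcard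
    (Or.inr ⟨hPH, fun T hTc hT => ?_⟩)
  -- the index of the other reflection
  have hind : (c.W (c.d.x * b)).relIndex c.U = (c.W a).relIndex c.U := by
    have hax : c.d.x * b = c.d.x * a * c.d.x⁻¹ := by
      have h1 : a * c.d.x⁻¹ * a⁻¹ = c.d.x := by rw [← conj_inv, ha.inv_x, inv_inv]
      calc c.d.x * b = c.d.x * (a * c.d.x⁻¹ * a⁻¹ * a) := by rw [hbdef, h1]
        _ = c.d.x * a * c.d.x⁻¹ := by group
    have h1 := c.relIndex_mul_card_W (c.d.x * b)
    rw [hax, c.card_W_conj c.d.hx, ← c.relIndex_mul_card_W a] at h1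
    rw [hax]
    exact Nat.eq_of_mul_eq_mul_right Nat.card_pos h1
  rw [hind]
  have hfT : f ∈ T := (hT f).2 ⟨hcH (hAc hfA), L.f_U, hbf⟩
  -- decompose the inverted elements
  let Sa : Type u := {s : G // s ∈ c.U ∧ a * s * a⁻¹ = s⁻¹}
  have hsurj : (c.W a).relIndex c.U ≤ Nat.card Sa := by
    let φ : Sa → c.U ⧸ (c.W a).subgroupOf c.U := fun s => QuotientGroup.mk ⟨s.1, s.2.1⟩
    refine Nat.card_le_card_of_surjective φ fun p => ?_
    induction p using QuotientGroup.induction_on with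
    | _ v =>
      obtain ⟨s, hsU, hsi, hw, -⟩ := ha.decomp v.2
      exact ⟨⟨s, hsU, hsi⟩, QuotientGroup.eq.2 hw⟩
  refine hsurj.trans ?_
  have hcA : ∀ v ∈ c.C, (∀ x ∈ A, v * x = x * v) → v ∈ centralizer (A : Set G) :=
    fun v _ hv => mem_centralizer_iff.2 fun x hx => (hv x hx).symm
  have hsA : ∀ s : Sa, s.1 ∈ centralizer (A : Set G) := fun s => hcA _ (c.U_le s.2.1) fun v hv =>
    inverted_comm_inv s.2.2 (c.odd_of_mem_U s.2.1) (haA v hv)
      (haA _ (h.conj_mem (c.U_le s.2.1) hv))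
  have hTA : ∀ t ∈ T, t ∈ centralizer (A : Set G) := by
    intro t ht
    obtain ⟨htH, htU, hti⟩ := (hT t).1 ht
    haveI := hTc
    letI := IsCyclic.commGroup (α := T)
    have htf : Commute t f := congrArg Subtype.val (mul_comm (⟨t, ht⟩ : T) ⟨f, hfT⟩)
    have hty : Commute t y' := by
      refine inverted_comm hti (c.odd_of_mem_U htU) hy'fix ?_
      have hm : t * y' * t⁻¹ ∈ A ⊓ c.W b := (mem_normalizer_iff.1 htH y').1 hy'W
      exact mul_inv_eq_iff_eq_mul.2 ((hbR.mem_W.1 hm.2).2).symm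
    refine hcA _ (c.U_le htU) fun v hv => ?_
    obtain ⟨i, j, rfl⟩ := hAmem v hv
    have hρt : Commute t ρ := by
      obtain ⟨k, rfl⟩ := hρf
      exact htf.zpow_right k
    have hty2 : Commute t y := by
      have h2 := hty.mul_right hρt.inv_right
      rwa [hy'd, mul_inv_cancel_right] at h2
    exact ((hty2.zpow_right i).mul_right (htf.zpow_right j)).eq
  -- the odd core, inside `G`
  set O := (Cfsg.oddCore H).map H.subtype with hOd
  haveI := oddCore_normal (X := H)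
  have hOC : O ≤ c.C := by
    rintro _ ⟨o, ho, rfl⟩
    exact c.mem_C.2 (hO o ho).1
  have hOH : ∀ v ∈ H, ∀ d ∈ O, v * d * v⁻¹ ∈ O := by
    rintro v hv _ ⟨o, ho, rfl⟩
    exact ⟨_, (oddCore_normal (X := H)).conj_mem o ho ⟨v, hv⟩, rfl⟩
  have hkey : ∀ s : Sa, ∃ t ∈ T, t⁻¹ * s.1 ∈ O := by
    intro s
    obtain ⟨t, ht, o, ho, hso⟩ := hbR.inverted_lift hI hO hT hfT L.f_ne a haH ha.sq s.1
      ⟨hcH (hsA s), s.2.1⟩ s.2.2
    exact ⟨t, ht, o, ho, by rw [hso]; exact (inv_mul_cancel_left _ _).symm⟩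
  choose t htT htO using hkey
  have hu : ∀ s : Sa, ∃ p ∈ T, p⁻¹ * (r * ((t s)⁻¹ * s.1) * r⁻¹) ∈ c.W b := by
    intro s
    set o := (t s)⁻¹ * s.1 with ho
    have hoA : o ∈ centralizer (A : Set G) := mul_mem (inv_mem (hTA _ (htT s))) (hsA s)
    have hoU : o ∈ c.U := mul_mem (inv_mem ((hT _).1 (htT s)).2.1) s.2.1
    have hconjA : ∀ g ∈ c.C, ∀ v ∈ centralizer (A : Set G), g * v * g⁻¹ ∈ centralizer (A : Set G) := by
      intro g hg v hv
      exact (mem_normalizer_iff.1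
        (Cfsg.Agent.Components.normalizer_le_normalizer_centralizer _ (R.normA hg)) v).1 hv
    have huA : r * o * r⁻¹ ∈ centralizer (A : Set G) := hconjA r (c.U_le hrU) o hoA
    obtain ⟨p, hpU, hpi, hpw, hpz⟩ := hbR.decomp (c.U_conj r (c.U_le hrU) o hoU)
    have hpA : p ∈ centralizer (A : Set G) :=
      (zpowers_le.2 (mul_mem huA (hconjA b hbR.mem_C _ (inv_mem huA)))) hpz
    exact ⟨p, (hT p).2 ⟨hcH hpA, hpU, hpi⟩, hpw⟩
  choose p hpT hpW using hu
  rw [pow_two, ← Nat.card_prod]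
  refine Nat.card_le_card_of_injective (fun s => ((⟨t s, htT s⟩ : T), (⟨p s, hpT s⟩ : T))) ?_
  intro s s' heq
  have ht : t s = t s' := congrArg (fun x : T × T => (x.1 : G)) heq
  have hp : p s = p s' := congrArg (fun x : T × T => (x.2 : G)) heq
  set d := ((t s)⁻¹ * s.1)⁻¹ * ((t s')⁻¹ * s'.1) with hd
  have hdO : d ∈ O := mul_mem (inv_mem (htO s)) (htO s')
  suffices hd1 : d = 1 by
    rw [hd, inv_mul_eq_one, ht] at hd1
    exact Subtype.ext (mul_left_cancel hd1)
  have hdb : b * d * b⁻¹ = d := by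
    obtain ⟨o, ho, hod⟩ := hdO
    rw [← hod]
    exact mul_inv_eq_iff_eq_mul.2 ((hO o ho).2).symm
  have hrd : r * d = d * r := by
    refine inverted_comm hri (c.odd_of_mem_U hrU) hdb ?_
    have hm : r * d * r⁻¹ ∈ c.W b := by
      have h1 := (c.W b).mul_mem ((c.W b).inv_mem (hpW s)) (hpW s')
      rw [hp] at h1
      convert h1 using 1
      rw [hd]; group
    exact mul_inv_eq_iff_eq_mul.2 ((hbR.mem_W.1 hm).2).symm
  -- so every conjugate under `C` stays in the core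
  let D : Subgroup G :=
    { carrier := {v | ∀ g ∈ c.C, g * v * g⁻¹ ∈ O}
      one_mem' := fun g _ => by rw [mul_one, mul_inv_cancel]; exact one_mem O
      mul_mem' := fun {u v} hu hv g hg => by
        rw [← conj_mul]; exact mul_mem (hu g hg) (hv g hg)
      inv_mem' := fun {u} hu g hg => by
        rw [← conj_inv]; exact inv_mem (hu g hg) }
  have hdD : d ∈ D := fun g hg => by
    obtain ⟨v, hv, i, rfl⟩ := hsplit g hg
    rw [mul_inv_rev, show v * r ^ i * d * ((r ^ i)⁻¹ * v⁻¹) = v * (r ^ i * d * (r ^ i)⁻¹) * v⁻¹ by group,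
      ((show Commute r d from hrd).zpow_left i).eq, mul_inv_cancel_right]
    exact hOH v hv d hdO
  by_contra hd1
  have hDO : D ≤ O := fun v hv => by simpa using hv 1 (one_mem _)
  have hDn : c.C ≤ normalizer (D : Set G) := fun g hg => mem_normalizer_fintype fun v hv g' hg' => by
    have := hv (g' * g) (mul_mem hg' hg)
    rwa [show g' * g * v * (g' * g)⁻¹ = g' * (g * v * g⁻¹) * g'⁻¹ by group] at this
  have hN := normalizer_eq_C hC (hDO.trans hOC) (fun e0 => hd1 (mem_bot.1 (e0 ▸ hdD))) hDn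
  obtain ⟨hzH, hbH₂, ⟨S⟩, s1, s2⟩ := hI
  have hs : c.SecHyp hbR H := ⟨hzH, hbH, hO⟩
  have hne : (⟨c.d.z, hzH⟩ : H) ≠ ⟨b, hbH⟩ := fun e0 => hbR.ne_z (congrArg Subtype.val e0).symm
  obtain ⟨g, hgres, -, hgz, -⟩ := S.exists_move (hbR.dihSylow H hzH hbH) hs.z_ord hs.a_ord hne
    (Subtype.ext hbR.comm.symm) s1 s2
  have hrO := S.res_comm_of_invol hs.a_ord s2 hs.a_core
  have hgC : (g : G) ∈ c.C := by
    rw [← hN]
    refine centralizer_le_normalizer _ (mem_centralizer_iff.2 fun v hv => ?_)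
    obtain ⟨o, ho, hov⟩ := hDO hv
    rw [← hov]
    exact (congrArg Subtype.val (hrO g hgres o ho)).symm
  refine hs.za_ne ?_
  show mo H _ = mo H _
  rw [← hgz]
  exact congrArg _ (Subtype.ext (mul_inv_eq_iff_eq_mul.2 (c.mem_C.1 hgC)))

end Core

end Cfsg.Agent.GW
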