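import Mathlib.Data.Rat.Lemmas
import Mathlib.Tactic.Linarith
import Mathlib.Tactic.FieldSimp
import Mathlib.Tactic.Ring
import Mathlib.Tactic.IntervalCases
import Mathlib.Tactic.Positivity

/-!
Signed degrees congruent to one modulo four with the reciprocal sums of the class identity.
-/

namespace Cfsg.Agent.GW.Numeric

/-- The invariant of three signed degrees with sum zero. -/
def Fq (a b : ℚ) : ℚ := 1 / a + 1 / b - 4 / (a + b)

theorem Fq_comm (a b : ℚ) : Fq a b = Fq b a := by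
  unfold Fq; rw [add_comm b a]; ring

/-- The invariant with the pair opposite in sign. -/
theorem Fq_opp {a s : ℚ} (ha : 0 < a) (hs : 0 < s) :
    Fq a (-(a + s)) = 4 / s + s / (a * (a + s)) := by
  unfold Fq
  rw [show a + -(a + s) = -s by ring]
  field_simp
  ring

theorem opp_solutions {a b X : ℤ} (ha4 : (4 : ℤ) ∣ a - 1) (hb4 : (4 : ℤ) ∣ b - 1)
    (hX4 : (4 : ℤ) ∣ X - 1) (ha : 5 ≤ a) (hb : b ≤ -3) (hs : a + b < 0) (hX : X ≠ 1)
    (h : Fq a b = Fq 1 X) : (a = 5 ∧ b = -15) ∨ (a = 9 ∧ b = -15) := by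
  obtain ⟨t, ht, rfl⟩ : ∃ t : ℕ, 0 < t ∧ b = -(a + (4 * t - 2 : ℤ)) := by
    refine ⟨((-(a + b) + 2) / 4).toNat, ?_, ?_⟩ <;> omega
  have ha' : (5 : ℚ) ≤ a := by exact_mod_cast ha
  set s : ℚ := 4 * (t : ℚ) - 2 with hsdef
  have ht' : (1 : ℚ) ≤ t := by exact_mod_cast ht
  have hspos : (0 : ℚ) < s := by linarith
  have e : Fq a ((-(a + (4 * (t : ℤ) - 2)) : ℤ) : ℚ) = 4 / s + s / ((a : ℚ) * ((a : ℚ) + s)) := by
    rw [← Fq_opp (by linarith) hspos]
    congr 1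
    push_cast
    ring
  rw [e] at h
  have hpos : (0 : ℚ) < (a : ℚ) * ((a : ℚ) + s) := by positivity
  have hsmall : s / ((a : ℚ) * ((a : ℚ) + s)) ≤ 1 / 5 := by
    rw [div_le_div_iff₀ hpos (by norm_num)]
    nlinarith
  have hge : 0 < s / ((a : ℚ) * ((a : ℚ) + s)) := div_pos hspos hpos
  rcases (show X ≤ -7 ∨ X = -3 ∨ X = 5 ∨ X = 9 ∨ 13 ≤ X by omega) with hX' | rfl | rfl | rfl | hX'
  · have hq : (X : ℚ) ≤ -7 := by exact_mod_cast hX'
    have h1 : 0 < (X : ℚ) * (1 + X) := by nlinarith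
    have hR : Fq 1 X = (1 - (X : ℚ)) ^ 2 / ((X : ℚ) * (1 + X)) := by
      unfold Fq
      have : (X : ℚ) ≠ 0 := by linarith
      have : 1 + (X : ℚ) ≠ 0 := by linarith
      field_simp
      ring
    have hlo : 1 < Fq 1 X := by rw [hR, lt_div_iff₀ h1]; nlinarith
    have hhi : Fq 1 X < 2 := by rw [hR, div_lt_iff₀ h1]; nlinarith
    rcases (show t = 1 ∨ 2 ≤ t by omega) with rfl | ht2
    · have : (4 : ℚ) / s = 2 := by rw [hsdef]; norm_num
      linarith
    · have : (2 : ℚ) ≤ t := by exact_mod_cast ht2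
      have h6 : (4 : ℚ) / s ≤ 4 / 6 := by
        rw [div_le_div_iff₀ hspos (by norm_num)]; linarith
      linarith
  · exfalso
    have hR : Fq 1 (((-3 : ℤ)) : ℚ) = 8 / 3 := by unfold Fq; norm_num
    rcases (show t = 1 ∨ 2 ≤ t by omega) with rfl | ht2
    · have : (4 : ℚ) / s = 2 := by rw [hsdef]; norm_num
      linarith
    · have : (2 : ℚ) ≤ t := by exact_mod_cast ht2
      have h6 : (4 : ℚ) / s ≤ 4 / 6 := by
        rw [div_le_div_iff₀ hspos (by norm_num)]; linarith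
      linarith
  · have hR : Fq 1 ((5 : ℤ) : ℚ) = 8 / 15 := by unfold Fq; norm_num
    rcases (show t = 1 ∨ t = 2 ∨ t = 3 ∨ 4 ≤ t by omega) with rfl | rfl | rfl | ht4
    · have : (4 : ℚ) / s = 2 := by rw [hsdef]; norm_num
      linarith
    · have : (4 : ℚ) / s = 2 / 3 := by rw [hsdef]; norm_num
      linarith
    · rw [hR, hsdef] at h
      norm_num at h
      have h2 : (a : ℚ) * (a + 10) = 75 := by
        field_simp at h
        linarith
      have h3 : a * (a + 10) = 75 := by exact_mod_cast h2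
      have : a = 5 := by nlinarith
      left; omega
    · have : (4 : ℚ) ≤ t := by exact_mod_cast ht4
      have h6 : (4 : ℚ) / s ≤ 4 / 14 := by
        rw [div_le_div_iff₀ hspos (by norm_num)]; linarith
      linarith
  · have hR : Fq 1 ((9 : ℤ) : ℚ) = 32 / 45 := by unfold Fq; norm_num
    rcases (show t = 1 ∨ t = 2 ∨ 3 ≤ t by omega) with rfl | rfl | ht3
    · have : (4 : ℚ) / s = 2 := by rw [hsdef]; norm_num
      linarith
    · rw [hR, hsdef] at h
      norm_num at h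
      have h2 : (a : ℚ) * (a + 6) = 135 := by
        field_simp at h
        linarith
      have h3 : a * (a + 6) = 135 := by exact_mod_cast h2
      have : a = 9 := by nlinarith
      right; omega
    · have : (3 : ℚ) ≤ t := by exact_mod_cast ht3
      have h6 : (4 : ℚ) / s ≤ 4 / 10 := by
        rw [div_le_div_iff₀ hspos (by norm_num)]; linarith
      linarith
  · exfalso
    have hq : (13 : ℚ) ≤ X := by exact_mod_cast hX'
    have h1 : 0 < (X : ℚ) * (1 + X) := by nlinarith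
    have hR : Fq 1 X = (1 - (X : ℚ)) ^ 2 / ((X : ℚ) * (1 + X)) := by
      unfold Fq
      have : (X : ℚ) ≠ 0 := by linarith
      have : 1 + (X : ℚ) ≠ 0 := by linarith
      field_simp
      ring
    have hlo : 72 / 91 ≤ Fq 1 X := by
      rw [hR, le_div_iff₀ h1]; nlinarith
    have hhi : Fq 1 X < 1 := by rw [hR, div_lt_iff₀ h1]; nlinarith
    rcases (show t = 1 ∨ t = 2 ∨ 3 ≤ t by omega) with rfl | rfl | ht3
    · have : (4 : ℚ) / s = 2 := by rw [hsdef]; norm_num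
      linarith
    · have h6 : (4 : ℚ) / s = 2 / 3 := by rw [hsdef]; norm_num
      have : s / ((a : ℚ) * ((a : ℚ) + s)) ≤ 6 / 55 := by
        rw [div_le_div_iff₀ hpos (by norm_num), hsdef]; push_cast; nlinarith
      linarith
    · have : (3 : ℚ) ≤ t := by exact_mod_cast ht3
      have h6 : (4 : ℚ) / s ≤ 4 / 10 := by
        rw [div_le_div_iff₀ hspos (by norm_num)]; linarith
      linarith

theorem Fq_one_ge {X : ℤ} (hX4 : (4 : ℤ) ∣ X - 1) (hX : X ≠ 1) : (8 : ℚ) / 15 ≤ Fq 1 X := by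
  unfold Fq
  rcases (show X ≤ -3 ∨ 5 ≤ X by omega) with h | h
  · have hq : (X : ℚ) ≤ -3 := by exact_mod_cast h
    have h1 : -(1 : ℚ) / 3 ≤ 1 / X := by
      rw [le_div_iff_of_neg (by linarith)]; linarith
    have h2 : (4 : ℚ) / (1 + X) ≤ 0 := div_nonpos_of_nonneg_of_nonpos (by norm_num) (by linarith)
    linarith
  · have hq : (5 : ℚ) ≤ X := by exact_mod_cast h
    rw [le_sub_iff_add_le, div_add_div _ _ (by norm_num) (by linarith),
      div_add_div _ _ (by norm_num) (by linarith), div_le_div_iff₀ (by nlinarith) (by nlinarith)]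
    nlinarith

/-- The signed degrees of a pair. -/
theorem pair_solutions {a b X : ℤ} (ha4 : (4 : ℤ) ∣ a - 1) (hb4 : (4 : ℤ) ∣ b - 1)
    (hX4 : (4 : ℤ) ∣ X - 1) (ha : a ≠ 1) (hb : b ≠ 1) (hX : X ≠ 1)
    (h : Fq a b = Fq 1 X) :
    (a = 5 ∧ b = -15) ∨ (b = 5 ∧ a = -15) ∨ (a = 9 ∧ b = -15) ∨ (b = 9 ∧ a = -15) := by
  have hge := Fq_one_ge hX4 hX
  rcases (show a ≤ -3 ∨ 5 ≤ a by omega) with ha' | ha' <;>
    rcases (show b ≤ -3 ∨ 5 ≤ b by omega) with hb' | hb'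
  · exfalso
    have h1 : (a : ℚ) ≤ -3 := by exact_mod_cast ha'
    have h2 : (b : ℚ) ≤ -3 := by exact_mod_cast hb'
    have e : Fq a b = ((a : ℚ) - b) ^ 2 / ((a : ℚ) * b * (a + b)) := by
      unfold Fq
      have : (a : ℚ) ≠ 0 := by linarith
      have : (b : ℚ) ≠ 0 := by linarith
      have : (a : ℚ) + b ≠ 0 := by linarith
      field_simp
      ring
    have : Fq a b ≤ 0 := by
      rw [e]
      refine div_nonpos_of_nonneg_of_nonpos (sq_nonneg _) ?_
      exact mul_nonpos_of_nonneg_of_nonpos (by nlinarith) (by linarith)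
    linarith
  · rcases lt_or_ge (a + b) 0 with hs | hs
    · rcases opp_solutions hb4 ha4 hX4 hb' ha' (by omega) hX (by rw [Fq_comm]; exact h) with h' | h'
      · exact Or.inr (Or.inl h')
      · exact Or.inr (Or.inr (Or.inr h'))
    · exfalso
      have h1 : (a : ℚ) ≤ -3 := by exact_mod_cast ha'
      have h2 : (5 : ℚ) ≤ b := by exact_mod_cast hb'
      have h3 : (0 : ℚ) ≤ (a : ℚ) + b := by exact_mod_cast hs
      have : Fq a b ≤ 1 / 5 := by
        unfold Fq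
        have : (1 : ℚ) / a ≤ 0 := div_nonpos_of_nonneg_of_nonpos (by norm_num) (by linarith)
        have : (1 : ℚ) / b ≤ 1 / 5 := by rw [div_le_div_iff₀ (by linarith) (by norm_num)]; linarith
        have : (0 : ℚ) ≤ 4 / ((a : ℚ) + b) := div_nonneg (by norm_num) h3
        linarith
      linarith
  · rcases lt_or_ge (a + b) 0 with hs | hs
    · rcases opp_solutions ha4 hb4 hX4 ha' hb' hs hX h with h' | h'
      · exact Or.inl h'
      · exact Or.inr (Or.inr (Or.inl h'))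
    · exfalso
      have h1 : (b : ℚ) ≤ -3 := by exact_mod_cast hb'
      have h2 : (5 : ℚ) ≤ a := by exact_mod_cast ha'
      have h3 : (0 : ℚ) ≤ (a : ℚ) + b := by exact_mod_cast hs
      have : Fq a b ≤ 1 / 5 := by
        unfold Fq
        have : (1 : ℚ) / b ≤ 0 := div_nonpos_of_nonneg_of_nonpos (by norm_num) (by linarith)
        have : (1 : ℚ) / a ≤ 1 / 5 := by rw [div_le_div_iff₀ (by linarith) (by norm_num)]; linarith
        have : (0 : ℚ) ≤ 4 / ((a : ℚ) + b) := div_nonneg (by norm_num) h3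
        linarith
      linarith
  · exfalso
    have h1 : (5 : ℚ) ≤ a := by exact_mod_cast ha'
    have h2 : (5 : ℚ) ≤ b := by exact_mod_cast hb'
    have : Fq a b ≤ 2 / 5 := by
      unfold Fq
      have : (1 : ℚ) / a ≤ 1 / 5 := by rw [div_le_div_iff₀ (by linarith) (by norm_num)]; linarith
      have : (1 : ℚ) / b ≤ 1 / 5 := by rw [div_le_div_iff₀ (by linarith) (by norm_num)]; linarith
      have : (0 : ℚ) ≤ 4 / ((a : ℚ) + b) := div_nonneg (by norm_num) (by linarith)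
      linarith
    linarith

theorem recip_bound {a : ℤ} (h4 : (4 : ℤ) ∣ a - 1) (h1 : a ≠ 1) (h3 : a ≠ -3) :
    (5 ≤ a ∧ (1 : ℚ) / a ≤ 1 / 5 ∧ 0 < (1 : ℚ) / a) ∨
      (a ≤ -7 ∧ -(1 : ℚ) / 7 ≤ 1 / a ∧ (1 : ℚ) / a < 0) := by
  rcases (show a ≤ -7 ∨ 5 ≤ a by omega) with h | h
  · have hq : (a : ℚ) ≤ -7 := by exact_mod_cast h
    exact Or.inr ⟨h, by rw [le_div_iff_of_neg (by linarith)]; linarith,
      div_neg_of_pos_of_neg one_pos (by linarith)⟩
  · have hq : (5 : ℚ) ≤ a := by exact_mod_cast h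
    exact Or.inl ⟨h, by rw [div_le_div_iff₀ (by linarith) (by norm_num)]; linarith,
      div_pos one_pos (by linarith)⟩

/-- Four signed degrees without a three against the principal block. -/
theorem four_impossible {a b c e x y w : ℤ} (ha : (4 : ℤ) ∣ a - 1) (hb : (4 : ℤ) ∣ b - 1)
    (hc : (4 : ℤ) ∣ c - 1) (he : (4 : ℤ) ∣ e - 1) (hx : (4 : ℤ) ∣ x - 1) (hy : (4 : ℤ) ∣ y - 1)
    (hw : (4 : ℤ) ∣ w - 1) (n1 : a ≠ 1 ∧ b ≠ 1 ∧ c ≠ 1 ∧ e ≠ 1 ∧ x ≠ 1 ∧ y ≠ 1 ∧ w ≠ 1)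
    (n3 : a ≠ -3 ∧ b ≠ -3 ∧ c ≠ -3 ∧ e ≠ -3 ∧ x ≠ -3 ∧ y ≠ -3 ∧ w ≠ -3)
    (hs : a + b + c + e = 0) (hs' : 1 + x + y + w = 0) :
    (1 : ℚ) / a + 1 / b + 1 / c + 1 / e ≠ 1 + 1 / x + 1 / y + 1 / w := by
  obtain ⟨a1, b1, c1, e1, x1, y1, w1⟩ := n1
  obtain ⟨a3, b3, c3, e3, x3, y3, w3⟩ := n3
  have hL : (1 : ℚ) / a + 1 / b + 1 / c + 1 / e < 3 / 5 := by
    rcases recip_bound ha a1 a3 with ⟨A, A1, A2⟩ | ⟨A, A1, A2⟩ <;>
      rcases recip_bound hb b1 b3 with ⟨B, B1, B2⟩ | ⟨B, B1, B2⟩ <;>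
      rcases recip_bound hc c1 c3 with ⟨C, C1, C2⟩ | ⟨C, C1, C2⟩ <;>
      rcases recip_bound he e1 e3 with ⟨E, E1, E2⟩ | ⟨E, E1, E2⟩ <;>
      first | omega | linarith
  have hR : (3 : ℚ) / 5 ≤ 1 + 1 / x + 1 / y + 1 / w := by
    rcases recip_bound hx x1 x3 with ⟨X, X1, X2⟩ | ⟨X, X1, X2⟩ <;>
      rcases recip_bound hy y1 y3 with ⟨Y, Y1, Y2⟩ | ⟨Y, Y1, Y2⟩ <;>
      rcases recip_bound hw w1 w3 with ⟨W, W1, W2⟩ | ⟨W, W1, W2⟩ <;>
      first | omega | linarith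
  linarith

end Cfsg.Agent.GW.Numeric
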