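import Mathlib.Algebra.BigOperators.Intervals
import Mathlib.Algebra.Order.BigOperators.Ring.Finset
import Mathlib.Data.Finset.Powerset
import Mathlib.Tactic.Linarith
import Mathlib.Tactic.LinearCombination
import Mathlib.Tactic.Ring
import Mathlib.Tactic.IntervalCases

/-!
Integer vectors with the inner products of the virtual characters induced from the rotations of a
dihedral group: the supports form a common pair, a star or a triangle.
-/

set_option linter.unusedSectionVars false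

namespace Cfsg.Agent.GW.Shape

open Finset

variable {ι : Type*} [Fintype ι] [DecidableEq ι]

/-- The support. -/
def supp (f : ι → ℤ) : Finset ι := univ.filter fun x => f x ≠ 0

theorem mem_supp {f : ι → ℤ} {x : ι} : x ∈ supp f ↔ f x ≠ 0 := by simp [supp]

theorem sq_le {f : ι → ℤ} (x : ι) : f x * f x ≤ ∑ y, f y * f y :=
  single_le_sum (f := fun y => f y * f y) (fun y _ => mul_self_nonneg (f y)) (mem_univ x)

theorem unit_entries {f : ι → ℤ} (h : ∑ y, f y * f y = 3) :
    (∀ x ∈ supp f, f x * f x = 1) ∧ (supp f).card = 3 := by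
  have h1 : ∀ x ∈ supp f, f x * f x = 1 := fun x hx => by
    have h2 := sq_le (f := f) x
    have h3 := mem_supp.1 hx
    have : -2 < f x ∧ f x < 2 := ⟨by nlinarith, by nlinarith⟩
    obtain e | e : f x = 1 ∨ f x = -1 := by omega
    all_goals simp [e]
  refine ⟨h1, ?_⟩
  have h2 : ∑ y, f y * f y = ∑ y ∈ supp f, f y * f y :=
    (sum_subset (subset_univ _) fun x _ hx => by
      simp only [mem_supp, ne_eq, not_not] at hx; simp [hx]).symm
  rw [h, sum_congr rfl h1, sum_const, nsmul_eq_mul, mul_one] at h2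
  exact_mod_cast h2.symm

theorem four_entries {f D : ι → ℤ} (h : ∑ y, f y * f y = 4) (hD : ∀ x, 0 < D x)
    (hd : ∑ y, f y * D y = 0) : (∀ x ∈ supp f, f x * f x = 1) ∧ (supp f).card = 4 := by
  have hsum : ∀ g : ι → ℤ, ∑ y, f y * g y = ∑ y ∈ supp f, f y * g y := fun g =>
    (sum_subset (subset_univ _) fun x _ hx => by
      simp only [mem_supp, ne_eq, not_not] at hx; simp [hx]).symm
  have h1 : ∀ x ∈ supp f, f x * f x = 1 := fun x hx => by
    have h2 := sq_le (f := f) x
    have h3 := mem_supp.1 hx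
    have hlt : -3 < f x ∧ f x < 3 := ⟨by nlinarith, by nlinarith⟩
    obtain e | e : (f x = 1 ∨ f x = -1) ∨ f x * f x = 4 := by
      have : f x = 1 ∨ f x = -1 ∨ f x = 2 ∨ f x = -2 := by omega
      rcases this with e | e | e | e <;> simp [e]
    · rcases e with e | e <;> simp [e]
    · exfalso
      have h0 : ∀ y, y ≠ x → f y = 0 := fun y hy => by
        by_contra hne
        have h4 : ∑ z ∈ ({x, y} : Finset ι), f z * f z ≤ 4 := h ▸
          sum_le_sum_of_subset_of_nonneg (subset_univ _) fun z _ _ => mul_self_nonneg (f z)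
        rw [sum_pair (Ne.symm hy)] at h4
        have : 0 < f y * f y := mul_self_pos.2 hne
        omega
      rw [Fintype.sum_eq_single x fun y hy => by rw [h0 y hy, zero_mul]] at hd
      exact h3 ((mul_eq_zero.1 hd).resolve_right (hD x).ne')
  refine ⟨h1, ?_⟩
  have h2 := hsum f
  rw [h, sum_congr rfl h1, sum_const, nsmul_eq_mul, mul_one] at h2
  exact_mod_cast h2.symm

/-- A unit triple meets with inner product two in exactly two places, with equal signs. -/
theorem overlap {f g : ι → ℤ} (hf : ∀ x ∈ supp f, f x * f x = 1) (hf3 : (supp f).card = 3)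
    (hg : ∀ x ∈ supp g, g x * g x = 1) (h : ∑ y, f y * g y = 2) :
    (supp f ∩ supp g).card = 2 ∧ ∀ x ∈ supp f ∩ supp g, f x = g x := by
  have h2 : ∑ y, f y * g y = ∑ y ∈ supp f ∩ supp g, f y * g y :=
    (sum_subset (subset_univ _) fun x _ hx => by
      simp only [mem_inter, mem_supp, ne_eq] at hx
      by_cases e : f x = 0
      · simp [e]
      · by_cases e' : g x = 0
        · simp [e']
        · exact absurd ⟨e, e'⟩ hx).symm
  rw [h] at h2
  have h1 : ∀ x ∈ supp f ∩ supp g, f x * g x = 1 ∨ f x * g x = -1 := fun x hx => by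
    rw [mem_inter] at hx
    have a := mul_self_eq_one_iff.1 (hf x hx.1)
    have b := mul_self_eq_one_iff.1 (hg x hx.2)
    rcases a with a | a <;> rcases b with b | b <;> simp [a, b]
  set A := (supp f ∩ supp g).filter fun x => f x * g x = 1 with hA
  set B := (supp f ∩ supp g).filter fun x => ¬ f x * g x = 1 with hB
  have hs : (∑ y ∈ supp f ∩ supp g, f y * g y) = (A.card : ℤ) - B.card := by
    rw [← sum_filter_add_sum_filter_not _ (fun x => f x * g x = 1),
      sum_congr rfl (fun x hx => (mem_filter.1 hx).2),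
      sum_congr rfl (g := fun _ => (-1 : ℤ)) fun x hx =>
        (h1 x (mem_filter.1 hx).1).resolve_left (mem_filter.1 hx).2]
    simp [hA, hB, sub_eq_add_neg]
  have hc : A.card + B.card = (supp f ∩ supp g).card := card_filter_add_card_filter_not _
  have hle : (supp f ∩ supp g).card ≤ 3 := hf3 ▸ card_le_card inter_subset_left
  have hB0 : B.card = 0 := by omega
  refine ⟨by omega, fun x hx => ?_⟩
  have e1 : f x * g x = 1 := by
    by_contra hne
    exact absurd hB0 (card_pos.2 ⟨x, mem_filter.2 ⟨hx, hne⟩⟩).ne'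
  have e2 := hf x (mem_inter.1 hx).1
  linear_combination (g x) * e2 - (f x) * e1

/-- At most three pairs of a set of four pairwise meet. -/
theorem card_pairs_le {κ : Type*} (K : Finset κ) (S : Finset ι) (hS : S.card = 4)
    (Q : κ → Finset ι) (hQ : ∀ k ∈ K, Q k ⊆ S ∧ (Q k).card = 2)
    (hmeet : ∀ k ∈ K, ∀ l ∈ K, k ≠ l → (Q k ∩ Q l).card = 1) : K.card ≤ 3 := by
  obtain ⟨s, hs⟩ : S.Nonempty := card_pos.1 (by omega)
  set f : κ → Finset ι := fun k => if s ∈ Q k then Q k else S \ Q k with hf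
  have hle : ((S.erase s).image fun t => ({s, t} : Finset ι)).card ≤ 3 := by
    refine card_image_le.trans ?_
    rw [card_erase_of_mem hs, hS]
  refine le_trans (card_le_card_of_injOn f (fun k hk => ?_) ?_) hle
  · have h1 : s ∈ f k ∧ f k ⊆ S ∧ (f k).card = 2 := by
      simp only [hf]
      split_ifs with e
      · exact ⟨e, hQ k hk⟩
      · exact ⟨mem_sdiff.2 ⟨hs, e⟩, sdiff_subset, by
          rw [card_sdiff_of_subset (hQ k hk).1, hS, (hQ k hk).2]⟩
    obtain ⟨t, ht⟩ := card_eq_one.1 (show ((f k).erase s).card = 1 by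
      rw [card_erase_of_mem h1.1, h1.2.2])
    refine mem_image.2 ⟨t, mem_erase.2 ⟨?_, h1.2.1 ?_⟩, ?_⟩
    · exact (mem_erase.1 (ht ▸ mem_singleton_self t : t ∈ (f k).erase s)).1
    · exact (mem_erase.1 (ht ▸ mem_singleton_self t : t ∈ (f k).erase s)).2
    · show ({s, t} : Finset ι) = f k
      rw [← insert_erase h1.1, ht]
  · intro k hk l hl e
    by_contra hne
    have hm := hmeet k hk l hl hne
    simp only [hf] at e
    split_ifs at e with a b b
    · rw [e, inter_self, (hQ l hl).2] at hm; omega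
    · rw [e, sdiff_inter_self, card_empty] at hm; omega
    · rw [← e, inter_sdiff_self, card_empty] at hm; omega
    · have : Q k = Q l := by
        rw [← Finset.sdiff_sdiff_eq_self (hQ k hk).1, e, Finset.sdiff_sdiff_eq_self (hQ l hl).1]
      rw [this, inter_self, (hQ l hl).2] at hm; omega

/-- The data at one index. -/
structure Triple (f ψ : ι → ℤ) (p q r : ι) : Prop where
  pq : p ≠ q
  pr : p ≠ r
  qr : q ≠ r
  zero : ∀ x, x ≠ p → x ≠ q → x ≠ r → f x = 0
  fp : f p * f p = 1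
  fq : f q * f q = 1
  fr : f r * f r = 1
  hr : ψ r * ψ r = 4

theorem Triple.sum_eq {f ψ : ι → ℤ} {p q r : ι} (h : Triple f ψ p q r) {A : Type*}
    [AddCommMonoid A] (g : ι → A) (h0 : ∀ x, f x = 0 → g x = 0) :
    ∑ x, g x = g p + g q + g r := by
  rw [← sum_subset (subset_univ ({p, q, r} : Finset ι)) fun x _ hx => by
    simp only [mem_insert, mem_singleton, not_or] at hx
    exact h0 x (h.zero x hx.1 hx.2.1 hx.2.2), sum_insert (by simp [h.pq, h.pr]),
    sum_pair h.qr, add_assoc]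

theorem alt_sum (n : ℕ) :
    2 * ∑ j ∈ Ico 1 (n + 1), (-1 : ℤ) ^ j = (-1) ^ n - 1 := by
  induction n with
  | zero => simp
  | succ n ih => rw [sum_Ico_succ_top (by omega), mul_add, ih, pow_succ]; ring

/-- The three shapes. -/
theorem shape {h : ℕ} (h2 : 2 ≤ h) (hev : Even h) (v : ℕ → ι → ℤ) (ψ D : ι → ℤ)
    (hD : ∀ x, 0 < D x)
    (hgram : ∀ j ∈ Icc 1 h, ∀ k ∈ Icc 1 h, ∑ x, v j x * v k x =
      2 + (if j = k then 1 else 0) + (if j = h ∧ k = h then 1 else 0))
    (hdeg : ∀ j ∈ Icc 1 h, ∑ x, v j x * D x = 0)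
    (hψ : ∀ x, ψ x = -v h x - 2 * ∑ j ∈ Ico 1 h, (-1) ^ j * v j x) :
    (∀ j ∈ Ico 1 h, ∃ p q r, Triple (v j) ψ p q r ∧ ψ p = v j p ∧ ψ q = v j q ∧
      ψ r = -2 * (-1) ^ j * v j r) ∨
    (1 < h ∧ 2 < h ∧ ∃ p q r, Triple (v 1) ψ p q r ∧ ψ p = v 1 p ∧ ψ q = v 1 q ∧
      ψ r = 2 * v 1 r ∧ v 1 p * D p = -3 * (v 1 q * D q) ∧ ∀ x, v 1 x ≠ 0 → v 2 x ≠ 0 → x = p ∨ x = r) ∨
    (2 < h ∧ ∃ p q r, Triple (v 2) ψ p q r ∧ ψ p * ψ p = 1 ∧ ψ q * ψ q = 1 ∧
      v 2 p * D p = v 2 q * D q) := by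
  have hh : h ∈ Icc 1 h := mem_Icc.2 ⟨by omega, le_rfl⟩
  have hI : ∀ {j}, j ∈ Ico 1 h → j ∈ Icc 1 h := fun hj => Ico_subset_Icc_self hj
  obtain ⟨hu, hScard⟩ := four_entries (f := v h) (by rw [hgram h hh h hh]; simp) hD (hdeg h hh)
  set S := supp (v h) with hS
  have hT : ∀ j ∈ Ico 1 h, (∀ x ∈ supp (v j), v j x * v j x = 1) ∧ (supp (v j)).card = 3 :=
    fun j hj => unit_entries (by
      rw [hgram j (hI hj) j (hI hj)]
      simp [(mem_Ico.1 hj).2.ne])
  set Q : ℕ → Finset ι := fun j => supp (v j) ∩ S with hQdef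
  have hQ : ∀ j ∈ Ico 1 h, (Q j).card = 2 ∧ ∀ x ∈ Q j, v j x = v h x := fun j hj =>
    overlap (hT j hj).1 (hT j hj).2 hu (by
      rw [hgram j (hI hj) h hh]
      simp [(mem_Ico.1 hj).2.ne])
  have hR : ∀ j ∈ Ico 1 h, ∃ r, supp (v j) \ S = {r} := fun j hj => card_eq_one.1 (by
    have := card_sdiff_add_card_inter (supp (v j)) S
    rw [(hT j hj).2] at this
    have h2' := (hQ j hj).1
    simp only [hQdef] at h2'
    omega)
  have hrp : ∀ j ∈ Ico 1 h, ∀ k ∈ Ico 1 h, j ≠ k →
      (supp (v j) ∩ supp (v k)).card = 2 ∧ ∀ x ∈ supp (v j) ∩ supp (v k), v j x = v k x :=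
    fun j hj k hk hne => overlap (hT j hj).1 (hT j hj).2 (hT k hk).1 (by
      rw [hgram j (hI hj) k (hI hk)]
      simp [hne, (mem_Ico.1 hj).2.ne])
  haveI : Nonempty ι := let ⟨x, _⟩ := card_pos.1 (by omega : 0 < S.card); ⟨x⟩
  choose! r hr using hR
  have hmemT : ∀ j ∈ Ico 1 h, ∀ x, v j x ≠ 0 ↔ x ∈ Q j ∨ x = r j := fun j hj x => by
    rw [← mem_supp, ← mem_singleton, ← hr j hj, mem_sdiff]
    simp only [hQdef, mem_inter]
    tauto
  have hrS : ∀ j ∈ Ico 1 h, r j ∉ S := fun j hj =>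
    (mem_sdiff.1 (hr j hj ▸ mem_singleton_self (r j))).2
  have hvr : ∀ j ∈ Ico 1 h, v j (r j) * v j (r j) = 1 := fun j hj =>
    (hT j hj).1 _ (mem_supp.2 ((hmemT j hj _).2 (Or.inr rfl)))
  have hpair : ∀ j ∈ Ico 1 h, ∀ k ∈ Ico 1 h, j ≠ k →
      (Q j = Q k ∧ r j ≠ r k) ∨ (r j = r k ∧ (Q j ∩ Q k).card = 1) := by
    intro j hj k hk hne
    have hc := (hrp j hj k hk hne).1
    have e1 : (supp (v j) ∩ supp (v k)) ∩ S = Q j ∩ Q k := by
      ext x; simp only [hQdef, mem_inter]; tauto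
    have e2 : (supp (v j) ∩ supp (v k)) \ S = {r j} ∩ {r k} := by
      rw [← hr j hj, ← hr k hk]; ext x; simp only [mem_inter, mem_sdiff]; tauto
    have := card_sdiff_add_card_inter (supp (v j) ∩ supp (v k)) S
    rw [e1, e2, hc] at this
    by_cases e : r j = r k
    · rw [e, inter_self, card_singleton] at this
      exact Or.inr ⟨e, by omega⟩
    · rw [singleton_inter_of_notMem (by simpa using e), card_empty] at this
      have hle : (Q j ∩ Q k) = Q j :=
        eq_of_subset_of_card_le inter_subset_left (by rw [(hQ j hj).1]; omega)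
      refine Or.inl ⟨eq_of_subset_of_card_le (hle ▸ inter_subset_right) ?_, e⟩
      rw [(hQ j hj).1, (hQ k hk).1]
  have h1 : 1 ∈ Ico 1 h := mem_Ico.2 ⟨le_rfl, h2⟩
  by_cases hcase : ∀ j ∈ Ico 1 h, Q j = Q 1
  · -- a common pair
    left
    intro j hj
    obtain ⟨p, q, hpq, hQpq⟩ := card_eq_two.1 (hQ j hj).1
    have hpQ : p ∈ Q j := by rw [hQpq]; simp
    have hqQ : q ∈ Q j := by rw [hQpq]; simp
    have halt : 2 * ∑ i ∈ Ico 1 h, (-1 : ℤ) ^ i = -2 := by
      have := alt_sum (h - 1)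
      rw [Nat.sub_add_cancel (by omega), Odd.neg_one_pow
        (Nat.Even.sub_odd (by omega) hev odd_one)] at this
      linarith
    have hψQ : ∀ x ∈ Q j, ψ x = v j x := by
      intro x hx
      have : ∀ i ∈ Ico 1 h, v i x = v h x := fun i hi =>
        (hQ i hi).2 x (by rw [hcase i hi, ← hcase j hj]; exact hx)
      rw [hψ, sum_congr rfl fun i hi => by rw [this i hi], ← sum_mul, this j hj]
      linear_combination (-v h x) * halt
    have hne : ∀ i ∈ Ico 1 h, i ≠ j → v i (r j) = 0 := by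
      intro i hi hij
      by_contra hne0
      rcases (hmemT i hi _).1 hne0 with e | e
      · exact hrS j hj (mem_inter.1 e).2
      · rcases hpair i hi j hj hij with ⟨-, e'⟩ | ⟨-, e'⟩
        · exact e' e.symm
        · rw [hcase i hi, hcase j hj, inter_self, (hQ 1 h1).1] at e'; omega
    have hψr : ψ (r j) = -2 * (-1) ^ j * v j (r j) := by
      rw [hψ, sum_eq_single_of_mem j hj fun i hi hij => by rw [hne i hi hij, mul_zero],
        show v h (r j) = 0 from by_contra fun hx => hrS j hj (mem_supp.2 hx)]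
      ring
    refine ⟨p, q, r j, ⟨hpq, fun e => hrS j hj (e ▸ (mem_inter.1 hpQ).2),
      fun e => hrS j hj (e ▸ (mem_inter.1 hqQ).2), fun x a b c => ?_, ?_, ?_, hvr j hj, ?_⟩,
      hψQ p hpQ, hψQ q hqQ, hψr⟩
    · by_contra hx
      rcases (hmemT j hj x).1 hx with e | e
      · rw [hQpq] at e; simp [a, b] at e
      · exact c e
    · exact (hT j hj).1 p (mem_inter.1 hpQ).1
    · exact (hT j hj).1 q (mem_inter.1 hqQ).1
    · rw [hψr]
      have hs : ((-1 : ℤ) ^ j) * (-1) ^ j = 1 := by rw [← mul_pow]; norm_num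
      linear_combination 4 * ((-1 : ℤ) ^ j * (-1) ^ j) * hvr j hj + 4 * hs
  · -- a common odd element
    push Not at hcase
    obtain ⟨k₀, hk₀, hk₀ne⟩ := hcase
    have hall : ∀ j ∈ Ico 1 h, r j = r 1 := by
      intro j hj
      by_cases e : j = 1
      · rw [e]
      rcases hpair j hj 1 h1 e with ⟨eQ, er⟩ | ⟨er, -⟩
      · have a := (hpair k₀ hk₀ 1 h1 fun e' => hk₀ne (e' ▸ rfl)).resolve_left fun a => hk₀ne a.1
        have hne : k₀ ≠ j := fun e' => hk₀ne (e' ▸ eQ)
        have b := (hpair k₀ hk₀ j hj hne).resolve_left fun b => hk₀ne (b.1.trans eQ)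
        exact absurd (b.1.symm.trans a.1) er
      · exact er
    have hmeet : ∀ j ∈ Ico 1 h, ∀ k ∈ Ico 1 h, j ≠ k → (Q j ∩ Q k).card = 1 :=
      fun j hj k hk hne => ((hpair j hj k hk hne).resolve_left fun a =>
        a.2 ((hall j hj).trans (hall k hk).symm)).2
    have hb := card_pairs_le (Ico 1 h) S hScard Q
      (fun j hj => ⟨inter_subset_right, (hQ j hj).1⟩) hmeet
    rw [Nat.card_Ico] at hb
    have h4 : h = 4 := by
      have h3 : 2 < h := by
        by_contra hlt
        obtain rfl : k₀ = 1 := by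
          rw [mem_Ico] at hk₀
          omega
        exact hk₀ne rfl
      obtain ⟨t, ht⟩ := hev
      omega
    subst h4
    have hI3 : ∀ j, j ∈ Ico 1 4 ↔ j = 1 ∨ j = 2 ∨ j = 3 := fun j => by rw [mem_Ico]; omega
    have i1 : 1 ∈ Ico 1 4 := (hI3 1).2 (Or.inl rfl)
    have i2 : 2 ∈ Ico 1 4 := (hI3 2).2 (Or.inr (Or.inl rfl))
    have i3 : 3 ∈ Ico 1 4 := (hI3 3).2 (Or.inr (Or.inr rfl))
    set R := r 1 with hRdef
    have hψ4 : ∀ x, ψ x = -v 4 x + 2 * v 1 x - 2 * v 2 x + 2 * v 3 x := fun x => by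
      rw [hψ, show Ico 1 4 = ({1, 2, 3} : Finset ℕ) by decide]
      simp
      ring
    have hmem : ∀ j ∈ Ico 1 4, ∀ x, v j x ≠ 0 ↔ x ∈ Q j ∨ x = R := fun j hj x => by
      rw [hmemT j hj x, hall j hj]
    have hout : ∀ j ∈ Ico 1 4, ∀ x ∈ S, x ∉ Q j → v j x = 0 := fun j hj x hx hnot => by
      by_contra hx0
      rcases (hmem j hj x).1 hx0 with e | e
      · exact hnot e
      · subst e; exact hrS 1 i1 hx
    have hψR' : ψ R = 2 * v 1 R := by
      have e : ∀ j ∈ Ico 1 4, v j R = v 1 R := fun j hj => by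
        by_cases e : j = 1
        · rw [e]
        exact (hrp j hj 1 i1 e).2 R (mem_inter.2
          ⟨mem_supp.2 ((hmem j hj R).2 (Or.inr rfl)), mem_supp.2 ((hmem 1 i1 R).2 (Or.inr rfl))⟩)
      rw [hψ4, e 2 i2, e 3 i3, show v 4 R = 0 from by_contra fun hx => hrS 1 i1 (mem_supp.2 hx)]
      ring
    have hψR : ψ R * ψ R = 4 := by
      rw [hψR']
      linear_combination 4 * hvr 1 i1
    obtain ⟨a, ha⟩ := card_eq_one.1 (hmeet 1 i1 2 i2 (by omega))
    have haQ : a ∈ Q 1 ∧ a ∈ Q 2 := mem_inter.1 (ha ▸ mem_singleton_self a)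
    obtain ⟨b, hb1⟩ := card_eq_one.1 (show ((Q 1).erase a).card = 1 by
      rw [card_erase_of_mem haQ.1, (hQ 1 i1).1])
    obtain ⟨c, hc1⟩ := card_eq_one.1 (show ((Q 2).erase a).card = 1 by
      rw [card_erase_of_mem haQ.2, (hQ 2 i2).1])
    have hQ1 : Q 1 = {a, b} := by rw [← insert_erase haQ.1, hb1]
    have hQ2 : Q 2 = {a, c} := by rw [← insert_erase haQ.2, hc1]
    have hab : a ≠ b := fun e => by
      have := (hQ 1 i1).1; rw [hQ1, e] at this; simp at this
    have hac : a ≠ c := fun e => by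
      have := (hQ 2 i2).1; rw [hQ2, e] at this; simp at this
    have hbc : b ≠ c := fun e => by
      have := hmeet 1 i1 2 i2 (by omega); rw [hQ1, hQ2, e] at this; simp [hac] at this
    have hin : ∀ j, ∀ x ∈ Q j, x ∈ S := fun j x hx => (mem_inter.1 hx).2
    have haR : a ≠ R := fun e => hrS 1 i1 (by rw [← hRdef, ← e]; exact hin 1 a haQ.1)
    have hsum : ∀ j ∈ Ico 1 4, ∀ p q, Q j = {p, q} → p ≠ q →
        v j p * D p + v j q * D q + v j R * D R = 0 := by
      intro j hj p q hQpq hpq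
      rw [← hdeg j (hI hj)]
      rw [← sum_subset (subset_univ ({p, q, R} : Finset ι)) fun x _ hx => ?_]
      · have hpR : p ≠ R := fun e => hrS 1 i1 (by rw [← hRdef, ← e]; exact hin j p (by rw [hQpq]; simp))
        have hqR : q ≠ R := fun e => hrS 1 i1 (by rw [← hRdef, ← e]; exact hin j q (by rw [hQpq]; simp))
        rw [sum_insert (by simp [hpq, hpR]), sum_pair hqR, add_assoc]
      · simp only [mem_insert, mem_singleton, not_or] at hx
        have : v j x = 0 := by
          by_contra hx0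
          rcases (hmem j hj x).1 hx0 with e | e
          · rw [hQpq] at e; simp [hx.1, hx.2.1] at e
          · exact hx.2.2 e
        rw [this, zero_mul]
    have heq : ∀ j ∈ Ico 1 4, ∀ x ∈ Q j, v j x = v 4 x := fun j hj x hx => (hQ j hj).2 x hx
    have hsq : ∀ j ∈ Ico 1 4, ∀ x, (x ∈ Q j ∨ x = R) → v j x * v j x = 1 := fun j hj x hx =>
      (hT j hj).1 x (mem_supp.2 ((hmem j hj x).2 hx))
    have heR : ∀ j ∈ Ico 1 4, v j R = v 1 R := fun j hj => by
      by_cases e : j = 1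
      · rw [e]
      exact (hrp j hj 1 i1 e).2 R (mem_inter.2
        ⟨mem_supp.2 ((hmem j hj R).2 (Or.inr rfl)), mem_supp.2 ((hmem 1 i1 R).2 (Or.inr rfl))⟩)
    have hzero : ∀ j ∈ Ico 1 4, ∀ p q, Q j = {p, q} → ∀ x, x ≠ p → x ≠ q → x ≠ R → v j x = 0 := by
      intro j hj p q hQpq x h1' h2' h3'
      by_contra hx0
      rcases (hmem j hj x).1 hx0 with e | e
      · rw [hQpq] at e; simp [h1', h2'] at e
      · exact h3' e
    have m13 := hmeet 1 i1 3 i3 (by omega)
    have m23 := hmeet 2 i2 3 i3 (by omega)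
    have hbQ : b ∈ Q 1 := by rw [hQ1]; simp
    have hcQ : c ∈ Q 2 := by rw [hQ2]; simp
    have hbR : b ≠ R := fun e => hrS 1 i1 (by rw [← hRdef, ← e]; exact hin 1 b hbQ)
    have hcR : c ≠ R := fun e => hrS 1 i1 (by rw [← hRdef, ← e]; exact hin 2 c hcQ)
    have hb2 : v 2 b = 0 := hout 2 i2 b (hin 1 b hbQ) (by rw [hQ2]; simp [hab.symm, hbc])
    have hc1' : v 1 c = 0 := hout 1 i1 c (hin 2 c hcQ) (by rw [hQ1]; simp [hac.symm, hbc.symm])
    by_cases ha3 : a ∈ Q 3
    · -- star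
      right; left
      refine ⟨by omega, by omega, a, b, R, ?_⟩
      obtain ⟨e, he⟩ := card_eq_one.1 (show ((Q 3).erase a).card = 1 by
        rw [card_erase_of_mem ha3, (hQ 3 i3).1])
      have hQ3 : Q 3 = {a, e} := by rw [← insert_erase ha3, he]
      have hae : a ≠ e := fun e' => by
        have := (hQ 3 i3).1; rw [hQ3, e'] at this; simp at this
      have heb : b ≠ e := fun e' => by
        rw [hQ1, hQ3, e'] at m13; simp [hae] at m13
      have hec : c ≠ e := fun e' => by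
        rw [hQ2, hQ3, e'] at m23; simp [hae] at m23
      have heQ : e ∈ Q 3 := by rw [hQ3]; simp
      have hSeq : S = {a, b, c, e} := by
        refine (eq_of_subset_of_card_le ?_ ?_).symm
        · intro x hx
          simp only [mem_insert, mem_singleton] at hx
          rcases hx with rfl | rfl | rfl | rfl
          · exact hin 1 _ haQ.1
          · exact hin 1 _ hbQ
          · exact hin 2 _ hcQ
          · exact hin 3 _ heQ
        · rw [hScard, card_insert_of_notMem (by simp [hab, hac, hae]),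
            card_insert_of_notMem (by simp [hbc, heb]), card_pair hec]
      have s4 : v 4 a * D a + (v 4 b * D b + (v 4 c * D c + v 4 e * D e)) = 0 := by
        rw [← hdeg 4 hh, ← sum_subset (subset_univ S) fun x _ hx => by
          rw [show v 4 x = 0 from by_contra fun hx0 => hx (mem_supp.2 hx0), zero_mul], hSeq,
          sum_insert (by simp [hab, hac, hae]), sum_insert (by simp [hbc, heb]), sum_pair hec]
      have s1 := hsum 1 i1 a b hQ1 hab
      have s2 := hsum 2 i2 a c hQ2 hac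
      have s3 := hsum 3 i3 a e hQ3 hae
      rw [heR 2 i2, heq 2 i2 a haQ.2, heq 2 i2 c hcQ] at s2
      rw [heR 3 i3, heq 3 i3 a ha3, heq 3 i3 e heQ] at s3
      rw [heq 1 i1 a haQ.1, heq 1 i1 b hbQ] at s1
      have hb3 : v 3 b = 0 := hout 3 i3 b (hin 1 b hbQ) (by rw [hQ3]; simp [hab.symm, heb])
      refine ⟨⟨hab, haR, hbR, hzero 1 i1 a b hQ1, hsq 1 i1 a (Or.inl haQ.1),
        hsq 1 i1 b (Or.inl hbQ), hvr 1 i1, hψR⟩, ?_, ?_, hψR', ?_, ?_⟩
      · rw [hψ4, heq 1 i1 a haQ.1, heq 2 i2 a haQ.2, heq 3 i3 a ha3]; ring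
      · rw [hψ4, hb2, hb3, heq 1 i1 b hbQ]; ring
      · rw [heq 1 i1 a haQ.1, heq 1 i1 b hbQ]; linarith
      · intro x hx1 hx2
        rcases (hmem 1 i1 x).1 hx1 with e' | e'
        · rw [hQ1] at e'
          simp only [mem_insert, mem_singleton] at e'
          exact e'.imp_right fun e'' => absurd (e'' ▸ hb2) hx2
        · exact Or.inr e'
    · -- triangle
      right; right
      refine ⟨by omega, a, c, R, ?_⟩
      have hb3' : b ∈ Q 3 := by
        by_contra hb3'
        rw [card_eq_zero.2 (disjoint_iff_inter_eq_empty.1 (by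
          rw [hQ1]; simp [ha3, hb3']))] at m13
        omega
      have hc3' : c ∈ Q 3 := by
        by_contra hc3'
        rw [card_eq_zero.2 (disjoint_iff_inter_eq_empty.1 (by
          rw [hQ2]; simp [ha3, hc3']))] at m23
        omega
      have hQ3 : Q 3 = {b, c} := (eq_of_subset_of_card_le (by simp [insert_subset_iff, hb3', hc3'])
        (by rw [(hQ 3 i3).1, card_pair hbc])).symm
      have s1 := hsum 1 i1 a b hQ1 hab
      have s2 := hsum 2 i2 a c hQ2 hac
      have s3 := hsum 3 i3 b c hQ3 hbc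
      rw [heq 1 i1 a haQ.1, heq 1 i1 b hbQ] at s1
      rw [heR 2 i2, heq 2 i2 a haQ.2, heq 2 i2 c hcQ] at s2
      rw [heR 3 i3, heq 3 i3 b hb3', heq 3 i3 c hc3'] at s3
      have ha3' : v 3 a = 0 := hout 3 i3 a (hin 1 a haQ.1) ha3
      refine ⟨⟨hac, haR, hcR, hzero 2 i2 a c hQ2, hsq 2 i2 a (Or.inl haQ.2),
        hsq 2 i2 c (Or.inl hcQ), hsq 2 i2 R (Or.inr rfl), hψR⟩, ?_, ?_, ?_⟩
      · rw [hψ4, ha3', heq 1 i1 a haQ.1, heq 2 i2 a haQ.2]
        linear_combination hu a (hin 1 a haQ.1)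
      · rw [hψ4, hc1', heq 2 i2 c hcQ, heq 3 i3 c hc3']
        linear_combination hu c (hin 2 c hcQ)
      · rw [heq 2 i2 a haQ.2, heq 2 i2 c hcQ]; linarith

end Cfsg.Agent.GW.Shape
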