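import Cfsg.Agent.Lib.GW.LinearKill
import Cfsg.Agent.Lib.GW.LinearShape
import Cfsg.Agent.Lib.GW.LinearNumeric
import Cfsg.Agent.Lib.Char.GlaubermanMod

/-!
The theorem of Bender and Glauberman on linear characters: with coherent fusion of the reflections
every invariant linear character of the odd core of the centralizer of an involution is trivial.
-/

set_option linter.unusedSectionVars false
set_option linter.style.haveILetI false

namespace Cfsg.Agent.GW

open Cfsg Cfsg.Agent.Blocks Cfsg.Agent.Char Cfsg.Agent.Star Cfsg.Agent.TwoFus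
open scoped ComplexConjugate

universe u

variable {G : Type u} [Group G] [Fintype G] {P : Sylow 2 G} {d : Dih (P : Subgroup G)}

namespace LinCtx

open LinBase (P_le dz_mem inf_centralizer_le lamF bLin)

variable (c : LinCtx P d)

/-- The degree as an integer. -/
noncomputable def degZ (χ : IrrCharacter G) : ℤ := (charDegree (χ : G → ℂ) : ℤ)

theorem degZ_pos (χ : IrrCharacter G) : 0 < degZ χ := by
  unfold degZ; exact_mod_cast charDegree_pos χ

theorem sum_range_two_mul {h : ℕ} (h1 : 1 ≤ h) (f : ℕ → ℤ) :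
    ∑ j ∈ Finset.range (2 * h), f j =
      f 0 + f h + ∑ j ∈ Finset.Ico 1 h, (f j + f (2 * h - j)) := by
  rw [Finset.range_eq_Ico, ← Finset.sum_Ico_consecutive f (Nat.zero_le h) (by omega : h ≤ 2 * h),
    Finset.sum_eq_sum_Ico_succ_bot (by omega : 0 < h),
    Finset.sum_eq_sum_Ico_succ_bot (by omega : h < 2 * h), Finset.sum_add_distrib]
  have e : ∑ j ∈ Finset.Ico (h + 1) (2 * h), f j = ∑ j ∈ Finset.Ico 1 h, f (2 * h - j) := by
    refine Finset.sum_nbij' (fun j => 2 * h - j) (fun j => 2 * h - j) ?_ ?_ ?_ ?_ ?_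
    all_goals intro j hj
    · simp only [Finset.mem_coe, Finset.mem_Ico] at hj ⊢; omega
    · simp only [Finset.mem_coe, Finset.mem_Ico] at hj ⊢; omega
    · simp only [Finset.mem_coe, Finset.mem_Ico] at hj; omega
    · simp only [Finset.mem_coe, Finset.mem_Ico] at hj; omega
    · simp only [Finset.mem_coe, Finset.mem_Ico] at hj
      rw [show 2 * h - (2 * h - j) = j by omega]
  rw [e]
  ring

theorem psiZ_split {h : ℕ} (hh : d.m = 2 * h) (hev : 2 ∣ h) (χ : IrrCharacter G) :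
    c.psiZ χ = -c.v h χ - 2 * ∑ j ∈ Finset.Ico 1 h, (-1) ^ j * c.v j χ := by
  have h1 : 1 ≤ h := by have := d.two_le; omega
  rw [psiZ, hh, sum_range_two_mul h1 (fun j => (-1) ^ j * c.v j χ), c.v_zero, mul_zero,
    (even_iff_two_dvd.2 hev).neg_one_pow, Finset.mul_sum,
    Finset.sum_congr rfl (g := fun j => 2 * ((-1) ^ j * c.v j χ)) fun j hj => ?_]
  · ring
  · have hj' := Finset.mem_Ico.1 hj
    rw [← hh, c.v_symm (by omega),
      show ((-1 : ℤ) ^ (d.m - j)) = (-1) ^ j by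
        refine neg_one_pow_congr ?_
        rw [Nat.even_sub (by omega)]
        simp [even_iff_two_dvd, d.even]]
    ring

theorem psiZ_klein (hm : d.m = 2) (χ : IrrCharacter G) : c.psiZ χ = c.v 1 χ := by
  rw [psiZ, hm]
  simp [Finset.sum_range_succ, c.v_zero]

theorem psiZ_triv_principal {h : ℕ} (hh : d.m = 2 * h) : c.triv.psiZ (principal G) = 1 := by
  have h1 := c.triv.psi_eq hh (principal G)
  have e : c.triv.psi (principal G) = 1 := by
    show (Nat.card c.U : ℂ)⁻¹ * ∑ w : c.U, (1 : ℂ) * conj (c.triv.lamF (w : G)) = 1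
    rw [Finset.sum_congr rfl (g := fun _ => (1 : ℂ)) fun w _ => by
      rw [c.triv.lamF_mem (c.le w.2)]; simp [LinCtx.triv], Finset.sum_const, Finset.card_univ,
      ← Nat.card_eq_fintype_card, nsmul_eq_mul, mul_one,
      inv_mul_cancel₀ (Nat.cast_ne_zero.2 Nat.card_pos.ne')]
  rw [e] at h1
  exact_mod_cast h1.symm

variable {M : Ideal AlgInt} [M.IsPrime] (hM : IsPModular 2 M)

include hM

theorem psiZ_principal_eq_zero {h : ℕ} (hh : d.m = 2 * h) {w : G} (hw : w ∈ c.U)
    (hne : c.lamF w ≠ 1) : c.psiZ (principal G) = 0 := by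
  by_contra h0
  obtain ⟨h1, h2⟩ := c.value_of_psi hM hh h0
  have h3 := h2 w hw
  rw [← h1] at h3
  change (1 : ℂ) = 1 * c.lamF w at h3
  rw [one_mul] at h3
  exact hne h3.symm

theorem signed_mod_four {h : ℕ} (hh : d.m = 2 * h) {χ : IrrCharacter G} {e : ℤ}
    (he : e * e = 1) (hψ : c.psiZ χ = e) : (4 : ℤ) ∣ e * degZ χ - 1 := by
  have hne : c.psiZ χ ≠ 0 := fun e0 => by
    rw [hψ] at e0; rw [e0] at he; norm_num at he
  have h1 := c.mod_four hM hh hne
  rw [hψ] at h1
  obtain ⟨q, hq⟩ := h1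
  exact ⟨e * q, by unfold degZ; linear_combination e * hq + he⟩

/-- The class identity at a triple. -/
theorem sum_triple {h : ℕ} (hh : d.m = 2 * h) {j : ℕ} (hj : j ≤ d.m) {p q r : IrrCharacter G}
    (T : Shape.Triple (fun χ => c.v j χ) c.psiZ p q r) (hp : c.psiZ p * c.psiZ p = 1)
    (hq : c.psiZ q * c.psiZ q = 1) :
    ∑ χ : IrrCharacter G, (c.v j χ : ℂ) * (χ : G → ℂ) d.z ^ 2 / (χ : G → ℂ) 1 =
      ((Numeric.Fq (c.v j p * degZ p : ℤ) (c.v j q * degZ q : ℤ) : ℚ) : ℂ) := by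
  classical
  have hdeg : c.v j p * degZ p + c.v j q * degZ q + c.v j r * degZ r = 0 := by
    rw [← T.sum_eq (fun χ => c.v j χ * degZ χ)
      (fun x hx => by rw [show c.v j x = 0 from hx, zero_mul])]
    exact c.sum_v_deg hj
  have hval : ∀ χ, c.psiZ χ ≠ 0 → (χ : G → ℂ) d.z = (c.psiZ χ : ℂ) :=
    fun χ hne => (c.value_of_psi hM hh hne).1
  have hne : ∀ χ (n : ℤ), n ≠ 0 → c.psiZ χ * c.psiZ χ = n → c.psiZ χ ≠ 0 := fun χ n hn e e0 => by
    rw [e0, mul_zero] at e; exact hn e.symm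
  rw [T.sum_eq _ (fun x hx => by rw [show c.v j x = 0 from hx, Int.cast_zero, zero_mul, zero_div]),
    hval p (hne p 1 one_ne_zero hp), hval q (hne q 1 one_ne_zero hq),
    hval r (hne r 4 (by norm_num) T.hr), irr_one_eq_charDegree, irr_one_eq_charDegree,
    irr_one_eq_charDegree]
  have e1 : ((c.psiZ p : ℂ)) ^ 2 = 1 := by rw [pow_two]; exact_mod_cast hp
  have e2 : ((c.psiZ q : ℂ)) ^ 2 = 1 := by rw [pow_two]; exact_mod_cast hq
  have e3 : ((c.psiZ r : ℂ)) ^ 2 = 4 := by rw [pow_two]; exact_mod_cast T.hr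
  have inv : ∀ χ : IrrCharacter G, c.v j χ * c.v j χ = 1 →
      (c.v j χ : ℂ) / (charDegree (χ : G → ℂ) : ℂ) = 1 / ((c.v j χ : ℂ) * (degZ χ : ℂ)) := by
    intro χ h1
    have : (c.v j χ : ℂ) * (c.v j χ : ℂ) = 1 := by exact_mod_cast h1
    have hd : (charDegree (χ : G → ℂ) : ℂ) ≠ 0 := Nat.cast_ne_zero.2 (charDegree_pos χ).ne'
    have hv : (c.v j χ : ℂ) ≠ 0 := left_ne_zero_of_mul_eq_one this
    simp only [degZ, Int.cast_natCast]
    field_simp
    linear_combination this
  rw [e1, e2, e3, mul_one, mul_one, inv p T.fp, inv q T.fq, mul_div_right_comm, inv r T.fr]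
  have hr' : (c.v j r : ℂ) * (degZ r : ℂ) =
      -((c.v j p : ℂ) * (degZ p : ℂ) + (c.v j q : ℂ) * (degZ q : ℂ)) := by
    have : ((c.v j p * degZ p + c.v j q * degZ q + c.v j r * degZ r : ℤ) : ℂ) = 0 := by
      rw [hdeg, Int.cast_zero]
    push_cast at this
    linear_combination this
  rw [hr', div_neg, Numeric.Fq]
  push_cast
  ring

theorem shape_apply {h : ℕ} (hh : d.m = 2 * h) (h2 : 2 ≤ h) (hev : 2 ∣ h) :
    (∀ j ∈ Finset.Ico 1 h, ∃ p q r, Shape.Triple (c.v j) c.psiZ p q r ∧ c.psiZ p = c.v j p ∧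
      c.psiZ q = c.v j q ∧ c.psiZ r = -2 * (-1) ^ j * c.v j r) ∨
    (1 < h ∧ 2 < h ∧ ∃ p q r, Shape.Triple (c.v 1) c.psiZ p q r ∧ c.psiZ p = c.v 1 p ∧
      c.psiZ q = c.v 1 q ∧ c.psiZ r = 2 * c.v 1 r ∧
      c.v 1 p * degZ p = -3 * (c.v 1 q * degZ q) ∧
      ∀ x, c.v 1 x ≠ 0 → c.v 2 x ≠ 0 → x = p ∨ x = r) ∨
    (2 < h ∧ ∃ p q r, Shape.Triple (c.v 2) c.psiZ p q r ∧ c.psiZ p * c.psiZ p = 1 ∧
      c.psiZ q * c.psiZ q = 1 ∧ c.v 2 p * degZ p = c.v 2 q * degZ q) := by
  classical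
  refine Shape.shape h2 (even_iff_two_dvd.2 hev) c.v c.psiZ degZ degZ_pos ?_ ?_
    (c.psiZ_split hh hev)
  · intro j hj k hk
    rw [Finset.mem_Icc] at hj hk
    rw [c.gram (by omega) (by omega) (by omega) (by omega)]
    congr 1
    exact if_congr ⟨fun e => ⟨by omega, by omega⟩, fun e => by omega⟩ rfl rfl
  · intro j hj
    rw [Finset.mem_Icc] at hj
    exact c.sum_v_deg (by omega)

variable [IsSimpleGroup G] (hnc : ¬ ∀ a b : G, a * b = b * a)

include hnc

/-- The right hand side of the class identity. -/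
theorem triv_key {h : ℕ} (hh : d.m = 2 * h) (h2 : 2 ≤ h) (hev : 2 ∣ h) {j : ℕ}
    (hj : j ∈ Finset.Ico 1 h) :
    ∃ X : ℤ, (4 : ℤ) ∣ X - 1 ∧ X ≠ 1 ∧
      ∑ χ : IrrCharacter G, (c.triv.v j χ : ℂ) * (χ : G → ℂ) d.z ^ 2 / (χ : G → ℂ) 1 =
        ((Numeric.Fq 1 (X : ℤ) : ℚ) : ℂ) := by
  classical
  set t := c.triv with ht
  have hψ0 : t.psiZ (principal G) = 1 := c.psiZ_triv_principal hh
  have hd0 : degZ (principal G) = 1 := by
    simp [degZ, principal, charDegree]
  have hone : ∀ χ, degZ χ = 1 → χ = principal G := fun χ hχ =>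
    eq_principal_of_deg_one hnc (by unfold degZ at hχ; exact_mod_cast hχ)
  have hvp : ∀ i, 0 < i → i < d.m → t.v i (principal G) = 1 := fun i h0 hi =>
    c.triv_v_principal h0 hi
  rcases t.shape_apply hM hh h2 hev with hA | ⟨-, h3, p, q, r, T, hp, hq, hr, hrel, honly⟩ |
      ⟨h3, p, q, r, T, hp, hq, hrel⟩
  · obtain ⟨p, q, r, T, hp, hq, hr⟩ := hA j hj
    rw [Finset.mem_Ico] at hj
    have hv1 := hvp j (by omega) (by omega)
    have hsum := t.sum_triple hM hh (by omega) T (by rw [hp]; exact T.fp) (by rw [hq]; exact T.fq)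
    have key : ∀ (s : IrrCharacter G), s ≠ principal G → t.v j s * t.v j s = 1 →
        t.psiZ s = t.v j s → (4 : ℤ) ∣ t.v j s * degZ s - 1 ∧ t.v j s * degZ s ≠ 1 := by
      intro s hs hs1 hs2
      refine ⟨t.signed_mod_four hM hh hs1 hs2, fun e => hs (hone s ?_)⟩
      exact Int.eq_one_of_mul_eq_one_left (degZ_pos s).le e
    by_cases e1 : p = principal G
    · obtain ⟨k1, k2⟩ := key q (fun e => T.pq (e1.trans e.symm)) T.fq hq
      refine ⟨_, k1, k2, ?_⟩
      rw [hsum, e1, hv1, hd0]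
      norm_num
    · by_cases e2 : q = principal G
      · obtain ⟨k1, k2⟩ := key p e1 T.fp hp
        refine ⟨_, k1, k2, ?_⟩
        rw [hsum, Numeric.Fq_comm, e2, hv1, hd0]
        norm_num
      · exfalso
        by_cases e3 : r = principal G
        · have := T.hr
          rw [e3, hψ0] at this
          norm_num at this
        · have := T.zero (principal G) (Ne.symm e1) (Ne.symm e2) (Ne.symm e3)
          rw [hv1] at this
          exact one_ne_zero this
  · exfalso
    have h1 := hvp 1 one_pos (by omega)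
    rcases honly (principal G) (by rw [h1]; exact one_ne_zero)
        (by rw [hvp 2 two_pos (by omega)]; exact one_ne_zero) with e | e
    · rw [← e, h1, hd0] at hrel
      omega
    · have := T.hr
      rw [← e, hψ0] at this
      norm_num at this
  · exfalso
    have h1 := hvp 2 two_pos (by omega)
    by_cases e1 : p = principal G
    · rw [e1, h1, hd0] at hrel
      exact T.pq (e1.trans (hone q (Int.eq_one_of_mul_eq_one_left (degZ_pos q).le hrel.symm)).symm)
    · by_cases e2 : q = principal G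
      · rw [e2, h1, hd0] at hrel
        exact e1 (hone p (Int.eq_one_of_mul_eq_one_left (degZ_pos p).le hrel))
      · by_cases e3 : r = principal G
        · have := T.hr
          rw [e3, hψ0] at this
          norm_num at this
        · have := T.zero (principal G) (Ne.symm e1) (Ne.symm e2) (Ne.symm e3)
          rw [h1] at this
          exact one_ne_zero this

/-- A small character that is a multiple of the linear character on the section. -/
theorem exists_small {h : ℕ} (hh : d.m = 2 * h) (h2 : 2 ≤ h) (hev : 2 ∣ h) {w : G} (hw : w ∈ c.U)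
    (hne : c.lamF w ≠ 1) :
    ∃ (χ : IrrCharacter G) (k : ℤ), (charDegree (χ : G → ℂ) : ℤ) = k + 4 ∧ (k = 1 ∨ k = 2) ∧
      ∀ u ∈ c.U, (χ : G → ℂ) (d.z * u) = (k : ℂ) * c.lamF u := by
  classical
  have hψ0 := c.psiZ_principal_eq_zero hM hh hw hne
  have hnot : ∀ (χ : IrrCharacter G) (e : ℤ), e * e = 1 → c.psiZ χ = e →
      (4 : ℤ) ∣ e * degZ χ - 1 ∧ e * degZ χ ≠ 1 := by
    intro χ e he hψ
    refine ⟨c.signed_mod_four hM hh he hψ, fun e1 => ?_⟩
    have hd := Int.eq_one_of_mul_eq_one_left (degZ_pos χ).le e1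
    have := eq_principal_of_deg_one hnc (χ := χ) (by unfold degZ at hd; exact_mod_cast hd)
    rw [this, hψ0] at hψ
    rw [← hψ] at he
    norm_num at he
  have finish : ∀ (p q r : IrrCharacter G), Shape.Triple (c.v 1) c.psiZ p q r →
      c.psiZ p = c.v 1 p → c.psiZ q = c.v 1 q → c.psiZ r = 2 * c.v 1 r →
      ∃ (χ : IrrCharacter G) (k : ℤ), (charDegree (χ : G → ℂ) : ℤ) = k + 4 ∧ (k = 1 ∨ k = 2) ∧
        ∀ u ∈ c.U, (χ : G → ℂ) (d.z * u) = (k : ℂ) * c.lamF u := by
    intro p q r T hp hq hr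
    obtain ⟨X, hX4, hX1, hX⟩ := c.triv_key hM hnc hh h2 hev
      (Finset.mem_Ico.2 ⟨le_rfl, h2⟩ : 1 ∈ Finset.Ico 1 h)
    have hsum := c.sum_triple hM hh (by omega) T (by rw [hp]; exact T.fp) (by rw [hq]; exact T.fq)
    rw [c.key_indep (by omega), hX] at hsum
    have hFq : Numeric.Fq (c.v 1 p * degZ p : ℤ) (c.v 1 q * degZ q : ℤ) = Numeric.Fq 1 (X : ℤ) := by
      exact_mod_cast hsum.symm
    obtain ⟨a4, a1⟩ := hnot p _ T.fp hp
    obtain ⟨b4, b1⟩ := hnot q _ T.fq hq
    have hdeg : c.v 1 p * degZ p + c.v 1 q * degZ q + c.v 1 r * degZ r = 0 := by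
      rw [← T.sum_eq (fun χ => c.v 1 χ * degZ χ) (fun x hx => by rw [hx, zero_mul])]
      exact c.sum_v_deg (by omega)
    have mk : ∀ (s : IrrCharacter G) (k : ℤ), c.psiZ s = k → degZ s = k + 4 → (k = 1 ∨ k = 2) →
        ∃ (χ : IrrCharacter G) (k : ℤ), (charDegree (χ : G → ℂ) : ℤ) = k + 4 ∧ (k = 1 ∨ k = 2) ∧
          ∀ u ∈ c.U, (χ : G → ℂ) (d.z * u) = (k : ℂ) * c.lamF u := by
      intro s k hs hs' hk
      refine ⟨s, k, hs', hk, fun u hu => ?_⟩
      rw [(c.value_of_psi hM hh (by omega : c.psiZ s ≠ 0)).2 u hu, hs]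
    have sgn : ∀ (s : IrrCharacter G) (n : ℤ), 0 < n → c.v 1 s * c.v 1 s = 1 →
        c.v 1 s * degZ s = n → c.v 1 s = 1 ∧ degZ s = n := by
      intro s n hn hs he
      rcases Int.eq_one_or_neg_one_of_mul_eq_one hs with e | e
      · rw [e, one_mul] at he; exact ⟨e, he⟩
      · have := degZ_pos s
        rw [e] at he
        omega
    rcases Numeric.pair_solutions a4 b4 hX4 a1 b1 hX1 hFq with ⟨ha, -⟩ | ⟨hb, -⟩ | ⟨ha, hb⟩ | ⟨hb, ha⟩
    · obtain ⟨e1, e2⟩ := sgn p 5 (by norm_num) T.fp ha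
      exact mk p 1 (hp.trans e1) (by omega) (Or.inl rfl)
    · obtain ⟨e1, e2⟩ := sgn q 5 (by norm_num) T.fq hb
      exact mk q 1 (hq.trans e1) (by omega) (Or.inl rfl)
    · obtain ⟨e1, e2⟩ := sgn r 6 (by norm_num) T.fr (by omega)
      exact mk r 2 (by rw [hr, e1]; norm_num) (by omega) (Or.inr rfl)
    · obtain ⟨e1, e2⟩ := sgn r 6 (by norm_num) T.fr (by omega)
      exact mk r 2 (by rw [hr, e1]; norm_num) (by omega) (Or.inr rfl)
  rcases c.shape_apply hM hh h2 hev with hA | ⟨-, -, p, q, r, T, hp, hq, hr, -, -⟩ |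
      ⟨h3, p, q, r, T, hp, hq, hrel⟩
  · obtain ⟨p, q, r, T, hp, hq, hr⟩ := hA 1 (Finset.mem_Ico.2 ⟨le_rfl, h2⟩)
    exact finish p q r T hp hq (by rw [hr]; norm_num)
  · exact finish p q r T hp hq hr
  · exfalso
    obtain ⟨X, hX4, hX1, hX⟩ := c.triv_key hM hnc hh h2 hev
      (Finset.mem_Ico.2 ⟨by norm_num, h3⟩ : 2 ∈ Finset.Ico 1 h)
    have hsum := c.sum_triple hM hh (by omega) T hp hq
    rw [c.key_indep (by omega), hX] at hsum
    have hFq : Numeric.Fq (c.v 2 p * degZ p : ℤ) (c.v 2 q * degZ q : ℤ) = Numeric.Fq 1 (X : ℤ) := by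
      exact_mod_cast hsum.symm
    have hzero : Numeric.Fq (c.v 2 p * degZ p : ℤ) (c.v 2 q * degZ q : ℤ) = 0 := by
      rw [hrel]
      unfold Numeric.Fq
      ring
    have := Numeric.Fq_one_ge hX4 hX1
    rw [← hFq, hzero] at this
    norm_num at this

/-- The four group case. -/
theorem klein_eq_one (hm : d.m = 2) {w : G} (hw : w ∈ c.U) : c.lamF w = 1 := by
  classical
  by_contra hne
  have hh : d.m = 2 * 1 := hm
  have hψ0 := c.psiZ_principal_eq_zero hM hh hw hne
  have hfour : ∀ (e : LinCtx P d), (∀ x ∈ Shape.supp (e.v 1), e.v 1 x * e.v 1 x = 1) ∧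
      (Shape.supp (e.v 1)).card = 4 := fun e =>
    Shape.four_entries (by rw [e.gram one_pos (by omega) one_pos (by omega)]; simp [hm]) degZ_pos
      (e.sum_v_deg (by omega))
  have hdat : ∀ (e : LinCtx P d),
      (∑ x ∈ Shape.supp (e.v 1), e.v 1 x * degZ x = 0) ∧
      ∑ χ : IrrCharacter G, (e.v 1 χ : ℂ) * (χ : G → ℂ) d.z ^ 2 / (χ : G → ℂ) 1 =
        ∑ x ∈ Shape.supp (e.v 1), (((1 : ℚ) / ((e.v 1 x * degZ x : ℤ) : ℚ) : ℚ) : ℂ) := by
    intro e
    refine ⟨?_, ?_⟩
    · rw [← e.sum_v_deg (j := 1) (by omega)]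
      exact Finset.sum_subset (Finset.subset_univ _) fun x _ hx => by
        rw [show e.v 1 x = 0 from by_contra fun h0 => hx (Shape.mem_supp.2 h0), zero_mul]
    · rw [← Finset.sum_subset (Finset.subset_univ (Shape.supp (e.v 1))) fun x _ hx => by
        rw [show e.v 1 x = 0 from by_contra fun h0 => hx (Shape.mem_supp.2 h0), Int.cast_zero,
          zero_mul, zero_div]]
      refine Finset.sum_congr rfl fun x hx => ?_
      have h1 := (hfour e).1 x hx
      have hψ := e.psiZ_klein hm x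
      have hz := (e.value_of_psi hM hh (by rw [hψ]; exact Shape.mem_supp.1 hx)).1
      have h1' : (e.v 1 x : ℂ) * (e.v 1 x : ℂ) = 1 := by exact_mod_cast h1
      have hv : (e.v 1 x : ℂ) ≠ 0 := left_ne_zero_of_mul_eq_one h1'
      have hd : (charDegree (x : G → ℂ) : ℂ) ≠ 0 := Nat.cast_ne_zero.2 (charDegree_pos x).ne'
      rw [hz, hψ, irr_one_eq_charDegree]
      simp only [degZ]
      push_cast
      field_simp
      linear_combination ((e.v 1 x : ℂ) * e.v 1 x + 1) * h1'
  have hmk : ∀ (e : LinCtx P d), ∀ x ∈ Shape.supp (e.v 1),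
      (4 : ℤ) ∣ e.v 1 x * degZ x - 1 := fun e x hx =>
    e.signed_mod_four hM hh ((hfour e).1 x hx) (e.psiZ_klein hm x)
  have hkill : ∀ (e : LinCtx P d), ∀ x ∈ Shape.supp (e.v 1), e.v 1 x * degZ x = -3 →
      (charDegree (x : G → ℂ) : ℤ) = (-1 : ℤ) + 4 ∧
        ∀ u ∈ e.U, (x : G → ℂ) (d.z * u) = ((-1 : ℤ) : ℂ) * e.lamF u := by
    intro e x hx hx3
    rcases Int.eq_one_or_neg_one_of_mul_eq_one ((hfour e).1 x hx) with h1 | h1
    · rw [h1] at hx3
      have := degZ_pos x
      omega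
    · rw [h1] at hx3
      refine ⟨by unfold degZ at hx3; omega, fun u hu => ?_⟩
      have hψ : e.psiZ x = -1 := (e.psiZ_klein hm x).trans h1
      rw [(e.value_of_psi hM hh (by rw [hψ]; norm_num)).2 u hu, hψ]
  -- no three in the block of the character
  have hA3 : ∀ x ∈ Shape.supp (c.v 1), c.v 1 x * degZ x ≠ -3 := by
    intro x hx hx3
    obtain ⟨hdeg, hval⟩ := hkill c x hx hx3
    exact hne (c.lamF_eq_one hnc hdeg (Or.inl rfl) hval hh (Or.inl ⟨rfl, rfl⟩) hw)
  -- no three in the principal block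
  have hB3 : ∀ x ∈ Shape.supp (c.triv.v 1), c.triv.v 1 x * degZ x ≠ -3 := by
    intro x hx hx3
    obtain ⟨hdeg, hval⟩ := hkill c.triv x hx hx3
    set t := c.triv with ht
    have hab := t.abelian hnc hdeg (Or.inl rfl) hval
    have hone : ∀ u ∈ c.U, t.lamF u = 1 := fun u hu => by
      rw [t.lamF_mem (c.le hu)]
      simp [ht, LinCtx.triv]
    have hinv : ∀ u ∈ c.U, d.y * u * d.y⁻¹ = u⁻¹ := by
      intro u hu
      have hu' : d.y * u * d.y⁻¹ ∈ c.U := c.conj_mem _ (P_le d.hy) u hu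
      refine eq_inv_of_mul_eq_one_right ?_
      have hyi : d.y⁻¹ = d.y := inv_eq_of_mul_eq_one_right d.yy
      have hcy : Commute (u * (d.y * u * d.y⁻¹)) d.y := by
        have h1 : u * (d.y * u * d.y⁻¹) = d.y * u * d.y⁻¹ * u :=
          congrArg Subtype.val (hab ⟨u, hu⟩ ⟨_, hu'⟩)
        show u * (d.y * u * d.y⁻¹) * d.y = d.y * (u * (d.y * u * d.y⁻¹))
        conv_rhs => rw [h1]
        simp only [hyi, mul_assoc, d.yy, mul_one]
        rw [← mul_assoc d.y d.y, d.yy, one_mul]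
      refine t.klein_fixed hnc hdeg (Or.inl rfl) hval hm rfl (mul_mem hu hu') fun s hs => ?_
      have hxz : d.x = d.z := by
        rw [DihBlock.z_eq d hh, pow_one]
      have hcx : Commute (u * (d.y * u * d.y⁻¹)) d.x := by
        rw [hxz]; exact mem_secC.1 (c.le (mul_mem hu hu'))
      rcases d.cases s hs with ⟨i, rfl⟩ | ⟨i, rfl⟩
      · exact hcx.zpow_right i
      · exact (hcx.zpow_right i).mul_right hcy
    have hc' : ∀ u : c.U, Commute (u : G) d.z := fun u => mem_secC.1 (c.le u.2)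
    have hch := exists_eigenChar (H := c.U) (irr_isCharacter x) d.zz hc' (e := 1) (Or.inl rfl)
    have hone1 : (x : G → ℂ) d.z = -1 := by
      have := hval 1 (one_mem _)
      rw [mul_one, hone 1 (one_mem _), mul_one] at this
      simpa using this
    obtain ⟨al, hal⟩ := exists_hom_of_degree_one hch (by
      rw [OneMemClass.coe_one, mul_one, hone1, irr_one_eq_charDegree,
        show ((charDegree (x : G → ℂ) : ℂ)) = ((-1 + 4 : ℤ) : ℂ) by exact_mod_cast hdeg]
      norm_num)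
    have hU : ∀ u : c.U, u = 1 := by
      intro u
      have hxu : (x : G → ℂ) (u : G) = 2 * (al u : ℂ) + 1 := by
        have h1 := congrFun hal u
        simp only [hval (u : G) u.2, hone _ u.2] at h1
        push_cast at h1
        linear_combination 2 * h1
      have hreal : conj ((x : G → ℂ) (u : G)) = (x : G → ℂ) (u : G) := by
        rw [← irr_inv, ← hinv u u.2, irr_conj_invariant]
      have hal1 : al u = 1 := by
        have h1 : conj ((al u : ℂ)) = (al u : ℂ) := by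
          rw [hxu, map_add, map_mul, map_ofNat, map_one] at hreal
          linear_combination hreal / 2
        rw [Cfsg.Agent.BrauerPairs.conj_linear] at h1
        have h2 : al u ^ 2 = 1 := Units.ext (by
          rw [Units.val_pow_eq_pow_val, Units.val_one, pow_two]
          nth_rewrite 1 [← h1]
          exact inv_mul_cancel₀ (al u).ne_zero)
        have h3 : al u ^ Nat.card c.U = 1 := by rw [← map_pow, pow_card_eq_one', map_one]
        exact orderOf_eq_one_iff.1 (Nat.eq_one_of_dvd_coprimes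
          ((Nat.prime_two.coprime_iff_not_dvd).2 c.odd.not_two_dvd_nat)
          (orderOf_dvd_of_pow_eq_one h2) (orderOf_dvd_of_pow_eq_one h3))
      refine Subtype.ext (faithful_of_simple (χ := x) (by omega) ?_)
      rw [hxu, hal1, irr_one_eq_charDegree,
        show ((charDegree (x : G → ℂ) : ℂ)) = ((-1 + 4 : ℤ) : ℂ) by exact_mod_cast hdeg]
      norm_num
    refine hne ?_
    have := congrArg Subtype.val (hU ⟨w, hw⟩)
    rw [OneMemClass.coe_one] at this
    rw [show w = 1 from this, c.lamF_mem (one_mem _),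
      show (⟨1, one_mem (secC d.z)⟩ : secC d.z) = 1 from rfl, map_one, Units.val_one]
  have hkey := c.key_indep (j := 1) (by omega)
  rw [(hdat c).2, (hdat c.triv).2] at hkey
  have hprin : principal G ∈ Shape.supp (c.triv.v 1) := Shape.mem_supp.2 (by
    rw [c.triv_v_principal one_pos (by omega)]; exact one_ne_zero)
  obtain ⟨a, b, e, f, hab, hae, haf, hbe, hbf, hef, hA⟩ := Finset.card_eq_four.1 (hfour c).2
  have hB : ((Shape.supp (c.triv.v 1)).erase (principal G)).card = 3 := by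
    rw [Finset.card_erase_of_mem hprin, (hfour c.triv).2]
  obtain ⟨x, y, z, hxy, hxz, hyz, hB'⟩ := Finset.card_eq_three.1 hB
  have hBsum : ∀ {A : Type} [AddCommMonoid A] (g : IrrCharacter G → A),
      ∑ s ∈ Shape.supp (c.triv.v 1), g s = g (principal G) + (g x + (g y + g z)) := by
    intro A _ g
    rw [← Finset.add_sum_erase _ _ hprin, hB', Finset.sum_insert (by simp [hxy, hxz]),
      Finset.sum_pair hyz]
  have hAsum : ∀ {A : Type} [AddCommMonoid A] (g : IrrCharacter G → A),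
      ∑ s ∈ Shape.supp (c.v 1), g s = g a + (g b + (g e + g f)) := by
    intro A _ g
    rw [hA, Finset.sum_insert (by simp [hab, hae, haf]), Finset.sum_insert (by simp [hbe, hbf]),
      Finset.sum_pair hef]
  have hdp : c.triv.v 1 (principal G) * degZ (principal G) = 1 := by
    rw [c.triv_v_principal one_pos (by omega)]
    simp [degZ, principal, charDegree]
  have hs := (hdat c).1
  rw [hAsum] at hs
  have hs' := (hdat c.triv).1
  rw [hBsum, hdp] at hs'
  rw [hAsum, hBsum, hdp] at hkey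
  have hin : ∀ s, s = a ∨ s = b ∨ s = e ∨ s = f → s ∈ Shape.supp (c.v 1) := by
    intro s hs; rw [hA]; simpa using hs
  have hin' : ∀ s, s = x ∨ s = y ∨ s = z →
      s ∈ Shape.supp (c.triv.v 1) ∧ s ≠ principal G := by
    intro s hs
    have : s ∈ (Shape.supp (c.triv.v 1)).erase (principal G) := by rw [hB']; simpa using hs
    exact ⟨(Finset.mem_erase.1 this).2, (Finset.mem_erase.1 this).1⟩
  have hA1 : ∀ s ∈ Shape.supp (c.v 1), c.v 1 s * degZ s ≠ 1 := by
    intro s hs' e1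
    have hd := Int.eq_one_of_mul_eq_one_left (degZ_pos s).le e1
    have := eq_principal_of_deg_one hnc (χ := s) (by unfold degZ at hd; exact_mod_cast hd)
    rw [this] at hs'
    have h0 := c.psiZ_klein hm (principal G)
    rw [hψ0] at h0
    exact Shape.mem_supp.1 hs' h0.symm
  have hB1 : ∀ s, s = x ∨ s = y ∨ s = z → c.triv.v 1 s * degZ s ≠ 1 := by
    intro s hs0 e1
    have hd := Int.eq_one_of_mul_eq_one_left (degZ_pos s).le e1
    exact (hin' s hs0).2 (eq_principal_of_deg_one hnc (by unfold degZ at hd; exact_mod_cast hd))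
  refine Numeric.four_impossible (hmk c a (hin a (by simp))) (hmk c b (hin b (by simp)))
    (hmk c e (hin e (by simp))) (hmk c f (hin f (by simp)))
    (hmk c.triv x (hin' x (by simp)).1) (hmk c.triv y (hin' y (by simp)).1)
    (hmk c.triv z (hin' z (by simp)).1)
    ⟨hA1 _ (hin a (by simp)), hA1 _ (hin b (by simp)), hA1 _ (hin e (by simp)),
      hA1 _ (hin f (by simp)), hB1 x (by simp), hB1 y (by simp), hB1 z (by simp)⟩
    ⟨hA3 _ (hin a (by simp)), hA3 _ (hin b (by simp)), hA3 _ (hin e (by simp)),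
      hA3 _ (hin f (by simp)), hB3 _ (hin' x (by simp)).1, hB3 _ (hin' y (by simp)).1,
      hB3 _ (hin' z (by simp)).1⟩ (by omega) (by omega) ?_
  have h3 := hkey
  simp only [← Rat.cast_add, Rat.cast_inj, Int.cast_one, one_div_one] at h3
  linarith [h3]

end LinCtx

/-- The linear character theorem. -/
theorem linear_eq_one [IsSimpleGroup G] (hnc : ¬ ∀ a b : G, a * b = b * a) (P : Sylow 2 G)
    (d : Dih (P : Subgroup G)) (U : Subgroup G)
    (hUle : U ≤ Subgroup.centralizer ({d.z} : Set G))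
    (hUn : ∀ g ∈ Subgroup.centralizer ({d.z} : Set G), ∀ w ∈ U, g * w * g⁻¹ ∈ U)
    (hodd : Odd (Nat.card U))
    (hcard : Nat.card (Subgroup.centralizer ({d.z} : Set G)) =
      Nat.card U * Nat.card (P : Subgroup G))
    (μ : U →* ℂˣ)
    (hμ : ∀ s ∈ (P : Subgroup G), ∀ w w' : U, (w' : G) = s * (w : G) * s⁻¹ → μ w' = μ w)
    (hcoh : ∀ v ∈ (P : Subgroup G), v * v = 1 → v ≠ 1 → v ≠ d.z → ∃ k : G, k * d.z * k⁻¹ = v ∧
      k ∈ Subgroup.normalizer (Subgroup.closure ({d.z, v} : Set G) : Set G) ∧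
      ∀ w w' : U, Commute (w : G) v → (w' : G) = k * (w : G) * k⁻¹ → μ w' = μ w) :
    μ = 1 := by
  classical
  rw [← secC_eq] at hUle hUn hcard
  let c₀ : LinCtx P d :=
    { U := U, le := hUle, conj_mem := hUn, odd := hodd, card_eq := hcard
      lin := 1, lin_P := fun _ _ => rfl
      coh := fun v hv h1 h2 h3 => by
        obtain ⟨k, hk, hk', -⟩ := hcoh v hv h1 h2 h3
        exact ⟨k, hk, hk', fun _ _ _ _ _ _ => rfl⟩ }
  let lin : secC d.z →* ℂˣ :=
    { toFun := fun g => μ ⟨(g : G) * ((c₀.pi g : (P : Subgroup G)) : G)⁻¹, c₀.div_pi_mem g⟩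
      map_one' := by
        rw [← μ.map_one]
        exact congrArg μ (Subtype.ext (by simp))
      map_mul' := fun g g' => by
        set a : U := ⟨(g : G) * ((c₀.pi g : (P : Subgroup G)) : G)⁻¹, c₀.div_pi_mem g⟩
        set b : U := ⟨(g' : G) * ((c₀.pi g' : (P : Subgroup G)) : G)⁻¹, c₀.div_pi_mem g'⟩
        set b' : U := ⟨((c₀.pi g : (P : Subgroup G)) : G) * (b : G) *
          ((c₀.pi g : (P : Subgroup G)) : G)⁻¹, hUn _ (LinBase.P_le (c₀.pi g).2) _ b.2⟩
        rw [← hμ _ (c₀.pi g).2 b b' rfl, ← μ.map_mul]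
        refine congrArg μ (Subtype.ext ?_)
        simp only [Subgroup.coe_mul, map_mul, mul_inv_rev, a, b, b']
        group }
  have hlin : ∀ (g : secC d.z) (hg : (g : G) ∈ U), lin g = μ ⟨g, hg⟩ := fun g hg => by
    refine congrArg μ (Subtype.ext ?_)
    show (g : G) * ((c₀.pi g : (P : Subgroup G)) : G)⁻¹ = g
    rw [c₀.pi_U hg]
    simp
  let c : LinCtx P d :=
    { U := U, le := hUle, conj_mem := hUn, odd := hodd, card_eq := hcard
      lin := lin
      lin_P := fun s hs => by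
        rw [← μ.map_one]
        refine congrArg μ (Subtype.ext ?_)
        show (s : G) * ((c₀.pi s : (P : Subgroup G)) : G)⁻¹ = 1
        rw [c₀.pi_P hs]
        simp
      coh := fun v hv h1 h2 h3 => by
        obtain ⟨k, hk, hk', hk''⟩ := hcoh v hv h1 h2 h3
        refine ⟨k, hk, hk', fun w w' hw hw' hc he => ?_⟩
        rw [hlin w hw, hlin w' hw']
        exact hk'' ⟨w, hw⟩ ⟨w', hw'⟩ hc he }
  haveI := Fact.mk Nat.prime_two
  obtain ⟨M, hM⟩ := Cfsg.Agent.GlaubermanMod.exists_isPModular 2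
  haveI := hM.2.1
  obtain ⟨h, hh⟩ := d.even
  have hh' : h = 1 ∨ (2 ≤ h ∧ 2 ∣ h) := by
    haveI : Fact (Nat.Prime 2) := ⟨Nat.prime_two⟩
    obtain ⟨n, hn⟩ := IsPGroup.iff_card.1 P.2
    rw [d.card, hh] at hn
    have := d.two_le
    rcases n with _ | _ | _ | n
    · omega
    · omega
    · left; norm_num at hn; omega
    · right
      have : 2 ^ (n + 3) = 8 * 2 ^ n := by ring
      have := Nat.one_le_two_pow (n := n)
      exact ⟨by omega, ⟨2 ^ n, by omega⟩⟩
  refine MonoidHom.ext fun w => Units.ext ?_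
  rw [MonoidHom.one_apply, Units.val_one]
  have key : c.lamF (w : G) = 1 := by
    rcases hh' with h1 | ⟨h2, hev⟩
    · exact c.klein_eq_one hM hnc (by omega) w.2
    · by_contra hne
      obtain ⟨χ, k, hdeg, hk, hval⟩ := c.exists_small hM hnc hh h2 hev w.2 hne
      exact hne (c.lamF_eq_one hnc hdeg (Or.inr hk) hval hh (Or.inr hev) w.2)
  rw [c.lamF_mem (hUle w.2)] at key
  show (μ w : ℂ) = 1
  rw [← key]
  exact congrArg Units.val (hlin ⟨w, hUle w.2⟩ w.2).symm

end Cfsg.Agent.GW
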