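import Cfsg.Agent.Lib.GW.AutTarget
import Cfsg.Agent.Lib.Transfer.Basic
import Cfsg.Agent.Lib.Char.Burnside

/-!
Consequences of the simple case for arbitrary groups with dihedral Sylow 2-subgroups.
-/

set_option autoImplicit false

namespace Cfsg.Agent.GW

universe u

variable {X : Type u} [Group X] [Finite X]

theorem DihSylow.quotient (h : DihSylow X) (N : Subgroup X) [N.Normal] (hN : Odd (Nat.card N)) :
    DihSylow (X ⧸ N) := by
  haveI : Fact (Nat.Prime 2) := ⟨Nat.prime_two⟩
  obtain ⟨P, n, hn, ⟨e⟩⟩ := h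
  let Q : Sylow 2 (X ⧸ N) := P.mapSurjective (QuotientGroup.mk'_surjective N)
  let f : (P : Subgroup X) →* (Q : Subgroup (X ⧸ N)) :=
    (QuotientGroup.mk' N).subgroupMap (P : Subgroup X)
  have hinj : Function.Injective f := by
    refine (injective_iff_map_eq_one f).2 fun a ha => ?_
    have h1 : (a : X) ∈ N := by
      have := congrArg Subtype.val ha
      exact (QuotientGroup.eq_one_iff _).1 this
    have h2 : Nat.Coprime (Nat.card (P : Subgroup X)) (Nat.card N) := by
      obtain ⟨k, hk⟩ := IsPGroup.iff_card.1 P.isPGroup'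
      rw [hk]
      exact (Nat.coprime_two_left.2 hN).pow_left k
    have hd1 : orderOf (a : X) ∣ Nat.card (P : Subgroup X) := Subgroup.orderOf_dvd_natCard _ a.2
    exact Subtype.ext (orderOf_eq_one_iff.1 (Nat.eq_one_of_dvd_coprimes h2 hd1
      (Subgroup.orderOf_dvd_natCard _ h1)))
  let g : (P : Subgroup X) ≃* (Q : Subgroup (X ⧸ N)) :=
    MulEquiv.ofBijective f ⟨hinj, (QuotientGroup.mk' N).subgroupMap_surjective _⟩
  exact ⟨Q, n, hn, ⟨g.symm.trans e⟩⟩

theorem knownBelow_target {N : ℕ} (hK : KnownBelow.{u} N) {Y : Type u} [Group Y] [Finite Y]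
    [IsSimpleGroup Y] (h : DihSylow Y) (hN : Nat.card Y < N) : IsTarget Y := by
  obtain ⟨P, n, hn, e⟩ := h
  exact hK Y P n hn e hN

/-- The structure modulo the odd core. -/
theorem shape_mod_core {N : ℕ} (hK : KnownBelow.{u} N) (h : DihSylow X) (hN : Nat.card X < N) :
    Shape (X ⧸ Cfsg.oddCore X) := by
  haveI : Fact (Nat.Prime 2) := ⟨Nat.prime_two⟩
  have hodd : Odd (Nat.card (Cfsg.oddCore X)) :=
    Nat.coprime_two_right.1 (PBasic.pPrimeCore_coprime 2 X)
  refine shape (h.quotient _ hodd) (PBasic.pPrimeCore_quotient_pPrimeCore 2 X)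
    fun L _ hL hd => ?_
  haveI := hL
  refine knownBelow_target hK hd (lt_of_le_of_lt ?_ hN)
  exact (Subgroup.card_le_card_group L).trans
    (Nat.le_of_dvd Nat.card_pos (Subgroup.card_quotient_dvd_card _))

theorem shape_solvable_or {Y : Type u} [Group Y] [Finite Y] (hs : Shape Y) :
    Group.IsSolvable Y ∨ ∃ L : Subgroup Y, L.Normal ∧ IsSimpleGroup L ∧ ¬ IsMulCommutative L ∧
      IsTarget L ∧ Subgroup.centralizer (L : Set Y) = ⊥ := by
  rcases hs with h | ⟨V, hV, hK, hC, hc⟩ | h
  · haveI : Fact (Nat.Prime 2) := ⟨Nat.prime_two⟩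
    haveI := h.isNilpotent
    exact Or.inl inferInstance
  · left
    haveI := hV
    haveI : Fact (Nat.Prime 2) := ⟨Nat.prime_two⟩
    haveI := klein_comm hK
    haveI : Group.IsSolvable V := Group.isSolvable_of_comm fun a b => mul_comm' a b
    haveI : Group.IsSolvable (Y ⧸ V) := by
      have hi : V.index = 3 ∨ V.index = 6 := by
        have := V.card_mul_index
        rw [hK.card_four] at this
        omega
      rcases hi with e | e
      · haveI : Fact (Nat.Prime 3) := ⟨Nat.prime_three⟩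
        exact Char.isSolvable_of_card_pq 3 2 Nat.prime_three Nat.prime_two _ _
          (show Nat.card (Y ⧸ V) = 3 ^ 1 * 2 ^ 0 by rw [← Subgroup.index_eq_card, e]; rfl)
          ⟨1, 0, rfl⟩
      · exact Char.isSolvable_of_card_pq 3 2 Nat.prime_three Nat.prime_two _ _
          (show Nat.card (Y ⧸ V) = 3 ^ 1 * 2 ^ 1 by rw [← Subgroup.index_eq_card, e]; rfl)
          ⟨1, 1, rfl⟩
    exact Group.isSolvable_of_ker_le_range V.subtype (QuotientGroup.mk' V)
      (by rw [QuotientGroup.ker_mk', Subgroup.range_subtype])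
  · exact Or.inr h

/-- The perfect case. -/
theorem perfect_case {N : ℕ} (hK : KnownBelow.{u} N) (h : DihSylow X) (hN : Nat.card X < N)
    [hp : Group.IsPerfect X] : IsTarget (X ⧸ Cfsg.oddCore X) := by
  classical
  haveI : Fact (Nat.Prime 2) := ⟨Nat.prime_two⟩
  set Q := X ⧸ Cfsg.oddCore X
  have hQd : DihSylow Q := h.quotient _ (Nat.coprime_two_right.1 (PBasic.pPrimeCore_coprime 2 X))
  have hsolv : ∀ (R : Type u) [Group R] [Finite R] (f : X →* R), Function.Surjective f →
      Group.IsSolvable R → Subsingleton R := by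
    intro R _ _ f hf hs
    haveI := hs
    haveI : Group.IsPerfect R := Group.IsPerfect.ofSurjective hf
    by_contra hne
    haveI : Nontrivial R := not_subsingleton_iff_nontrivial.1 hne
    exact absurd Group.IsPerfect.commutator_eq_top
      (Group.IsSolvable.commutator_lt_top_of_nontrivial R).ne
  rcases shape_solvable_or (shape_mod_core hK h hN) with hs | ⟨L, hL, hs, hnc, ht, hC⟩
  · haveI := hsolv Q (QuotientGroup.mk' _) (QuotientGroup.mk'_surjective _) hs
    have h2 := hQd.two_dvd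
    rw [Nat.card_unique] at h2
    omega
  · haveI := hL
    have := hsolv (Q ⧸ L) ((QuotientGroup.mk' L).comp (QuotientGroup.mk' _))
      ((QuotientGroup.mk'_surjective _).comp (QuotientGroup.mk'_surjective _))
      (quotient_solvable hC ht)
    have htop : L = ⊤ := QuotientGroup.subgroup_eq_top_of_subsingleton L this
    subst htop
    rcases ht with ⟨F, i1, i2, h1, h2, ⟨e⟩⟩ | ht
    · exact Or.inl ⟨F, i1, i2, h1, h2, ⟨Subgroup.topEquiv.symm.trans e⟩⟩
    · obtain ⟨e⟩ := ht
      exact Or.inr ⟨Subgroup.topEquiv.symm.trans e⟩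

/-- Row S0483 from the simple case. -/
theorem s0483 (hG : SimpleDihedral.{u}) [Group.IsPerfect X] (S : Sylow 2 X) (n : ℕ) (hn : 2 ≤ n)
    (hS : Nonempty ((S : Subgroup X) ≃* DihedralGroup n)) :
    (∃ (F : Type) (_ : Field F) (_ : Fintype F), Odd (Fintype.card F) ∧ 3 < Fintype.card F ∧
        Nonempty (X ⧸ Cfsg.oddCore X ≃* Matrix.ProjectiveSpecialLinearGroup (Fin 2) F)) ∨
      Nonempty (X ⧸ Cfsg.oddCore X ≃* alternatingGroup (Fin 7)) :=
  perfect_case (knownBelow_of_simple hG _) ⟨S, n, hn, hS⟩ (Nat.lt_succ_self _)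

end Cfsg.Agent.GW
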