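import Mathlib.GroupTheory.SpecificGroups.Alternating
import Mathlib.GroupTheory.Perm.Cycle.Type
import Mathlib.Data.Fintype.Perm

/-!
A certificate in `A₇`: an odd element inverted by a double transposition generates, with a conjugate under
the centraliser of that involution, a product of even order; so it does with the 3-cycle fixed by that
involution, the only elements of odd order commuting with it.
-/

set_option autoImplicit false

namespace Cfsg.Agent.GW.A7Cert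

/-- A double transposition. -/
def v7 : Fin 7 → Fin 7 := ![1,0,3,2,4,5,6]
def c1 : Fin 7 → Fin 7 := ![0,1,2,3,5,6,4]
def c1' : Fin 7 → Fin 7 := ![0,1,2,3,6,4,5]
def c2 : Fin 7 → Fin 7 := ![2,3,1,0,4,6,5]
def c2' : Fin 7 → Fin 7 := ![3,2,0,1,4,6,5]
def c3 : Fin 7 → Fin 7 := ![2,3,1,0,5,4,6]
def c3' : Fin 7 → Fin 7 := ![3,2,0,1,5,4,6]
/-- Of order dividing 3, 5 or 7. -/
def OddSmall (f : Fin 7 → Fin 7) : Prop :=
  (∀ i, f (f (f i)) = i) ∨ (∀ i, f (f (f (f (f i)))) = i) ∨ (∀ i, f (f (f (f (f (f (f i)))))) = i)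
instance : DecidablePred OddSmall := fun f => by unfold OddSmall; infer_instance
/-- The condition checked for each permutation. -/
def Chk (f : Fin 7 → Fin 7) : Prop :=
  ((∀ i, v7 (f (v7 (f i))) = i) → OddSmall f →
    ((∀ i, f i = i) ∨ ¬ OddSmall (fun i => f (c1 (f (c1' i)))) ∨
      ¬ OddSmall (fun i => f (c2 (f (c2' i)))) ∨ ¬ OddSmall (fun i => f (c3 (f (c3' i))))) ∧
    ((∀ i, f i = i) ∨ ¬ OddSmall (fun i => f (c1 (f (c1' i)))) ∨
      ¬ OddSmall (fun i => f (f (c1 (f (c1' i))))))) ∧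
  ((∀ i, v7 (f i) = f (v7 i)) → OddSmall f →
    (∀ i, f i = i) ∨ (∀ i, f i = c1 i) ∨ ∀ i, f i = c1' i)
instance : DecidablePred Chk := fun f => by unfold Chk; infer_instance
set_option maxHeartbeats 0 in
set_option synthInstance.maxSize 10000 in
set_option synthInstance.maxHeartbeats 0 in
set_option maxRecDepth 10000 in
theorem a7_cert : ∀ a b : Fin 7, b ≠ a → ∀ c, c ≠ a → c ≠ b → ∀ d, d ≠ a → d ≠ b → d ≠ c →
    ∀ e, e ≠ a → e ≠ b → e ≠ c → e ≠ d → ∀ g, g ≠ a → g ≠ b → g ≠ c → g ≠ d → g ≠ e →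
    ∀ h, h ≠ a → h ≠ b → h ≠ c → h ≠ d → h ≠ e → h ≠ g → Chk ![a, b, c, d, e, g, h] := by
  decide +kernel

end Cfsg.Agent.GW.A7Cert
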