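import Cfsg.Agent.Lib.GW.OddInvPSL
import Cfsg.Agent.Lib.GW.OddInvA7
import Cfsg.Agent.Lib.GW.Consequences
import Cfsg.Agent.Lib.DGroup.TICanon

/-!
Odd subgroups of a group with dihedral Sylow 2-subgroups normalised by the centraliser of an involution, or
by a four-group.
-/

set_option autoImplicit false

namespace Cfsg.Agent.GW

universe u

/-- The permutations of the certificate. -/
def pv7 : Equiv.Perm (Fin 7) :=
  ⟨A7Cert.v7, A7Cert.v7, fun i => by revert i; decide, fun i => by revert i; decide⟩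
def pc1 : Equiv.Perm (Fin 7) :=
  ⟨A7Cert.c1, A7Cert.c1', fun i => by revert i; decide, fun i => by revert i; decide⟩
def pc2 : Equiv.Perm (Fin 7) :=
  ⟨A7Cert.c2, A7Cert.c2', fun i => by revert i; decide, fun i => by revert i; decide⟩
def pc3 : Equiv.Perm (Fin 7) :=
  ⟨A7Cert.c3, A7Cert.c3', fun i => by revert i; decide, fun i => by revert i; decide⟩

theorem oddSmall_of_odd (p : Equiv.Perm (Fin 7)) (h : Odd (orderOf p)) :
    A7Cert.OddSmall p := by
  classical
  have hsum : p.cycleType.sum ≤ 7 := by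
    rw [Equiv.Perm.sum_cycleType]
    exact (Finset.card_le_univ _).trans_eq (Fintype.card_fin 7)
  have hparts : ∀ n ∈ p.cycleType, n = 3 ∨ n = 5 ∨ n = 7 := by
    intro n hn
    have h2 := Equiv.Perm.two_le_of_mem_cycleType hn
    have hle : n ≤ 7 := (Multiset.le_sum_of_mem hn).trans hsum
    obtain ⟨k, hk⟩ := h.of_dvd_nat (Equiv.Perm.dvd_of_mem_cycleType hn)
    omega
  obtain ⟨n, hn, hdvd⟩ : ∃ n, (n = 3 ∨ n = 5 ∨ n = 7) ∧ orderOf p ∣ n := by
    by_cases h3 : ∀ n ∈ p.cycleType, n = 3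
    · refine ⟨3, Or.inl rfl, ?_⟩
      rw [← Equiv.Perm.lcm_cycleType]
      exact Multiset.lcm_dvd.2 fun n hn => by rw [h3 n hn]
    push Not at h3
    obtain ⟨n, hn, hn3⟩ := h3
    refine ⟨n, hparts n hn, ?_⟩
    rw [← Equiv.Perm.lcm_cycleType]
    refine Multiset.lcm_dvd.2 fun m hm => ?_
    by_contra hmn
    have hm' : m ∈ p.cycleType.erase n :=
      (Multiset.mem_erase_of_ne fun e => hmn (by rw [e])).2 hm
    have h1 := Multiset.le_sum_of_mem hm'
    have h2 : n + (p.cycleType.erase n).sum = p.cycleType.sum := by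
      rw [← Multiset.sum_cons, Multiset.cons_erase hn]
    have := hparts n hn
    have := hparts m hm
    omega
  have := orderOf_dvd_iff_pow_eq_one.1 hdvd
  rcases hn with rfl | rfl | rfl
  · exact Or.inl fun i => by simpa [pow_succ] using DFunLike.congr_fun this i
  · exact Or.inr (Or.inl fun i => by simpa [pow_succ] using DFunLike.congr_fun this i)
  · exact Or.inr (Or.inr fun i => by simpa [pow_succ] using DFunLike.congr_fun this i)

theorem chk_perm (p : Equiv.Perm (Fin 7)) : A7Cert.Chk p := by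
  have ne : ∀ {i j : Fin 7}, i ≠ j → p i ≠ p j := fun h => p.injective.ne h
  have h := A7Cert.a7_cert (p 0) (p 1) (ne (by decide)) (p 2) (ne (by decide)) (ne (by decide))
    (p 3) (ne (by decide)) (ne (by decide)) (ne (by decide))
    (p 4) (ne (by decide)) (ne (by decide)) (ne (by decide)) (ne (by decide))
    (p 5) (ne (by decide)) (ne (by decide)) (ne (by decide)) (ne (by decide)) (ne (by decide))
    (p 6) (ne (by decide)) (ne (by decide)) (ne (by decide)) (ne (by decide)) (ne (by decide))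
    (ne (by decide))
  have e : (![p 0, p 1, p 2, p 3, p 4, p 5, p 6] : Fin 7 → Fin 7) = p := by
    funext i; fin_cases i <;> rfl
  rwa [e] at h

variable {X : Type u} [Group X] [Finite X]

omit [Finite X] in
theorem seven_model (e : X ≃* alternatingGroup (Fin 7)) {v : X} (hv : orderOf v = 2) :
    ∃ κ : X →* Equiv.Perm (Fin 7), Function.Injective κ ∧ κ v = pv7 ∧
      ∀ p, Equiv.Perm.sign p = 1 → ∃ x, κ x = p := by
  classical
  set w : Equiv.Perm (Fin 7) := (e v : Equiv.Perm (Fin 7)) with hw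
  have hwo : orderOf w = 2 := by
    rw [hw, Subgroup.orderOf_coe, MulEquiv.orderOf_eq, hv]
  have hsgn : Equiv.Perm.sign w = 1 := Equiv.Perm.mem_alternatingGroup.1 (e v).2
  obtain ⟨k, hk⟩ := Equiv.Perm.cycleType_prime_order (σ := w) (hwo.symm ▸ Nat.prime_two)
  rw [hwo] at hk
  have hle : w.cycleType.sum ≤ 7 := by
    rw [Equiv.Perm.sum_cycleType]
    exact (Finset.card_le_univ _).trans_eq (Fintype.card_fin 7)
  rw [Equiv.Perm.sign_of_cycleType, hk] at hsgn
  rw [hk, Multiset.sum_replicate, smul_eq_mul] at hle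
  have hk1 : k = 1 := by
    have : k ≤ 2 := by omega
    interval_cases k
    · exact absurd hsgn (by decide)
    · rfl
    · exact absurd hsgn (by decide)
  subst hk1
  obtain ⟨g, hg⟩ := isConj_iff.1 (show IsConj w pv7 from
    Equiv.Perm.isConj_iff_cycleType_eq.2 (by rw [hk]; decide +kernel))
  refine ⟨(MulAut.conj g).toMonoidHom.comp ((alternatingGroup (Fin 7)).subtype.comp e.toMonoidHom),
    (MulAut.conj g).injective.comp (Subtype.val_injective.comp e.injective), hg, fun p hp => ?_⟩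
  refine ⟨e.symm ⟨g⁻¹ * p * g, Equiv.Perm.mem_alternatingGroup.2 (by simp [hp])⟩, ?_⟩
  simp [mul_assoc]

theorem inv_pv7 : pv7⁻¹ = pv7 := by decide +kernel

theorem odd_invariant_seven (e : X ≃* alternatingGroup (Fin 7)) {v : X} (hv : orderOf v = 2)
    {Q : Subgroup X} (hQ : Odd (Nat.card Q))
    (hN : Subgroup.centralizer ({v} : Set X) ≤ Subgroup.normalizer (Q : Set X))
    {y : X} (hy : y ∈ Q) (hvy : v * y * v⁻¹ = y⁻¹) : y = 1 := by
  obtain ⟨κ, hκ, hκv, hsur⟩ := seven_model e hv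
  have hsmall : ∀ q ∈ Q, A7Cert.OddSmall (κ q) := fun q hq => oddSmall_of_odd _ (by
    rw [orderOf_injective _ hκ]; exact hQ.of_dvd_nat (Subgroup.orderOf_dvd_natCard Q hq))
  have hinv : ∀ i, A7Cert.v7 (κ y (A7Cert.v7 (κ y i))) = i := fun i => by
    have h1 : κ (v * y * v⁻¹ * y) = 1 := by rw [hvy, inv_mul_cancel, map_one]
    simp only [map_mul, map_inv, hκv, inv_pv7] at h1
    exact DFunLike.congr_fun h1 i
  have key : ∀ c : Equiv.Perm (Fin 7), Equiv.Perm.sign c = 1 → c * pv7 = pv7 * c →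
      A7Cert.OddSmall (κ y * (c * κ y * c⁻¹) : Equiv.Perm (Fin 7)) := by
    intro c hc hcv
    obtain ⟨x, rfl⟩ := hsur c hc
    have hxv : x * v = v * x := hκ (by rw [map_mul, map_mul, hκv, hcv])
    rw [← map_inv, ← map_mul, ← map_mul, ← map_mul]
    exact hsmall _ (mul_mem hy
      ((Subgroup.mem_normalizer_iff.1 (hN (Subgroup.mem_centralizer_singleton_iff.2 hxv)) y).1 hy))
  rcases (((chk_perm (κ y)).1 hinv (hsmall y hy)).1) with e1 | e1 | e1 | e1
  · exact hκ ((Equiv.ext e1).trans (map_one κ).symm)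
  · exact absurd (key pc1 (by decide +kernel) (by decide +kernel)) e1
  · exact absurd (key pc2 (by decide +kernel) (by decide +kernel)) e1
  · exact absurd (key pc3 (by decide +kernel) (by decide +kernel)) e1

theorem seven_cent (e : X ≃* alternatingGroup (Fin 7)) {w : X} (hw : orderOf w = 2)
    {D : Subgroup X} (hD : Odd (Nat.card D)) (hn : ∀ x ∈ D, w * x * w⁻¹ ∈ D) {z : X} (hz : z ∈ D)
    (hz1 : z ≠ 1) (hwz : w * z = z * w) : ∀ x ∈ D, w * x = x * w := by
  obtain ⟨κ, hκ, hκw, -⟩ := seven_model e hw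
  have hsmall : ∀ q ∈ D, A7Cert.OddSmall (κ q) := fun q hq => oddSmall_of_odd _ (by
    rw [orderOf_injective _ hκ]; exact hD.of_dvd_nat (Subgroup.orderOf_dvd_natCard D hq))
  obtain ⟨c, hc, hcκ⟩ : ∃ c ∈ D, κ c = pc1 := by
    have hcomm : ∀ i, A7Cert.v7 (κ z i) = κ z (A7Cert.v7 i) := fun i => by
      have h1 := congrArg κ hwz
      rw [map_mul, map_mul, hκw] at h1
      exact DFunLike.congr_fun h1 i
    rcases (chk_perm (κ z)).2 hcomm (hsmall z hz) with e1 | e1 | e1
    · exact absurd (hκ ((Equiv.ext e1).trans (map_one κ).symm)) hz1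
    · exact ⟨z, hz, Equiv.ext e1⟩
    · refine ⟨z⁻¹, inv_mem hz, ?_⟩
      rw [map_inv, show κ z = pc1⁻¹ from Equiv.ext e1, inv_inv]
  intro x hx
  set y := x⁻¹ * (w * x * w⁻¹) with hy
  have hyD : y ∈ D := mul_mem (inv_mem hx) (hn x hx)
  have hw2 : w * w = 1 := by rw [← pow_two, ← hw, pow_orderOf_eq_one]
  have hwl : ∀ t, w * (w * t) = t := fun t => by rw [← mul_assoc, hw2, one_mul]
  have h0 : w * y * w⁻¹ * y = 1 := by
    rw [hy, inv_eq_of_mul_eq_one_right hw2]
    simp only [mul_assoc, hwl, mul_inv_cancel_left, inv_mul_cancel_left]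
    exact hw2
  clear_value y
  have hinv : ∀ i, A7Cert.v7 (κ y (A7Cert.v7 (κ y i))) = i := fun i => by
    have h1 : κ (w * y * w⁻¹ * y) = 1 := by rw [h0, map_one]
    simp only [map_mul, map_inv, hκw, inv_pv7] at h1
    exact DFunLike.congr_fun h1 i
  have hy1 : y = 1 := by
    rcases ((chk_perm (κ y)).1 hinv (hsmall y hyD)).2 with e1 | e1 | e1
    · exact hκ ((Equiv.ext e1).trans (map_one κ).symm)
    · refine absurd ?_ e1
      have h1 := hsmall _ (mul_mem hyD (mul_mem (mul_mem hc hyD) (inv_mem hc)))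
      rw [map_mul, map_mul, map_mul, map_inv, hcκ] at h1
      exact h1
    · refine absurd ?_ e1
      have h1 := hsmall _ (mul_mem hyD (mul_mem hyD (mul_mem (mul_mem hc hyD) (inv_mem hc))))
      rw [map_mul, map_mul, map_mul, map_mul, map_inv, hcκ] at h1
      exact h1
  rw [hy, inv_mul_eq_one] at hy1
  exact mul_inv_eq_iff_eq_mul.1 hy1.symm

/-- An involution without fixed points inverts. -/
theorem inverts_of_fpf {w : X} (hw : orderOf w = 2) {D : Subgroup X}
    (hn : ∀ x ∈ D, w * x * w⁻¹ ∈ D) (hf : ∀ x ∈ D, w * x = x * w → x = 1) :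
    ∀ x ∈ D, w * x * w⁻¹ = x⁻¹ := by
  let f : D → D := fun d =>
    ⟨(d : X)⁻¹ * (w * d * w⁻¹), mul_mem (inv_mem d.2) (hn d d.2)⟩
  have hinj : Function.Injective f := by
    rintro ⟨a, ha⟩ ⟨b, hb⟩ e
    have e' : a⁻¹ * (w * a * w⁻¹) = b⁻¹ * (w * b * w⁻¹) := congrArg Subtype.val e
    have hfix : w * (b * a⁻¹) * w⁻¹ = b * a⁻¹ := by
      calc w * (b * a⁻¹) * w⁻¹ = w * b * w⁻¹ * (w * a * w⁻¹)⁻¹ := by group
        _ = b * (b⁻¹ * (w * b * w⁻¹)) * (a * (a⁻¹ * (w * a * w⁻¹)))⁻¹ := by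
          rw [mul_inv_cancel_left, mul_inv_cancel_left]
        _ = b * a⁻¹ := by rw [e']; group
    exact Subtype.ext (mul_inv_eq_one.1
      (hf _ (mul_mem hb (inv_mem ha)) (mul_inv_eq_iff_eq_mul.1 hfix))).symm
  intro x hx
  obtain ⟨⟨d, hd⟩, hdx⟩ := Finite.surjective_of_injective hinj ⟨x, hx⟩
  have hdx' : d⁻¹ * (w * d * w⁻¹) = x := congrArg Subtype.val hdx
  have hw2 : w * w = 1 := by rw [← pow_two, ← hw, pow_orderOf_eq_one]
  rw [← hdx']
  calc w * (d⁻¹ * (w * d * w⁻¹)) * w⁻¹ = w * d⁻¹ * w * d * (w * w)⁻¹ := by group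
    _ = w * d⁻¹ * w⁻¹ * d := by rw [hw2, inv_one, mul_one, inv_eq_of_mul_eq_one_right hw2]
    _ = (d⁻¹ * (w * d * w⁻¹))⁻¹ := by group

theorem four_odd_seven (e : X ≃* alternatingGroup (Fin 7)) {u v : X} (hu : orderOf u = 2)
    (hv : orderOf v = 2) {D : Subgroup X} (hD : Odd (Nat.card D))
    (hnu : ∀ x ∈ D, u * x * u⁻¹ ∈ D) (hnv : ∀ x ∈ D, v * x * v⁻¹ ∈ D) :
    (∀ x ∈ D, u * x = x * u) ∨ (∀ x ∈ D, v * x = x * v) ∨ (∀ x ∈ D, u * v * x = x * (u * v)) := by
  by_cases h1 : ∃ z ∈ D, z ≠ 1 ∧ u * z = z * u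
  · obtain ⟨z, hz, hz1, huz⟩ := h1
    exact Or.inl (seven_cent e hu hD hnu hz hz1 huz)
  by_cases h2 : ∃ z ∈ D, z ≠ 1 ∧ v * z = z * v
  · obtain ⟨z, hz, hz1, hvz⟩ := h2
    exact Or.inr (Or.inl (seven_cent e hv hD hnv hz hz1 hvz))
  push Not at h1 h2
  have f1 := inverts_of_fpf hu hnu fun x hx hc => by_contra fun hne => h1 x hx hne hc
  have f2 := inverts_of_fpf hv hnv fun x hx hc => by_contra fun hne => h2 x hx hne hc
  refine Or.inr (Or.inr fun x hx => mul_inv_eq_iff_eq_mul.1 ?_)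
  calc u * v * x * (u * v)⁻¹ = u * (v * x * v⁻¹) * u⁻¹ := by group
    _ = (u * x * u⁻¹)⁻¹ := by rw [f2 x hx]; group
    _ = x := by rw [f1 x hx, inv_inv]

/-- The linear case, prepared. -/
theorem psl_data (h : DihSylow X) (L : Subgroup X) [L.Normal] [IsSimpleGroup L]
    (hnc : ¬ IsMulCommutative L) (hC : Subgroup.centralizer (L : Set X) = ⊥) (ht : IsTarget L) :
    (Nonempty (X ≃* alternatingGroup (Fin 7))) ∨
      ∃ (F : Type) (_ : Field F) (_ : Fintype F),
        ∃ (_ : IsSimpleGroup (Matrix.ProjectiveSpecialLinearGroup (Fin 2) F))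
          (ι : X →* MulAut (Matrix.ProjectiveSpecialLinearGroup (Fin 2) F)),
          ¬ IsMulCommutative (Matrix.ProjectiveSpecialLinearGroup (Fin 2) F) ∧
          Odd (Fintype.card F) ∧ 3 < Fintype.card F ∧ Function.Injective ι ∧
          L.map ι = Cfsg.Inn (Matrix.ProjectiveSpecialLinearGroup (Fin 2) F) ∧
          ∀ x : X, Odd (orderOf (fldHom (ι x))) := by
  rcases almost_target h L hnc hC ht with h7 | ⟨F, i1, i2, hodd, h3, ι, hι, hL, hfld⟩
  · exact Or.inl h7.2
  · haveI hs : IsSimpleGroup (Matrix.ProjectiveSpecialLinearGroup (Fin 2) F) :=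
      Matrix.ProjectiveSpecialLinearGroup.rank_two_simple (by rw [Nat.card_eq_fintype_card]; omega)
    refine Or.inr ⟨F, i1, i2, hs, ι, fun hc => hnc ?_, hodd, h3, hι, hL, hfld⟩
    have hbot : L.map ι = ⊥ := by
      rw [hL, Cfsg.Inn, MonoidHom.range_eq_bot_iff]
      ext p x
      simp [hc.is_comm.comm p x]
    rw [Subgroup.map_eq_bot_iff_of_injective _ hι] at hbot
    subst hbot
    exact ⟨⟨fun a b => Subsingleton.elim _ _⟩⟩

/-- An odd subgroup normalised by the centraliser of an involution is centralised by it: with trivial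
odd core. -/
theorem odd_invariant_shape (h : DihSylow X) (hs : Shape X) {v : X} (hv : orderOf v = 2)
    {Q : Subgroup X} (hQ : Odd (Nat.card Q))
    (hN : Subgroup.centralizer ({v} : Set X) ≤ Subgroup.normalizer (Q : Set X))
    {y : X} (hy : y ∈ Q) (hvy : v * y * v⁻¹ = y⁻¹) : y = 1 := by
  classical
  have hyo : Odd (orderOf y) := hQ.of_dvd_nat (Subgroup.orderOf_dvd_natCard Q hy)
  rcases hs with h2 | ⟨V, hVn, hV, hVc, -⟩ | ⟨L, hLn, hLs, hLnc, hLt, hLC⟩
  · haveI : Fact (Nat.Prime 2) := ⟨Nat.prime_two⟩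
    obtain ⟨k, hk⟩ := IsPGroup.iff_orderOf.1 h2 y
    rw [hk] at hyo
    rcases k with _ | k
    · rw [pow_zero] at hk; exact orderOf_eq_one_iff.1 hk
    · exact absurd hyo (Nat.not_odd_iff_even.2 (Even.pow_of_ne_zero (by norm_num) (by omega)))
  · haveI := hV
    have hsq : ∀ a ∈ V, a * a = 1 := fun a ha =>
      congrArg Subtype.val (IsKleinFour.mul_self (⟨a, ha⟩ : V))
    have hcm : ∀ a ∈ V, ∀ b ∈ V, a * b = b * a := fun a ha b hb =>
      congrArg Subtype.val ((klein_comm hV).is_comm.comm (⟨a, ha⟩ : V) ⟨b, hb⟩)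
    obtain ⟨u, huV, hu1, huv⟩ : ∃ u ∈ V, u ≠ 1 ∧ v * u = u * v := by
      have hne : V ≠ ⊥ := fun e => by
        have := hV.card_four
        rw [e, Subgroup.card_bot] at this; omega
      obtain ⟨⟨a, ha⟩, ha1⟩ := Subgroup.ne_bot_iff_exists_ne_one.1 hne
      have ha' : v * a * v⁻¹ ∈ V := hVn.conj_mem a ha v
      by_cases hp : a * (v * a * v⁻¹) = 1
      · refine ⟨a, ha, fun e => ha1 (Subtype.ext e), mul_inv_eq_iff_eq_mul.1 ?_⟩
        exact (eq_inv_of_mul_eq_one_right hp).trans (inv_eq_of_mul_eq_one_right (hsq a ha))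
      · refine ⟨_, mul_mem ha ha', hp, mul_inv_eq_iff_eq_mul.1 ?_⟩
        have hv2 : v * v = 1 := by rw [← pow_two, ← hv, pow_orderOf_eq_one]
        calc v * (a * (v * a * v⁻¹)) * v⁻¹ = v * a * v⁻¹ * (v * v * a * (v * v)⁻¹) := by group
          _ = v * a * v⁻¹ * a := by rw [hv2, one_mul, inv_one, mul_one]
          _ = a * (v * a * v⁻¹) := hcm _ ha' _ ha
    have huN := hN (Subgroup.mem_centralizer_singleton_iff.2 huv.symm)
    have hyu : u * y * u⁻¹ * y⁻¹ = 1 := by
      have hq : u * y * u⁻¹ * y⁻¹ ∈ Q :=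
        mul_mem ((Subgroup.mem_normalizer_iff.1 huN y).1 hy) (inv_mem hy)
      have hc : u * y * u⁻¹ * y⁻¹ ∈ V := by
        rw [show u * y * u⁻¹ * y⁻¹ = u * (y * u⁻¹ * y⁻¹) by group]
        exact mul_mem huV (hVn.conj_mem _ (inv_mem huV) y)
      exact eq_one_of_sq_odd (hsq _ hc) (hQ.of_dvd_nat (Subgroup.orderOf_dvd_natCard Q hq))
    have hyu' : y * u * y⁻¹ = u := by
      rw [mul_inv_eq_one, mul_inv_eq_iff_eq_mul] at hyu
      rw [← hyu, mul_inv_cancel_right]
    have hord : ∀ a ∈ V, a ≠ 1 → orderOf a = 2 := fun a ha ha1 =>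
      Invol.order_two_of_sq (hsq a ha) ha1
    have hy2 : y * y ∈ Subgroup.centralizer (V : Set X) := by
      rw [Subgroup.mem_centralizer_iff]
      intro w hw
      refine (mul_inv_eq_iff_eq_mul.1 ?_).symm
      rw [show y * y * w * (y * y)⁻¹ = y * (y * w * y⁻¹) * y⁻¹ by group]
      by_cases hw1 : w = 1
      · simp [hw1]
      by_cases hwu : w = u
      · rw [hwu, hyu', hyu']
      have hw' : y * w * y⁻¹ ∈ V := hVn.conj_mem w hw y
      rcases comm_involution_cases h (hord u huV hu1) (hord w hw hw1)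
          (hord _ hw' (fun e => hw1 (conj_eq_one_iff.1 e))) (Ne.symm hwu) (hcm _ huV _ hw)
          (hcm _ huV _ hw') (hcm _ hw _ hw') with e | e | e
      · exfalso
        refine hwu ?_
        have e' : y * w * y⁻¹ = y * u * y⁻¹ := e.trans hyu'.symm
        exact mul_left_cancel (mul_right_cancel e')
      · rw [e, e]
      · rw [e, show y * (u * w) * y⁻¹ = y * u * y⁻¹ * (y * w * y⁻¹) by group, hyu', e, ← mul_assoc,
          hsq u huV, one_mul]
    rw [hVc] at hy2
    have h4 : (y * y) * (y * y) = 1 := hsq _ hy2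
    exact eq_one_of_sq_odd (eq_one_of_sq_odd h4
      (hyo.of_dvd_nat (by rw [← pow_two]; exact orderOf_pow_dvd 2))) hyo
  · haveI := hLn
    haveI := hLs
    rcases psl_data h L hLnc hLC hLt with ⟨⟨e⟩⟩ | ⟨F, _, _, _, ι, hnc, hodd, h3, hι, hL, hfld⟩
    · exact odd_invariant_seven e hv hQ hN hy hvy
    · exact odd_invariant_psl h hnc hodd h3 L hLn hLs hLnc ι hι hL hfld hv hQ hN hy hvy

/-- One of the involutions of a four-group centralises an odd subgroup normalised by it. -/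
theorem four_odd (h : DihSylow X) (hS : Shape X) {u v : X} (hu : orderOf u = 2) (hv : orderOf v = 2)
    (hne : u ≠ v) (hc : u * v = v * u) {D : Subgroup X} (hD : Odd (Nat.card D))
    (hnu : ∀ x ∈ D, u * x * u⁻¹ ∈ D) (hnv : ∀ x ∈ D, v * x * v⁻¹ ∈ D) :
    (∀ x ∈ D, u * x = x * u) ∨ (∀ x ∈ D, v * x = x * v) ∨ (∀ x ∈ D, u * v * x = x * (u * v)) := by
  classical
  rcases hS with h2 | ⟨V, hVn, hV, -, -⟩ | ⟨L, hLn, hLs, hLnc, hLt, hLC⟩
  · refine Or.inl fun x hx => ?_
    haveI : Fact (Nat.Prime 2) := ⟨Nat.prime_two⟩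
    obtain ⟨k, hk⟩ := IsPGroup.iff_orderOf.1 h2 x
    have hxo := hD.of_dvd_nat (Subgroup.orderOf_dvd_natCard D hx)
    rw [hk] at hxo
    rcases k with _ | k
    · rw [pow_zero] at hk; rw [orderOf_eq_one_iff.1 hk, mul_one, one_mul]
    · exact absurd hxo (Nat.not_odd_iff_even.2 (Even.pow_of_ne_zero (by norm_num) (by omega)))
  · haveI := hV
    have hsq : ∀ a ∈ V, a * a = 1 := fun a ha =>
      congrArg Subtype.val (IsKleinFour.mul_self (⟨a, ha⟩ : V))
    have hcm : ∀ a ∈ V, ∀ b ∈ V, a * b = b * a := fun a ha b hb =>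
      congrArg Subtype.val ((klein_comm hV).is_comm.comm (⟨a, ha⟩ : V) ⟨b, hb⟩)
    have hfx : ∀ w : X, w * w = 1 → ∀ a ∈ V, a ≠ 1 →
        ∃ b ∈ V, b ≠ 1 ∧ w * b = b * w ∧ (b = a ∨ b = a * (w * a * w⁻¹)) := by
      intro w hw a ha ha1
      have ha' : w * a * w⁻¹ ∈ V := hVn.conj_mem a ha w
      by_cases hp : a * (w * a * w⁻¹) = 1
      · refine ⟨a, ha, ha1, mul_inv_eq_iff_eq_mul.1 ?_, Or.inl rfl⟩
        exact (eq_inv_of_mul_eq_one_right hp).trans (inv_eq_of_mul_eq_one_right (hsq a ha))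
      · refine ⟨_, mul_mem ha ha', hp, mul_inv_eq_iff_eq_mul.1 ?_, Or.inr rfl⟩
        calc w * (a * (w * a * w⁻¹)) * w⁻¹ = w * a * w⁻¹ * (w * w * a * (w * w)⁻¹) := by group
          _ = w * a * w⁻¹ * a := by rw [hw, one_mul, inv_one, mul_one]
          _ = a * (w * a * w⁻¹) := hcm _ ha' _ ha
    have hu2 : u * u = 1 := by rw [← pow_two, ← hu, pow_orderOf_eq_one]
    have hv2 : v * v = 1 := by rw [← pow_two, ← hv, pow_orderOf_eq_one]
    have hbot : V ≠ ⊥ := fun e => by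
      have := hV.card_four
      rw [e, Subgroup.card_bot] at this; omega
    obtain ⟨⟨a0, ha0⟩, ha01⟩ := Subgroup.ne_bot_iff_exists_ne_one.1 hbot
    obtain ⟨a, ha, ha1, hua, -⟩ := hfx u hu2 a0 ha0 fun e => ha01 (Subtype.ext e)
    obtain ⟨b, hb, hb1, hvb, hform⟩ := hfx v hv2 a ha ha1
    have hub : u * b = b * u := by
      rcases hform with e | e
      · rw [e, hua]
      · rw [e]
        exact ((show Commute u a from hua).mul_right (((show Commute u v from hc).mul_right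
          (show Commute u a from hua)).mul_right (show Commute u v from hc).inv_right)).eq
    have hcent : (∀ x ∈ D, b * x * b⁻¹ ∈ D) → ∀ x ∈ D, b * x = x * b := by
      intro hn x hx
      refine mul_inv_eq_iff_eq_mul.1 (mul_inv_eq_one.1 ?_)
      have hq : b * x * b⁻¹ * x⁻¹ ∈ D := mul_mem (hn x hx) (inv_mem hx)
      have hcV : b * x * b⁻¹ * x⁻¹ ∈ V := by
        rw [show b * x * b⁻¹ * x⁻¹ = b * (x * b⁻¹ * x⁻¹) by group]
        exact mul_mem hb (hVn.conj_mem _ (inv_mem hb) x)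
      exact eq_one_of_sq_odd (hsq _ hcV) (hD.of_dvd_nat (Subgroup.orderOf_dvd_natCard D hq))
    rcases comm_involution_cases h hu hv (Invol.order_two_of_sq (hsq b hb) hb1) hne hc hub hvb
      with rfl | rfl | rfl
    · exact Or.inl (hcent hnu)
    · exact Or.inr (Or.inl (hcent hnv))
    · refine Or.inr (Or.inr (hcent fun x hx => ?_))
      rw [show u * v * x * (u * v)⁻¹ = u * (v * x * v⁻¹) * u⁻¹ by group]
      exact hnu _ (hnv x hx)
  · haveI := hLn
    haveI := hLs
    rcases psl_data h L hLnc hLC hLt with ⟨⟨e⟩⟩ | ⟨F, _, _, _, ι, hnc, hodd, h3, hι, hL, hfld⟩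
    · exact four_odd_seven e hu hv hD hnu hnv
    · exact four_odd_psl h hnc hodd h3 L hLn hLs hLnc ι hι hL hfld hu hv hne hc hD hnu hnv

/-- An odd subgroup normalised by the centraliser of an involution is centralised by it modulo the
odd core. -/
theorem odd_invariant {N : ℕ} (hK : KnownBelow.{u} N) (h : DihSylow X) (hN : Nat.card X < N)
    {v : X} (hv : orderOf v = 2) {Q : Subgroup X} (hQ : Odd (Nat.card Q))
    (hC : Subgroup.centralizer ({v} : Set X) ≤ Subgroup.normalizer (Q : Set X))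
    {q : X} (hq : q ∈ Q) : q * v * q⁻¹ * v⁻¹ ∈ Cfsg.oddCore X := by
  classical
  haveI : Fact (Nat.Prime 2) := ⟨Nat.prime_two⟩
  have hodd : Odd (Nat.card (Cfsg.oddCore X)) :=
    Nat.coprime_two_right.1 (PBasic.pPrimeCore_coprime 2 X)
  set O := Cfsg.oddCore X with hO
  let π := QuotientGroup.mk' O
  have hvO : v ∉ O := fun hm => by
    have := hodd.of_dvd_nat (Subgroup.orderOf_dvd_natCard O hm)
    rw [hv] at this
    exact Nat.not_odd_iff_even.2 even_two this
  have hvv : v * v = 1 := by rw [← pow_two, ← hv, pow_orderOf_eq_one]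
  have hv' : orderOf (π v) = 2 := Invol.order_two_of_sq
    (by rw [← map_mul, hvv, map_one])
    (fun e => hvO ((QuotientGroup.eq_one_iff v).1 e))
  have hQ' : Odd (Nat.card (Q.map π)) := hQ.of_dvd_nat (Subgroup.card_map_dvd _ _)
  have hN' : Subgroup.centralizer ({π v} : Set (X ⧸ O)) ≤
      Subgroup.normalizer (Q.map π : Set (X ⧸ O)) := by
    intro c hc
    obtain ⟨g, rfl⟩ := QuotientGroup.mk'_surjective O c
    have hm : g * v * g⁻¹ * v⁻¹ ∈ O := by
      rw [← QuotientGroup.eq_one_iff]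
      show π (g * v * g⁻¹ * v⁻¹) = 1
      have h1 := Subgroup.mem_centralizer_singleton_iff.1 hc
      rw [map_mul, map_mul, map_mul, map_inv, map_inv, h1, mul_inv_cancel_right, mul_inv_cancel]
    obtain ⟨x, hx, hxv⟩ :=
      DGroup.conj_in_odd hodd hv (by rw [Invol.order_conj, hv] : orderOf (g * v * g⁻¹) = 2) hm
    have hcomm : x⁻¹ * g * v = v * (x⁻¹ * g) := by
      calc x⁻¹ * g * v = x⁻¹ * (g * v * g⁻¹) * g := by group
        _ = x⁻¹ * (x * v * x⁻¹) * g := by rw [hxv]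
        _ = v * (x⁻¹ * g) := by group
    have h2 := Subgroup.le_normalizer_map (H := Q) π
      (Subgroup.mem_map_of_mem π (hC (Subgroup.mem_centralizer_singleton_iff.2 hcomm)))
    rwa [map_mul, map_inv, (QuotientGroup.eq_one_iff x).2 hx |> fun e => (e : π x = 1), inv_one,
      one_mul] at h2
  have hy : q⁻¹ * (v * q * v⁻¹) ∈ Q := mul_mem (inv_mem hq)
    ((Subgroup.mem_normalizer_iff.1 (hC (Subgroup.mem_centralizer_singleton_iff.2 rfl)) q).1 hq)
  have h1 := odd_invariant_shape (h.quotient O hodd) (shape_mod_core hK h hN) hv' hQ' hN'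
    (Subgroup.mem_map_of_mem π hy) (by
      rw [← map_inv, ← map_inv, ← map_mul, ← map_mul]
      congr 1
      have hv2 : v * v = 1 := by rw [← pow_two, ← hv, pow_orderOf_eq_one]
      calc v * (q⁻¹ * (v * q * v⁻¹)) * v⁻¹ = v * q⁻¹ * v * q * (v * v)⁻¹ := by group
        _ = v * q⁻¹ * v⁻¹ * q := by rw [hv2, inv_one, mul_one, inv_eq_of_mul_eq_one_right hv2]
        _ = (q⁻¹ * (v * q * v⁻¹))⁻¹ := by group)
  have h2 : q⁻¹ * (v * q * v⁻¹) ∈ O := (QuotientGroup.eq_one_iff _).1 h1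
  have h3 := inv_mem ((inferInstance : O.Normal).conj_mem _ h2 q)
  rwa [show (q * (q⁻¹ * (v * q * v⁻¹)) * q⁻¹)⁻¹ = q * v * q⁻¹ * v⁻¹ by group] at h3

end Cfsg.Agent.GW
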