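import Cfsg.Agent.Lib.GW.Structure

/-!
What the core proof uses about a group `X` with dihedral Sylow 2-subgroups, trivial odd core and
simple socle `L ≅ PSL(2, q)`.
-/

set_option autoImplicit false

namespace Cfsg.Agent.GW

universe u

/-- The facts on an almost simple section with socle `PSL(2, q)`, `q` odd. -/
structure SocleFacts (X : Type u) [Group X] (L : Subgroup X) : Prop where
  normal : L.Normal
  simple : IsSimpleGroup L
  noncomm : ¬ IsMulCommutative L
  /-- an element of odd order inverted by an involution lies in the socle -/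
  inverted_mem : ∀ v y : X, v * v = 1 → Odd (orderOf y) → v * y * v⁻¹ = y⁻¹ → y ∈ L
  /-- all involutions of the socle are conjugate in it -/
  one_class : ∀ u v : X, u ∈ L → v ∈ L → orderOf u = 2 → orderOf v = 2 →
    ∃ g ∈ L, g * u * g⁻¹ = v
  /-- the centraliser in the socle of an odd element centralised by an involution is centralised by it -/
  torus : ∀ v z y : X, orderOf v = 2 → z ∈ L → z ≠ 1 → Odd (orderOf z) → v * z = z * v →
    y ∈ L → y * z = z * y → v * y = y * v
  /-- such a centraliser is commutative -/
  torus_comm : ∀ v z x y : X, orderOf v = 2 → z ∈ L → z ≠ 1 → Odd (orderOf z) → v * z = z * v →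
    x ∈ L → x * z = z * x → y ∈ L → y * z = z * y → x * y = y * x
  /-- no four-group of the socle centralises an odd element of it -/
  klein_cent : ∀ u v z : X, u ∈ L → v ∈ L → orderOf u = 2 → orderOf v = 2 → u ≠ v → u * v = v * u →
    z ∈ L → Odd (orderOf z) → u * z = z * u → v * z = z * v → z = 1
  /-- an odd element centralising a four-group of the socle centralises its normaliser there -/
  klein_norm : ∀ u v y g : X, u ∈ L → v ∈ L → orderOf u = 2 → orderOf v = 2 → u ≠ v →
    u * v = v * u → Odd (orderOf y) → y * u = u * y → y * v = v * y → g ∈ L →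
    g ∈ Subgroup.normalizer ((Subgroup.closure {u, v} : Subgroup X) : Set X) → y * g = g * y
  /-- there are many involutions -/
  many : ∀ v : X, v ∈ L → orderOf v = 2 →
    (Nat.card (L ⊓ Subgroup.centralizer ({v} : Set X) : Subgroup X) - 1) *
        (Nat.card (L ⊓ Subgroup.centralizer ({v} : Set X) : Subgroup X) - 2) ≤
      2 * ((L ⊓ Subgroup.centralizer ({v} : Set X)).relIndex L)

/-- Every almost simple section that occurs is `A₇` or has the facts. -/
def SectionFacts : Prop :=
  ∀ (X : Type u) [Group X] [Finite X], DihSylow X → Cfsg.oddCore X = ⊥ →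
    ∀ L : Subgroup X, L.Normal → IsSimpleGroup L → ¬ IsMulCommutative L → IsTarget L →
      Subgroup.centralizer (L : Set X) = ⊥ →
        (L = ⊤ ∧ Nonempty (X ≃* alternatingGroup (Fin 7))) ∨ SocleFacts X L

end Cfsg.Agent.GW
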