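import Cfsg.Agent.Lib.GW.InvCentraliser
import Cfsg.Agent.Lib.GW.Facts

/-!
The facts on almost simple sections over `PSL₂(q)`.
-/

set_option autoImplicit false

namespace Cfsg.Agent.GW

open Matrix Cfsg.Agent.AutPSL

section Mat

variable {F : Type*} [Field F]

/-- The centraliser of a non-scalar `2 × 2` matrix is commutative. -/
theorem commute_of_nonscalar {h a b : Matrix (Fin 2) (Fin 2) F}
    (hh : h 0 1 ≠ 0 ∨ h 1 0 ≠ 0 ∨ h 0 0 ≠ h 1 1) (ha : a * h = h * a) (hb : b * h = h * b) :
    a * b = b * a := by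
  simp only [← Matrix.ext_iff, Fin.forall_fin_two, Matrix.mul_apply, Fin.sum_univ_two] at ha hb ⊢
  obtain ⟨⟨a00, a01⟩, a10, a11⟩ := ha
  obtain ⟨⟨b00, b01⟩, b10, b11⟩ := hb
  rcases hh with e | e | e
  · refine ⟨⟨?_, ?_⟩, ?_, ?_⟩ <;> apply mul_left_cancel₀ e <;> grind
  · refine ⟨⟨?_, ?_⟩, ?_, ?_⟩ <;> apply mul_left_cancel₀ e <;> grind
  · have e' := sub_ne_zero.2 e
    refine ⟨⟨?_, ?_⟩, ?_, ?_⟩ <;> apply mul_left_cancel₀ e' <;> grind

end Mat

variable {F : Type} [Field F] [Fintype F]

local notation "PSL2" => Matrix.ProjectiveSpecialLinearGroup (Fin 2) F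

/-- In `PGL₂`, the centraliser of an element of order greater than two is commutative. -/
theorem inndiag_centraliser_comm {z a b : MulAut PSL2} (hz : z ∈ Cfsg.inndiagPSL 2 F)
    (hz2 : z * z ≠ 1) (ha : a ∈ Cfsg.inndiagPSL 2 F) (hb : b ∈ Cfsg.inndiagPSL 2 F)
    (haz : a * z = z * a) (hbz : b * z = z * b) : a * b = b * a := by
  obtain ⟨h, rfl⟩ := mem_inndiag.1 hz
  have key : ∀ g : GL (Fin 2) F, (semi g 1 : MulAut PSL2) * semi h 1 = semi h 1 * semi g 1 →
      g * h = h * g := by
    intro g hg
    rw [semi_mul', semi_mul', mapGL_one, mapGL_one, one_mul, semi_eq_semi le_rfl] at hg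
    obtain ⟨-, c, hc⟩ := hg
    by_cases hc1 : c = 1
    · rw [hc, hc1, map_one, one_mul]
    exfalso
    have hdet := congrArg GeneralLinearGroup.det hc
    rw [map_mul, map_mul, map_mul, det_scalar, mul_comm (GeneralLinearGroup.det g),
      eq_comm, mul_eq_right] at hdet
    have hcm : (c : F) = -1 := by
      rcases mul_self_eq_one_iff.1 (show (c : F) * c = 1 by
        rw [← pow_two, ← Units.val_pow_eq_pow_val, hdet, Units.val_one]) with e | e
      · exact absurd (Units.ext e) hc1
      · exact e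
    have hneg : g.1 * h.1 = -(h.1 * g.1) := by
      have := congrArg Units.val hc
      rw [Units.val_mul, Units.val_mul, Units.val_mul, GeneralLinearGroup.coe_scalar, hcm] at this
      rw [this]; ext i j; simp
    have htr : h.1.trace = 0 := by
      have h1 : g.1 * h.1 * g⁻¹.1 = -h.1 := by
        rw [hneg, neg_mul, mul_assoc, Units.mul_inv, mul_one]
      have h2 := congrArg Matrix.trace h1
      rw [trace_units_conj, trace_neg] at h2
      have h3 : (2 : F) * h.1.trace = 0 := by linear_combination h2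
      refine (mul_eq_zero.1 h3).resolve_left fun e => hc1 (Units.ext ?_)
      rw [hcm, Units.val_one]
      linear_combination -e
    refine hz2 ?_
    rw [semi_mul', mapGL_one, one_mul, semi_eq_one_iff le_rfl]
    rw [Matrix.trace_fin_two] at htr
    have hd : h.1.det ≠ 0 := ((Matrix.isUnit_iff_isUnit_det _).1 h.isUnit).ne_zero
    refine ⟨rfl, Units.mk0 (-h.1.det) (neg_ne_zero.2 hd), Units.ext ?_⟩
    rw [Units.val_mul, GeneralLinearGroup.coe_scalar, Units.val_mk0]
    ext i j
    fin_cases i <;> fin_cases j <;>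
      simp [Matrix.mul_apply, Fin.sum_univ_two, Matrix.det_fin_two] <;> grind
  obtain ⟨g, rfl⟩ := mem_inndiag.1 ha
  obtain ⟨k, rfl⟩ := mem_inndiag.1 hb
  have hns : h.1 0 1 ≠ 0 ∨ h.1 1 0 ≠ 0 ∨ h.1 0 0 ≠ h.1 1 1 := by
    by_contra hno
    push Not at hno
    obtain ⟨e1, e2, e3⟩ := hno
    refine hz2 ?_
    rw [semi_mul', mapGL_one, one_mul, semi_eq_one_iff le_rfl]
    have h00 : h.1 0 0 ≠ 0 := fun e0 =>
      ((Matrix.isUnit_iff_isUnit_det _).1 h.isUnit).ne_zero (by
        rw [Matrix.det_fin_two, ← e3, e0, e1]; ring)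
    refine ⟨rfl, Units.mk0 (h.1 0 0 * h.1 0 0) (mul_ne_zero h00 h00), Units.ext ?_⟩
    rw [Units.val_mul, GeneralLinearGroup.coe_scalar, Units.val_mk0]
    ext i j
    fin_cases i <;> fin_cases j <;> simp [Matrix.mul_apply, Fin.sum_univ_two, e1, e2, ← e3]
  have hgk : g * k = k * g := Units.ext (by
    rw [Units.val_mul, Units.val_mul]
    refine commute_of_nonscalar hns ?_ ?_
    · have := congrArg Units.val (key g haz); simpa using this
    · have := congrArg Units.val (key k hbz); simpa using this)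
  rw [semi_mul', semi_mul', mapGL_one, mapGL_one, one_mul, hgk]

universe u

theorem eq_one_of_sq_odd {X : Type u} [Group X] {z : X} (hz : z * z = 1) (ho : Odd (orderOf z)) :
    z = 1 :=
  orderOf_eq_one_iff.1 (Nat.eq_one_of_dvd_coprimes (Nat.coprime_two_left.2 ho)
    (orderOf_dvd_of_pow_eq_one (by rw [pow_two, hz])) dvd_rfl)

/-- An automorphism in `PGL₂` of odd order is inner. -/
theorem mem_inn_of_odd (hodd : Odd (Fintype.card F)) {β : MulAut PSL2}
    (hβ : β ∈ Cfsg.inndiagPSL 2 F) (ho : Odd (orderOf β)) : β ∈ Cfsg.Inn PSL2 := by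
  obtain ⟨k, hk⟩ := ho
  have e : β = (β * β) ^ (k + 1) := by
    rw [← pow_two, ← pow_mul, show 2 * (k + 1) = orderOf β + 1 by omega, pow_succ,
      pow_orderOf_eq_one, one_mul]
  rw [e]
  exact pow_mem ((inn_mul_mem hodd hβ hβ).2 Iff.rfl) _

theorem involution_count {n m q : ℕ} (hn : n = q - 1 ∨ n = q + 1)
    (hm : 2 * (n * m) = q * (q - 1) * (q + 1)) (hq : 3 ≤ q) :
    (n - 1) * (n - 2) ≤ 2 * m := by
  obtain ⟨p, rfl⟩ : ∃ p, q = p + 3 := ⟨q - 3, by omega⟩
  rcases hn with rfl | rfl
  · have h2 : 2 * m = (p + 3) * (p + 4) := by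
      refine Nat.eq_of_mul_eq_mul_left (show 0 < p + 2 by omega) ?_
      rw [show p + 3 - 1 = p + 2 by omega] at hm
      linear_combination hm
    rw [h2, show p + 3 - 1 - 1 = p + 1 by omega, show p + 3 - 1 - 2 = p by omega]
    nlinarith
  · have h2 : 2 * m = (p + 3) * (p + 2) := by
      refine Nat.eq_of_mul_eq_mul_left (show 0 < p + 4 by omega) ?_
      rw [show p + 3 - 1 = p + 2 by omega] at hm
      linear_combination hm
    rw [h2, show p + 3 + 1 - 1 = p + 3 by omega, show p + 3 + 1 - 2 = p + 2 by omega]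

/-- The facts on a group over `PSL₂(q)`. -/
theorem socleFacts {X : Type u} [Group X] [Finite X] [IsSimpleGroup PSL2] (h : DihSylow X)
    (hnc : ¬ IsMulCommutative PSL2) (hodd : Odd (Fintype.card F)) (h3 : 3 < Fintype.card F)
    (L : Subgroup X) (hLn : L.Normal) (hLs : IsSimpleGroup L) (hLnc : ¬ IsMulCommutative L)
    (ι : X →* MulAut PSL2) (hι : Function.Injective ι) (hL : L.map ι = Cfsg.Inn PSL2)
    (hfld : ∀ x : X, Odd (orderOf (fldHom (ι x)))) : SocleFacts X L := by
  classical
  haveI := Fintype.ofFinite X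
  have hmemL : ∀ x : X, x ∈ L ↔ ι x ∈ Cfsg.Inn PSL2 := fun x => by
    rw [← hL, Subgroup.mem_map_iff_mem hι]
  have hinn : ∀ x ∈ L, ι x ∈ Cfsg.inndiagPSL 2 F := fun x hx => by
    rw [mem_inndiag_iff_fld]; exact fldHom_inn ((hmemL x).1 hx)
  have hinvol : ∀ v : X, v * v = 1 → ι v ∈ Cfsg.inndiagPSL 2 F := by
    intro v hv
    rw [mem_inndiag_iff_fld]
    refine eq_one_of_sq_odd ?_ (hfld v)
    rw [← map_mul, ← map_mul, hv, map_one, map_one]
  have hord2 : ∀ v : X, orderOf v = 2 → v * v = 1 := fun v hv => by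
    rw [← pow_two, ← hv, pow_orderOf_eq_one]
  have hzsq : ∀ z : X, z ≠ 1 → Odd (orderOf z) → ι z * ι z ≠ 1 := fun z hz1 hzo e =>
    hz1 (eq_one_of_sq_odd (hι (by rw [map_mul, e, map_one])) hzo)
  have hconj : ∀ x ∈ L, ∃ p : PSL2, ι x = MulAut.conj p := fun x hx => by
    obtain ⟨p, hp⟩ := (hmemL x).1 hx
    exact ⟨p, hp.symm⟩
  have h2 : (2 : F) ≠ 0 := fun e => by
    have hc : CharP F 2 := CharP.ringChar_of_prime_eq_zero Nat.prime_two (by exact_mod_cast e) ▸
      ringChar.charP F
    obtain ⟨n, -, hn⟩ := FiniteField.card F 2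
    rw [hn] at hodd
    exact Nat.not_odd_iff_even.2 (Even.pow_of_ne_zero (by norm_num) n.2.ne') hodd
  have hinvPSL : ∀ v ∈ L, orderOf v = 2 → ∃ p : PSL2, p * p = 1 ∧ p ≠ 1 ∧ ι v = MulAut.conj p := by
    intro v hv hvo
    obtain ⟨p, hp⟩ := hconj v hv
    refine ⟨p, conj_injective hnc ?_, fun e => ?_, hp⟩
    · rw [map_mul, ← hp, ← map_mul, hord2 v hvo, map_one, map_one]
    · rw [e, map_one, ← map_one ι] at hp
      rw [hι hp, orderOf_one] at hvo
      omega
  have hone : ∀ u v : X, u ∈ L → v ∈ L → orderOf u = 2 → orderOf v = 2 →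
      ∃ g ∈ L, g * u * g⁻¹ = v := by
    intro u v hu hv huo hvo
    obtain ⟨p, hp, hp1, hup⟩ := hinvPSL u hu huo
    obtain ⟨r, hr, hr1, hvr⟩ := hinvPSL v hv hvo
    obtain ⟨c, hc⟩ := isConj_iff.1
      ((PSL2Inv.isConj_pr_w h2 hp hp1).symm.trans (PSL2Inv.isConj_pr_w h2 hr hr1))
    obtain ⟨g, hg, hgc⟩ := Subgroup.mem_map.1
      (show MulAut.conj c ∈ L.map ι by rw [hL]; exact ⟨c, rfl⟩)
    exact ⟨g, hg, hι (by rw [map_mul, map_mul, map_inv, hgc, hup, hvr, ← hc, map_mul, map_mul, map_inv])⟩
  have hfour : ∀ u v z : X, u ∈ L → v ∈ L → orderOf u = 2 → orderOf v = 2 → u ≠ v → u * v = v * u →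
      z ∈ L → u * z = z * u → v * z = z * v → z * z = 1 := by
    intro u v z hu hv huo hvo huv hcom hz huz hvz
    obtain ⟨Kd, -, hLK, -, -, A, s, hAK, hAc, huA, hsL, hst, hss, hsA, hinv, -, hall⟩ :=
      psl_centralizer (F := F) hnc hodd L ι hι hL hfld hu huo
    have hcomA : ∀ a b : X, a ∈ A → b ∈ A → a * b = b * a := fun a b ha hb =>
      congrArg Subtype.val (hAc.isMulCommutative.is_comm.comm (⟨a, ha⟩ : A) ⟨b, hb⟩)
    have huniq : ∀ a ∈ A, a * a = 1 → a = 1 ∨ a = u := by
      intro a ha ha2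
      by_contra hno
      push Not at hno
      haveI := hAc
      haveI := Fintype.ofFinite A
      have := IsCyclic.card_pow_eq_one_le (α := A) (n := 2) two_pos
      have hsub : ({1, ⟨u, huA⟩, ⟨a, ha⟩} : Finset A) ⊆ Finset.univ.filter (fun c : A => c ^ 2 = 1) := by
        intro c hc
        simp only [Finset.mem_insert, Finset.mem_singleton] at hc
        rw [Finset.mem_filter]
        refine ⟨Finset.mem_univ _, Subtype.ext ?_⟩
        rw [SubmonoidClass.coe_pow, pow_two, Subgroup.coe_one]
        rcases hc with rfl | rfl | rfl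
        · exact one_mul 1
        · exact hord2 u huo
        · exact ha2
      have hc3 := Finset.card_le_card hsub
      rw [Finset.card_insert_of_notMem, Finset.card_pair] at hc3
      · omega
      · intro e; exact hno.2 (congrArg Subtype.val e :).symm
      · simp only [Finset.mem_insert, Finset.mem_singleton, Subtype.ext_iff, Subgroup.coe_one]
        rintro (e | e)
        · rw [← e, orderOf_one] at huo; omega
        · exact hno.1 e.symm
    have hz' := hall z (hLK hz) huz.symm
    have hv' := hall v (hLK hv) hcom.symm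
    have hvA : v ∉ A := fun hvA => by
      rcases huniq v hvA (hord2 v hvo) with e | e
      · rw [e, orderOf_one] at hvo; omega
      · exact huv e.symm
    have hs' : v * s ∈ A := hv'.resolve_left hvA
    have hout : ∀ g : X, g * s ∈ A → g * g = 1 := by
      intro g hg
      have h1 := hinv _ hg
      have hsinv : s⁻¹ = s := inv_eq_of_mul_eq_one_right hss
      rw [hsinv] at h1
      calc g * g = g * s * (s * (g * s) * s) := by
            rw [mul_assoc s, mul_assoc g s s, hss, mul_one, ← mul_assoc (g * s), mul_assoc g s s, hss,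
              mul_one]
        _ = 1 := by rw [h1, mul_inv_cancel]
    rcases hz' with hzA | hzs
    · have h1 := hinv z hzA
      have h3 : s * z * s⁻¹ = z := by
        have hs1 : s = v⁻¹ * (v * s) := by rw [inv_mul_cancel_left]
        rw [hs1]
        calc v⁻¹ * (v * s) * z * (v⁻¹ * (v * s))⁻¹ = v⁻¹ * ((v * s) * z) * (v * s)⁻¹ * v := by group
          _ = v⁻¹ * (z * (v * s)) * (v * s)⁻¹ * v := by rw [hcomA _ _ hs' hzA]
          _ = v⁻¹ * (z * v) := by group
          _ = z := by rw [← hvz, inv_mul_cancel_left]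
      exact mul_eq_one_iff_eq_inv.2 (h3.symm.trans h1)
    · exact hout z hzs
  refine ⟨hLn, hLs, hLnc, ?_, hone, ?_, ?_, ?_, ?_, ?_⟩
  · intro v y hv hy hvy
    have hfy : fldHom (ι y) = 1 := by
      have e := congrArg (fun x => fldHom (ι x)) hvy
      simp only [map_mul, map_inv, (mem_inndiag_iff_fld _).1 (hinvol v hv)] at e
      rw [one_mul, inv_one, mul_one] at e
      exact eq_one_of_sq_odd (mul_eq_one_iff_eq_inv.2 e) (hfld y)
    rw [hmemL]
    exact mem_inn_of_odd hodd ((mem_inndiag_iff_fld _).2 hfy) (by rwa [orderOf_injective _ hι])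
  · intro v z y hv hz hz1 hzo hvz hy hyz
    refine hι ?_
    rw [map_mul, map_mul]
    exact inndiag_centraliser_comm (hinn z hz) (hzsq z hz1 hzo) (hinvol v (hord2 v hv)) (hinn y hy)
      (by rw [← map_mul, ← map_mul, hvz]) (by rw [← map_mul, ← map_mul, hyz])
  · intro v z x y hv hz hz1 hzo _ hx hxz hy hyz
    refine hι ?_
    rw [map_mul, map_mul]
    exact inndiag_centraliser_comm (hinn z hz) (hzsq z hz1 hzo) (hinn x hx) (hinn y hy)
      (by rw [← map_mul, ← map_mul, hxz]) (by rw [← map_mul, ← map_mul, hyz])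
  · intro u v z hu hv huo hvo huv hcom hz hzo huz hvz
    exact eq_one_of_sq_odd (hfour u v z hu hv huo hvo huv hcom hz huz hvz) hzo
  · intro u v y g hu hv huo hvo huv hcom hyo hyu hyv hg hgN
    set V := Subgroup.closure ({u, v} : Set X) with hV
    have hVy : ∀ x ∈ V, y * x = x * y := by
      have hle : V ≤ Subgroup.centralizer ({y} : Set X) := by
        rw [hV, Subgroup.closure_le]
        rintro x (rfl | rfl)
        · exact Subgroup.mem_centralizer_singleton_iff.2 hyu.symm
        · exact Subgroup.mem_centralizer_singleton_iff.2 hyv.symm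
      exact fun x hx => (Subgroup.mem_centralizer_singleton_iff.1 (hle hx)).symm
    set c := y * g * y⁻¹ * g⁻¹ with hc
    have hcL : c ∈ L := mul_mem (hLn.conj_mem g hg y) (inv_mem hg)
    have hcV : ∀ x ∈ V, c * x = x * c := by
      intro x hx
      have h1 : g⁻¹ * x * g ∈ V := (Subgroup.mem_normalizer_iff''.1 hgN x).1 hx
      have e1 : y⁻¹ * (g⁻¹ * x * g) * y = g⁻¹ * x * g := by
        rw [mul_assoc, ← hVy _ h1, inv_mul_cancel_left]
      have e2 : y * x * y⁻¹ = x := by rw [hVy x hx, mul_inv_cancel_right]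
      calc c * x = y * g * (y⁻¹ * (g⁻¹ * x * g) * y) * (y⁻¹ * g⁻¹) := by rw [hc]; group
        _ = y * g * (g⁻¹ * x * g) * (y⁻¹ * g⁻¹) := by rw [e1]
        _ = y * x * y⁻¹ * (y * g * y⁻¹ * g⁻¹) := by group
        _ = x * c := by rw [e2, hc]
    have huV : u ∈ V := Subgroup.subset_closure (Set.mem_insert _ _)
    have hvV : v ∈ V := Subgroup.subset_closure (Set.mem_insert_of_mem _ rfl)
    have hc2 : c * c = 1 :=
      hfour u v c hu hv huo hvo huv hcom hcL (hcV u huV).symm (hcV v hvV).symm
    -- `c` lies in the four-group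
    have hcmem : c ∈ V := by
      set B := Subgroup.closure ({u, v, c} : Set X) with hB
      haveI : IsMulCommutative B := Subgroup.isMulCommutative_closure (by
        rintro a (rfl | rfl | rfl) b (rfl | rfl | rfl)
        all_goals first
          | rfl
          | exact hcom
          | exact hcom.symm
          | exact hcV _ huV
          | exact (hcV _ huV).symm
          | exact hcV _ hvV
          | exact (hcV _ hvV).symm)
      have hBc : ∀ a ∈ B, ∀ b ∈ B, a * b = b * a := fun a ha b hb =>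
        congrArg Subtype.val (mul_comm' (⟨a, ha⟩ : B) ⟨b, hb⟩)
      have hsq : ∀ a ∈ B, a * a = 1 := by
        intro a ha
        induction ha using Subgroup.closure_induction with
        | mem x hx =>
          rcases hx with rfl | rfl | rfl
          · exact hord2 _ huo
          · exact hord2 _ hvo
          · exact hc2
        | one => exact one_mul 1
        | mul x x' hx hx' ex ex' =>
          rw [mul_assoc, ← mul_assoc x' x x', hBc x' hx' x hx, mul_assoc x x' x', ex', mul_one, ex]
        | inv x _ ex => rw [← _root_.mul_inv_rev, ex, inv_one]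
      have hle := h.elementary (A := B) inferInstance hsq
      have hVB : V ≤ B := Subgroup.closure_mono (by simp [Set.insert_subset_iff])
      have h4 : 4 ≤ Nat.card V := by
        have hsub : ({1, u, v, u * v} : Finset X) ⊆ (Finset.univ.filter (fun x => x ∈ V)) := by
          intro x hx
          simp only [Finset.mem_insert, Finset.mem_singleton] at hx
          rw [Finset.mem_filter]
          refine ⟨Finset.mem_univ _, ?_⟩
          rcases hx with rfl | rfl | rfl | rfl
          exacts [one_mem V, huV, hvV, mul_mem huV hvV]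
        have hu1 : u ≠ 1 := fun e => by rw [e, orderOf_one] at huo; omega
        have hv1 : v ≠ 1 := fun e => by rw [e, orderOf_one] at hvo; omega
        have huv1 : u * v ≠ 1 := fun e => huv (by
          rw [mul_eq_one_iff_eq_inv] at e; rw [e]; exact inv_eq_of_mul_eq_one_right (hord2 v hvo))
        have := Finset.card_le_card hsub
        rw [Finset.card_insert_of_notMem, Finset.card_insert_of_notMem, Finset.card_pair,
          ← Fintype.card_subtype, ← Nat.card_eq_fintype_card] at this
        · exact this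
        · intro e; exact hu1 (mul_eq_right.1 e.symm)
        · simp only [Finset.mem_insert, Finset.mem_singleton]
          rintro (e | e)
          · exact huv e
          · exact hv1 (mul_eq_left.1 e.symm)
        · simp only [Finset.mem_insert, Finset.mem_singleton]
          rintro (e | e | e)
          · exact hu1 e.symm
          · exact hv1 e.symm
          · exact huv1 e.symm
      rw [Subgroup.eq_of_le_of_card_ge hVB (hle.trans h4)]
      exact Subgroup.subset_closure (by simp)
    have hk : ∀ k : ℕ, y ^ k * g * (y ^ k)⁻¹ = c ^ k * g := by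
      intro k
      induction k with
      | zero => simp
      | succ k ih =>
        rw [pow_succ', _root_.mul_inv_rev,
          show y * y ^ k * g * ((y ^ k)⁻¹ * y⁻¹) = y * (y ^ k * g * (y ^ k)⁻¹) * y⁻¹ by group, ih,
          show y * (c ^ k * g) * y⁻¹ = (y * c ^ k * y⁻¹) * (y * g * y⁻¹ * g⁻¹) * g by group, ← hc,
          show y * c ^ k * y⁻¹ = c ^ k by
            rw [hVy _ (pow_mem hcmem k), mul_inv_cancel_right], ← pow_succ]
    have hk' := hk (orderOf y)
    rw [pow_orderOf_eq_one, one_mul, inv_one, mul_one, right_eq_mul] at hk'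
    have hc1 : c = 1 := eq_one_of_sq_odd hc2 (hyo.of_dvd_nat (orderOf_dvd_of_pow_eq_one hk'))
    rw [hc, mul_inv_eq_one, mul_inv_eq_iff_eq_mul] at hc1
    exact hc1
  · intro v hv hvo
    obtain ⟨p, hp, hp1, hvp⟩ := hinvPSL v hv hvo
    set C := L ⊓ Subgroup.centralizer ({v} : Set X) with hC
    have hmap : C.map ι = (Subgroup.centralizer ({p} : Set PSL2)).map MulAut.conj := by
      ext β
      simp only [Subgroup.mem_map, hC, Subgroup.mem_inf, Subgroup.mem_centralizer_singleton_iff]
      constructor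
      · rintro ⟨x, ⟨hx, hxv⟩, rfl⟩
        obtain ⟨r, hr⟩ := hconj x hx
        refine ⟨r, conj_injective hnc ?_, hr.symm⟩
        rw [map_mul, map_mul, ← hr, ← hvp, ← map_mul, ← map_mul, hxv]
      · rintro ⟨r, hr, rfl⟩
        obtain ⟨x, hx, hxr⟩ := Subgroup.mem_map.1
          (show MulAut.conj r ∈ L.map ι by rw [hL]; exact ⟨r, rfl⟩)
        refine ⟨x, ⟨hx, hι ?_⟩, hxr⟩
        rw [map_mul, map_mul, hxr, hvp, ← map_mul, ← map_mul, hr]
    have hn : Nat.card C = Nat.card (Subgroup.centralizer ({p} : Set PSL2)) := by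
      rw [← Subgroup.card_map_of_injective (K := C) hι, hmap,
        Subgroup.card_map_of_injective (conj_injective hnc)]
    have hLcard : Nat.card L = Nat.card PSL2 := by
      rw [← Subgroup.card_map_of_injective (K := L) hι, hL]
      exact (Nat.card_congr (MonoidHom.ofInjective (conj_injective hnc)).toEquiv).symm
    obtain ⟨c, hc⟩ := isConj_iff.1 (PSL2Inv.isConj_pr_w h2 hp hp1)
    obtain ⟨e⟩ := centralizer_conj_equiv (⊤ : Subgroup PSL2) (PSL2Inv.pr SL2Inv.w) c trivial
    rw [hc, top_inf_eq, top_inf_eq] at e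
    rw [Nat.card_congr e.toEquiv, PSL2Inv.card_centralizer h2, SL2Inv.card_C h2] at hn
    have hm : Nat.card C * C.relIndex L = Nat.card L := by
      rw [← Subgroup.card_mul_index (C.subgroupOf L),
        Nat.card_congr (Subgroup.subgroupOfEquivOfLe (inf_le_left : C ≤ L)).toEquiv]
      rfl
    refine involution_count (q := Nat.card F) ?_ ?_ (by rw [Nat.card_eq_fintype_card]; omega)
    · rw [hn]; split_ifs <;> simp
    · rw [hm, hLcard, ← PSL2Inv.card_sl_eq h2, SL2Inv.card_sl2]

/-- The section facts. -/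
theorem sectionFacts : SectionFacts.{u} := by
  intro X _ _ h hO L hLn hLs hLnc ht hC
  haveI := hLn
  haveI := hLs
  rcases almost_target h L hLnc hC ht with h7 | ⟨F, _, _, hodd, h3, ι, hι, hL, hfld⟩
  · exact Or.inl h7
  · refine Or.inr ?_
    haveI : IsSimpleGroup (ProjectiveSpecialLinearGroup (Fin 2) F) :=
      Matrix.ProjectiveSpecialLinearGroup.rank_two_simple (by rw [Nat.card_eq_fintype_card]; omega)
    refine socleFacts h (fun hc => hLnc ?_) hodd h3 L hLn hLs hLnc ι hι hL hfld
    have hbot : L.map ι = ⊥ := by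
      rw [hL, Cfsg.Inn, MonoidHom.range_eq_bot_iff]
      ext p x
      simp [hc.is_comm.comm p x]
    rw [Subgroup.map_eq_bot_iff_of_injective _ hι] at hbot
    subst hbot
    exact ⟨⟨fun a b => Subsingleton.elim _ _⟩⟩

end Cfsg.Agent.GW
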