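import Cfsg.Agent.Lib.GW.Inverted
import Cfsg.Agent.Lib.GW.SectionFacts
import Cfsg.Agent.Lib.GW.OddInvariant
import Cfsg.Agent.Lib.Transfer.Basic

/-!
When a reflection is mixed on some `O_q(C)`, no nontrivial normal subgroup of `C` inside some `O_s(C)` is
centralised by it.
-/

set_option autoImplicit false
set_option linter.unusedSectionVars false
set_option linter.style.haveILetI false

namespace Cfsg.Agent.GW

open Cfsg.Agent.TwoFus Cfsg.Agent.BenderUnique

universe u

section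

variable {X : Type u} [Group X] [Finite X]

/-- In `A₇` the elements of odd order commuting with an involution form a cyclic group. -/
theorem seven_odd_cyclic (e : X ≃* alternatingGroup (Fin 7)) {v y y' : X} (hv : orderOf v = 2)
    (hy : Odd (orderOf y)) (hy' : Odd (orderOf y')) (h : v * y = y * v) (h' : v * y' = y' * v)
    (hy1 : y ≠ 1) : y' ∈ Subgroup.zpowers y := by
  obtain ⟨κ, hκ, hκv, -⟩ := seven_model e hv
  have key : ∀ x : X, Odd (orderOf x) → v * x = x * v → κ x = 1 ∨ κ x = pc1 ∨ κ x = pc1⁻¹ := by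
    intro x hx hvx
    have hcomm : ∀ i, A7Cert.v7 (κ x i) = κ x (A7Cert.v7 i) := fun i => by
      have h1 := congrArg κ hvx
      rw [map_mul, map_mul, hκv] at h1
      exact DFunLike.congr_fun h1 i
    rcases (chk_perm (κ x)).2 hcomm (oddSmall_of_odd _ (by rwa [orderOf_injective _ hκ])) with e1 | e1 | e1
    · exact Or.inl (Equiv.ext e1)
    · exact Or.inr (Or.inl (Equiv.ext e1))
    · exact Or.inr (Or.inr (Equiv.ext e1))
  rcases key y' hy' h' with e2 | e2 | e2
  · rw [hκ (e2.trans (map_one κ).symm)]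
    exact one_mem _
  all_goals
    rcases key y hy h with e1 | e1 | e1
    · exact absurd (hκ (e1.trans (map_one κ).symm)) hy1
    all_goals
      first
      | (rw [hκ (e2.trans e1.symm)]; exact Subgroup.mem_zpowers y)
      | (rw [show y' = y⁻¹ from hκ (by rw [e2, map_inv, e1]; try rw [inv_inv])]
         exact inv_mem (Subgroup.mem_zpowers y))

theorem Sock.facts (K : Sock X) (h : DihSylow X) :
    Nonempty ((X ⧸ Cfsg.oddCore X) ≃* alternatingGroup (Fin 7)) ∨
      SocleFacts (X ⧸ Cfsg.oddCore X) K.L := by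
  haveI : Fact (Nat.Prime 2) := ⟨Nat.prime_two⟩
  rcases sectionFacts _ (h.quotient _ oddCore_odd) (PBasic.pPrimeCore_quotient_pPrimeCore 2 X)
    K.L K.normal K.simple K.noncomm K.target K.cent with h7 | h7
  · exact Or.inl h7.2
  · exact Or.inr h7

/-- An odd element centralising a four-group of the socle commutes, modulo the odd core, with the
elements of the socle moving it, unless the elements inverted in it are trivial there. -/
theorem Sock.move_comm (K : Sock X) (h : DihSylow X) {u v w y g : X} (hu : orderOf u = 2)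
    (hv : orderOf v = 2) (hne : u ≠ v) (hc : u * v = v * u) (hu' : u ∈ socPre X) (hv' : v ∈ socPre X)
    (hy : Odd (orderOf y)) (hyu : y * u = u * y) (hyv : y * v = v * y) (hw : Odd (orderOf w))
    (hwu : w * u = u * w) (hwv : v * w * v⁻¹ = w⁻¹) (hg : mo X g ∈ K.L)
    (hgn : mo X g ∈ Subgroup.normalizer ((Subgroup.closure {mo X u, mo X v} : Subgroup _) : Set _)) :
    w ∈ Cfsg.oddCore X ∨ mo X (y * g) = mo X (g * y) := by
  have hyo : Odd (orderOf (mo X y)) := hy.of_dvd_nat (orderOf_map_dvd _ y)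
  have hwo : Odd (orderOf (mo X w)) := hw.of_dvd_nat (orderOf_map_dvd _ w)
  have hyu' : mo X y * mo X u = mo X u * mo X y := by rw [← map_mul, ← map_mul, hyu]
  have hyv' : mo X y * mo X v = mo X v * mo X y := by rw [← map_mul, ← map_mul, hyv]
  rcases K.facts h with ⟨⟨e⟩⟩ | hF
  · by_cases hy1 : mo X y = 1
    · exact Or.inr (by rw [map_mul, map_mul, hy1, one_mul, mul_one])
    left
    obtain ⟨i, hi⟩ := seven_odd_cyclic e (invol_mo hu) hyo hwo hyu'.symm
      (by rw [← map_mul, ← map_mul, hwu]) hy1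
    have hfix : mo X v * mo X w * (mo X v)⁻¹ = mo X w := by
      rw [← hi, (show Commute (mo X v) (mo X y ^ i) from
        (show Commute (mo X y) (mo X v) from hyv').symm.zpow_right i).eq, mul_inv_cancel_right]
    have hinv : mo X v * mo X w * (mo X v)⁻¹ = (mo X w)⁻¹ := by
      rw [← map_mul, ← map_inv, ← map_mul, ← map_inv, hwv]
    exact (mo_ker w).1 (eq_one_of_sq_odd
      (by nth_rewrite 1 [hfix.symm.trans hinv]; rw [inv_mul_cancel]) hwo)
  · right
    rw [map_mul, map_mul]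
    refine hF.klein_norm (mo X u) (mo X v) (mo X y) (mo X g) (K.mem_socPre.1 hu') (K.mem_socPre.1 hv')
      (invol_mo hu) (invol_mo hv) (fun e => ?_) (by rw [← map_mul, ← map_mul, hc]) hyo hyu' hyv' hg hgn
    have hm : u * v⁻¹ ∈ Cfsg.oddCore X := (mo_ker _).1 (by rw [map_mul, map_inv, e, mul_inv_cancel])
    refine hne (mul_inv_eq_one.1 (eq_one_of_sq_odd ?_ (odd_of_mem_core hm)))
    rw [inv_eq_of_mul_eq_one_right (sq_one hv), mul_assoc, ← mul_assoc v u v, ← hc, mul_assoc u v v,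
      sq_one hv, mul_one, sq_one hu]

end

namespace Core

variable {G : Type u} [Group G] [Finite G] {c : Core G} {a : G}

/-- A reflection is mixed on `O_q(C)`. -/
def Mixed (c : Core G) (a : G) (q : ℕ) : Prop :=
  c.Qc q ⊓ c.W a ≠ ⊥ ∧ ¬ c.Qc q ≤ c.W a

theorem Refl.no_normal (ha : c.Refl a) (hC : IsCoatom c.C) {q : ℕ} [Fact q.Prime] (hq2 : q ≠ 2)
    (hm : c.Mixed a q) {s : ℕ} [Fact s.Prime] {Y : Subgroup G} (hY0 : Y ≠ ⊥)
    (hY : Y ≤ c.Qc s ⊓ c.W a) (hn : c.C ≤ Subgroup.normalizer (Y : Set G)) : False := by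
  obtain ⟨cr⟩ := ha.exists_cross hq2 hm.2
  have hYC : Y ≤ c.C := hY.trans (inf_le_left.trans (c.Qc_le_C s))
  have hN : Subgroup.normalizer (Y : Set G) = c.C := normalizer_eq_C hC hYC hY0 hn
  have hcY : Subgroup.centralizer (Y : Set G) ≤ c.C :=
    hN ▸ Subgroup.centralizer_le_normalizer (Y : Set G)
  by_cases hsq : s = q
  · subst hsq
    have hmem : cr.h ∈ c.C :=
      hcY ((Subgroup.centralizer_le (cr.le_R ha hY)) cr.h_cent)
    have := cr.h_z ha
    rw [← c.mem_C.1 hmem, mul_inv_cancel_right] at this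
    exact cr.h_ne (eq_one_of_sq_odd (by nth_rewrite 1 [this]; rw [inv_mul_cancel])
      (cr.h_order ▸ cr.u_odd))
  set X0 := c.Qc q ⊓ c.W a with hX0d
  obtain ⟨⟨hzH, haH, ⟨S⟩, hzs, has⟩, hO⟩ := cr.local_inner ha hq2 hC hm.1 le_rfl
    (le_refl (Subgroup.centralizer (X0 : Set G))) (Subgroup.centralizer_le_normalizer _)
  set H := Subgroup.centralizer (X0 : Set G) with hH
  have hYQ : ∀ y ∈ Y, ∀ x ∈ c.Qc q, x * y = y * x := fun y hy x hx =>
    (Subgroup.mem_centralizer_iff.1
      (Subgroup.commutator_eq_bot_iff_le_centralizer.1 (coreIn_commute hsq c.C) (hY hy).1) x hx)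
  obtain ⟨u₀, hu₀D, hu₀1, hu₀i, hu₀c⟩ := ha.exists_inverted (coreIn_pGroup q c.C) (c.Qc_le_U hq2)
    (fun d hd => (Subgroup.mem_normalizer_iff.1 (normalizes_coreIn q c.C ha.mem_C) d).1 hd) hm.2
  have hu₀C : u₀ ∈ c.C := c.Qc_le_C q hu₀D
  have hu₀o : Odd (orderOf u₀) := c.odd_of_mem_U (c.Qc_le_U hq2 hu₀D)
  set zH : H := ⟨c.d.z, hzH⟩
  set aH : H := ⟨a, haH⟩
  set w : H := ⟨u₀, hu₀c⟩
  have hzo : orderOf zH = 2 := by rw [← Subgroup.orderOf_coe]; exact c.z_order
  have hao : orderOf aH = 2 := by rw [← Subgroup.orderOf_coe]; exact ha.order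
  have hne : zH ≠ aH := fun e => ha.ne_z (congrArg Subtype.val e).symm
  have hza : zH * aH = aH * zH := Subtype.ext ha.comm.symm
  have hd := ha.dihSylow H hzH haH
  have hwo : Odd (orderOf w) := by rw [← Subgroup.orderOf_coe]; exact hu₀o
  have hwz : w * zH = zH * w := Subtype.ext (c.mem_C.1 hu₀C)
  have hwa : aH * w * aH⁻¹ = w⁻¹ := Subtype.ext hu₀i
  have hwO : w ∉ Cfsg.oddCore H := fun hw => hu₀1 (by
    have hfix := (hO w hw).2
    have h2 : u₀ = u₀⁻¹ := by
      rw [← hu₀i]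
      exact (mul_inv_eq_iff_eq_mul.2 hfix.symm).symm
    exact eq_one_of_sq_odd (by nth_rewrite 1 [h2]; rw [inv_mul_cancel]) hu₀o)
  obtain ⟨g, hgres, hgL, hgz, hgn⟩ := S.exists_move hd hzo hao hne hza hzs has
  have hcO : ∀ o ∈ Cfsg.oddCore H, zH * o = o * zH := fun o ho => Subtype.ext (hO o ho).1.symm
  have hrO := S.res_comm_of_invol hzo hzs hcO
  -- the conjugate commutes with `Y`
  have hmem : ((g * w * g⁻¹ : H) : G) ∈ Subgroup.centralizer (Y : Set G) := by
    rw [Subgroup.mem_centralizer_iff]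
    intro y hy
    have hyW := ha.mem_W.1 (hY hy).2
    have hyH : y ∈ H := Subgroup.mem_centralizer_iff.2 fun x hx => hYQ y hy x hx.1
    have hyC := hYC hy
    have hyo : Odd (orderOf (⟨y, hyH⟩ : H)) := by
      rw [← Subgroup.orderOf_coe]; exact c.odd_of_mem_U hyW.1
    rcases S.move_comm hd hzo hao hne hza hzs has hyo (Subtype.ext (c.mem_C.1 hyC))
      (Subtype.ext hyW.2) hwo hwz hwa hgL hgn with e | e
    · exact absurd e hwO
    set yH : H := ⟨y, hyH⟩
    set ζ : H := yH * g * yH⁻¹ * g⁻¹ with hζ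
    have hζO : ζ ∈ Cfsg.oddCore H := (mo_ker _).1 (by
      rw [hζ, map_mul, map_mul (mo H) (yH * g), e, map_mul (mo H) g, map_inv, map_inv,
        mul_inv_cancel_right, mul_inv_cancel])
    have hζg : Commute g ζ := hrO g hgres ζ hζO
    have hζw : Commute w ζ := by
      refine inverted_comm hwa hwo ?_ ?_
      · exact mul_inv_eq_iff_eq_mul.2 (Subtype.ext (hO ζ hζO).2.symm)
      · refine mul_inv_eq_iff_eq_mul.2 (Subtype.ext (hO _ ?_).2.symm)
        exact (oddCore_normal (X := H)).conj_mem ζ hζO w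
    have hyw : yH * w * yH⁻¹ = w :=
      mul_inv_eq_iff_eq_mul.2 (Subtype.ext (hYQ y hy u₀ hu₀D).symm)
    have hfin : yH * (g * w * g⁻¹) * yH⁻¹ = g * w * g⁻¹ := by
      calc yH * (g * w * g⁻¹) * yH⁻¹ = (yH * g * yH⁻¹) * (yH * w * yH⁻¹) * (yH * g * yH⁻¹)⁻¹ := by group
        _ = (ζ * g) * w * (ζ * g)⁻¹ := by rw [hyw, hζ, inv_mul_cancel_right]
        _ = (g * ζ) * w * (g * ζ)⁻¹ := by rw [hζg.eq]
        _ = g * (ζ * w * ζ⁻¹) * g⁻¹ := by group
        _ = g * w * g⁻¹ := by rw [← hζw.eq, mul_inv_cancel_right]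
    exact congrArg Subtype.val (mul_inv_eq_iff_eq_mul.1 hfin)
  -- so it commutes with `z`
  have hgwz : zH * (g * w * g⁻¹) = g * w * g⁻¹ * zH := Subtype.ext (c.mem_C.1 (hcY hmem)).symm
  have h1 : Commute (mo H g⁻¹ * mo H zH * mo H g) (mo H w) := by
    have h2 : Commute (mo H zH) (mo H (g * w * g⁻¹)) := by
      show _ = _
      rw [← map_mul, ← map_mul, hgwz]
    have h3 : Commute ((mo H g)⁻¹ * mo H zH * mo H g) ((mo H g)⁻¹ * mo H (g * w * g⁻¹) * mo H g) := by
      show _ = _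
      calc (mo H g)⁻¹ * mo H zH * mo H g * ((mo H g)⁻¹ * mo H (g * w * g⁻¹) * mo H g)
          = (mo H g)⁻¹ * (mo H zH * mo H (g * w * g⁻¹)) * mo H g := by group
        _ = _ := by rw [h2.eq]; group
    rw [map_inv]
    simpa [map_mul, mul_assoc] using h3
  have hV := klein_closure (invol_mo hzo) (invol_mo hao) (fun e => ?_)
    (by rw [← map_mul, ← map_mul, hza] : mo H zH * mo H aH = mo H aH * mo H zH)
  · have hmem' : mo H g⁻¹ * mo H zH * mo H g ∈
        (Subgroup.closure {mo H zH, mo H aH} : Subgroup _) := by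
      rw [map_inv]
      exact (Subgroup.mem_normalizer_iff''.1 hgn _).1 (Subgroup.subset_closure (by simp))
    have hz1 : mo H zH ≠ 1 := fun e => by have := invol_mo hzo; rw [e, orderOf_one] at this; omega
    have ha1 : mo H aH ≠ 1 := fun e => by have := invol_mo hao; rw [e, orderOf_one] at this; omega
    have hza' : mo H zH ≠ mo H aH := fun e => by
      have hm : zH * aH⁻¹ ∈ Cfsg.oddCore H := (mo_ker _).1 (by rw [map_mul, map_inv, e, mul_inv_cancel])
      refine hne (mul_inv_eq_one.1 (eq_one_of_sq_odd ?_ (odd_of_mem_core hm)))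
      rw [inv_eq_of_mul_eq_one_right (sq_one hao), mul_assoc, ← mul_assoc aH zH aH, ← hza,
        mul_assoc zH aH aH, sq_one hao, mul_one, sq_one hzo]
    have hwinv : mo H aH * mo H w * (mo H aH)⁻¹ = (mo H w)⁻¹ := by
      rw [← map_mul, ← map_inv, ← map_mul, ← map_inv, hwa]
    have hwz' : Commute (mo H zH) (mo H w) := by
      show _ = _
      rw [← map_mul, ← map_mul, hwz]
    have hw1 : mo H w ≠ 1 := fun e => hwO ((mo_ker w).1 e)
    have hwsq : ∀ p, p * mo H w * p⁻¹ = (mo H w)⁻¹ → Commute p (mo H w) → False := fun p hp hpc => by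
      rw [hpc.eq, mul_inv_cancel_right] at hp
      exact hw1 (eq_one_of_sq_odd (by nth_rewrite 1 [hp]; rw [inv_mul_cancel])
        (hwo.of_dvd_nat (orderOf_map_dvd _ w)))
    rcases klein_cases hV (Subgroup.subset_closure (by simp)) (Subgroup.subset_closure (by simp)) hz1
      ha1 hza' hmem' with e | e | e | e
    · rw [map_inv] at e
      exact hz1 (by
        calc mo H zH = mo H g * ((mo H g)⁻¹ * mo H zH * mo H g) * (mo H g)⁻¹ := by group
          _ = 1 := by rw [e, mul_one, mul_inv_cancel])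
    · have e' : mo H (g * zH * g⁻¹) = mo H zH := by
        rw [map_inv] at e
        calc mo H (g * zH * g⁻¹) = mo H g * mo H zH * (mo H g)⁻¹ := by simp
          _ = mo H g * ((mo H g)⁻¹ * mo H zH * mo H g) * (mo H g)⁻¹ := by rw [e]
          _ = mo H zH := by group
      exact hza' (e'.symm.trans hgz)
    · rw [e] at h1
      exact hwsq _ hwinv h1
    · rw [e] at h1
      refine hwsq _ ?_ h1
      calc mo H zH * mo H aH * mo H w * (mo H zH * mo H aH)⁻¹
          = mo H zH * (mo H aH * mo H w * (mo H aH)⁻¹) * (mo H zH)⁻¹ := by group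
        _ = (mo H zH * mo H w * (mo H zH)⁻¹)⁻¹ := by rw [hwinv]; group
        _ = (mo H w)⁻¹ := by rw [hwz'.eq, mul_inv_cancel_right]
  · have hm : zH * aH⁻¹ ∈ Cfsg.oddCore H := (mo_ker _).1 (by rw [map_mul, map_inv, e, mul_inv_cancel])
    refine hne (mul_inv_eq_one.1 (eq_one_of_sq_odd ?_ (odd_of_mem_core hm)))
    rw [inv_eq_of_mul_eq_one_right (sq_one hao), mul_assoc, ← mul_assoc aH zH aH, ← hza,
      mul_assoc zH aH aH, sq_one hao, mul_one, sq_one hzo]

end Core

end Cfsg.Agent.GW
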