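import Cfsg.Agent.Lib.GW.Sock

/-!
Four-groups of a simple group with dihedral Sylow 2-subgroups are fused transitively by their normalisers,
and the residual of a section centralises the odd core when the four-group does.
-/

set_option autoImplicit false
set_option linter.unusedSectionVars false
set_option linter.style.haveILetI false

namespace Cfsg.Agent.GW

open Cfsg.Agent.TwoFus

universe u

variable {X : Type u} [Group X] [Finite X]

/-- A subgroup generated by two commuting distinct involutions. -/
theorem klein_closure {u v : X} (hu : orderOf u = 2) (hv : orderOf v = 2) (hne : u ≠ v)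
    (hc : u * v = v * u) : IsKleinFour (Subgroup.closure {u, v} : Subgroup X) := by
  classical
  haveI : Fact (Nat.Prime 2) := ⟨Nat.prime_two⟩
  set E : Subgroup X := Subgroup.closure {u, v} with hE
  have hmem : ∀ y ∈ E, y = 1 ∨ y = u ∨ y = v ∨ y = u * v := by
    intro y hy
    induction hy using Subgroup.closure_induction with
    | mem w hw => rcases hw with rfl | rfl <;> simp
    | one => exact Or.inl rfl
    | mul p r _ _ hp hr =>
      have e1 : u * (u * v) = v := by rw [← mul_assoc, sq_one hu, one_mul]
      have e2 : v * (u * v) = u := by rw [hc, ← mul_assoc, sq_one hv, one_mul]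
      have e3 : u * v * u = v := by rw [hc, mul_assoc, sq_one hu, mul_one]
      have e4 : u * v * v = u := by rw [mul_assoc, sq_one hv, mul_one]
      have e5 : u * v * (u * v) = 1 := by rw [← mul_assoc, e3, sq_one hv]
      rcases hp with rfl | rfl | rfl | rfl <;> rcases hr with rfl | rfl | rfl | rfl <;>
        simp [e1, e2, e3, e4, e5, ← hc, sq_one hu, sq_one hv]
    | inv p _ hp =>
      rcases hp with rfl | rfl | rfl | rfl
      · simp
      · simp [inv_eq_of_mul_eq_one_right (sq_one hu)]
      · simp [inv_eq_of_mul_eq_one_right (sq_one hv)]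
      · simp [mul_inv_rev, inv_eq_of_mul_eq_one_right (sq_one hu),
          inv_eq_of_mul_eq_one_right (sq_one hv), ← hc]
  have hu1 : u ≠ 1 := fun e => by rw [e, orderOf_one] at hu; omega
  have hv1 : v ≠ 1 := fun e => by rw [e, orderOf_one] at hv; omega
  have huv : u * v ≠ 1 := fun e => hne (by
    rw [eq_inv_of_mul_eq_one_left e, inv_eq_of_mul_eq_one_right (sq_one hv)])
  refine ⟨?_, ?_⟩
  · haveI : Fintype E := Fintype.ofFinite E
    rw [Nat.card_eq_fintype_card, ← Finset.card_univ]
    have huE : u ∈ E := Subgroup.subset_closure (by simp)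
    have hvE : v ∈ E := Subgroup.subset_closure (by simp)
    have : (Finset.univ : Finset E) = {1, ⟨u, huE⟩, ⟨v, hvE⟩, ⟨u * v, mul_mem huE hvE⟩} := by
      refine Finset.ext fun y => ⟨fun _ => ?_, fun _ => Finset.mem_univ _⟩
      rcases hmem y y.2 with e | e | e | e <;> simp [Subtype.ext_iff, e]
    rw [this, Finset.card_insert_of_notMem (by simp [Subtype.ext_iff, hu1.symm, hv1.symm, huv.symm]),
      Finset.card_insert_of_notMem (by simp [Subtype.ext_iff, hne, hv1]),
      Finset.card_insert_of_notMem (by simp [Subtype.ext_iff, hu1])]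
    simp
  · refine Nat.dvd_antisymm (Monoid.exponent_dvd_of_forall_pow_eq_one fun y => Subtype.ext ?_) ?_
    · rw [Subgroup.coe_pow, pow_two]
      rcases hmem y y.2 with e | e | e | e <;> rw [e]
      · simp
      · exact sq_one hu
      · exact sq_one hv
      · show u * v * (u * v) = 1
        rw [← mul_assoc, show u * v * u = v by rw [hc, mul_assoc, sq_one hu, mul_one], sq_one hv]
    · have := Monoid.order_dvd_exponent (⟨u, Subgroup.subset_closure (by simp)⟩ : E)
      rwa [Subgroup.orderOf_mk, hu] at this

/-- In a simple group with dihedral Sylow 2-subgroups the normaliser of a four-group is transitive on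
its involutions. -/
theorem simple_klein_move (h : DihSylow X) [IsSimpleGroup X] (hnc : ¬ IsMulCommutative X) {u v : X}
    (hu : orderOf u = 2) (hv : orderOf v = 2) (hne : u ≠ v) (hc : u * v = v * u) :
    ∃ w ∈ Subgroup.normalizer ((Subgroup.closure {u, v} : Subgroup X) : Set X), w * u * w⁻¹ = v := by
  classical
  haveI : Fact (Nat.Prime 2) := ⟨Nat.prime_two⟩
  have hV := klein_closure hu hv hne hc
  set V : Subgroup X := Subgroup.closure {u, v}
  obtain ⟨P, hVP⟩ := (IsPGroup.of_card (p := 2) (n := 2) hV.card_four).exists_le_sylow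
  obtain ⟨k, hk, ⟨e⟩⟩ := h.two_pow P
  obtain ⟨d, -⟩ := exists_dih P (m := 2 ^ k) (by
    calc 2 = 2 ^ 1 := rfl
      _ ≤ 2 ^ k := Nat.pow_le_pow_right two_pos hk) e
  have h3 : 3 ∣ (Subgroup.centralizer (V : Set X)).relIndex (Subgroup.normalizer (V : Set X)) := by
    have h6 := klein_relIndex_dvd hV
    by_contra h3
    obtain ⟨-, i, hi⟩ := d.klein_exists_form hV hVP
    have hOT : OddTrivial V := klein_oddTrivial (by
      have hle := Nat.le_of_dvd (by norm_num) h6
      generalize (Subgroup.centralizer (V : Set X)).relIndex (Subgroup.normalizer (V : Set X)) = r at *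
      interval_cases r <;> omega)
    obtain ⟨K, hK, hK2⟩ := dih_index_two P d (i + 1) fun E hEP hE => by
      by_cases hsmall : 4 < Nat.card (P : Subgroup X)
      · have h4 := d.four_dvd P.isPGroup' hsmall
        obtain ⟨-, j, hj⟩ := d.klein_exists_form hE hEP
        rcases Int.even_or_odd (j - i) with he | he
        · left
          obtain ⟨s, -, hs⟩ := d.klein_conj hV hE hVP hEP hi hj he.two_dvd
          refine klein_oddTrivial ?_
          rw [← hs, relIndex_centralizer_conj]
          have hle := Nat.le_of_dvd (by norm_num) h6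
          generalize (Subgroup.centralizer (V : Set X)).relIndex (Subgroup.normalizer (V : Set X)) = r at *
          interval_cases r <;> omega
        · right
          refine d.klein_le_half h4 hE hEP hj ?_
          obtain ⟨l, hl⟩ := he
          exact ⟨l, by linarith⟩
      · left
        have e : E = V := by
          have h1 : V = (P : Subgroup X) :=
            Subgroup.eq_of_le_of_card_ge hVP (by rw [hV.card_four]; omega)
          have h2 : E = (P : Subgroup X) :=
            Subgroup.eq_of_le_of_card_ge hEP (by rw [hE.card_four]; omega)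
          rw [h1, h2]
        rw [e]; exact hOT
    exact ZStarApps.no_index_two hnc K hK hK2
  obtain ⟨w, hw, hwv, -⟩ := klein_transitive (a := u) (b := v) hV h3 (Subgroup.subset_closure (by simp))
    (Subgroup.subset_closure (by simp)) (fun e => by rw [e, orderOf_one] at hu; omega)
    (fun e => by rw [e, orderOf_one] at hv; omega)
  exact ⟨w, hw, hwv⟩

theorem conj_closure_mem {Y : Type u} [Group Y] [Finite Y] {S : Subgroup Y} {g : Y}
    (hg : ∀ y ∈ S, g * y * g⁻¹ ∈ S) : g ∈ Subgroup.normalizer (S : Set Y) :=
  Subgroup.mem_normalizer_fintype hg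

/-- In a section, a lift of a transitive element of a four-group of the socle, inside the residual. -/
theorem Sock.exists_move (K : Sock X) (h : DihSylow X) {u v : X} (hu : orderOf u = 2) (hv : orderOf v = 2)
    (hne : u ≠ v) (hc : u * v = v * u) (hu' : u ∈ socPre X) (hv' : v ∈ socPre X) :
    ∃ g ∈ res X, mo X g ∈ K.L ∧ mo X (g * u * g⁻¹) = mo X v ∧
      mo X g ∈ Subgroup.normalizer ((Subgroup.closure {mo X u, mo X v} : Subgroup _) : Set _) := by
  classical
  haveI := K.normal
  haveI := K.simple
  haveI := quotient_solvable K.cent K.target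
  have hd : DihSylow K.L := (h.quotient _ oddCore_odd).of_normal K.L K.simple K.noncomm
  set u' : K.L := ⟨mo X u, K.mem_socPre.1 hu'⟩
  set v' : K.L := ⟨mo X v, K.mem_socPre.1 hv'⟩
  have hne' : u' ≠ v' := by
    intro e
    have e' : mo X u = mo X v := congrArg Subtype.val e
    have hm : u * v⁻¹ ∈ Cfsg.oddCore X := (mo_ker _).1 (by rw [map_mul, map_inv, e', mul_inv_cancel])
    refine hne (mul_inv_eq_one.1 (eq_one_of_sq_odd ?_ (odd_of_mem_core hm)))
    rw [inv_eq_of_mul_eq_one_right (sq_one hv), mul_assoc, ← mul_assoc v u v, ← hc, mul_assoc u v v,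
      sq_one hv, mul_one, sq_one hu]
  obtain ⟨⟨w, hwL⟩, hwN, hw⟩ := simple_klein_move hd K.noncomm
    (u := u') (v := v') (by rw [Subgroup.orderOf_mk]; exact invol_mo hu)
    (by rw [Subgroup.orderOf_mk]; exact invol_mo hv) hne'
    (Subtype.ext (by show mo X u * mo X v = mo X v * mo X u; rw [← map_mul, ← map_mul, hc]))
  have hwS : w ∈ (socPre X).map (mo X) := by
    obtain ⟨y, rfl⟩ := QuotientGroup.mk'_surjective (Cfsg.oddCore X) w
    exact ⟨y, K.mem_socPre.2 hwL, rfl⟩
  rw [socPre, Subgroup.map_sup, (Subgroup.map_eq_bot_iff (Cfsg.oddCore X) (f := mo X)).2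
    (QuotientGroup.ker_mk' _).ge, sup_bot_eq] at hwS
  obtain ⟨g, hg, rfl⟩ := hwS
  refine ⟨g, hg, hwL, ?_, ?_⟩
  · rw [map_mul, map_mul, map_inv]; exact congrArg Subtype.val hw
  · refine conj_closure_mem fun y hy => ?_
    have himg : (Subgroup.closure {mo X u, mo X v} : Subgroup _) =
        (Subgroup.closure {u', v'} : Subgroup K.L).map K.L.subtype := by
      rw [MonoidHom.map_closure, Set.image_pair]; rfl
    rw [himg] at hy ⊢
    obtain ⟨y', hy', rfl⟩ := hy
    exact ⟨_, (Subgroup.mem_normalizer_iff.1 hwN y').1 hy', rfl⟩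

/-- When the involutions of the preimage of the socle centralise the odd core, so does the residual. -/
theorem Sock.res_comm_of_invol (K : Sock X) {v : X} (hv : orderOf v = 2) (hv' : v ∈ socPre X)
    (hc : ∀ o ∈ Cfsg.oddCore X, v * o = o * v) :
    ∀ r ∈ res X, ∀ o ∈ Cfsg.oddCore X, r * o = o * r := by
  haveI := oddCore_normal (X := X)
  haveI := K.normal
  haveI := K.simple
  set Z := Subgroup.centralizer (Cfsg.oddCore X : Set X) with hZ
  haveI hZn : Z.Normal := Subgroup.normal_centralizer
  haveI : (Z.map (mo X)).Normal := Subgroup.Normal.map hZn _ (QuotientGroup.mk'_surjective _)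
  have hvZ : mo X v ∈ Z.map (mo X) :=
    Subgroup.mem_map_of_mem _ (Subgroup.mem_centralizer_iff.2 fun o ho => (hc o ho).symm)
  have hLE : K.L ≤ Z.map (mo X) := by
    rcases (Subgroup.Normal.subgroupOf (inferInstance : (Z.map (mo X)).Normal) K.L).eq_bot_or_eq_top
      with e | e
    · exfalso
      have hm : (⟨mo X v, K.mem_socPre.1 hv'⟩ : K.L) ∈ (Z.map (mo X)).subgroupOf K.L := hvZ
      rw [e, Subgroup.mem_bot] at hm
      have h2 := invol_mo hv
      rw [show mo X v = 1 from congrArg Subtype.val hm, orderOf_one] at h2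
      omega
    · exact Subgroup.subgroupOf_eq_top.1 e
  haveI := quotient_solvable K.cent K.target
  have hres : res X ≤ Z ⊔ Cfsg.oddCore X := by
    have h := ((res_map_le (mo X)).trans (res_le_of_solvable K.L)).trans hLE
    rwa [Subgroup.map_le_iff_le_comap, Subgroup.comap_map_eq, QuotientGroup.ker_mk'] at h
  have hrE : res X ≤ Z := by
    set f := QuotientGroup.mk' Z with hf
    haveI := oddCore_solvable (X := X)
    haveI : Group.IsSolvable ((Cfsg.oddCore X).map f) :=
      Group.isSolvable_of_surjective (f.subgroupMap_surjective (Cfsg.oddCore X))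
    have hle : (res X).map f ≤ (Cfsg.oddCore X).map f := by
      refine (Subgroup.map_mono hres).trans ?_
      rw [Subgroup.map_sup]
      refine sup_le ?_ le_rfl
      rw [(Subgroup.map_eq_bot_iff _).2 (QuotientGroup.ker_mk' Z).ge]
      exact bot_le
    haveI : Group.IsSolvable ((res X).map f) := Components.isSolvable_mono hle
    have hb : (res X).map f = ⊥ := by
      by_contra hne
      haveI : Nontrivial ((res X).map f) := (Subgroup.nontrivial_iff_ne_bot _).2 hne
      haveI : Group.IsPerfect ((res X).map f) := Subgroup.isPerfect_iff.2 (by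
        rw [← Subgroup.map_commutator, res_commutator])
      exact (Group.IsSolvable.commutator_lt_top_of_nontrivial ((res X).map f)).ne
        Group.IsPerfect.commutator_eq_top
    rwa [Subgroup.map_eq_bot_iff, QuotientGroup.ker_mk'] at hb
  exact fun r hr o ho => (Subgroup.mem_centralizer_iff.1 (hrE hr) o ho).symm

end Cfsg.Agent.GW
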