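import Cfsg.Agent.Lib.GW.Index
import Cfsg.Agent.Lib.GW.NoNormal
import Cfsg.Agent.Lib.GW.Rot
import Cfsg.Agent.Lib.GW.LinearMain
import Mathlib.GroupTheory.FiniteAbelian.Duality
import Mathlib.Analysis.Complex.Polynomial.Basic

/-!
Coherent abelian sections of `U`: when every reflection has a rotation acting trivially on the image of
its `W`, the section is trivial; such rotations come from the centraliser of a Sylow subgroup of `W`.
-/

set_option autoImplicit false
set_option linter.unusedSectionVars false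
set_option linter.style.haveILetI false

namespace Cfsg.Agent.GW

open Cfsg.Agent.TwoFus

universe u

section

variable {X : Type u} [Group X] [Finite X]

/-- Congruent involutions centralising the odd core are equal. -/
theorem invol_eq_of_congr {u v : X} (hu : u * u = 1) (hv : v * v = 1)
    (_huc : ∀ o ∈ Cfsg.oddCore X, u * o = o * u) (hvc : ∀ o ∈ Cfsg.oddCore X, v * o = o * v)
    (h : mo X u = mo X v) : u = v := by
  have hm : u * v ∈ Cfsg.oddCore X := (mo_ker _).1 (by rw [map_mul, h, ← map_mul, hv, map_one])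
  have hs : u * v * (u * v) = 1 := by
    calc u * v * (u * v) = u * (v * (u * v)) := mul_assoc _ _ _
      _ = u * (u * v * v) := by rw [hvc _ hm]
      _ = 1 := by rw [mul_assoc u v v, hv, mul_one, hu]
  rw [eq_inv_of_mul_eq_one_left (eq_one_of_sq_odd hs (odd_of_mem_core hm)),
    inv_eq_of_mul_eq_one_right hv]

end

namespace Core

variable {G : Type u} [Group G] [Finite G] {c : Core G} {a : G}

/-- A coherent abelian section of `U` on which `P` acts trivially is trivial. -/
theorem top_of_coherent (N : Subgroup G) (hNU : N ≤ c.U)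
    (hN : c.C ≤ Subgroup.normalizer (N : Set G))
    (hab : ∀ u ∈ c.U, ∀ v ∈ c.U, u * v * u⁻¹ * v⁻¹ ∈ N)
    (hP : ∀ s ∈ (c.P : Subgroup G), ∀ u ∈ c.U, s * u * s⁻¹ * u⁻¹ ∈ N)
    (hcoh : ∀ v, c.Refl v → ∃ k, k * c.d.z * k⁻¹ = v ∧
      k ∈ Subgroup.normalizer ((Subgroup.closure {c.d.z, v} : Subgroup G) : Set G) ∧
      ∀ w ∈ c.W v, k * w * k⁻¹ * w⁻¹ ∈ N) : N = c.U := by
  classical
  haveI := c.simple
  haveI := Fintype.ofFinite G
  refine le_antisymm hNU fun u hu => ?_
  by_contra huN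
  haveI hn : (N.subgroupOf c.U).Normal := ⟨fun x hx g => by
    rw [Subgroup.mem_subgroupOf] at hx ⊢
    exact (Subgroup.mem_normalizer_iff.1 (hN (c.U_le g.2)) x).1 hx⟩
  letI : CommGroup (c.U ⧸ N.subgroupOf c.U) :=
    { (inferInstance : Group (c.U ⧸ N.subgroupOf c.U)) with
      mul_comm := fun p q => by
        induction p using QuotientGroup.induction_on with
        | _ x =>
        induction q using QuotientGroup.induction_on with
        | _ y =>
        rw [← QuotientGroup.mk_mul, ← QuotientGroup.mk_mul, QuotientGroup.eq, Subgroup.mem_subgroupOf]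
        have := hab _ (inv_mem y.2) _ (inv_mem x.2)
        simpa [mul_assoc] using this }
  obtain ⟨φ, hφ⟩ := CommGroup.exists_apply_ne_one_of_hasEnoughRootsOfUnity
    (c.U ⧸ N.subgroupOf c.U) ℂ (a := ((⟨u, hu⟩ : c.U) : c.U ⧸ N.subgroupOf c.U))
    (fun e => huN (Subgroup.mem_subgroupOf.1 ((QuotientGroup.eq_one_iff _).1 e)))
  set μ : c.U →* ℂˣ := φ.comp (QuotientGroup.mk' (N.subgroupOf c.U)) with hμd
  have hμN : ∀ w w' : c.U, (w' : G) * (w : G)⁻¹ ∈ N → μ w' = μ w := by
    intro w w' h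
    rw [← mul_inv_eq_one, ← map_inv, ← map_mul, hμd, MonoidHom.comp_apply, QuotientGroup.mk'_apply,
      (QuotientGroup.eq_one_iff (w' * w⁻¹)).2 (Subgroup.mem_subgroupOf.2 h), map_one]
  have hμ : μ = 1 := linear_eq_one (fun h => c.noncomm ⟨⟨h⟩⟩) c.P c.d c.U c.U_le c.U_conj c.U_odd
    (by rw [c.C_card, c.d.card]) μ
    (fun s hs w w' e => hμN w w' (by rw [e]; exact hP s hs w w.2))
    (fun v hv hvv hv1 hvz => by
      have hr : c.Refl v := ⟨hv, fun h => (c.d.sq_cases h hvv).elim hv1 hvz⟩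
      obtain ⟨k, hk1, hk2, hk3⟩ := hcoh v hr
      exact ⟨k, hk1, hk2, fun w w' hw e => hμN w w' (by
        rw [e]; exact hk3 w (hr.mem_W.2 ⟨w.2, hw⟩))⟩)
  refine hφ ?_
  simpa [hμd] using DFunLike.congr_fun hμ ⟨u, hu⟩

/-- An element of the residual of an inner section rotating the four-group exactly. -/
theorem Refl.exists_move_exact (ha : c.Refl a) {H : Subgroup G} (hI : c.Inner a H)
    (hO : ∀ o ∈ Cfsg.oddCore H, (o : G) * c.d.z = c.d.z * o ∧ (o : G) * a = a * o) :
    ∃ k : H, k ∈ res H ∧ (k : G) * c.d.z * (k : G)⁻¹ = a ∧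
      (k : G) ∈ Subgroup.normalizer ((Subgroup.closure {c.d.z, a} : Subgroup G) : Set G) ∧
      (∀ o ∈ Cfsg.oddCore H, k * o = o * k) ∧
      ((∃ r ∈ H ⊓ c.U, a * r * a⁻¹ = r⁻¹ ∧ ∀ hr, (⟨r, hr⟩ : H) ∉ Cfsg.oddCore H) →
        ∀ w ∈ c.W a ⊓ H, ∃ o ∈ Cfsg.oddCore H, o ∈ res H ∧ (k : G) * w * (k : G)⁻¹ = (o : G) * w) := by
  obtain ⟨hzH, haH, ⟨S⟩, hzs, has⟩ := hI
  set zH : H := ⟨c.d.z, hzH⟩
  set aH : H := ⟨a, haH⟩
  have hzo : orderOf zH = 2 := by rw [← Subgroup.orderOf_coe]; exact c.z_order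
  have hao : orderOf aH = 2 := by rw [← Subgroup.orderOf_coe]; exact ha.order
  have hne : zH ≠ aH := fun e => ha.ne_z (congrArg Subtype.val e).symm
  have hza : zH * aH = aH * zH := Subtype.ext ha.comm.symm
  have hd := ha.dihSylow H hzH haH
  have hcz : ∀ o ∈ Cfsg.oddCore H, zH * o = o * zH := fun o ho => Subtype.ext (hO o ho).1.symm
  have hca : ∀ o ∈ Cfsg.oddCore H, aH * o = o * aH := fun o ho => Subtype.ext (hO o ho).2.symm
  obtain ⟨g, hg, hgL, hgz, hgn⟩ := S.exists_move hd hzo hao hne hza hzs has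
  have hgc := S.res_comm_of_invol hzo hzs hcz g hg
  have hconj : ∀ v : H, (∀ o ∈ Cfsg.oddCore H, v * o = o * v) →
      ∀ o ∈ Cfsg.oddCore H, g * v * g⁻¹ * o = o * (g * v * g⁻¹) := fun v hv o ho =>
    (((show Commute g o from hgc o ho).mul_left (hv o ho)).mul_left
      (show Commute g o from hgc o ho).inv_left).eq
  have hsq : ∀ v : H, v * v = 1 → g * v * g⁻¹ * (g * v * g⁻¹) = 1 := fun v hv => by
    rw [conj_mul, hv, mul_one, mul_inv_cancel]
  have hz2 : zH * zH = 1 := sq_one hzo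
  have ha2 : aH * aH = 1 := sq_one hao
  have hza2 : zH * aH * (zH * aH) = 1 := Subtype.ext ha.mul_z.sq
  have hcza : ∀ o ∈ Cfsg.oddCore H, zH * aH * o = o * (zH * aH) := fun o ho =>
    ((show Commute zH o from hcz o ho).mul_left (hca o ho)).eq
  have e1 : g * zH * g⁻¹ = aH := invol_eq_of_congr (hsq _ hz2) ha2 (hconj _ hcz) hca hgz
  have hz1 : mo H zH ≠ 1 := fun e => by have := invol_mo hzo; rw [e, orderOf_one] at this; omega
  have ha1 : mo H aH ≠ 1 := fun e => by have := invol_mo hao; rw [e, orderOf_one] at this; omega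
  have hneb : mo H zH ≠ mo H aH := fun e => hne (invol_eq_of_congr hz2 ha2 hcz hca e)
  have e2 : g * aH * g⁻¹ = zH ∨ g * aH * g⁻¹ = zH * aH := by
    have hV := klein_closure (invol_mo hzo) (invol_mo hao) hneb (by rw [← map_mul, ← map_mul, hza])
    have hm : mo H (g * aH * g⁻¹) ∈ (Subgroup.closure {mo H zH, mo H aH} : Subgroup _) := by
      rw [map_mul, map_mul, map_inv]
      exact (Subgroup.mem_normalizer_iff.1 hgn _).1 (Subgroup.subset_closure (by simp))
    rcases klein_cases hV (Subgroup.subset_closure (by simp)) (Subgroup.subset_closure (by simp)) hz1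
      ha1 hneb hm with e | e | e | e
    · rw [map_mul, map_mul, map_inv] at e
      exact absurd (conj_eq_one_iff.1 e) ha1
    · exact Or.inl (invol_eq_of_congr (hsq _ ha2) hz2 (hconj _ hca) hcz e)
    · refine absurd ?_ hneb
      rw [← hgz, map_mul, map_mul, map_inv, map_mul, map_mul, map_inv] at e
      exact (mul_left_cancel (mul_right_cancel e)).symm
    · rw [← map_mul] at e
      exact Or.inr (invol_eq_of_congr (hsq _ ha2) hza2 (hconj _ hca) hcza e)
  refine ⟨g, hg, congrArg Subtype.val e1, ?_, hgc, ?_⟩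
  · refine conj_closure_mem fun y hy => ?_
    set V : Subgroup G := Subgroup.closure {c.d.z, a}
    have hzV : c.d.z ∈ V := Subgroup.subset_closure (by simp)
    have haV : a ∈ V := Subgroup.subset_closure (by simp)
    induction hy using Subgroup.closure_induction with
    | mem x hx =>
      rcases hx with rfl | rfl
      · rw [show (g : G) * c.d.z * (g : G)⁻¹ = a from congrArg Subtype.val e1]
        exact haV
      · rcases e2 with e | e
        · rw [show (g : G) * x * (g : G)⁻¹ = c.d.z from congrArg Subtype.val e]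
          exact hzV
        · rw [show (g : G) * x * (g : G)⁻¹ = c.d.z * x from congrArg Subtype.val e]
          exact mul_mem hzV haV
    | one => simp
    | mul p r _ _ hp hr => rw [← conj_mul]; exact mul_mem hp hr
    | inv p _ hp => rw [← conj_inv]; exact inv_mem hp
  · rintro ⟨r, ⟨hrH, hrU⟩, hri, hrO⟩ w ⟨hw, hwH⟩
    obtain ⟨hwz, hwa, -⟩ := ha.W_comm hw
    rcases S.move_comm hd hzo hao hne hza hzs has (y := ⟨w, hwH⟩) (w := ⟨r, hrH⟩)
      (by rw [← Subgroup.orderOf_coe]; exact c.odd_of_mem_U (ha.mem_W.1 hw).1)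
      (Subtype.ext hwz) (Subtype.ext hwa)
      (by rw [← Subgroup.orderOf_coe]; exact c.odd_of_mem_U hrU)
      (Subtype.ext (c.mem_C.1 (c.U_le hrU))) (Subtype.ext hri) hgL hgn with e | e
    · exact absurd e (hrO hrH)
    set wH : H := ⟨w, hwH⟩
    refine ⟨g * wH * g⁻¹ * wH⁻¹, (mo_ker _).1 ?_, ?_, ?_⟩
    · rw [map_mul, map_mul (mo H) (g * wH), map_inv, map_inv, ← e, map_mul,
        mul_inv_cancel_right, mul_inv_cancel]
    · rw [show g * wH * g⁻¹ * wH⁻¹ = g * (wH * g⁻¹ * wH⁻¹) by group]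
      exact mul_mem hg ((res_normal (X := H)).conj_mem _ (inv_mem hg) wH)
    · simp [wH, mul_assoc]

/-- A rotation in the centraliser of a Sylow `q`-subgroup of `W` is coherent on abelian `q`-sections
of `U`. -/
theorem Cross.coherent {q : ℕ} [Fact q.Prime] (cr : c.Cross a q) (_hq2 : q ≠ 2) (ha : c.Refl a)
    (hI : c.Inner a (Subgroup.centralizer (cr.R : Set G)))
    (hO : ∀ o ∈ Cfsg.oddCore (Subgroup.centralizer (cr.R : Set G)),
      (o : G) * c.d.z = c.d.z * o ∧ (o : G) * a = a * o)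
    (N : Subgroup G) (_hNU : N ≤ c.U) (hN : c.C ≤ Subgroup.normalizer (N : Set G))
    (hab : ∀ u ∈ c.U, ∀ v ∈ c.U, u * v * u⁻¹ * v⁻¹ ∈ N)
    (hpow : ∀ u ∈ c.U, ∃ n, u ^ (q ^ n) ∈ N) :
    ∃ k, k * c.d.z * k⁻¹ = a ∧
      k ∈ Subgroup.normalizer ((Subgroup.closure {c.d.z, a} : Subgroup G) : Set G) ∧
      ∀ w ∈ c.W a, k * w * k⁻¹ * w⁻¹ ∈ N := by
  classical
  obtain ⟨⟨k, hkH⟩, -, hk1, hk2, -, -⟩ := ha.exists_move_exact hI hO
  refine ⟨k, hk1, hk2, ?_⟩
  set V : Subgroup G := Subgroup.closure {c.d.z, a}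
  have hkW : ∀ w ∈ c.W a, k * w * k⁻¹ ∈ c.W a := by
    intro w hw
    have hcV : V ≤ Subgroup.centralizer ({w} : Set G) := by
      rw [Subgroup.closure_le]
      rintro x (rfl | rfl)
      · exact Subgroup.mem_centralizer_singleton_iff.2 (ha.W_comm hw).1.symm
      · exact Subgroup.mem_centralizer_singleton_iff.2 (ha.W_comm hw).2.1.symm
    have key : ∀ v ∈ V, k * w * k⁻¹ * v = v * (k * w * k⁻¹) := by
      intro v hv
      have h1 := Subgroup.mem_centralizer_singleton_iff.1
        (hcV ((Subgroup.mem_normalizer_iff''.1 hk2 v).1 hv))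
      calc k * w * k⁻¹ * v = k * (w * (k⁻¹ * v * k)) * k⁻¹ := by group
        _ = k * (k⁻¹ * v * k * w) * k⁻¹ := by rw [h1]
        _ = v * (k * w * k⁻¹) := by group
    refine ha.mem_W.2 ⟨c.mem_U_of_odd (c.mem_C.2 (key _ (Subgroup.subset_closure (by simp)))) ?_,
      key _ (Subgroup.subset_closure (by simp))⟩
    rw [← MulAut.conj_apply, MulEquiv.orderOf_eq]
    exact c.odd_of_mem_U (ha.mem_W.1 hw).1
  haveI hn : (N.subgroupOf c.U).Normal := ⟨fun x hx g => by
    rw [Subgroup.mem_subgroupOf] at hx ⊢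
    exact (Subgroup.mem_normalizer_iff.1 (hN (c.U_le g.2)) x).1 hx⟩
  letI : CommGroup (c.U ⧸ N.subgroupOf c.U) :=
    { (inferInstance : Group (c.U ⧸ N.subgroupOf c.U)) with
      mul_comm := fun p q => by
        induction p using QuotientGroup.induction_on with
        | _ x =>
        induction q using QuotientGroup.induction_on with
        | _ y =>
        rw [← QuotientGroup.mk_mul, ← QuotientGroup.mk_mul, QuotientGroup.eq, Subgroup.mem_subgroupOf]
        have := hab _ (inv_mem y.2) _ (inv_mem x.2)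
        simpa [mul_assoc] using this }
  let π : c.U →* c.U ⧸ N.subgroupOf c.U := QuotientGroup.mk' _
  let f : c.W a → c.U := fun w => ⟨k * (w : G) * k⁻¹, (ha.mem_W.1 (hkW w w.2)).1⟩
  let i : c.W a → c.U := fun w => ⟨w, (ha.mem_W.1 w.2).1⟩
  let ψ : c.W a →* c.U ⧸ N.subgroupOf c.U := MonoidHom.mk' (fun w => π (f w) * (π (i w))⁻¹) fun w w' => by
    have h1 : f (w * w') = f w * f w' := Subtype.ext (by simp [f, mul_assoc])
    have h2 : i (w * w') = i w * i w' := Subtype.ext rfl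
    rw [h1, h2, map_mul, map_mul, mul_inv, mul_mul_mul_comm]
  have hR : cr.R.subgroupOf (c.W a) ≤ ψ.ker := fun w hw => by
    have hc : k * (w : G) * k⁻¹ = w := by
      rw [← Subgroup.mem_centralizer_iff.1 hkH _ (Subgroup.mem_subgroupOf.1 hw), mul_inv_cancel_right]
    show π (f w) * (π (i w))⁻¹ = 1
    rw [show f w = i w from Subtype.ext hc, mul_inv_cancel]
  have hrange : IsPGroup q ψ.range := by
    rintro ⟨_, w, rfl⟩
    obtain ⟨n, hn'⟩ := hpow _ ((f w * (i w)⁻¹ : c.U)).2
    refine ⟨n, Subtype.ext ?_⟩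
    show (π (f w) * (π (i w))⁻¹) ^ q ^ n = 1
    rw [← map_inv, ← map_mul, ← map_pow]
    exact (QuotientGroup.eq_one_iff _).2 (Subgroup.mem_subgroupOf.2 (by
      rw [Subgroup.coe_pow]; exact hn'))
  let Q : Sylow q (c.W a) :=
    { toSubgroup := cr.R.subgroupOf (c.W a)
      isPGroup' := cr.R_pg.of_equiv (Subgroup.subgroupOfEquivOfLe cr.R_le).symm
      is_maximal' := by
        intro S hS hle
        have h := cr.R_max (S.map (c.W a).subtype)
          (fun x hx => ⟨⟨x, cr.R_le hx⟩, hle (Subgroup.mem_subgroupOf.2 hx), rfl⟩)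
          (Subgroup.map_subtype_le _) (hS.map _)
        ext w
        rw [Subgroup.mem_subgroupOf, ← h]
        exact ⟨fun hw => ⟨w, hw, rfl⟩, fun ⟨x, hx, e⟩ => Subtype.ext e ▸ hx⟩ }
  have hidx : ψ.ker.index = 1 := by
    obtain ⟨j, hj⟩ := hrange.exists_card_eq
    rw [← Subgroup.index_ker] at hj
    rcases Nat.eq_zero_or_pos j with h0 | h0
    · rw [hj, h0, pow_zero]
    · exact absurd ((hj ▸ dvd_pow_self q h0.ne').trans (Subgroup.index_dvd_of_le hR))
        Q.not_dvd_index
  intro w hw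
  have h1 : (⟨w, hw⟩ : c.W a) ∈ ψ.ker := by rw [Subgroup.index_eq_one.1 hidx]; trivial
  rw [MonoidHom.mem_ker, MonoidHom.mk'_apply, ← map_inv, ← map_mul] at h1
  exact Subgroup.mem_subgroupOf.1 ((QuotientGroup.eq_one_iff _).1 h1)

end Core

end Cfsg.Agent.GW
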