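import Cfsg.Agent.Lib.GW.RedScalarBase
import Cfsg.Agent.Lib.GW.Coherent

/-!
The configuration with scalars on the plane: by coherence `U` centralises the plane, which it does not.
-/

set_option autoImplicit false
set_option linter.unusedSectionVars false
set_option linter.style.haveILetI false

namespace Cfsg.Agent.GW.Core

open Cfsg.Agent.TwoFus Cfsg.Agent.BenderUnique Subgroup

universe u

variable {G : Type u} [Group G] [Finite G] {c : Core G} {a : G} {q : ℕ} [hq : Fact q.Prime]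
  {e f y : G}

/-- The configuration with scalars on the plane cannot occur. -/
theorem Red.scalar_false (R : c.Red a q e f y) (_hS : c.SecAll) (hF : c.SecFineAll)
    (hb : (c.d.x * a) * y * (c.d.x * a)⁻¹ * y ∈ zpowers f) : False := by
  classical
  have ha := R.refl
  set x := c.d.x with hx
  have hbR : c.Refl (x * a) := ⟨mul_mem c.d.hx ha.1, fun h => ha.2 (by
    have := mul_mem (inv_mem (mem_zpowers c.d.x)) h
    rwa [← hx, inv_mul_cancel_left] at this)⟩
  have hbf : x * a * f * (x * a)⁻¹ = f⁻¹ := R.other_inv hF hbR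
  have hby : x * a * y * (x * a)⁻¹ = y⁻¹ := R.exact_inv hbR.sq hbf hb
  have hxc : ∀ g : G, a * g * a⁻¹ = g⁻¹ → x * a * g * (x * a)⁻¹ = g⁻¹ → x * g = g * x := by
    intro g h1 h2
    refine mul_inv_eq_iff_eq_mul.1 (inv_injective ?_)
    calc (x * g * x⁻¹)⁻¹ = x * g⁻¹ * x⁻¹ := by group
      _ = x * (a * g * a⁻¹) * x⁻¹ := by rw [h1]
      _ = x * a * g * (x * a)⁻¹ := by group
      _ = g⁻¹ := h2
  have hxf := hxc f R.f_inv hbf
  have hxy := hxc y R.y_inv hby
  have hfU := R.f_U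
  have hyU := R.y_U
  have hfne : zpowers f ≠ ⊥ := fun e0 => R.f_ne (mem_bot.1 (e0 ▸ mem_zpowers f))
  have hey : e * y * e⁻¹ = y * f⁻¹ := by
    calc e * y * e⁻¹ = e * (y * e * y⁻¹)⁻¹ * y := by group
      _ = f⁻¹ * y := by
        rw [R.conj, mul_inv_rev, ← mul_assoc, ((show Commute e f from R.ef).inv_right).eq,
          mul_inv_cancel_right]
      _ = y * f⁻¹ := ((show Commute y f from R.yf).inv_right).eq.symm
  -- every reflection is mixed, with a fixed element moving `y` along the line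
  have hmix : ∀ v, c.Refl v → ∃ w ∈ c.Qc q ⊓ c.W v, w * y * w⁻¹ = y * f⁻¹ ∧ w * f = f * w := by
    intro v hv
    have hvf := ha.act_eq hv hxf R.f_inv
    have hvy := ha.act_eq hv hxy R.y_inv
    have heU : e ∈ c.U := c.Qc_le_U R.ne_two R.e_mem.1
    obtain ⟨r, hrU, hri, hwW, hrz⟩ := hv.decomp heU
    have hrQ : r ∈ c.Qc q := (zpowers_le.2 (mul_mem R.e_mem.1
      ((mem_normalizer_iff.1 (normalizes_coreIn q c.C hv.mem_C) _).1 (inv_mem R.e_mem.1)))) hrz
    have hwQ : r⁻¹ * e ∈ c.Qc q := mul_mem (inv_mem hrQ) R.e_mem.1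
    have hrf : r * f = f * r := R.line_central hrQ
    have hrC : r ∈ c.C := c.U_le hrU
    have hry : r * y = y * r := by
      refine inverted_comm_inv hri (c.odd_of_mem_U hrU) hvy ?_
      have hm : r * y * r⁻¹ ∈ zpowers y ⊔ zpowers f :=
        (mem_normalizer_iff.1 (R.normA hrC) y).1 (mem_sup_left (mem_zpowers y))
      have hle : zpowers f ≤ normalizer (zpowers y : Set G) := le_trans (zpowers_le.2
        (mem_centralizer_iff.2 (by
          rintro _ ⟨i, rfl⟩; exact ((show Commute y f from R.yf).zpow_left i).eq)))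
        (centralizer_le_normalizer _)
      rw [← SetLike.mem_coe, coe_mul_of_right_le_normalizer_left _ _ hle] at hm
      obtain ⟨_, ⟨i, rfl⟩, _, ⟨j, rfl⟩, hij⟩ := Set.mem_mul.1 hm
      simp only at hij
      rw [← hij]
      calc v * (y ^ i * f ^ j) * v⁻¹ = v * y ^ i * v⁻¹ * (v * f ^ j * v⁻¹) := by group
        _ = (y ^ i)⁻¹ * (f ^ j)⁻¹ := by rw [← conj_zpow, ← conj_zpow, hvy, hvf, inv_zpow, inv_zpow]
        _ = (y ^ i * f ^ j)⁻¹ := by
          rw [mul_inv_rev, (((show Commute y f from R.yf).zpow_zpow i j).inv_inv).eq]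
    refine ⟨r⁻¹ * e, ⟨hwQ, hwW⟩, ?_, R.line_central hwQ⟩
    calc r⁻¹ * e * y * (r⁻¹ * e)⁻¹ = r⁻¹ * (e * y * e⁻¹) * r := by group
      _ = r⁻¹ * (y * f⁻¹) * r := by rw [hey]
      _ = y * f⁻¹ := by
        rw [mul_assoc, (show Commute r (y * f⁻¹) from
          (show Commute r y from hry).mul_right (show Commute r f from hrf).inv_right).eq.symm,
          inv_mul_cancel_left]
  have hQW : ∀ v, c.Refl v → ¬ c.Qc q ≤ c.W v := by
    intro v hv hle
    have h1 := ha.act_eq hv hxf R.f_inv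
    rw [← (hv.mem_W.1 (hle R.f_mem)).2, mul_inv_cancel_right] at h1
    exact R.f_ne (eq_one_of_sq_odd (by nth_rewrite 1 [h1]; rw [inv_mul_cancel]) (c.odd_of_mem_U hfU))
  -- step one: `U` acts trivially on the line and on the plane modulo it
  let N1 : Subgroup G :=
    { carrier := {u | u ∈ c.U ∧ u * f = f * u ∧ u * y * u⁻¹ * y⁻¹ ∈ zpowers f}
      one_mem' := ⟨one_mem _, by simp, by simp⟩
      mul_mem' := by
        rintro u w ⟨hu, huf, huy⟩ ⟨hw, hwf, hwy⟩
        refine ⟨mul_mem hu hw, ((show Commute u f from huf).mul_left hwf).eq, ?_⟩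
        rw [show u * w * y * (u * w)⁻¹ * y⁻¹ = u * (w * y * w⁻¹ * y⁻¹) * u⁻¹ * (u * y * u⁻¹ * y⁻¹) by group]
        exact mul_mem (R.conj_line (c.U_le hu) hwy) huy
      inv_mem' := by
        rintro u ⟨hu, huf, huy⟩
        refine ⟨inv_mem hu, ((show Commute u f from huf).inv_left).eq, ?_⟩
        rw [show u⁻¹ * y * u⁻¹⁻¹ * y⁻¹ = u⁻¹ * (u * y * u⁻¹ * y⁻¹)⁻¹ * u⁻¹⁻¹ by group]
        exact R.conj_line (c.U_le (inv_mem hu)) (inv_mem huy) }
  have hN1 : ∀ g ∈ c.C, ∀ h ∈ c.C, g * h * g⁻¹ * h⁻¹ ∈ c.U → g * h * g⁻¹ * h⁻¹ ∈ N1 :=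
    fun g hg h hh hm => ⟨hm, R.comm_scalar hg hh⟩
  have hcU : ∀ g ∈ c.C, ∀ u ∈ c.U, g * u * g⁻¹ * u⁻¹ ∈ c.U := fun g hg u hu =>
    mul_mem (c.U_conj g hg u hu) (inv_mem hu)
  have hN1n : c.C ≤ normalizer (N1 : Set G) := fun g hg => mem_normalizer_fintype fun u hu => by
    show g * u * g⁻¹ ∈ N1
    rw [← inv_mul_cancel_right (g * u * g⁻¹) u]
    exact mul_mem (hN1 g hg u (c.U_le hu.1) (hcU g hg u hu.1)) hu
  have hN1U : N1 = c.U := by
    refine top_of_coherent N1 (fun u hu => hu.1) hN1n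
      (fun u hu w hw => hN1 u (c.U_le hu) w (c.U_le hw) (hcU u (c.U_le hu) w hw))
      (fun s hs u hu => hN1 s (c.P_le hs) u (c.U_le hu) (hcU s (c.P_le hs) u hu)) ?_
    intro v hv
    obtain ⟨w0, hw0, hw0y, hw0f⟩ := hmix v hv
    set X := c.Qc q ⊓ c.W v with hX
    have hX0 : X ≠ ⊥ := by
      intro e0
      rw [e0, mem_bot] at hw0
      rw [hw0, one_mul, inv_one, mul_one] at hw0y
      exact R.f_ne (inv_eq_one.1 (mul_eq_left.1 hw0y.symm))
    obtain ⟨cr⟩ := hv.exists_cross R.ne_two (hQW v hv)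
    set H := normalizer (X : Set G) with hH
    obtain ⟨hI, hO⟩ := cr.local_inner hv R.ne_two R.hC hX0 le_rfl (H := H)
      (centralizer_le_normalizer _) le_rfl
    have hWH : c.W v ≤ H := (le_inf ((hv.W_le.trans c.U_le).trans (normalizes_coreIn q c.C))
      le_normalizer).trans inf_normalizer_le_normalizer_inf
    have hfH : f ∈ H := centralizer_le_normalizer _ (mem_centralizer_iff.2 fun g hg => R.line_central hg.1)
    have hfi := ha.act_eq hv hxf R.f_inv
    obtain ⟨k, -, hkz, hkn, hkO, hkw⟩ := hv.exists_move_exact hI hO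
    refine ⟨k, hkz, hkn, fun w hw => ?_⟩
    have hfcore : ∀ hr, (⟨f, hr⟩ : H) ∉ Cfsg.oddCore H := by
      intro hr hm
      have h1 : v * f * v⁻¹ = f := mul_inv_eq_iff_eq_mul.2 ((hO _ hm).2).symm
      exact R.f_ne (eq_one_of_sq_odd (by nth_rewrite 1 [h1.symm.trans hfi]; rw [inv_mul_cancel])
        (c.odd_of_mem_U hfU))
    obtain ⟨o, ho, -, hko⟩ := hkw ⟨f, ⟨hfH, hfU⟩, hfi, hfcore⟩ w ⟨hw, hWH hw⟩
    have hoz := hO o ho
    have hoU : (o : G) ∈ c.U :=
      c.mem_U_of_odd (c.mem_C.2 hoz.1) (by rw [Subgroup.orderOf_coe]; exact odd_of_mem_core ho)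
    have heq : (k : G) * w * (k : G)⁻¹ * w⁻¹ = o := by rw [hko, mul_inv_cancel_right]
    rw [heq]
    -- `o` commutes with `f`
    obtain ⟨hzH, haH, ⟨S⟩, s1, s2⟩ := hI
    have hao : orderOf (⟨v, haH⟩ : H) = 2 := by rw [← Subgroup.orderOf_coe]; exact hv.order
    have hcore : ∀ p ∈ Cfsg.oddCore H, (⟨v, haH⟩ : H) * p = p * ⟨v, haH⟩ :=
      fun p hp => Subtype.ext (hO p hp).2.symm
    have hfres := S.inverted_mem_res hao s2 hcore (f := (⟨f, hfH⟩ : H))
      (by rw [← Subgroup.orderOf_coe]; exact c.odd_of_mem_U hfU) (Subtype.ext hfi)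
    have hof : (o : G) * f = f * o :=
      (congrArg Subtype.val (S.res_comm_of_invol hao s2 hcore _ hfres o ho)).symm
    -- `o` commutes with `w0`
    have how : (o : G) * w0 = w0 * o := by
      have hXcore : X.subgroupOf H ≤ Cfsg.oddCore H := by
        haveI : (X.subgroupOf H).Normal := normal_in_normalizer
        exact le_sSup (show _ ∈ {N : Subgroup H | N.Normal ∧ (Nat.card N).Coprime 2} from
          ⟨inferInstance, Nat.coprime_two_right.2 (by
            rw [Nat.card_congr (subgroupOfEquivOfLe le_normalizer).toEquiv]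
            exact c.U_odd.of_dvd_nat (card_dvd_of_le (inf_le_left.trans (c.Qc_le_U R.ne_two))))⟩)
      have hkX : ∀ g ∈ X, (k : G) * g = g * k := fun g hg =>
        congrArg Subtype.val (hkO (⟨g, le_normalizer hg⟩ : H) (hXcore hg))
      have h1 : w⁻¹ * w0 * w ∈ X := by
        have := (mem_normalizer_iff.1 (inv_mem (hWH hw)) w0).1 hw0
        rwa [inv_inv] at this
      rw [← heq]
      calc (k : G) * w * (k : G)⁻¹ * w⁻¹ * w0
          = (k : G) * w * ((k : G)⁻¹ * (w⁻¹ * w0 * w)) * w⁻¹ := by group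
        _ = (k : G) * w * ((w⁻¹ * w0 * w) * (k : G)⁻¹) * w⁻¹ := by
          rw [((show Commute (k : G) (w⁻¹ * w0 * w) from hkX _ h1).inv_left).eq]
        _ = (k : G) * w0 * (w * (k : G)⁻¹ * w⁻¹) := by group
        _ = w0 * (k : G) * (w * (k : G)⁻¹ * w⁻¹) := by rw [hkX _ hw0]
        _ = w0 * ((k : G) * w * (k : G)⁻¹ * w⁻¹) := by group
    refine ⟨hoU, hof, ?_⟩
    obtain ⟨β, hβ⟩ := R.exists_scalar (c.U_le hoU)
    set t := (o : G) * y * (o : G)⁻¹ * (y ^ β)⁻¹ with ht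
    have e1 : (o : G) * y * (o : G)⁻¹ = t * y ^ β := by rw [ht, inv_mul_cancel_right]
    have hwt : w0 * t * w0⁻¹ = t := by
      obtain ⟨i, hi⟩ := hβ
      simp only at hi
      rw [← hi, ← conj_zpow, hw0f, mul_inv_cancel_right]
    have e2 : w0 * ((o : G) * y * (o : G)⁻¹) * w0⁻¹ = (o : G) * y * (o : G)⁻¹ * f⁻¹ := by
      calc w0 * ((o : G) * y * (o : G)⁻¹) * w0⁻¹ = (w0 * o) * y * (w0 * o)⁻¹ := by group
        _ = (o : G) * (w0 * y * w0⁻¹) * (o : G)⁻¹ := by rw [← how]; group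
        _ = (o : G) * y * ((o : G)⁻¹ * f⁻¹) := by
          rw [hw0y, show (o : G) * (y * f⁻¹) * (o : G)⁻¹ = (o : G) * y * (f⁻¹ * (o : G)⁻¹) by group,
            (show Commute (o : G) f from hof).inv_inv.eq]
        _ = _ := by group
    rw [e1] at e2
    rw [show w0 * (t * y ^ β) * w0⁻¹ = w0 * t * w0⁻¹ * (w0 * y ^ β * w0⁻¹) by group, hwt, ← conj_zpow,
      hw0y, ((show Commute y f from R.yf).inv_right).mul_zpow, ← mul_assoc, mul_left_cancel_iff] at e2
    have hβ1 : (q : ℤ) ∣ β - 1 := by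
      rw [inv_zpow] at e2
      have h5 : (orderOf f : ℤ) ∣ β - 1 := by
        rw [orderOf_dvd_iff_zpow_eq_one, zpow_sub, zpow_one, inv_injective e2, mul_inv_cancel]
      rwa [R.f_order] at h5
    obtain ⟨m, hm⟩ := hβ1
    rwa [ht, show β = (q : ℤ) * m + 1 by omega, zpow_add, zpow_mul, zpow_natCast, R.y_pow, one_zpow,
      one_mul, zpow_one] at hβ
  -- step two: translations
  have hT : ∀ u ∈ c.U, u * f = f * u ∧ u * y * u⁻¹ * y⁻¹ ∈ zpowers f := fun u hu =>
    ((hN1U.symm ▸ hu : u ∈ N1)).2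
  let τ : G → G := fun u => u * y * u⁻¹ * y⁻¹
  have hτf : ∀ u ∈ c.U, ∀ g ∈ c.U, u * τ g * u⁻¹ = τ g := by
    intro u hu g hg
    obtain ⟨i, hi⟩ := (hT g hg).2
    simp only at hi
    show u * (g * y * g⁻¹ * y⁻¹) * u⁻¹ = _
    rw [← hi, ← conj_zpow, (hT u hu).1, mul_inv_cancel_right]
    exact hi
  have hτmul : ∀ u ∈ c.U, ∀ g ∈ c.U, τ (u * g) = τ g * τ u := by
    intro u hu g hg
    calc τ (u * g) = u * τ g * u⁻¹ * τ u := by show u * g * y * (u * g)⁻¹ * y⁻¹ = _; simp only [τ]; group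
      _ = τ g * τ u := by rw [hτf u hu g hg]
  have hτcomm : ∀ u ∈ c.U, ∀ g ∈ c.U, Commute (τ u) (τ g) := by
    intro u hu g hg
    obtain ⟨i, hi⟩ := (hT g hg).2
    obtain ⟨j, hj⟩ := (hT u hu).2
    simp only at hi hj
    show Commute (u * y * u⁻¹ * y⁻¹) (g * y * g⁻¹ * y⁻¹)
    rw [← hi, ← hj]
    exact Commute.zpow_zpow_self f j i
  set A := zpowers y ⊔ zpowers f with hA
  set N2 := c.U ⊓ centralizer (A : Set G) with hN2
  have hmemN2 : ∀ u ∈ c.U, τ u = 1 → u ∈ N2 := by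
    intro u hu h1
    refine ⟨hu, ?_⟩
    have hle : A ≤ centralizer ({u} : Set G) := sup_le
      (zpowers_le.2 (mem_centralizer_singleton_iff.2
        (mul_inv_eq_iff_eq_mul.1 (mul_inv_eq_one.1 h1)).symm))
      (zpowers_le.2 (mem_centralizer_singleton_iff.2 (hT u hu).1.symm))
    exact mem_centralizer_iff.2 fun g hg => mem_centralizer_singleton_iff.1 (hle hg)
  have hτone : τ 1 = 1 := by simp [τ]
  have hab : ∀ u ∈ c.U, ∀ g ∈ c.U, u * g * u⁻¹ * g⁻¹ ∈ N2 := by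
    intro u hu g hg
    refine hmemN2 _ (hcU u (c.U_le hu) g hg) ?_
    have h1 : τ (g * u) = τ (u * g) := by
      rw [hτmul g hg u hu, hτmul u hu g hg, (hτcomm u hu g hg).eq]
    have h2 := hτmul (u * g * u⁻¹ * g⁻¹) (hcU u (c.U_le hu) g hg) (g * u) (mul_mem hg hu)
    rw [show u * g * u⁻¹ * g⁻¹ * (g * u) = u * g by group, h1] at h2
    exact mul_eq_left.1 h2.symm
  have hP : ∀ s ∈ (c.P : Subgroup G), ∀ u ∈ c.U, s * u * s⁻¹ * u⁻¹ ∈ N2 := by
    intro s hs u hu
    have hsC := c.P_le hs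
    refine hmemN2 _ (hcU s hsC u hu) ?_
    suffices h3 : τ (s * u * s⁻¹) = τ u by
      have h2 := hτmul _ (hcU s hsC u hu) u hu
      rw [show s * u * s⁻¹ * u⁻¹ * u = s * u * s⁻¹ by group, h3] at h2
      exact mul_eq_left.1 h2.symm
    obtain ⟨i, hi⟩ := (hT u hu).2
    simp only at hi
    have huy : u * y * u⁻¹ = f ^ i * y := by rw [hi, inv_mul_cancel_right]
    show s * u * s⁻¹ * y * (s * u * s⁻¹)⁻¹ * y⁻¹ = u * y * u⁻¹ * y⁻¹
    rw [show s * u * s⁻¹ * y * (s * u * s⁻¹)⁻¹ = s * (u * (s⁻¹ * y * s) * u⁻¹) * s⁻¹ by group]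
    by_cases hsx : s ∈ zpowers c.d.x
    · obtain ⟨j, rfl⟩ := hsx
      simp only
      have hcy : Commute (x ^ j) y := (show Commute x y from hxy).zpow_left j
      have hcf : Commute (x ^ j) (f ^ i) := (show Commute x f from hxf).zpow_zpow j i
      rw [← hx, mul_assoc (x ^ j)⁻¹ y (x ^ j), ← hcy.eq, inv_mul_cancel_left, huy,
        (hcf.mul_right hcy).eq, mul_inv_cancel_right]
    · have hv : c.Refl s := ⟨hs, hsx⟩
      have hsy := ha.act_eq hv hxy R.y_inv
      have hsf := ha.act_eq hv hxf R.f_inv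
      have hsy' : s⁻¹ * y * s = y⁻¹ := by
        rw [hv.inv_eq]; rw [hv.inv_eq] at hsy; exact hsy
      rw [hsy', ← conj_inv, huy, mul_inv_rev,
        show s * (y⁻¹ * (f ^ i)⁻¹) * s⁻¹ = s * y⁻¹ * s⁻¹ * (s * (f ^ i)⁻¹ * s⁻¹) by group,
        ← conj_inv, ← conj_inv, ← conj_zpow, hsy, hsf, inv_zpow, inv_inv, inv_inv,
        ((show Commute y f from R.yf).zpow_right i).eq]
  have hpow : ∀ u ∈ c.U, ∃ n, u ^ (q ^ n) ∈ N2 := by
    intro u hu
    refine ⟨1, hmemN2 _ (pow_mem hu _) ?_⟩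
    have hn : ∀ n : ℕ, τ (u ^ n) = τ u ^ n := by
      intro n
      induction n with
      | zero => simp [τ]
      | succ n ih => rw [pow_succ u, hτmul _ (pow_mem hu n) u hu, ih, pow_succ']
    rw [pow_one, hn]
    obtain ⟨i, hi⟩ := (hT u hu).2
    simp only at hi
    show (u * y * u⁻¹ * y⁻¹) ^ q = 1
    rw [← hi, ← zpow_natCast, ← zpow_mul, mul_comm, zpow_mul, zpow_natCast, R.f_pow, one_zpow]
  have hN2n : c.C ≤ normalizer (N2 : Set G) :=
    (le_inf (fun g hg => mem_normalizer_fintype fun u hu => c.U_conj g hg u hu)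
      (R.normA.trans (Components.normalizer_le_normalizer_centralizer _))).trans
      inf_normalizer_le_normalizer_inf
  have hN2U : N2 = c.U := by
    refine top_of_coherent N2 inf_le_left hN2n hab hP ?_
    intro v hv
    obtain ⟨w0, hw0, hw0y, -⟩ := hmix v hv
    have hX0 : c.Qc q ⊓ c.W v ≠ ⊥ := by
      intro e0
      rw [e0, mem_bot] at hw0
      rw [hw0, one_mul, inv_one, mul_one] at hw0y
      exact R.f_ne (inv_eq_one.1 (mul_eq_left.1 hw0y.symm))
    obtain ⟨cr⟩ := hv.exists_cross R.ne_two (hQW v hv)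
    obtain ⟨hI, hO⟩ := cr.centraliser_inner hv R.ne_two R.hC hX0 le_rfl
    exact cr.coherent R.ne_two hv hI hO N2 inf_le_left hN2n hab hpow
  have heN : e ∈ N2 := hN2U.symm ▸ c.Qc_le_U R.ne_two R.e_mem.1
  have hc := mem_centralizer_iff.1 heN.2 y (mem_sup_left (mem_zpowers y))
  rw [← hc, mul_inv_cancel_right] at hey
  exact R.f_ne (inv_eq_one.1 (mul_eq_left.1 hey.symm))

end Cfsg.Agent.GW.Core
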