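import Cfsg.Agent.Lib.GW.SectionFacts

/-!
The torus in the centraliser of an involution of a socle `PSL₂(q)`.
-/

set_option autoImplicit false
set_option linter.style.haveILetI false

namespace Cfsg.Agent.GW

open Matrix Cfsg.Agent.AutPSL

universe u

theorem eq_of_cyclic_sq {X : Type u} [Group X] [Finite X] {A : Subgroup X} (hA : IsCyclic A) {v a : X}
    (hvA : v ∈ A) (hv : v * v = 1) (hv1 : v ≠ 1) (ha : a ∈ A) (ha2 : a * a = 1) : a = 1 ∨ a = v := by
  classical
  by_contra hno
  push Not at hno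
  haveI := hA
  haveI := Fintype.ofFinite A
  have := IsCyclic.card_pow_eq_one_le (α := A) (n := 2) two_pos
  have hsub : ({1, ⟨v, hvA⟩, ⟨a, ha⟩} : Finset A) ⊆ Finset.univ.filter (fun c : A => c ^ 2 = 1) := by
    intro c hc
    simp only [Finset.mem_insert, Finset.mem_singleton] at hc
    rw [Finset.mem_filter]
    refine ⟨Finset.mem_univ _, Subtype.ext ?_⟩
    rw [SubmonoidClass.coe_pow, pow_two, Subgroup.coe_one]
    rcases hc with rfl | rfl | rfl
    · exact one_mul 1
    · exact hv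
    · exact ha2
  have hc3 := Finset.card_le_card hsub
  rw [Finset.card_insert_of_notMem, Finset.card_pair] at hc3
  · omega
  · intro e; exact hno.2 (congrArg Subtype.val e :).symm
  · simp only [Finset.mem_insert, Finset.mem_singleton, Subtype.ext_iff, Subgroup.coe_one]
    rintro (e | e)
    · exact hv1 e.symm
    · exact hno.1 e.symm

variable {F : Type} [Field F] [Fintype F]

local notation "PSL2" => Matrix.ProjectiveSpecialLinearGroup (Fin 2) F

/-- The torus of index two in the centraliser of an involution of the socle. -/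
theorem torus_sub {X : Type u} [Group X] [Finite X] [IsSimpleGroup PSL2] (_h : DihSylow X)
    (hnc : ¬ IsMulCommutative PSL2) (hodd : Odd (Fintype.card F)) (_h3 : 3 < Fintype.card F)
    (L : Subgroup X) (hLn : L.Normal) (_hLs : IsSimpleGroup L) (_hLnc : ¬ IsMulCommutative L)
    (ι : X →* MulAut PSL2) (hι : Function.Injective ι) (hL : L.map ι = Cfsg.Inn PSL2)
    (hfld : ∀ x : X, Odd (orderOf (fldHom (ι x)))) :
    ∀ v ∈ L, orderOf v = 2 → ∃ T : Subgroup X, T ≤ L ⊓ Subgroup.centralizer ({v} : Set X) ∧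
      IsCyclic T ∧ v ∈ T ∧
      2 * Nat.card T = Nat.card (L ⊓ Subgroup.centralizer ({v} : Set X) : Subgroup X) ∧
      (∀ y ∈ L, y * v = v * y → Odd (orderOf y) → y ∈ T) ∧
      (∀ a g : X, a * a = 1 → a ≠ 1 → a ≠ v → a * v = v * a → g * v = v * g →
        a * (g * a * g⁻¹) ∈ T) ∧
      ∀ w : X, w * w = 1 → w * v = v * w →
        (∀ t ∈ T, w * t = t * w) ∨ ∀ t ∈ T, w * t * w⁻¹ = t⁻¹ := by
  classical
  intro v hv hvo
  haveI := hLn
  have hv2 : v * v = 1 := by rw [← pow_two, ← hvo, pow_orderOf_eq_one]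
  have hv1 : v ≠ 1 := fun e => by rw [e, orderOf_one] at hvo; omega
  obtain ⟨Kd, hKn, hLK, hKi, -, A, s, hAK, hAc, hvA, hsL, hsv, hss, hsA, hinv, hnorm, hall⟩ :=
    psl_centralizer (F := F) hnc hodd L ι hι hL hfld hv hvo
  have hs' : s⁻¹ = s := inv_eq_of_mul_eq_one_right hss
  have hcomA : ∀ a b : X, a ∈ A → b ∈ A → a * b = b * a := fun a b ha hb =>
    congrArg Subtype.val (hAc.isMulCommutative.is_comm.comm (⟨a, ha⟩ : A) ⟨b, hb⟩)
  have hout : ∀ g : X, g * s ∈ A → g * g = 1 := by
    intro g hg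
    have h1 := hinv _ hg
    rw [hs'] at h1
    calc g * g = g * s * (s * (g * s) * s) := by
          rw [mul_assoc s, mul_assoc g s s, hss, mul_one, ← mul_assoc (g * s), mul_assoc g s s, hss,
            mul_one]
      _ = 1 := by rw [h1, mul_inv_cancel]
  have hKinv : ∀ w : X, w * w = 1 → w ∈ Kd := by
    intro w hw
    haveI := hKn
    have h1 := Subgroup.pow_index_mem Kd w
    obtain ⟨k, hk⟩ := hKi
    rwa [hk, pow_succ, pow_mul, pow_two, hw, one_pow, one_mul] at h1
  have hinvA : ∀ a : X, a * a = 1 → a ≠ 1 → a ≠ v → a * v = v * a → a * s ∈ A := fun a ha ha1 hav hc =>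
    (hall a (hKinv a ha) hc).resolve_left fun haA =>
      (eq_of_cyclic_sq hAc hvA hv2 hv1 haA ha).elim ha1 hav
  have hAC : ∀ a ∈ A, a * v = v * a := fun a ha => hcomA a v ha hvA
  refine ⟨A ⊓ L, le_inf inf_le_right fun x hx => Subgroup.mem_centralizer_singleton_iff.2 (hAC x hx.1),
    ?_, ⟨hvA, hv⟩, ?_, ?_, ?_, ?_⟩
  · haveI := hAc
    exact isCyclic_of_injective (Subgroup.inclusion inf_le_left) (Subgroup.inclusion_injective _)
  · set C := L ⊓ Subgroup.centralizer ({v} : Set X) with hC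
    have hTC : A ⊓ L ≤ C := le_inf inf_le_right fun x hx =>
      Subgroup.mem_centralizer_singleton_iff.2 (hAC x hx.1)
    have h2 : ((A ⊓ L).subgroupOf C).index = 2 := by
      refine Subgroup.index_eq_two_iff.2
        ⟨⟨s, hsL, Subgroup.mem_centralizer_singleton_iff.2 hsv⟩, fun b => ?_⟩
      obtain ⟨b, hbL, hbv⟩ := b
      replace hbv : b * v = v * b := Subgroup.mem_centralizer_singleton_iff.1 hbv
      simp only [Subgroup.mem_subgroupOf, Subgroup.coe_mul, Subgroup.mem_inf, Xor]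
      rcases hall b (hLK hbL) hbv with h1 | h1
      · exact Or.inr ⟨⟨h1, hbL⟩, fun h' => hsA ((Subgroup.mul_mem_cancel_left _ h1).1 h'.1)⟩
      · exact Or.inl ⟨⟨h1, mul_mem hbL hsL⟩,
          fun h' => hsA ((Subgroup.mul_mem_cancel_left _ h'.1).1 h1)⟩
    rw [← Subgroup.card_mul_index ((A ⊓ L).subgroupOf C), h2,
      Nat.card_congr (Subgroup.subgroupOfEquivOfLe hTC).toEquiv, mul_comm]
  · intro y hy hyv hyo
    refine ⟨(hall y (hLK hy) hyv).elim id fun h1 => ?_, hy⟩
    rw [eq_one_of_sq_odd (hout y h1) hyo]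
    exact one_mem A
  · intro a g ha ha1 hav hc hgv
    have hbv : g * a * g⁻¹ * v = v * (g * a * g⁻¹) :=
      (((show Commute g v from hgv).mul_left (show Commute a v from hc)).mul_left
        (show Commute g v from hgv).inv_left).eq
    have hb2 : g * a * g⁻¹ * (g * a * g⁻¹) = 1 := by
      rw [conj_mul, ha, mul_one, mul_inv_cancel]
    have hbne : g * a * g⁻¹ ≠ v := fun e => hav (by
      calc a = g⁻¹ * (g * a * g⁻¹) * g := by group
        _ = g⁻¹ * (v * g) := by rw [e, mul_assoc]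
        _ = v := by rw [← hgv, inv_mul_cancel_left])
    have hb := hinvA _ hb2 (fun e => ha1 (conj_eq_one_iff.1 e)) hbne hbv
    refine ⟨?_, ?_⟩
    · have := mul_mem (hinvA a ha ha1 hav hc) (inv_mem hb)
      rwa [_root_.mul_inv_rev, hs', inv_eq_of_mul_eq_one_right hb2, ← mul_assoc, mul_assoc a s s, hss,
        mul_one] at this
    · have hin : ∀ x : X, x * x = 1 → ι x ∈ Cfsg.inndiagPSL 2 F := by
        intro x hx
        rw [mem_inndiag_iff_fld]
        refine eq_one_of_sq_odd ?_ (hfld x)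
        rw [← map_mul, ← map_mul, hx, map_one, map_one]
      have hmemL : ∀ x : X, x ∈ L ↔ ι x ∈ Cfsg.Inn PSL2 := fun x => by
        rw [← hL, Subgroup.mem_map_iff_mem hι]
      show a * (g * a * g⁻¹) ∈ L
      rw [hmemL, map_mul, inn_mul_mem hodd (hin a ha) (hin _ hb2), ← hmemL, ← hmemL]
      exact ⟨fun h => hLn.conj_mem a h g, fun h => by simpa [mul_assoc] using hLn.conj_mem _ h g⁻¹⟩
  · intro w hw hwv
    rcases hall w (hKinv w hw) hwv with h1 | h1
    · exact Or.inl fun t ht => hcomA w t h1 ht.1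
    · refine Or.inr fun t ht => ?_
      calc w * t * w⁻¹ = w * s * (s * t * s⁻¹) * (w * s)⁻¹ := by
            rw [_root_.mul_inv_rev]; simp only [hs', mul_assoc]
            rw [← mul_assoc s s, hss, one_mul, ← mul_assoc s s, hss, one_mul]
        _ = w * s * t⁻¹ * (w * s)⁻¹ := by rw [hinv t ht.1]
        _ = t⁻¹ := by rw [hcomA _ _ h1 (inv_mem ht.1), mul_inv_cancel_right]

end Cfsg.Agent.GW
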