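import Cfsg.Agent.Lib.GW.OddInvariant
import Mathlib.GroupTheory.Perm.Centralizer
import Mathlib.GroupTheory.SpecificGroups.Alternating

/-!
Centralisers of involutions and of elements of odd order in the alternating group of degree seven.
-/

set_option autoImplicit false
set_option linter.unusedSectionVars false

namespace Cfsg.Agent.GW

universe u

variable {X : Type u} [Group X] [Finite X]

omit [Finite X] in
/-- A model of `X` as the even permutations of seven points, with chosen image of an involution. -/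
theorem seven_range (e : X ≃* alternatingGroup (Fin 7)) {v : X} (hv : orderOf v = 2) :
    ∃ κ : X →* Equiv.Perm (Fin 7), Function.Injective κ ∧ κ v = pv7 ∧
      κ.range = alternatingGroup (Fin 7) := by
  obtain ⟨κ, hκ, hκv, hs⟩ := seven_model e hv
  refine ⟨κ, hκ, hκv, (Subgroup.eq_of_le_of_card_ge (fun p hp => hs p (Equiv.Perm.mem_alternatingGroup.1 hp)) ?_).symm⟩
  rw [← Nat.card_congr e.toEquiv]
  exact (Nat.card_congr (MonoidHom.ofInjective hκ).toEquiv).ge

omit [Finite X] in
theorem seven_cent_map {κ : X →* Equiv.Perm (Fin 7)} (hκ : Function.Injective κ) (v : X) :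
    Nat.card (Subgroup.centralizer ({v} : Set X)) =
      Nat.card (κ.range ⊓ Subgroup.centralizer ({κ v} : Set (Equiv.Perm (Fin 7))) :
        Subgroup (Equiv.Perm (Fin 7))) := by
  rw [← Subgroup.card_map_of_injective (K := Subgroup.centralizer ({v} : Set X)) hκ]
  refine congrArg (fun H : Subgroup _ => Nat.card H) ?_
  ext p
  simp only [Subgroup.mem_map, Subgroup.mem_inf, MonoidHom.mem_range, Subgroup.mem_centralizer_singleton_iff]
  constructor
  · rintro ⟨x, hx, rfl⟩
    exact ⟨⟨x, rfl⟩, by rw [← map_mul, hx, map_mul]⟩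
  · rintro ⟨⟨x, rfl⟩, hx⟩
    exact ⟨x, hκ (by rw [map_mul, map_mul, hx]), rfl⟩

/-- An odd permutation in a subgroup halves it in the alternating group. -/
theorem card_alt_inf_mul_two {H : Subgroup (Equiv.Perm (Fin 7))} {t : Equiv.Perm (Fin 7)}
    (ht : t ∈ H) (hs : Equiv.Perm.sign t = -1) :
    2 * Nat.card (alternatingGroup (Fin 7) ⊓ H : Subgroup (Equiv.Perm (Fin 7))) = Nat.card H := by
  set D := (alternatingGroup (Fin 7)).subgroupOf H with hD
  have h2 : D.index = 2 := by
    rw [hD]
    refine Subgroup.index_eq_two_iff.2 ⟨⟨t, ht⟩, fun b => ?_⟩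
    rcases Int.units_eq_one_or (Equiv.Perm.sign (b : Equiv.Perm (Fin 7))) with e | e <;>
      simp [Subgroup.mem_subgroupOf, Equiv.Perm.mem_alternatingGroup, e, hs, Xor]
  rw [← Subgroup.card_mul_index D, h2, mul_comm,
    ← Nat.card_congr (Subgroup.subgroupOfEquivOfLe (inf_le_right : alternatingGroup (Fin 7) ⊓ H ≤ H)).toEquiv,
    Subgroup.inf_subgroupOf_right]

/-- The centraliser of an involution of `A₇` has order 24. -/
theorem seven_cent_card (e : X ≃* alternatingGroup (Fin 7)) {v : X} (hv : orderOf v = 2) :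
    Nat.card (Subgroup.centralizer ({v} : Set X)) = 24 := by
  obtain ⟨κ, hκ, hκv, hr⟩ := seven_range e hv
  rw [seven_cent_map hκ v, hκv, hr]
  have h := card_alt_inf_mul_two (H := Subgroup.centralizer ({pv7} : Set (Equiv.Perm (Fin 7))))
    (t := Equiv.swap 0 1) (Subgroup.mem_centralizer_singleton_iff.2 (by decide +kernel))
    (by decide +kernel)
  have ht : pv7.cycleType = {2, 2} := by decide +kernel
  rw [Equiv.Perm.nat_card_centralizer, ht] at h
  have : (Fintype.card (Fin 7) - ({2, 2} : Multiset ℕ).sum).factorial * ({2, 2} : Multiset ℕ).prod *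
      (∏ n ∈ ({2, 2} : Multiset ℕ).toFinset, (({2, 2} : Multiset ℕ).count n).factorial) = 48 := by
    decide +kernel
  omega

theorem perm_odd_cent_le (p : Equiv.Perm (Fin 7)) (hp : p ≠ 1) (ho : Odd (orderOf p)) :
    Nat.card (alternatingGroup (Fin 7) ⊓ Subgroup.centralizer ({p} : Set (Equiv.Perm (Fin 7))) :
      Subgroup (Equiv.Perm (Fin 7))) ≤ 36 := by
  classical
  set H := Subgroup.centralizer ({p} : Set (Equiv.Perm (Fin 7))) with hH
  have hsum : p.cycleType.sum ≤ 7 := by
    rw [Equiv.Perm.sum_cycleType]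
    exact (Finset.card_le_univ _).trans_eq (Fintype.card_fin 7)
  have hparts : ∀ n ∈ p.cycleType, n = 3 ∨ n = 5 ∨ n = 7 := by
    intro n hn
    have h2 := Equiv.Perm.two_le_of_mem_cycleType hn
    have hle : n ≤ 7 := (Multiset.le_sum_of_mem hn).trans hsum
    obtain ⟨k, hk⟩ := ho.of_dvd_nat (Equiv.Perm.dvd_of_mem_cycleType hn)
    omega
  obtain ⟨a, ha⟩ := Multiset.exists_mem_of_ne_zero (mt Equiv.Perm.cycleType_eq_zero.1 hp)
  obtain ⟨r, hr⟩ := Multiset.exists_cons_of_mem ha
  have hcase : p.cycleType = {3} ∨ p.cycleType = {3, 3} ∨ p.cycleType = {5} ∨ p.cycleType = {7} := by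
    rw [hr, Multiset.sum_cons] at hsum
    rcases Multiset.empty_or_exists_mem r with rfl | ⟨b, hb⟩
    · rcases hparts a ha with rfl | rfl | rfl <;> rw [hr] <;> simp
    · obtain ⟨r', rfl⟩ := Multiset.exists_cons_of_mem hb
      have hb' := hparts b (hr ▸ Multiset.mem_cons_of_mem (Multiset.mem_cons_self b r'))
      have ha' := hparts a ha
      rw [Multiset.sum_cons] at hsum
      rcases Multiset.empty_or_exists_mem r' with rfl | ⟨c, hc⟩
      · have : a = 3 ∧ b = 3 := by simp at hsum; omega
        obtain ⟨rfl, rfl⟩ := this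
        exact Or.inr (Or.inl hr)
      · exfalso
        have hc' := hparts c (hr ▸ Multiset.mem_cons_of_mem (Multiset.mem_cons_of_mem hc))
        have := Multiset.le_sum_of_mem hc
        omega
  have hle : Nat.card (alternatingGroup (Fin 7) ⊓ H : Subgroup (Equiv.Perm (Fin 7))) ≤ Nat.card H :=
    Subgroup.card_le_of_le inf_le_right
  have hval := Equiv.Perm.nat_card_centralizer p
  rw [← hH] at hval
  rcases hcase with e | e | e | e <;> rw [e] at hval <;> simp [Nat.factorial, -Nat.card_eq_fintype_card] at hval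
  · obtain ⟨s, hs, hd⟩ : ∃ s : Equiv.Perm (Fin 7), Equiv.Perm.sign s = -1 ∧ s.Disjoint p := by
      have hsupp : p.support.card = 3 := by
        rw [← Equiv.Perm.sum_cycleType, e]; rfl
      have h1 : 1 < (Finset.univ \ p.support).card := by
        rw [Finset.card_sdiff, Finset.inter_univ, hsupp, Finset.card_univ, Fintype.card_fin]; norm_num
      obtain ⟨x, hx, y, hy, hxy⟩ := Finset.one_lt_card.1 h1
      refine ⟨Equiv.swap x y, Equiv.Perm.sign_swap hxy, fun i => ?_⟩
      simp only [Finset.mem_sdiff, Finset.mem_univ, true_and, Equiv.Perm.mem_support, not_not] at hx hy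
      by_cases h1 : i = x
      · exact Or.inr (h1 ▸ hx)
      by_cases h2 : i = y
      · exact Or.inr (h2 ▸ hy)
      exact Or.inl (Equiv.swap_apply_of_ne_of_ne h1 h2)
    have h2 := card_alt_inf_mul_two (H := H) (Subgroup.mem_centralizer_singleton_iff.2 hd.commute.eq) hs
    omega
  all_goals omega

omit [Finite X] in
/-- The centraliser of a nontrivial odd element of `A₇` has order at most 36. -/
theorem seven_cent_le (e : X ≃* alternatingGroup (Fin 7)) {z : X} (hz1 : z ≠ 1) (hzo : Odd (orderOf z)) :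
    Nat.card (Subgroup.centralizer ({z} : Set X)) ≤ 36 := by
  set κ : X →* Equiv.Perm (Fin 7) := (alternatingGroup (Fin 7)).subtype.comp e.toMonoidHom with hκdef
  have hκ : Function.Injective κ := Subtype.val_injective.comp e.injective
  have hr : κ.range = alternatingGroup (Fin 7) := by
    rw [hκdef, MonoidHom.range_comp, MonoidHom.range_eq_top.2 (e.surjective),
      ← MonoidHom.range_eq_map, Subgroup.range_subtype]
  rw [seven_cent_map hκ z, hr]
  exact perm_odd_cent_le _ (fun h => hz1 (hκ (h.trans (map_one κ).symm)))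
    (by rwa [orderOf_injective _ hκ])

omit [Finite X] in
theorem seven_odd_cent {κ : X →* Equiv.Perm (Fin 7)} (hκ : Function.Injective κ) {v y : X}
    (hκv : κ v = pv7) (hy : y * v = v * y) (hyo : Odd (orderOf y)) :
    y = 1 ∨ κ y = pc1 ∨ κ y = pc1⁻¹ := by
  have hcomm : ∀ i, A7Cert.v7 (κ y i) = κ y (A7Cert.v7 i) := fun i => by
    have h1 := congrArg κ hy.symm
    rw [map_mul, map_mul, hκv] at h1
    exact DFunLike.congr_fun h1 i
  rcases (chk_perm (κ y)).2 hcomm (oddSmall_of_odd _ (by rwa [orderOf_injective _ hκ])) with e1 | e1 | e1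
  · exact Or.inl (hκ ((Equiv.ext e1).trans (map_one κ).symm))
  · exact Or.inr (Or.inl (Equiv.ext e1))
  · exact Or.inr (Or.inr (Equiv.ext e1))

/-- The elements of odd order centralising an involution of `A₇` form a group of order three. -/
theorem seven_torus (e : X ≃* alternatingGroup (Fin 7)) {v : X} (hv : orderOf v = 2) :
    ∃ T : Subgroup X, IsCyclic T ∧ Nat.card T = 3 ∧
      ∀ y, y * v = v * y → Odd (orderOf y) → y ∈ T := by
  obtain ⟨κ, hκ, hκv, hr⟩ := seven_range e hv
  obtain ⟨c, hc⟩ : pc1 ∈ κ.range := by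
    rw [hr, Equiv.Perm.mem_alternatingGroup]; decide +kernel
  refine ⟨Subgroup.zpowers c, inferInstance, ?_, fun y hy hyo => ?_⟩
  · rw [Nat.card_zpowers, ← orderOf_injective _ hκ, hc]
    exact orderOf_eq_prime (hp := ⟨Nat.prime_three⟩) (by decide +kernel) (by decide +kernel)
  · rcases seven_odd_cent hκ hκv hy hyo with rfl | e1 | e1
    · exact one_mem _
    · rw [hκ (e1.trans hc.symm)]; exact Subgroup.mem_zpowers c
    · rw [hκ (e1.trans (by rw [map_inv, hc]) : κ y = κ c⁻¹)]
      exact inv_mem (Subgroup.mem_zpowers c)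

/-- A four-group whose second involution inverts the odd centraliser of the first centralises no odd
element. -/
theorem seven_klein (e : X ≃* alternatingGroup (Fin 7)) {v a z : X} (hv : orderOf v = 2)
    (_ha : orderOf a = 2) (_hne : v ≠ a) (_hva : v * a = a * v) (hz1 : z ≠ 1) (hzo : Odd (orderOf z))
    (hzv : z * v = v * z) (haz : a * z * a⁻¹ = z⁻¹) :
    ∀ y, Odd (orderOf y) → y * v = v * y → y * a = a * y → y = 1 := by
  intro y hyo hyv hya
  obtain ⟨κ, hκ, hκv, -⟩ := seven_range e hv
  by_contra hy1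
  have hzy : z = y ∨ z = y⁻¹ := by
    rcases (seven_odd_cent hκ hκv hzv hzo).resolve_left hz1 with e1 | e1 <;>
      rcases (seven_odd_cent hκ hκv hyv hyo).resolve_left hy1 with e2 | e2
    · exact Or.inl (hκ (e1.trans e2.symm))
    · exact Or.inr (hκ (by rw [map_inv, e1, e2, inv_inv]))
    · exact Or.inr (hκ (by rw [map_inv, e1, e2]))
    · exact Or.inl (hκ (e1.trans e2.symm))
  have haz' : a * z = z * a := by
    rcases hzy with rfl | rfl
    · exact hya.symm
    · exact ((show Commute a y from hya.symm).inv_right).eq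
  rw [haz', mul_inv_cancel_right] at haz
  refine hz1 (orderOf_eq_one_iff.1 (Nat.eq_one_of_dvd_coprimes (Nat.coprime_two_left.2 hzo)
    (orderOf_dvd_of_pow_eq_one ?_) dvd_rfl))
  rw [pow_two]
  nth_rewrite 2 [haz]
  exact mul_inv_cancel z

end Cfsg.Agent.GW
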