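import Cfsg.Agent.Lib.GW.SecData
import Cfsg.Agent.Lib.GW.TorusFacts
import Cfsg.Agent.Lib.GW.TorusSeven

/-!
Every section containing the four-group of a reflection in the preimage of its socle has the numerical facts.
-/

set_option autoImplicit false
set_option linter.unusedSectionVars false
set_option linter.style.haveILetI false

namespace Cfsg.Agent.GW

open Cfsg.Agent.TwoFus Subgroup Matrix Cfsg.Agent.AutPSL

universe u

local notation "P2" F => Matrix.ProjectiveSpecialLinearGroup (Fin 2) F

theorem seven_order {X : Type u} [Group X] (e : X ≃* alternatingGroup (Fin 7)) : Nat.card X = 2520 := by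
  rw [Nat.card_congr e.toEquiv, nat_card_alternatingGroup, Nat.card_fin]
  rfl

namespace Core

variable {G : Type u} [Group G] [Finite G]

theorem secAll (c : Core G) : c.SecAll := by
  rintro a H ha ⟨hz, haH, ⟨S⟩, s1, s2⟩ hO
  have hs : c.SecHyp ha H := ⟨hz, haH, hO⟩
  have hd : DihSylow (H ⧸ Cfsg.oddCore H) := (ha.dihSylow H hz haH).quotient _ oddCore_odd
  haveI := S.normal
  haveI := S.simple
  have hzL : hs.zb ∈ S.L := S.mem_socPre.1 s1
  have haL : hs.ab ∈ S.L := S.mem_socPre.1 s2
  rcases almost_target hd S.L S.noncomm S.cent S.target with ⟨-, ⟨e⟩⟩ | ⟨F, _, _, hodd, h3, ι, hι, hL, hfld⟩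
  · obtain ⟨TL, hcyc, h3', hmem⟩ := seven_torus e (invol_mo hs.z_ord)
    exact hs.concl_seven hcyc h3' hmem (seven_cent_card e (invol_mo hs.z_ord))
      (fun x h1 h2 => seven_cent_le e h1 h2) (seven_order e)
  · haveI : IsSimpleGroup (P2 F) :=
      Matrix.ProjectiveSpecialLinearGroup.rank_two_simple (by rw [Nat.card_eq_fintype_card]; omega)
    have hnc : ¬ IsMulCommutative (P2 F) := fun hc => S.noncomm (by
      have hbot : S.L.map ι = ⊥ := by
        rw [hL, Cfsg.Inn, MonoidHom.range_eq_bot_iff]
        ext p x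
        simp [hc.is_comm.comm p x]
      rw [Subgroup.map_eq_bot_iff_of_injective _ hι] at hbot
      rw [hbot]
      exact ⟨⟨fun a b => Subsingleton.elim _ _⟩⟩)
    obtain ⟨TL, -, hcyc, hzT, hcard, hoddT, hrot, hor⟩ :=
      torus_sub hd hnc hodd h3 S.L S.normal S.simple S.noncomm ι hι hL hfld hs.zb hzL (invol_mo hs.z_ord)
    exact hs.concl_socle (socleFacts hd hnc hodd h3 S.L S.normal S.simple S.noncomm ι hι hL hfld)
      hzL haL hcyc hzT hcard hoddT hrot fun w hw => hor w (sq_one hw)

end Core

end Cfsg.Agent.GW
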