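import Cfsg.Agent.Lib.GW.IrrCount
import Cfsg.Agent.Lib.GW.IrrOrbit
import Cfsg.Agent.Lib.GW.RedMixed
import Cfsg.Agent.Lib.GW.RedScalar
import Cfsg.Agent.Lib.GW.MixAbFalse
import Cfsg.Agent.Lib.GW.SecAll
import Cfsg.Agent.Lib.GW.SecFine

/-!
With a maximal centraliser of an involution no reflection is mixed on any `O_q(C)`.
-/

set_option autoImplicit false
set_option linter.unusedSectionVars false
set_option linter.style.haveILetI false

namespace Cfsg.Agent.GW

open Cfsg.Agent.TwoFus Cfsg.Agent.BenderUnique Subgroup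

universe u

namespace Core

variable {G : Type u} [Group G] [Finite G] {c : Core G} {a : G} {q : ℕ} [hq : Fact q.Prime] {e f y : G}
  {N : Subgroup G}

namespace Irr

variable (R : c.Irr a q e f y N)

include R

theorem fix_N : N ⊓ c.W a = zpowers e := by
  refine le_antisymm ?_ (zpowers_le.2 ⟨?_, R.e_mem.2⟩)
  swap
  · rw [R.N_eq]; exact mem_sup_left (mem_sup_left (mem_zpowers e))
  rintro x ⟨hxN, hxW⟩
  have L := R.toHeis
  have hef : Commute e f := L.ef
  have hle : zpowers e ≤ normalizer ((zpowers y ⊔ zpowers f : Subgroup G) : Set G) := by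
    refine zpowers_le.2 (mem_normalizer_fintype fun r hr => ?_)
    have hsub : zpowers y ⊔ zpowers f ≤ (zpowers y ⊔ zpowers f).comap (MulAut.conj e).toMonoidHom := by
      refine sup_le (zpowers_le.2 ?_) (zpowers_le.2 ?_)
      · show e * y * e⁻¹ ∈ zpowers y ⊔ zpowers f
        have h1 : e * y * e⁻¹ = f⁻¹ * y := by
          calc e * y * e⁻¹ = e * (y * e * y⁻¹)⁻¹ * y := by group
            _ = f⁻¹ * y := by rw [L.conj, mul_inv_rev, ← mul_assoc e, hef.inv_right.eq, mul_inv_cancel_right]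
        rw [h1]
        exact mul_mem (mem_sup_right (inv_mem (mem_zpowers f))) (mem_sup_left (mem_zpowers y))
      · show e * f * e⁻¹ ∈ zpowers y ⊔ zpowers f
        rw [hef.eq, mul_inv_cancel_right]
        exact mem_sup_right (mem_zpowers f)
    exact hsub hr
  have hNeq : N = (zpowers y ⊔ zpowers f) ⊔ zpowers e := by rw [R.N_eq]; ac_rfl
  replace hxN : x ∈ (zpowers y ⊔ zpowers f) ⊔ zpowers e := hNeq ▸ hxN
  rw [← SetLike.mem_coe, coe_mul_of_right_le_normalizer_left _ _ hle] at hxN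
  obtain ⟨r, hr, w, hw, rfl⟩ := Set.mem_mul.1 hxN
  have hrW : r ∈ c.W a := by
    have := (c.W a).mul_mem hxW ((c.W a).inv_mem ((zpowers_le.2 L.e_mem.2) hw))
    rwa [mul_inv_cancel_right] at this
  have hri : a * r * a⁻¹ = r⁻¹ := by
    have hle' : zpowers f ≤ normalizer (zpowers y : Set G) := le_trans (zpowers_le.2
      (mem_centralizer_iff.2 (by
        rintro _ ⟨i, rfl⟩; exact ((show Commute y f from L.yf).zpow_left i).eq)))
      (centralizer_le_normalizer _)
    rw [coe_mul_of_right_le_normalizer_left _ _ hle'] at hr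
    obtain ⟨_, ⟨i, rfl⟩, _, ⟨j, rfl⟩, rfl⟩ := Set.mem_mul.1 hr
    show a * (y ^ i * f ^ j) * a⁻¹ = (y ^ i * f ^ j)⁻¹
    rw [← conj_mul, ← conj_zpow, ← conj_zpow, L.y_inv, L.f_inv, inv_zpow, inv_zpow, mul_inv_rev]
    exact (((show Commute y f from L.yf).zpow_zpow i j).inv_inv).eq
  have h2 : a * r * a⁻¹ = r := mul_inv_eq_iff_eq_mul.2 ((L.refl.mem_W.1 hrW).2).symm
  rw [eq_one_of_sq_odd (by nth_rewrite 1 [h2.symm.trans hri]; rw [inv_mul_cancel])
    (c.odd_of_mem_U (L.refl.W_le hrW)), one_mul]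
  exact hw

/-- The other reflection is mixed on the same prime. -/
theorem other_mixed {b : G} (hb : c.Refl b) (hbf : b * f * b⁻¹ = f⁻¹) : c.Mixed b q := by
  have L := R.toHeis
  refine ⟨fun e0 => ?_, fun hle => L.f_ne ?_⟩
  swap
  · have h2 : b * f * b⁻¹ = f := mul_inv_eq_iff_eq_mul.2 ((hb.mem_W.1 (hle L.f_mem)).2).symm
    exact eq_one_of_sq_odd (by nth_rewrite 1 [h2.symm.trans hbf]; rw [inv_mul_cancel])
      (c.odd_of_mem_U L.f_U)
  have hall : ∀ r ∈ N, b * r * b⁻¹ = r⁻¹ := by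
    intro r hr
    obtain ⟨s, -, hsi, hw, hsz⟩ := hb.decomp (c.Qc_le_U L.ne_two (R.N_le hr))
    have hsN : s ∈ N := (zpowers_le.2 (N.mul_mem hr
      ((mem_normalizer_iff.1 (R.N_norm hb.mem_C) _).1 (N.inv_mem hr)))) hsz
    have hm : s⁻¹ * r ∈ c.Qc q ⊓ c.W b := ⟨R.N_le (N.mul_mem (N.inv_mem hsN) hr), hw⟩
    rw [e0, mem_bot, inv_mul_eq_one] at hm
    exact hm ▸ hsi
  have he : e ∈ N := R.N_eq ▸ mem_sup_left (mem_sup_left (mem_zpowers e))
  have hy : y ∈ N := R.N_eq ▸ mem_sup_left (mem_sup_right (mem_zpowers y))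
  apply L.f_ne
  have h1 := hall _ (N.mul_mem he hy)
  rw [← conj_mul, hall e he, hall y hy, mul_inv_rev] at h1
  have hc : Commute e⁻¹ y⁻¹ := h1
  have h3 := L.conj
  have hye : Commute y e := by simpa using hc.inv_inv.symm
  rw [hye.eq, mul_inv_cancel_right] at h3
  exact mul_eq_left.1 h3.symm

end Irr

/-- No reflection is mixed. -/
theorem noMixed (c : Core G) (hC : IsCoatom c.C) : c.NoMixed := by
  classical
  by_contra hno
  simp only [NoMixed, not_forall] at hno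
  obtain ⟨q₀, hq₀, hq₀2, a₀, ha₀, hfix₀, hmove₀⟩ := hno
  let S : Set G := {a | c.Refl a ∧ ∃ q : ℕ, q.Prime ∧ q ≠ 2 ∧ c.Mixed a q}
  obtain ⟨a, ⟨ha, q, hq, hq2, hm⟩, hmax⟩ := Set.exists_max_image S
    (fun a => (c.W a).relIndex c.U) (Set.toFinite S) ⟨a₀, ha₀, q₀, hq₀, hq₀2, hfix₀, hmove₀⟩
  haveI := Fact.mk hq
  have hS := c.secAll
  have hF := c.secFineAll
  have hb := c.x_mul_refl ha
  by_cases hab : ∃ A, c.MixAb a q A
  · obtain ⟨A, hA⟩ := hab
    refine hA.false ha hC hq2 hS ?_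
    by_cases hn : c.NeverMixed (c.d.x * a)
    · exact Or.inr hn
    left
    simp only [NeverMixed, not_forall, not_not] at hn
    obtain ⟨s, hs, hs2, hms⟩ := hn
    exact hmax _ ⟨hb, s, hs.out, hs2, hms⟩
  rcases split_cases ha hC hq2 hm hS (fun A hA => hab ⟨A, hA⟩) with ⟨e, f, y, R⟩ | ⟨e, f, y, N, R⟩
  · rcases R.y_sign hb.mem_C hb.sq with h | h
    · exact R.mixed_false hS hF h
    · exact R.scalar_false hS hF h
  · exact R.false_of_orbit hF R.orbit_le R.fix_N
      (hmax _ ⟨hb, q, hq, hq2, R.other_mixed hb (R.toHeis.other_inv hF hb)⟩)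

end Core

end Cfsg.Agent.GW
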