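import Cfsg.Agent.Lib.GW.Local
import Cfsg.Agent.Lib.GW.Rot

/-!
Elements of odd order inverted by a reflection: decomposition of `U`, and centralised normal subgroups.
-/

set_option autoImplicit false
set_option linter.unusedSectionVars false
set_option linter.style.haveILetI false

namespace Cfsg.Agent.GW

open Cfsg.Agent.TwoFus Cfsg.Agent.BenderUnique

universe u

section

variable {Y : Type u} [Group Y]

/-- An element of odd order has a square root among its powers. -/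
theorem exists_sqrt {s : Y} (hs : Odd (orderOf s)) : ∃ r ∈ Subgroup.zpowers s, r * r = s := by
  obtain ⟨j, hj⟩ := hs
  refine ⟨s ^ (j + 1), Subgroup.npow_mem_zpowers s _, ?_⟩
  rw [← pow_add, show j + 1 + (j + 1) = orderOf s + 1 by omega, pow_succ, pow_orderOf_eq_one, one_mul]

/-- An inverted element of odd order acts on fixed elements trivially. -/
theorem inverted_comm {a y o : Y} (hy : a * y * a⁻¹ = y⁻¹) (hyo : Odd (orderOf y)) (ho : a * o * a⁻¹ = o)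
    (hfix : a * (y * o * y⁻¹) * a⁻¹ = y * o * y⁻¹) : y * o = o * y := by
  have h1 : y⁻¹ * o * y = y * o * y⁻¹ := by
    calc y⁻¹ * o * y = a * y * a⁻¹ * (a * o * a⁻¹) * (a * y * a⁻¹)⁻¹ := by rw [hy, ho, inv_inv]
      _ = a * (y * o * y⁻¹) * a⁻¹ := by group
      _ = y * o * y⁻¹ := hfix
  have h2 : Commute (y * y) o := by
    show y * y * o = o * (y * y)
    calc y * y * o = y * (y * o * y⁻¹) * y := by group
      _ = y * (y⁻¹ * o * y) * y := by rw [h1]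
      _ = o * (y * y) := by group
  obtain ⟨j, hj⟩ := hyo
  have e : y = (y * y) ^ (j + 1) := by
    rw [← pow_two, ← pow_mul, show 2 * (j + 1) = orderOf y + 1 by omega, pow_succ, pow_orderOf_eq_one,
      one_mul]
  rw [e]
  exact h2.pow_left _

end

namespace Core

variable {G : Type u} [Group G] [Finite G] {c : Core G} {a : G}

/-- Every element of `U` is an inverted one times one of `W`. -/
theorem Refl.decomp (ha : c.Refl a) {u : G} (hu : u ∈ c.U) :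
    ∃ r ∈ c.U, a * r * a⁻¹ = r⁻¹ ∧ r⁻¹ * u ∈ c.W a ∧
      r ∈ Subgroup.zpowers (u * (a * u⁻¹ * a⁻¹)) := by
  set s := u * (a * u⁻¹ * a⁻¹) with hs
  have hsU : s ∈ c.U := mul_mem hu (c.U_conj a ha.mem_C _ (inv_mem hu))
  obtain ⟨r, hr, hrs⟩ := exists_sqrt (c.odd_of_mem_U hsU)
  have hsinv : a * s * a⁻¹ = s⁻¹ := by
    rw [hs]
    calc a * (u * (a * u⁻¹ * a⁻¹)) * a⁻¹ = a * u * (a * u⁻¹) * (a * a)⁻¹ := by group
      _ = a * u * (a⁻¹ * u⁻¹) := by rw [ha.sq, inv_one, mul_one, ha.inv_eq]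
      _ = (u * (a * u⁻¹ * a⁻¹))⁻¹ := by group
  have hrinv : a * r * a⁻¹ = r⁻¹ := by
    obtain ⟨i, rfl⟩ := hr
    simp only
    rw [← conj_zpow, hsinv, inv_zpow]
  have hrU : r ∈ c.U := (Subgroup.zpowers_le.2 hsU) hr
  refine ⟨r, hrU, hrinv, ha.mem_W.2 ⟨mul_mem (inv_mem hrU) hu, ?_⟩, hr⟩
  have e1 : u * a * u⁻¹ = r * a * r⁻¹ := by
    calc u * a * u⁻¹ = s * a := by rw [hs]; group
      _ = r * r * a := by rw [hrs]
      _ = r * (r * a) := mul_assoc _ _ _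
      _ = r * (a * (a * r * a⁻¹)) := by
        rw [← mul_assoc a (a * r) a⁻¹, ← mul_assoc a a r, ha.sq, one_mul, ha.inv_eq]
      _ = r * a * r⁻¹ := by rw [hrinv]; group
  calc r⁻¹ * u * a = r⁻¹ * (u * a * u⁻¹) * u := by group
    _ = r⁻¹ * (r * a * r⁻¹) * u := by rw [e1]
    _ = a * (r⁻¹ * u) := by group

/-- A `q`-subgroup of `U` not inside `W` has an inverted element centralising its part in `W`. -/
theorem Refl.exists_inverted (ha : c.Refl a) {q : ℕ} [hq : Fact q.Prime] {D : Subgroup G}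
    (hD : IsPGroup q D) (hDU : D ≤ c.U) (haD : ∀ d ∈ D, a * d * a⁻¹ ∈ D) (hnW : ¬ D ≤ c.W a) :
    ∃ u ∈ D, u ≠ 1 ∧ a * u * a⁻¹ = u⁻¹ ∧ u ∈ Subgroup.centralizer ((D ⊓ c.W a : Subgroup G) : Set G) := by
  classical
  haveI : Group.IsNilpotent D := hD.isNilpotent
  have hlt : (D ⊓ c.W a).subgroupOf D < ⊤ := lt_top_iff_ne_top.2 fun e =>
    hnW ((Subgroup.subgroupOf_eq_top.1 e).trans inf_le_right)
  obtain ⟨x, hx, hxS⟩ :=
    SetLike.exists_of_lt (Group.normalizerCondition_of_isNilpotent ((D ⊓ c.W a).subgroupOf D) hlt)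
  have hxW : (x : G) ∉ c.W a := fun h => hxS (Subgroup.mem_subgroupOf.2 ⟨x.2, h⟩)
  have hxn : ∀ w ∈ D ⊓ c.W a, (x : G)⁻¹ * w * x ∈ D ⊓ c.W a := by
    intro w hw
    have := (Subgroup.mem_normalizer_iff.1 (inv_mem hx) ⟨w, hw.1⟩).1 (Subgroup.mem_subgroupOf.2 hw)
    refine ⟨D.mul_mem (D.mul_mem (D.inv_mem x.2) hw.1) x.2, ?_⟩
    simpa [Subgroup.mem_subgroupOf] using this
  have hWa : ∀ w ∈ D ⊓ c.W a, a * w = w * a := fun w hw => ((ha.mem_W.1 hw.2).2).symm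
  set u : G := (x : G) * (a * (x : G)⁻¹ * a⁻¹) with hu
  refine ⟨u, mul_mem x.2 (haD _ (inv_mem x.2)), fun e => hxW ?_, ?_, ?_⟩
  · refine ha.mem_W.2 ⟨hDU x.2, mul_inv_eq_iff_eq_mul.1 ?_⟩
    rw [hu] at e
    calc (x : G) * a * (x : G)⁻¹ = (x : G) * (a * (x : G)⁻¹ * a⁻¹) * a := by group
      _ = a := by rw [e, one_mul]
  · rw [hu]
    calc a * ((x : G) * (a * (x : G)⁻¹ * a⁻¹)) * a⁻¹
        = a * (x : G) * (a * (x : G)⁻¹) * (a⁻¹ * a⁻¹) := by group
      _ = a * (x : G) * a⁻¹ * (x : G)⁻¹ := by rw [ha.inv_eq, ha.sq]; simp [mul_assoc]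
      _ = ((x : G) * (a * (x : G)⁻¹ * a⁻¹))⁻¹ := by group
  · refine Subgroup.mem_centralizer_iff.2 fun w hw => ?_
    have h1' : (x : G)⁻¹ * w * x = a * ((x : G)⁻¹ * w * x) * a⁻¹ := by
      rw [hWa _ (hxn w hw), mul_inv_cancel_right]
    rw [hu]
    calc w * ((x : G) * (a * (x : G)⁻¹ * a⁻¹))
        = (x : G) * ((x : G)⁻¹ * w * x) * (a * (x : G)⁻¹ * a⁻¹) := by group
      _ = (x : G) * (a * ((x : G)⁻¹ * w * x) * a⁻¹) * (a * (x : G)⁻¹ * a⁻¹) := by rw [← h1']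
      _ = (x : G) * a * (x : G)⁻¹ * (w * a⁻¹) := by group
      _ = (x : G) * a * (x : G)⁻¹ * (a⁻¹ * w) := by rw [ha.inv_eq, hWa w hw]
      _ = (x : G) * (a * (x : G)⁻¹ * a⁻¹) * w := by group

/-- The maximal centraliser is the normaliser of each of its nontrivial normal subgroups. -/
theorem normalizer_eq_C (hC : IsCoatom c.C) {Y : Subgroup G} (hY : Y ≤ c.C) (hne : Y ≠ ⊥)
    (hn : c.C ≤ Subgroup.normalizer (Y : Set G)) : Subgroup.normalizer (Y : Set G) = c.C :=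
  haveI := c.simple
  BenderMax.normalizer_eq hC hY hne hn

end Core

end Cfsg.Agent.GW
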