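import Cfsg.Agent.Lib.GW.RatioA7

/-!
A Sylow 2-subgroup of order eight with one class of reflections centralising the whole odd core: the
order of the group, and three elements inverted by the other reflections.
-/

set_option linter.unusedSectionVars false
set_option linter.style.haveILetI false

namespace Cfsg.Agent.GW

open Cfsg Cfsg.Agent.TwoFus Cfsg.Agent.Blocks Cfsg.Agent.Char
open scoped ComplexConjugate

universe u

set_option maxHeartbeats 800000 in
/-- The numerical part. -/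
theorem ratio_numeric_gen {g K x e A B u : ℤ} (he : e = 1 ∨ e = -1) (hu : 3 ≤ u) (hu2 : ¬ 2 ∣ u)
    (hxp : 0 < x) (hne : x ≠ e) (hx8 : 8 ∣ x - e) (hA : 8 ∣ A + 3 * e) (hB : 8 ∣ B + 3 * e)
    (hs : A + B = x + e) (hA0 : A ≠ 0) (hB0 : B ≠ 0) (h7 : e = -1 → x ≠ 7)
    (hord : g * (x - e) ^ 2 = x * (x + e) * (64 * K) * (1 + u) ^ 2)
    (hid : (1 - u) ^ 2 * A * B * (x - e) ^ 2 = e * x * (A - B) ^ 2 * (1 + u) ^ 2) :
    u = 3 ∧ g = 840 * K := by
  have hT : 0 < (1 + u) ^ 2 := by positivity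
  rcases he with rfl | rfl
  · exfalso
    have hx : 9 ≤ x := by omega
    have key : A * B * ((1 - u) ^ 2 * (x - 1) ^ 2 + 4 * x * (1 + u) ^ 2) =
        x * (x + 1) ^ 2 * (1 + u) ^ 2 := by
      linear_combination hid + x * (1 + u) ^ 2 * (A + B + x + 1) * hs
    have hAB : 0 < A * B := by
      have hR : 0 < x * (x + 1) ^ 2 * (1 + u) ^ 2 := by positivity
      rw [← key] at hR
      exact pos_of_mul_pos_left hR (by positivity)
    have hApos : 5 ≤ A ∧ 5 ≤ B := by
      rcases pos_and_pos_or_neg_and_neg_of_mul_pos hAB with ⟨a, b⟩ | ⟨a, b⟩ <;> omega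
    have hlow : 5 * (x - 4) ≤ A * B := by
      nlinarith [mul_nonneg (show 0 ≤ A - 5 by omega) (show 0 ≤ B - 5 by omega)]
    have hW : (A - B) ^ 2 ≤ (x - 9) ^ 2 := by
      have : (A - B) ^ 2 = (x + 1) ^ 2 - 4 * (A * B) := by linear_combination (A + B + x + 1) * hs
      nlinarith
    have hu' : (1 + u) ^ 2 ≤ 4 * (1 - u) ^ 2 := by nlinarith
    have h1 : 5 * (x - 4) * (x - 1) ^ 2 * (1 + u) ^ 2 ≤ 4 * x * (x - 9) ^ 2 * (1 + u) ^ 2 := by
      calc 5 * (x - 4) * (x - 1) ^ 2 * (1 + u) ^ 2 ≤ A * B * (x - 1) ^ 2 * (4 * (1 - u) ^ 2) :=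
            mul_le_mul (mul_le_mul_of_nonneg_right hlow (sq_nonneg _)) hu' hT.le (by positivity)
        _ = 4 * (x * (A - B) ^ 2 * (1 + u) ^ 2) := by linear_combination 4 * hid
        _ ≤ 4 * x * (x - 9) ^ 2 * (1 + u) ^ 2 := by
            have := mul_le_mul_of_nonneg_right (mul_le_mul_of_nonneg_left hW hxp.le) hT.le
            linarith
    have h2 := le_of_mul_le_mul_right h1 hT
    nlinarith [mul_nonneg (show 0 ≤ x - 9 by omega) (mul_nonneg hxp.le hxp.le),
      mul_nonneg (show 0 ≤ x - 9 by omega) hxp.le]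
  · have hx : 15 ≤ x := by have := h7 rfl; omega
    have key : -(A * B) * ((1 - u) ^ 2 * (x + 1) ^ 2 - 4 * x * (1 + u) ^ 2) =
        x * (x - 1) ^ 2 * (1 + u) ^ 2 := by
      linear_combination -hid + x * (1 + u) ^ 2 * (A + B + x - 1) * hs
    have hneg : ¬ 0 < A * B := fun hp => by
      have h1 : 0 < (1 - u) ^ 2 * (A * B) * (x + 1) ^ 2 :=
        mul_pos (mul_pos (by nlinarith) hp) (by positivity)
      nlinarith [mul_nonneg (mul_nonneg hxp.le (sq_nonneg (A - B))) hT.le]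
    have hn : 5 * (x + 4) ≤ -(A * B) := by
      rcases lt_or_gt_of_ne hA0 with a | a
      · have : 0 < B := by omega
        nlinarith [mul_le_mul (show 5 ≤ -A by omega) (show x + 4 ≤ B by omega) (by omega) (by omega)]
      · have : B < 0 := by
          rcases lt_or_gt_of_ne hB0 with b | b
          · exact b
          · exact absurd (mul_pos a b) hneg
        nlinarith [mul_le_mul (show 5 ≤ -B by omega) (show x + 4 ≤ A by omega) (by omega) (by omega)]
    have hu35 : u = 3 ∨ 5 ≤ u := by omega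
    rcases hu35 with rfl | hu5
    · refine ⟨rfl, ?_⟩
      have k2 : -(A * B) * (x ^ 2 - 14 * x + 1) = 4 * x * (x - 1) ^ 2 := by linarith [key]
      have hp : 0 < x ^ 2 - 14 * x + 1 := by nlinarith
      have h1 : 5 * (x + 4) * (x ^ 2 - 14 * x + 1) ≤ 4 * x * (x - 1) ^ 2 :=
        k2 ▸ mul_le_mul_of_nonneg_right hn hp.le
      have h2 : x ≤ 47 := by
        by_contra hlt
        nlinarith [mul_nonneg (show 0 ≤ x - 48 by omega) (mul_nonneg hxp.le hxp.le),
          mul_nonneg (show 0 ≤ x - 48 by omega) hxp.le]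
      generalize A * B = n at k2
      have h8 : x = 15 ∨ x = 23 ∨ x = 31 ∨ x = 39 ∨ x = 47 := by omega
      rcases h8 with rfl | rfl | rfl | rfl | rfl <;> norm_num at k2 hord <;> omega
    · exfalso
      have hu' : 4 * (1 + u) ^ 2 ≤ 9 * (1 - u) ^ 2 := by nlinarith
      have hp : 0 < 4 * x ^ 2 - 28 * x + 4 := by nlinarith
      have h1 : 5 * (x + 4) * (4 * x ^ 2 - 28 * x + 4) * (1 + u) ^ 2 ≤
          9 * x * (x - 1) ^ 2 * (1 + u) ^ 2 := by
        calc 5 * (x + 4) * (4 * x ^ 2 - 28 * x + 4) * (1 + u) ^ 2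
            ≤ -(A * B) * (4 * x ^ 2 - 28 * x + 4) * (1 + u) ^ 2 :=
              mul_le_mul_of_nonneg_right (mul_le_mul_of_nonneg_right hn hp.le) hT.le
          _ = -(A * B) * ((x + 1) ^ 2 * (4 * (1 + u) ^ 2) - 36 * x * (1 + u) ^ 2) := by ring
          _ ≤ -(A * B) * ((x + 1) ^ 2 * (9 * (1 - u) ^ 2) - 36 * x * (1 + u) ^ 2) :=
              mul_le_mul_of_nonneg_left (by
                have := mul_le_mul_of_nonneg_left hu' (sq_nonneg (x + 1)); linarith) (by omega)
          _ = 9 * x * (x - 1) ^ 2 * (1 + u) ^ 2 := by linear_combination 9 * key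
      exact absurd (le_of_mul_le_mul_right h1 hT) (poly_pos hx).not_ge

variable {G : Type u} [Group G] [Fintype G]

/-- A character of degree seven with value minus one at the involutions: no element of the core is
inverted. -/
theorem deg_seven_kill_at [IsSimpleGroup G] {U : Subgroup G} (hodd : Odd (Nat.card U)) {z y t : G}
    (hzz : z * z = 1) (hyy : y * y = 1) (hzy : Commute z y)
    (hUz : ∀ w ∈ U, Commute w z) (hUy : ∀ w ∈ U, Commute w y)
    {χ : IrrCharacter G} (hdeg : charDegree (χ : G → ℂ) = 7)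
    (hval : ∀ w ∈ U, (χ : G → ℂ) (z * w) = -1 ∧ (χ : G → ℂ) (y * w) = -1 ∧
      (χ : G → ℂ) (z * (y * w)) = -1) {w : G} (hw : w ∈ U) (ht : t * w * t⁻¹ = w⁻¹) : w = 1 := by
  classical
  set H := Subgroup.centralizer ({z, y} : Set G) with hH
  have hmem : ∀ g : G, Commute g z → Commute g y → g ∈ H := fun g h1 h2 =>
    Subgroup.mem_centralizer_iff.2 fun v hv => by
      rcases hv with rfl | rfl
      · exact h1.eq.symm
      · exact h2.eq.symm
  have hUH : U ≤ H := fun w hw => hmem w (hUz w hw) (hUy w hw)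
  haveI : Fintype H := Fintype.ofFinite H
  haveI : Fintype (U.subgroupOf H) := Fintype.ofFinite _
  have hβ := exists_eigenChar (H := H) (irr_isCharacter χ) hzz
    (fun g => ((Subgroup.mem_centralizer_iff.1 g.2 z (by simp)).symm : Commute (g : G) z))
    (e := 1) (Or.inl rfl)
  set yH : H := ⟨y, hmem y hzy.symm (Commute.refl y)⟩ with hyH
  have hγ := exists_eigenChar (H := U.subgroupOf H) hβ (z := yH) (Subtype.ext hyy)
    (fun g => Subtype.ext (hUy _ (Subgroup.mem_subgroupOf.1 g.2)).eq) (e := 1) (Or.inl rfl)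
  have hγval : ∀ g : U.subgroupOf H,
      ((((χ : G → ℂ) ((g : H) : G) + ((1 : ℤ) : ℂ) * (χ : G → ℂ) (z * ((g : H) : G))) / 2) +
        ((1 : ℤ) : ℂ) * (((χ : G → ℂ) ((yH * (g : H) : H) : G) +
          ((1 : ℤ) : ℂ) * (χ : G → ℂ) (z * ((yH * (g : H) : H) : G))) / 2)) / 2 =
        ((χ : G → ℂ) ((g : H) : G) - 3) / 4 := fun g => by
    obtain ⟨v1, v2, v3⟩ := hval _ (Subgroup.mem_subgroupOf.1 g.2)
    rw [Subgroup.coe_mul, hyH, v1, v2, v3]
    push_cast
    ring
  obtain ⟨al, hal⟩ := exists_hom_of_degree_one hγ (by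
    refine (hγval 1).trans ?_
    rw [OneMemClass.coe_one, OneMemClass.coe_one, irr_one_eq_charDegree, hdeg]
    norm_num)
  set g : U.subgroupOf H := ⟨⟨w, hUH hw⟩, Subgroup.mem_subgroupOf.2 hw⟩ with hg
  have hχ : (χ : G → ℂ) w = 4 * (al g : ℂ) + 3 := by
    have h1 := congrFun hal g
    simp only [hγval g] at h1
    linear_combination 4 * h1
  have hreal : conj ((χ : G → ℂ) w) = (χ : G → ℂ) w := by
    rw [← irr_inv, ← ht, irr_conj_invariant]
  have hal1 : al g = 1 := by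
    have h1 : conj ((al g : ℂ)) = (al g : ℂ) := by
      rw [hχ, map_add, map_mul, map_ofNat, map_ofNat] at hreal
      linear_combination hreal / 4
    rw [Cfsg.Agent.BrauerPairs.conj_linear] at h1
    have h2 : al g ^ 2 = 1 := Units.ext (by
      rw [Units.val_pow_eq_pow_val, Units.val_one, pow_two]
      nth_rewrite 1 [← h1]
      exact inv_mul_cancel₀ (al g).ne_zero)
    have h3 : al g ^ Nat.card U = 1 := by
      rw [← Nat.card_congr (Subgroup.subgroupOfEquivOfLe hUH).toEquiv, ← map_pow, pow_card_eq_one',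
        map_one]
    exact orderOf_eq_one_iff.1 (Nat.eq_one_of_dvd_coprimes (Nat.coprime_two_left.2 hodd)
      (orderOf_dvd_of_pow_eq_one h2) (orderOf_dvd_of_pow_eq_one h3))
  refine faithful_of_simple (χ := χ) (by omega) ?_
  rw [hχ, hal1, irr_one_eq_charDegree, hdeg]
  norm_num

variable [IsSimpleGroup G] {P : Sylow 2 G} (d : Dih (P : Subgroup G)) {U : Subgroup G}

/-- The order and the number of inverted elements. -/
theorem ratio_order (hle : U ≤ Subgroup.centralizer ({d.z} : Set G))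
    (hconj : ∀ g ∈ Subgroup.centralizer ({d.z} : Set G), ∀ w ∈ U, g * w * g⁻¹ ∈ U)
    (hodd : Odd (Nat.card U))
    (hcard : Nat.card (Subgroup.centralizer ({d.z} : Set G)) =
      Nat.card U * Nat.card (P : Subgroup G))
    (h1 : ∀ a b : G, orderOf a = 2 → orderOf b = 2 → IsConj a b)
    (hm : d.m = 4) {v : G} (hv : v ∈ (P : Subgroup G)) (hvx : v ∉ Subgroup.zpowers d.x)
    (hvU : ∀ w ∈ U, Commute w v) (ho : numInv U (d.x * v) ≠ 1) :
    numInv U (d.x * v) = 3 ∧ Nat.card G = 840 * Nat.card U := by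
  haveI : Fact (Nat.Prime 2) := ⟨Nat.prime_two⟩
  obtain ⟨M, hM⟩ := Cfsg.Agent.GlaubermanMod.exists_isPModular 2
  haveI : M.IsPrime := hM.2.1.isPrime
  obtain ⟨χ, e, x, A, B, hχ, hχz, hdeg, he, hxp, hxe, hA0, hB0, hs, hx8, hA, hB, hord, hid⟩ :=
    ratio d hle hconj hodd hcard h1 hM (h := 2) hm le_rfl dvd_rfl
  rw [hm] at hx8 hA hB
  have hUz : ∀ w ∈ U, Commute w d.z := fun w hw =>
    Subgroup.mem_centralizer_singleton_iff.1 (hle hw)
  have hzx : d.z = d.x ^ (2 : ℤ) := by rw [Dih.z, hm]; norm_num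
  -- which of the two standard reflections centralises the core
  obtain ⟨i, hi⟩ : ∃ i : ℤ, v = d.x ^ i * d.y := by
    rcases d.cases v hv with ⟨i, hi⟩ | h'
    · exact absurd (hi ▸ zpow_mem (Subgroup.mem_zpowers _) i) hvx
    · exact h'
  have hpow : ∀ j : ℤ, d.x ^ (2 * j) = 1 ∨ d.x ^ (2 * j) = d.z := fun j =>
    d.sq_cases (zpow_mem (Subgroup.mem_zpowers d.x) _) (by
      rw [← zpow_add, d.zpow_eq_one, hm]; exact ⟨j, by push_cast; ring⟩)
  have hshift : ∀ (j : ℤ) (s : G), numInv U (d.x ^ (2 * j) * s) = numInv U s := by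
    intro j s
    rcases hpow j with e' | e'
    · rw [e', one_mul]
    · rw [e']
      refine Nat.card_congr (Equiv.subtypeEquivRight fun w => ?_)
      rw [show d.z * s * (w : G) * (d.z * s)⁻¹ = d.z * (s * (w : G) * s⁻¹) * d.z⁻¹ by group]
      constructor
      · intro h'
        have h'' := congrArg (fun a => d.z⁻¹ * a * d.z) h'
        replace h'' : d.z⁻¹ * (d.z * (s * (w : G) * s⁻¹) * d.z⁻¹) * d.z = d.z⁻¹ * (w : G)⁻¹ * d.z := h''
        rw [show d.z⁻¹ * (d.z * (s * (w : G) * s⁻¹) * d.z⁻¹) * d.z = s * (w : G) * s⁻¹ by group] at h''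
        rw [h'', mul_assoc, (hUz _ w.2).inv_left.eq, inv_mul_cancel_left]
      · intro h'
        rw [h', ← (hUz _ w.2).inv_left.eq, mul_inv_cancel_right]
  set o := numInv U (d.x * v) with hodef
  have hn1 : numInv U v = 1 := numInv_eq_one_of_commute hodd hvU
  have hsym : (numInv U d.y = 1 ∧ numInv U (d.x * d.y) = o) ∨
      (numInv U d.y = o ∧ numInv U (d.x * d.y) = 1) := by
    rcases Int.even_or_odd' i with ⟨j, rfl | rfl⟩
    · refine Or.inl ⟨?_, ?_⟩
      · rw [← hn1, hi, hshift]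
      · rw [hodef, hi, ← mul_assoc, ← zpow_one_add, add_comm, zpow_add_one, mul_assoc, hshift]
    · refine Or.inr ⟨?_, ?_⟩
      · rw [hodef, hi, ← mul_assoc, ← zpow_one_add, show 1 + (2 * j + 1) = 2 * (j + 1) by ring, hshift]
      · rw [← hn1, hi, zpow_add_one, mul_assoc, hshift]
  have ho1 : 1 ≤ o := by
    rw [hodef, numInv]
    haveI : Nonempty {w : U // d.x * v * (w : G) * (d.x * v)⁻¹ = (w : G)⁻¹} := ⟨⟨1, by simp⟩⟩
    exact Nat.card_pos
  have ho2 : ¬ 2 ∣ o := by
    intro h'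
    refine hodd.not_two_dvd_nat (h'.trans ?_)
    have hxv : d.x * v * (d.x * v) = 1 := by
      rw [show d.x * v = d.x ^ (1 + i) * d.y by rw [hi, ← mul_assoc, ← zpow_one_add]]
      exact d.form_sq _
    exact Dvd.intro _ (numInv_mul_card hodd hxv fun w hw =>
      hconj _ (P_le_centralizer d (mul_mem d.hx hv)) w hw)
  obtain ⟨hord', hid'⟩ : (Nat.card G : ℤ) * (x - e) ^ 2 =
      x * (x + e) * (64 * (Nat.card U : ℤ)) * (1 + (o : ℤ)) ^ 2 ∧
      (1 - (o : ℤ)) ^ 2 * A * B * (x - e) ^ 2 = e * x * (A - B) ^ 2 * (1 + (o : ℤ)) ^ 2 := by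
    rcases hsym with ⟨e1, e2⟩ | ⟨e1, e2⟩ <;> rw [e1, e2] at hord hid <;> push_cast at hord hid ⊢ <;>
      exact ⟨by linear_combination hord, by linear_combination hid⟩
  push_cast at hx8 hA hB
  have h7 : e = -1 → x ≠ 7 := by
    intro e1 e7
    refine ho ?_
    subst e1 e7
    have hzo : orderOf d.z = 2 := orderOf_eq_prime (by rw [pow_two, d.zz]) d.z_ne
    have hvv : v * v = 1 := d.out_sq v hv hvx
    have hzv : Commute d.z v := (d.z_comm hv).symm
    have hu2 := hodd.not_two_dvd_nat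
    have hval : ∀ s : G, s * s = 1 → s ≠ 1 → ∀ w ∈ U, Commute w s →
        (χ : G → ℂ) (s * w) = -1 := by
      intro s hss hs1 w hw hc
      have hso : orderOf s = 2 := orderOf_eq_prime (by rw [pow_two, hss]) hs1
      rw [DihBlock.section_const hM hχ rfl hc.symm ⟨1, by rw [hso, pow_one]⟩
        (fun h2 => hu2 (h2.trans (Subgroup.orderOf_dvd_natCard U hw)))
        (DihBlock.complement_all d ⟨1, by rw [hso, pow_one]⟩ hs1),
        irr_isConj χ (h1 _ _ hzo hso), hχz]
      norm_num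
    have hv1 : v ≠ 1 := fun e1 => hvx (e1 ▸ one_mem _)
    have hkill : ∀ w ∈ U, d.x * v * w * (d.x * v)⁻¹ = w⁻¹ → w = 1 := fun w hw hinv =>
      deg_seven_kill_at hodd d.zz hvv hzv hUz hvU (χ := χ) (by exact_mod_cast hdeg)
        (fun w' hw' => ⟨hval _ d.zz d.z_ne w' hw' (hUz w' hw'), hval _ hvv hv1 w' hw' (hvU w' hw'), by
          rw [← mul_assoc]
          refine hval _ ?_ ?_ w' hw' ((hUz w' hw').mul_right (hvU w' hw'))
          · rw [mul_assoc, ← mul_assoc v, ← hzv.eq, mul_assoc d.z v, hvv, mul_one, d.zz]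
          · intro e1
            rw [mul_eq_one_iff_inv_eq] at e1
            exact hvx (e1 ▸ inv_mem d.z_mem)⟩) hw hinv
    rw [hodef, numInv, Nat.card_eq_one_iff_unique]
    exact ⟨⟨fun a b => Subtype.ext (Subtype.ext ((hkill _ a.1.2 a.2).trans (hkill _ b.1.2 b.2).symm))⟩,
      ⟨⟨1, by simp⟩⟩⟩
  obtain ⟨hu, hg⟩ := ratio_numeric_gen (g := (Nat.card G : ℤ)) (K := (Nat.card U : ℤ)) (u := (o : ℤ)) he
    (by omega) (by omega) hxp hxe (by omega) (by omega) (by omega) hs hA0 hB0 h7 hord' hid'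
  exact ⟨by exact_mod_cast hu, by exact_mod_cast hg⟩

end Cfsg.Agent.GW
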