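import Cfsg.Agent.Lib.GW.StepCShape
import Cfsg.Agent.Lib.GW.StepCRatio
import Cfsg.Agent.Lib.GW.Inverted
import Cfsg.Agent.Lib.DGroup.MainPSL
import Cfsg.Agent.Lib.A7Recog.Recog

/-!
A maximal subgroup properly above the centraliser of the central involution: the group is a target.
-/

set_option autoImplicit false
set_option linter.unusedSectionVars false
set_option linter.style.haveILetI false

namespace Cfsg.Agent.GW

open Cfsg.Agent.TwoFus

universe u

variable {G : Type u} [Group G] [Finite G]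

namespace Core

variable (c : Core G) {M N : Subgroup G}

/-- A non-trivial subgroup of the centraliser is not normal. -/
theorem normalizer_ne_top (hCM : c.C < M) {W : Subgroup G} (hW : W ≤ c.C) (hne : W ≠ ⊥) :
    Subgroup.normalizer (W : Set G) ≠ ⊤ := by
  intro htop
  haveI := c.simple
  haveI : W.Normal := Subgroup.normalizer_eq_top_iff.1 htop
  rcases (inferInstance : W.Normal).eq_bot_or_eq_top with e | e
  · exact hne e
  · exact hCM.ne_top (top_le_iff.1 (e ▸ hW))

/-- In the four-group case with non-trivial odd core the subgroup is the normaliser of that core. -/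
theorem FourCase.normalizer_eq (h : c.FourCase N) (hCM : c.C < M) (hU : c.U ≠ ⊥) :
    Subgroup.normalizer (c.U : Set G) = N := by
  have hle : N ≤ Subgroup.normalizer (c.U : Set G) := fun g hg =>
    Subgroup.mem_normalizer_iff.2 fun w => ⟨h.norm_U g hg w, fun hw => by
      have := h.norm_U g⁻¹ (inv_mem hg) _ hw
      rwa [inv_inv, show g⁻¹ * (g * w * g⁻¹) * g = w by group] at this⟩
  by_contra hne
  exact c.normalizer_ne_top hCM c.U_le hU (h.coatom.2 _ (lt_of_le_of_ne hle (Ne.symm hne)))

/-- A rotation lies in the normaliser of the fixed part of the odd core. -/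
theorem rot_mem_normalizer {b g : G} (hb : c.Refl b) (h1 : g * c.d.z * g⁻¹ = b)
    (h3 : g * (c.d.z * b) * g⁻¹ = c.d.z) : g ∈ Subgroup.normalizer (c.W b : Set G) := by
  refine Subgroup.mem_normalizer_iff_map_conj_eq.2 (Subgroup.eq_of_le_of_card_ge ?_ ?_)
  · rintro _ ⟨w, hw, rfl⟩
    exact hb.rot_W h1 h3 hw
  · exact (Nat.card_congr ((c.W b).equivMapOfInjective _ (MulAut.conj g).injective).toEquiv).le

/-- The rotations generate, with one reflection, the Sylow subgroup. -/
theorem P_comm_of_two {a : G} (ha : c.Refl a) {w : G} (hwa : Commute w a)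
    (hwb : Commute w (c.d.x * a)) {s : G} (hs : s ∈ (c.P : Subgroup G)) : Commute w s := by
  have hwx : Commute w c.d.x := by
    have := hwb.mul_right hwa.inv_right
    rwa [mul_inv_cancel_right] at this
  by_cases hsx : s ∈ Subgroup.zpowers c.d.x
  · obtain ⟨i, rfl⟩ := hsx
    exact hwx.zpow_right i
  · obtain ⟨i, hi⟩ := c.d.idx s hs a ha.1 hsx ha.2
    have e : s = a * (c.d.x ^ i)⁻¹ := by
      rw [show c.d.x ^ i = s⁻¹ * a from hi]; group
    rw [e]
    exact hwa.mul_right (hwx.zpow_right i).inv_right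

/-- With trivial odd core the group is a two-dimensional projective special linear group. -/
theorem target_of_core_trivial (hU : c.U = ⊥) {a : G} (ha : c.Refl a) : IsTarget G := by
  haveI : Fact (Nat.Prime 2) := ⟨Nat.prime_two⟩
  haveI := c.simple
  have hCP : ∀ g ∈ c.C, g ∈ (c.P : Subgroup G) := fun g hg => by
    obtain ⟨w, hw, s, hs, e⟩ := c.U_sup g hg
    rw [hU, Subgroup.mem_bot] at hw
    rw [e, hw, one_mul]; exact hs
  have hout : ∀ g ∈ (c.P : Subgroup G),
      g ∈ Subgroup.zpowers c.d.x ∨ g * a ∈ Subgroup.zpowers c.d.x := fun g hg => by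
    by_cases hgx : g ∈ Subgroup.zpowers c.d.x
    · exact Or.inl hgx
    · have := c.d.idx g hg a ha.1 hgx ha.2
      rw [inv_eq_of_mul_eq_one_right (c.d.out_sq g hg hgx)] at this
      exact Or.inr this
  have hinv : ∀ t ∈ Subgroup.zpowers c.d.x, a * t * a = t⁻¹ := by
    intro t ht
    have h1 : (a * t) * (a * t) = 1 := c.d.out_sq _ (mul_mem ha.1 (Subgroup.zpowers_le.2 c.d.hx ht))
      fun h => ha.2 ((Subgroup.mul_mem_cancel_right _ ht).1 h)
    rw [← mul_assoc] at h1
    exact mul_eq_one_iff_eq_inv.1 h1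
  have hyp : DGroup.Hyp2 (Subgroup.zpowers c.d.x) a := by
    refine ⟨?_, ?_, ha.sq, ha.2, hinv, fun e he h2 h1 g hg => ?_⟩
    · rintro p ⟨i, rfl⟩ q ⟨j, rfl⟩
      exact (Commute.zpow_zpow_self c.d.x i j).eq
    · rw [Nat.card_zpowers, c.d.hm]; exact c.d.even
    · rcases c.d.sq_cases he h2 with rfl | rfl
      · exact absurd rfl h1
      · exact hout g (hCP g (c.mem_C.2 hg))
  have hMain : DGroup.Main (Subgroup.zpowers c.d.x) a c.d.z := by
    refine ⟨⟨hyp, ⟨c.d.z_mem, c.d.zz, c.d.z_ne⟩, fun e he => ?_, ⟨c.P, fun g hg => ?_⟩⟩,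
      fun K hK ho => ?_, c.one_class⟩
    · exact (c.d.sq_cases he.1 he.2.1).resolve_left he.2.2
    · exact hyp.mem_H.2 (hout g hg)
    · rcases hK.eq_bot_or_eq_top with e | e
      · exact e
      · exfalso
        refine ho.not_two_dvd_nat ?_
        rw [e, Subgroup.card_top, ← c.z_order]
        exact orderOf_dvd_natCard _
  exact Or.inl (hMain.psl fun hsol => c.noncomm ⟨⟨fun p q => IsSimpleGroup.comm_iff_isSolvable.2 hsol p q⟩⟩)

end Core

/-- A maximal subgroup properly above the centraliser of the central involution makes the group a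
target. -/
theorem stepC (c : Core G) {M : Subgroup G} (hM : IsCoatom M) (hCM : c.C < M) : IsTarget G := by
  classical
  haveI := Fintype.ofFinite G
  haveI := c.simple
  rcases c.shape_cases hM hCM with hT | hF
  · exact hT
  obtain ⟨a, ha, haU, hafus⟩ := hF.refl
  set b := c.d.x * a with hbdef
  have hb : c.Refl b := c.x_mul_refl ha
  obtain ⟨g, h1, -, h3⟩ := hb.exists_rot
  have hgn := c.rot_mem_normalizer hb h1 h3
  have hgM : g ∉ M := fun h => hafus g h h1
  have hnU : ∀ w ∈ c.U, b * w * b⁻¹ ∈ c.U := fun w hw => c.U_conj b hb.mem_C w hw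
  let eW : {w : c.U // (w : G) * b = b * (w : G)} ≃ c.W b :=
    { toFun := fun w => ⟨w.1, hb.mem_W.2 ⟨w.1.2, w.2⟩⟩
      invFun := fun w => ⟨⟨w.1, (hb.mem_W.1 w.2).1⟩, (hb.mem_W.1 w.2).2⟩
      left_inv := fun _ => rfl
      right_inv := fun _ => rfl }
  have hmul : numInv c.U b * Nat.card (c.W b) = Nat.card c.U := by
    rw [← Nat.card_congr eW]
    exact numInv_mul_card c.U_odd hb.sq hnU
  by_cases ho : numInv c.U b = 1
  · -- the Sylow subgroup centralises the odd core
    have hW : c.W b = c.U := by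
      refine le_antisymm hb.W_le fun w hw => ?_
      have hcard : Nat.card (c.W b) = Nat.card c.U := by rwa [ho, one_mul] at hmul
      rw [Subgroup.eq_of_le_of_card_ge hb.W_le hcard.ge]
      exact hw
    by_cases hU : c.U = ⊥
    · exact c.target_of_core_trivial hU ha
    · rw [hW, hF.normalizer_eq c hCM hU] at hgn
      exact absurd hgn hgM
  have hcard : Nat.card c.C = Nat.card c.U * Nat.card (c.P : Subgroup G) := by
    rw [c.d.card]; exact c.C_card
  obtain ⟨h3o, h840⟩ := ratio_order c.d c.U_le c.U_conj c.U_odd hcard c.one_class hF.m_eq ha.1 ha.2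
    (fun w hw => haU w hw) ho
  rw [← hbdef] at h3o
  rw [h3o] at hmul
  by_cases hWbot : c.W b = ⊥
  · rw [hWbot, Subgroup.card_bot, mul_one] at hmul
    exact Or.inr (A7Recog.iso_alt7 (by rw [h840, ← hmul]))
  -- elements of `W` centralise the inverted elements
  have hcomm : ∀ r ∈ c.U, b * r * b⁻¹ = r⁻¹ → ∀ w ∈ c.W b, Commute w r := by
    intro r hr hrb w hw
    by_cases hr1 : r = 1
    · rw [hr1]; exact Commute.one_right w
    obtain ⟨hwU, hwb⟩ := hb.mem_W.1 hw
    have hwo := c.odd_of_mem_U hwU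
    set r' := w * r * w⁻¹ with hr'
    have hr'U : r' ∈ c.U := mul_mem (mul_mem hwU hr) (inv_mem hwU)
    have hbw : b * w * b⁻¹ = w := by rw [← hwb, mul_inv_cancel_right]
    have hr'b : b * r' * b⁻¹ = r'⁻¹ := by
      rw [hr', ← conj_mul, ← conj_mul, hbw, hrb, ← conj_inv, hbw]
      group
    have hrr : r⁻¹ ≠ r := fun e => hr1 (eq_one_of_inv_eq (c.odd_of_mem_U hr) e)
    have hcase : r' = r ∨ r' = r⁻¹ := by
      by_contra hno
      push Not at hno
      have hr'1 : r' ≠ 1 := fun e => hr1 (conj_eq_one_iff.1 e)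
      let T := {w : c.U // b * (w : G) * b⁻¹ = (w : G)⁻¹}
      haveI : Fintype T := Fintype.ofFinite T
      have hsub : ({⟨⟨1, one_mem _⟩, by simp⟩, ⟨⟨r, hr⟩, hrb⟩,
          ⟨⟨r⁻¹, inv_mem hr⟩, by rw [← conj_inv, hrb]⟩, ⟨⟨r', hr'U⟩, hr'b⟩} : Finset T).card ≤ 3 := by
        rw [← h3o, numInv, Nat.card_eq_fintype_card]
        exact Finset.card_le_univ _
      rw [Finset.card_insert_of_notMem (by
          simp [T, Subtype.ext_iff, hr1, Ne.symm hr1, hr'1, Ne.symm hr'1]),
        Finset.card_insert_of_notMem (by simp [T, Subtype.ext_iff, hrr.symm, hno.1.symm]),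
        Finset.card_insert_of_notMem (by simp [T, Subtype.ext_iff, hno.2.symm])] at hsub
      simp at hsub
    rcases hcase with e | e
    · exact (mul_inv_eq_iff_eq_mul.1 (hr'.symm.trans e))
    · exfalso
      have h2 : Commute (w * w) r := by
        refine mul_inv_eq_iff_eq_mul.1 ?_
        calc w * w * r * (w * w)⁻¹ = w * (w * r * w⁻¹) * w⁻¹ := by group
          _ = (w * r * w⁻¹)⁻¹ := by
            rw [← hr', show r'⁻¹ = w * r⁻¹ * w⁻¹ by rw [hr']; group, e]
          _ = r := by rw [← hr', e, inv_inv]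
      obtain ⟨k, hk⟩ := hwo
      have hwr : Commute w r := by
        have := h2.pow_left (k + 1)
        rwa [← pow_two, ← pow_mul, show 2 * (k + 1) = orderOf w + 1 by omega, pow_succ,
          pow_orderOf_eq_one, one_mul] at this
      exact hrr (by rw [← e, hr', hwr.eq, mul_inv_cancel_right])
  -- the centraliser normalises `W`
  set W := c.W b with hWdef
  have hCW : c.C ≤ Subgroup.normalizer (W : Set G) := by
    intro k hk
    obtain ⟨u, hu, s, hs, rfl⟩ := c.U_sup k hk
    refine mul_mem ?_ ?_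
    · refine Subgroup.mem_normalizer_iff_map_conj_eq.2 (Subgroup.eq_of_le_of_card_ge ?_ ?_)
      · rintro _ ⟨w, hw, rfl⟩
        show u * w * u⁻¹ ∈ W
        obtain ⟨r, hr, hrb, hru, -⟩ := hb.decomp hu
        have hm : r⁻¹ * u * w * (r⁻¹ * u)⁻¹ ∈ W := mul_mem (mul_mem hru hw) (inv_mem hru)
        rw [show u * w * u⁻¹ = r * (r⁻¹ * u * w * (r⁻¹ * u)⁻¹) * r⁻¹ by group,
          ← (hcomm r hr hrb _ hm).eq, mul_inv_cancel_right]
        exact hm
      · exact (Nat.card_congr (W.equivMapOfInjective _ (MulAut.conj u).injective).toEquiv).le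
    · have hsw : ∀ w ∈ W, Commute w s := fun w hw =>
        c.P_comm_of_two ha (haU w (hb.mem_W.1 hw).1) (hb.mem_W.1 hw).2 hs
      exact Subgroup.centralizer_le_normalizer _ (Subgroup.mem_centralizer_iff.2 fun w hw => (hsw w hw).eq)
  have hWC : W ≤ c.C := hb.W_le.trans c.U_le
  obtain ⟨N, hN, hle⟩ := (eq_top_or_exists_le_coatom (Subgroup.normalizer (W : Set G))).resolve_left
    (c.normalizer_ne_top hCM hWC hWbot)
  have hgN : g ∈ N := hle hgn
  have hCN : c.C < N := lt_of_le_of_ne (hCW.trans hle) fun e => by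
    have h := c.mem_C.1 (e ▸ hgN)
    rw [h, mul_inv_cancel_right] at h1
    exact hb.ne_z h1.symm
  rcases c.shape_cases hN hCN with hT | hF'
  · exact hT
  · have hU : c.U ≠ ⊥ := fun e => hWbot (le_bot_iff.1 (e ▸ hb.W_le))
    exact absurd (by rwa [← hF.normalizer_eq c hCM hU, hF'.normalizer_eq c hCM hU]) hgM

end Cfsg.Agent.GW
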