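import Cfsg.Agent.Lib.GW.Assembly
import Cfsg.Agent.Lib.GW.StepC
import Cfsg.Agent.Lib.GW.NoMixedMain

/-!
The theorem of Gorenstein and Walter for simple groups.
-/

set_option autoImplicit false

namespace Cfsg.Agent.GW

universe u

/-- A finite simple group with dihedral Sylow 2-subgroups is `PSL(2, q)` or `A₇`. -/
theorem simpleDihedral : SimpleDihedral.{u} :=
  simpleDihedral_of_steps (fun _ _ _ c _ hM hCM => stepC c hM hCM) fun _ _ _ c hC => c.noMixed hC

end Cfsg.Agent.GW
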