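import Cfsg.Agent.Lib.GW.AutTarget
import Cfsg.Agent.Lib.Classical.SL
import Cfsg.Agent.Lib.Classical.SL2Involutions

/-!
Field automorphisms in a group with dihedral Sylow 2-subgroups over `PSL₂(q)` have odd order.
-/

set_option autoImplicit false

namespace Cfsg.Agent.GW

open Matrix Cfsg.Agent.AutPSL

variable {F : Type} [Field F] [Fintype F]

local notation "PSL2" => Matrix.ProjectiveSpecialLinearGroup (Fin 2) F

theorem exists_semi (β : MulAut PSL2) :
    ∃ (g : GL (Fin 2) F) (σ : F ≃+* F), β = semi g σ := by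
  obtain ⟨σ, e, ⟨g, hg⟩, he⟩ := exists_hasType le_rfl β
  exact ⟨g, σ, by rw [hg, he rfl]; simp [invTPow]⟩

theorem semi_fld_unique {g h : GL (Fin 2) F} {σ τ : F ≃+* F}
    (e : (semi g σ : MulAut PSL2) = semi h τ) : σ = τ :=
  ((semi_eq_semi le_rfl).1 e).1

/-- The field part of an automorphism. -/
noncomputable def fldHom : MulAut PSL2 →* (F ≃+* F) :=
  MonoidHom.mk' (fun β => (exists_semi β).choose_spec.choose) fun β γ => by
    obtain h1 := (exists_semi β).choose_spec.choose_spec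
    obtain h2 := (exists_semi γ).choose_spec.choose_spec
    obtain h3 := (exists_semi (β * γ)).choose_spec.choose_spec
    conv_lhs at h3 => rw [h1, h2, semi_mul']
    exact (semi_fld_unique h3).symm

theorem fldHom_semi (g : GL (Fin 2) F) (σ : F ≃+* F) :
    fldHom (semi g σ : MulAut PSL2) = σ :=
  (semi_fld_unique (exists_semi (semi g σ : MulAut PSL2)).choose_spec.choose_spec).symm

theorem mem_inndiag_iff_fld (β : MulAut PSL2) :
    β ∈ Cfsg.inndiagPSL 2 F ↔ fldHom β = 1 := by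
  rw [mem_inndiag]
  constructor
  · rintro ⟨g, rfl⟩
    exact fldHom_semi g 1
  · intro h
    obtain ⟨g, σ, rfl⟩ := exists_semi β
    rw [fldHom_semi] at h
    exact ⟨g, by rw [h]⟩

theorem fldHom_inn {β : MulAut PSL2} (h : β ∈ Cfsg.Inn PSL2) : fldHom β = 1 := by
  rw [← mem_inndiag_iff_fld, ← range_conjHom]
  exact inn_le_range h

theorem inn_mul_mem (hodd : Odd (Fintype.card F)) {a b : MulAut PSL2}
    (ha : a ∈ Cfsg.inndiagPSL 2 F) (hb : b ∈ Cfsg.inndiagPSL 2 F) :
    (a * b ∈ Cfsg.Inn PSL2 ↔ (a ∈ Cfsg.Inn PSL2 ↔ b ∈ Cfsg.Inn PSL2)) := by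
  have hidx : (powMonoidHom 2 : Fˣ →* Fˣ).range.index = 2 := by
    rw [Subgroup.index_eq_card, card_quotient_powMonoidHom rfl]
    obtain ⟨k, hk⟩ := hodd
    rw [hk, Nat.add_sub_cancel]
    exact Nat.gcd_mul_right_right 2 k ▸ by rw [Nat.gcd_comm]; exact Nat.gcd_mul_left_left 2 k ▸ by simp
  obtain ⟨g, rfl⟩ := mem_inndiag.1 ha
  obtain ⟨h, rfl⟩ := mem_inndiag.1 hb
  show semi g 1 * semi h 1 ∈ MulAut.conj.range ↔
    (semi g 1 ∈ MulAut.conj.range ↔ semi h 1 ∈ MulAut.conj.range)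
  rw [semi_mul', mapGL_one, one_mul, semi_mem_inn le_rfl, semi_mem_inn le_rfl, semi_mem_inn le_rfl,
    map_mul, Subgroup.mul_mem_iff_of_index_two hidx]

theorem eight_dvd_pgl (F₀ : Type) [Field F₀] [Finite F₀] (hodd : Odd (Nat.card F₀)) :
    8 ∣ Nat.card (Matrix.ProjGenLinGroup (Fin 2) F₀) := by
  haveI := Fintype.ofFinite F₀
  rw [ClassicalSL.card_pgl, SL2Inv.card_sl2]
  obtain ⟨k, hk⟩ := hodd
  rw [hk, Nat.add_sub_cancel, mul_assoc, show 2 * k * (2 * k + 1 + 1) = 4 * (k * (k + 1)) by ring]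
  obtain ⟨l, hl⟩ := Nat.even_mul_succ_self k
  exact Dvd.dvd.mul_left ⟨l, by rw [hl]; ring⟩ _

/-- A subgroup of the automorphism group with dihedral Sylow 2-subgroups has no field involution. -/
theorem odd_fld (hodd : Odd (Fintype.card F)) [IsSimpleGroup PSL2] (hnc : ¬ IsMulCommutative PSL2)
    (H : Subgroup (MulAut PSL2)) [Finite H] (hInn : Cfsg.Inn PSL2 ≤ H) (hd : DihSylow H)
    (h : H) : Odd (orderOf (fldHom (h : MulAut PSL2))) := by
  classical
  haveI : Fact (Nat.Prime 2) := ⟨Nat.prime_two⟩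
  by_contra hev
  rw [Nat.not_odd_iff_even] at hev
  let φ : H →* (F ≃+* F) := fldHom.comp H.subtype
  have hN : orderOf h ≠ 0 := (orderOf_pos h).ne'
  set o' := ordCompl[2] (orderOf h) with ho'
  set h0 := h ^ o' with hh0
  have hodd' : Odd o' := Nat.odd_iff.2 (Nat.two_dvd_ne_zero.1
    (Nat.not_dvd_ordCompl Nat.prime_two hN))
  obtain ⟨t, ht⟩ : ∃ t, orderOf h0 ∣ 2 ^ t := ⟨(orderOf h).factorization 2, by
    rw [orderOf_dvd_iff_pow_eq_one, hh0, ← pow_mul, mul_comm, ho',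
      Nat.ordProj_mul_ordCompl_eq_self, pow_orderOf_eq_one]⟩
  have hφ0 : φ h0 ≠ 1 := by
    intro e
    rw [hh0, map_pow] at e
    have hd1 : orderOf (φ h) ∣ o' := orderOf_dvd_of_pow_eq_one e
    exact (Nat.not_even_iff_odd.2 (hodd'.of_dvd_nat hd1)) hev
  obtain ⟨t', -, ht'⟩ := (Nat.dvd_prime_pow Nat.prime_two).1 ht
  obtain ⟨Q, hQ0⟩ := (IsPGroup.of_card (n := t') (by rw [Nat.card_zpowers, ht']) :
    IsPGroup 2 (Subgroup.zpowers h0)).exists_le_sylow
  have h0Q : h0 ∈ (Q : Subgroup H) := hQ0 (Subgroup.mem_zpowers _)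
  obtain ⟨n, hn, ⟨e⟩⟩ := hd.all Q
  obtain ⟨d, -⟩ := TwoFus.exists_dih Q hn e
  -- a reflection in the inner part
  obtain ⟨E, hE⟩ := S0204.result (G := PSL2) fun hcyc => hnc hcyc.isMulCommutative
  let ι : PSL2 →* H := MulAut.conj.codRestrict H fun x => hInn ⟨x, rfl⟩
  have hιinj : Function.Injective ι := by
    refine (injective_iff_map_eq_one ι).2 fun x hx => ?_
    have hc : x ∈ Subgroup.center PSL2 := by
      rw [Subgroup.mem_center_iff]
      intro y
      have h1 : x * y * x⁻¹ = y := by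
        have := congrArg (fun u : H => (u : MulAut PSL2) y) hx
        simpa [ι] using this
      exact (mul_inv_eq_iff_eq_mul.1 h1).symm
    rcases IsSimpleGroup.eq_bot_or_eq_top_of_normal (Subgroup.center PSL2) inferInstance with hb | ht
    · rwa [hb, Subgroup.mem_bot] at hc
    · exact absurd ⟨⟨fun a b => (Subgroup.mem_center_iff.1 (ht ▸ Subgroup.mem_top b) a)⟩⟩ hnc
  let N : Subgroup H := (Cfsg.Inn PSL2).subgroupOf H
  haveI hNn : N.Normal := inferInstance
  have hU : IsKleinFour (E.map ι) := by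
    have e' := E.equivMapOfInjective ι hιinj
    exact ⟨by rw [← Nat.card_congr e'.toEquiv]; exact hE.card_four,
      by rw [← Monoid.exponent_eq_of_mulEquiv e']; exact hE.exponent_two⟩
  have hUN : E.map ι ≤ N := by
    rintro _ ⟨x, -, rfl⟩
    exact ⟨x, rfl⟩
  obtain ⟨R, hR⟩ := (IsPGroup.of_card (p := 2) (n := 2) hU.card_four).exists_le_sylow
  obtain ⟨g, hg⟩ := MulAction.exists_smul_eq H R Q
  set U := (E.map ι).map (MulAut.conj g).toMonoidHom with hUdef
  have hUQ : U ≤ (Q : Subgroup H) := by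
    rw [← hg, Sylow.coe_subgroup_smul]
    exact Subgroup.map_mono hR
  have hUN' : U ≤ N := by
    rintro _ ⟨x, hx, rfl⟩
    exact hNn.conj_mem x (hUN hx) g
  obtain ⟨-, r, hr, hrx⟩ := d.klein_z_mem (TwoFus.klein_map_conj hU g) hUQ
  have hφr : φ r = 1 := fldHom_inn (Subgroup.mem_subgroupOf.1 (hUN' hr))
  obtain ⟨β, hβ2, hβσ⟩ : ∃ β : H, β * β = 1 ∧ φ β = φ h0 := by
    by_cases hx : h0 ∈ Subgroup.zpowers d.x
    · refine ⟨r * h0, d.out_sq _ (mul_mem (hUQ hr) h0Q) fun hc =>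
        hrx ((Subgroup.mul_mem_cancel_right _ hx).1 hc), by rw [map_mul, hφr, one_mul]⟩
    · exact ⟨h0, d.out_sq _ h0Q hx, rfl⟩
  obtain ⟨a, σ, hβ⟩ := exists_semi (β : MulAut PSL2)
  have hσ : fldHom (β : MulAut PSL2) = σ := by rw [hβ, fldHom_semi]
  have hσ1 : σ ≠ 1 := by
    rw [← hσ]
    exact fun e1 => hφ0 (hβσ ▸ e1)
  have hσ2 : orderOf σ = 2 := orderOf_eq_prime (by
    rw [← hσ, ← map_pow, pow_two, ← Subgroup.coe_mul, hβ2, Subgroup.coe_one, map_one]) hσ1
  obtain ⟨P, hP⟩ := conj_of_pow_eq_one le_rfl a σ (by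
    rw [hσ2, ← hβ, ← SubmonoidClass.coe_pow, pow_two, hβ2, Subgroup.coe_one])
  -- the fixed field
  obtain ⟨K, hK, hKc⟩ := exists_fixed_field σ
  have hKodd : Odd (Nat.card K) := by
    rw [hKc, hσ2] at hodd
    exact Nat.Odd.of_mul_left (by rwa [pow_two] at hodd)
  obtain ⟨eC⟩ := centralizer_field le_rfl σ K.subtype (fun x => by
    constructor
    · rintro ⟨y, rfl⟩
      exact (hK _).1 y.2
    · exact fun hx => ⟨⟨x, (hK x).2 hx⟩, rfl⟩)
  obtain ⟨eC'⟩ := centralizer_conj_equiv (Cfsg.inndiagPSL 2 F) (semi 1 σ : MulAut PSL2) (semi P 1)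
    (mem_inndiag.2 ⟨P, rfl⟩)
  rw [hP, ← hβ] at eC'
  set C := Cfsg.inndiagPSL 2 F ⊓ Subgroup.centralizer {(β : MulAut PSL2)} with hC
  haveI : Finite (MulAut PSL2) :=
    Finite.of_injective (fun e : MulAut PSL2 => (e : PSL2 → PSL2)) DFunLike.coe_injective
  have h8 : 2 ^ 3 ∣ Nat.card C := by
    rw [Nat.card_congr (eC'.trans eC).toEquiv]
    exact eight_dvd_pgl K hKodd
  obtain ⟨T0, hT0⟩ := Sylow.exists_subgroup_card_pow_prime 2 h8
  -- the inner part of `T0`
  let T1 : Subgroup C := T0 ⊓ (Cfsg.Inn PSL2).subgroupOf C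
  have h4 : 4 ≤ Nat.card T1 := by
    have hle : T1.subgroupOf T0 = ((Cfsg.Inn PSL2).subgroupOf C).subgroupOf T0 := by
      ext x
      simp [T1, Subgroup.mem_subgroupOf]
    have h1 : (T1.subgroupOf T0).index ≤ 2 := by
      rw [hle]
      rcases em (∀ x : T0, x ∈ ((Cfsg.Inn PSL2).subgroupOf C).subgroupOf T0) with hall | hne
      · rw [(Subgroup.eq_top_iff' _).2 hall, Subgroup.index_top]; omega
      · push Not at hne
        obtain ⟨x, hx⟩ := hne
        refine (Subgroup.index_eq_two_iff.2 ⟨x, fun y => ?_⟩).le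
        simp only [Subgroup.mem_subgroupOf, Subgroup.coe_mul] at hx ⊢
        rw [inn_mul_mem hodd (y : C).2.1 (x : C).2.1]
        by_cases hy : ((y : C) : MulAut PSL2) ∈ Cfsg.Inn PSL2
        · simp [hy, hx]
        · simp [hy, hx]
    have h2 := (T1.subgroupOf T0).card_mul_index
    rw [Nat.card_congr (Subgroup.subgroupOfEquivOfLe (inf_le_left : T1 ≤ T0)).toEquiv, hT0] at h2
    nlinarith
  have hT0p : IsPGroup 2 T0 := IsPGroup.of_card (n := 3) hT0
  obtain ⟨j, hj⟩ := IsPGroup.iff_card.1 (hT0p.to_le (inf_le_left : T1 ≤ T0))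
  have hj2 : 2 ^ 2 ∣ Nat.card T1 := by
    rw [hj]
    exact pow_dvd_pow 2 ((Nat.pow_le_pow_iff_right one_lt_two).1 (by rw [← hj]; exact h4))
  obtain ⟨T, hT⟩ := Sylow.exists_subgroup_card_pow_prime 2 hj2
  -- transfer to `H`
  let κ : T →* H := ((C.subtype.comp T1.subtype).comp T.subtype).codRestrict H
    (fun x => hInn ((x : T1).2.2))
  have hκ : Function.Injective κ := by
    intro x y e1
    exact Subtype.ext (Subtype.ext (Subtype.ext (congrArg Subtype.val e1 :)))
  have hκN : ∀ x, κ x ∈ N := fun x => ((x : T1).2.2 : _)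
  have hκc : ∀ x, κ x * β = β * κ x := fun x =>
    Subtype.ext (Subgroup.mem_centralizer_singleton_iff.1 ((x : T1) : C).2.2)
  haveI : IsMulCommutative T := IsPGroup.isMulCommutative_of_card_eq_prime_sq (p := 2) hT
  have hβN : β ∉ N := fun hb => hσ1 (hσ ▸ fldHom_inn (Subgroup.mem_subgroupOf.1 hb))
  set B := κ.range ⊔ Subgroup.zpowers β with hB
  have hzc : Subgroup.zpowers β ≤ Subgroup.centralizer (κ.range : Set H) :=
    Subgroup.zpowers_le.2 (Subgroup.mem_centralizer_iff.2 (by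
      rintro _ ⟨x, rfl⟩
      exact hκc x))
  haveI : IsMulCommutative κ.range := ⟨⟨by
    rintro ⟨_, x, rfl⟩ ⟨_, y, rfl⟩
    exact Subtype.ext (by rw [Subgroup.coe_mul, Subgroup.coe_mul, ← map_mul, ← map_mul, mul_comm' x y])⟩⟩
  haveI hBc : IsMulCommutative B := Subgroup.le_centralizer_iff_isMulCommutative.1 (by
    refine sup_le ?_ ?_ <;> rw [Subgroup.le_centralizer_iff] <;> refine sup_le ?_ ?_
    · exact Subgroup.le_centralizer_iff_isMulCommutative.2 inferInstance
    · exact hzc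
    · exact Subgroup.le_centralizer_iff.1 hzc
    · exact Subgroup.le_centralizer_iff_isMulCommutative.2 inferInstance)
  have hκcard : Nat.card κ.range = 4 := by
    rw [← Nat.card_congr (MonoidHom.ofInjective hκ).toEquiv, hT]; rfl
  have hB2 : IsPGroup 2 B := IsPGroup.to_sup_of_normal_left'
    (IsPGroup.of_card (n := 2) hκcard)
    (fun x => ⟨1, Subtype.ext (by
      obtain ⟨i, hi⟩ := x.2
      simp only at hi
      rw [pow_one, SubmonoidClass.coe_pow, pow_two, ← hi, ← _root_.zpow_add, ← two_mul, _root_.zpow_mul,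
        show (2 : ℤ) = ((2 : ℕ) : ℤ) from rfl, _root_.zpow_natCast, pow_two, hβ2, _root_.one_zpow,
        Subgroup.coe_one])⟩)
    (hzc.trans (Subgroup.centralizer_le_normalizer _))
  rcases hd.comm_subgroup hB2 hBc with hcyc | hle
  · obtain ⟨τ, hτ⟩ := exists_prime_orderOf_dvd_card' 2 (show 2 ∣ Nat.card κ.range by rw [hκcard]; norm_num)
    have hτ2 : (τ : H) * (τ : H) = 1 := by
      have e1 := pow_orderOf_eq_one (τ : H)
      rwa [Subgroup.orderOf_coe, hτ, pow_two] at e1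
    have hτ1 : (τ : H) ≠ 1 := fun e1 => by
      rw [← Subgroup.orderOf_coe, e1, orderOf_one] at hτ; omega
    have hτN : (τ : H) ∈ N := by
      obtain ⟨x, hx⟩ := τ.2
      exact hx ▸ hκN x
    let τ' : B := ⟨τ, Subgroup.mem_sup_left τ.2⟩
    let β' : B := ⟨β, Subgroup.mem_sup_right (Subgroup.mem_zpowers β)⟩
    have hβ1 : β ≠ 1 := fun e1 => hβN (e1 ▸ one_mem N)
    haveI := hcyc
    have := IsCyclic.card_pow_eq_one_le (α := B) (n := 2) two_pos
    have hsub : ({1, τ', β'} : Finset B) ⊆ Finset.univ.filter (fun a : B => a ^ 2 = 1) := by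
      intro a ha
      simp only [Finset.mem_insert, Finset.mem_singleton] at ha
      rw [Finset.mem_filter]
      refine ⟨Finset.mem_univ _, ?_⟩
      rcases ha with rfl | rfl | rfl
      · exact one_pow 2
      · exact Subtype.ext (by rw [SubmonoidClass.coe_pow, pow_two]; exact hτ2)
      · exact Subtype.ext (by rw [SubmonoidClass.coe_pow, pow_two]; exact hβ2)
    have hc3 := Finset.card_le_card hsub
    rw [Finset.card_insert_of_notMem, Finset.card_pair] at hc3
    · omega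
    · intro e1
      have e2 : (τ : H) = β := congrArg Subtype.val e1
      exact hβN (by rwa [e2] at hτN)
    · simp only [Finset.mem_insert, Finset.mem_singleton, τ', β', Subtype.ext_iff, Subgroup.coe_one]
      rintro (e1 | e1)
      · exact hτ1 (Subtype.ext e1.symm)
      · exact hβ1 (Subtype.ext e1.symm)
  · have heq : κ.range = B := Subgroup.eq_of_le_of_card_ge le_sup_left (by rw [hκcard]; exact hle)
    have : β ∈ κ.range := heq ▸ Subgroup.mem_sup_right (Subgroup.mem_zpowers β)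
    obtain ⟨x, hx⟩ := this
    exact hβN (hx ▸ hκN x)

end Cfsg.Agent.GW
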