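import Cfsg.Agent.Lib.GW.InvCentraliser
import Cfsg.Agent.Lib.GW.FieldPart
import Cfsg.Agent.Lib.Schur.Unique
import Mathlib.NumberTheory.LegendreSymbol.QuadraticChar.Basic

/-!
Fixed points of involutory automorphisms of `PSL(2, q)`.
-/

set_option autoImplicit false

namespace Cfsg.Agent.GW

open Matrix Cfsg.Agent.AutPSL

/-- The fixed subgroup of an automorphism. -/
def fixedGroup {P : Type*} [Group P] (α : MulAut P) : Subgroup P where
  carrier := {x | α x = x}
  one_mem' := map_one α
  mul_mem' {x y} hx hy := by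
    show α (x * y) = x * y
    rw [map_mul, hx, hy]
  inv_mem' {x} hx := by
    show α x⁻¹ = x⁻¹
    rw [map_inv, hx]

theorem mem_fixedGroup {P : Type*} [Group P] {α : MulAut P} {x : P} :
    x ∈ fixedGroup α ↔ α x = x := Iff.rfl

variable {F : Type} [Field F] [Fintype F]

local notation "PSL2" => Matrix.ProjectiveSpecialLinearGroup (Fin 2) F
local notation "GL2" => GL (Fin 2) F
local notation "SL2" => Matrix.SpecialLinearGroup (Fin 2) F
local notation "M2" => Matrix (Fin 2) (Fin 2) F

theorem two_ne_zero_of_odd (hodd : Odd (Fintype.card F)) : (2 : F) ≠ 0 := fun e => by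
  have hc : CharP F 2 := CharP.ringChar_of_prime_eq_zero Nat.prime_two (by exact_mod_cast e) ▸
    ringChar.charP F
  obtain ⟨n, -, hn⟩ := FiniteField.card F 2
  rw [hn] at hodd
  exact Nat.not_odd_iff_even.2 (Even.pow_of_ne_zero (by norm_num) n.2.ne') hodd

/-- An inner involution fixes a four-group. -/
theorem inner_fix_four (h2 : (2 : F) ≠ 0) {x : PSL2} (hx : x * x = 1) (hx1 : x ≠ 1) :
    ∃ y : PSL2, y * y = 1 ∧ y ≠ 1 ∧ y ≠ x ∧ x * y = y * x := by
  obtain ⟨j, hj⟩ := PSL2Inv.exists_anti (F := F) h2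
  obtain ⟨c, hc⟩ := isConj_iff.1 (PSL2Inv.isConj_pr_w h2 hx hx1)
  have hjw : j.1 * SL2Inv.w.1 = -(SL2Inv.w.1 * j.1) := by
    have := congrArg Subtype.val hj.2
    change j.1 * SL2Inv.w.1 = (-1) * (SL2Inv.w.1 * j.1) at this
    rwa [neg_one_mul] at this
  have hj1 : PSL2Inv.pr j ≠ 1 := by
    intro e
    rw [← map_one PSL2Inv.pr, PSL2Inv.pr_eq_iff] at e
    obtain ⟨e1, e2⟩ := PSL2Inv.Anti.entries hj
    have h3 : j.1 * SL2Inv.w.1 = SL2Inv.w.1 * j.1 := by
      rcases e with e | e
      · rw [← e]; simp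
      · have : j = SL2Inv.negOne := by
          have h' := congrArg (fun m => SL2Inv.negOne * m) e
          simp only [mul_one, ← mul_assoc, SL2Inv.negOne_mul_self, one_mul] at h'
          exact h'.symm
        rw [this, SL2Inv.coe_negOne]; simp
    rw [h3, eq_neg_iff_add_eq_zero, ← two_smul F, smul_eq_zero] at hjw
    rcases hjw with h | h
    · exact h2 h
    · have := congrArg Matrix.det h
      rw [Matrix.det_mul, j.2, SL2Inv.w.2, Matrix.det_zero] at this
      simp at this
  have hjn : PSL2Inv.pr j ≠ PSL2Inv.pr SL2Inv.w := by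
    intro e
    rw [PSL2Inv.pr_eq_iff] at e
    have h3 : j.1 * SL2Inv.w.1 = SL2Inv.w.1 * j.1 := by
      rcases e with e | e
      · rw [e]
      · rw [e, Matrix.SpecialLinearGroup.coe_mul, SL2Inv.coe_negOne]; simp
    rw [h3, eq_neg_iff_add_eq_zero, ← two_smul F, smul_eq_zero] at hjw
    rcases hjw with h | h
    · exact h2 h
    · have := congrArg Matrix.det h
      rw [Matrix.det_mul, j.2, SL2Inv.w.2, Matrix.det_zero] at this
      simp at this
  have hjc : PSL2Inv.pr SL2Inv.w * PSL2Inv.pr j = PSL2Inv.pr j * PSL2Inv.pr SL2Inv.w := by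
    rw [← map_mul, ← map_mul, PSL2Inv.pr_eq_iff]
    exact Or.inr hj.2
  subst hc
  refine ⟨c * PSL2Inv.pr j * c⁻¹, ?_, fun e => hj1 (conj_eq_one_iff.1 e),
    fun e => hjn (mul_left_cancel (mul_right_cancel e)), ?_⟩
  · rw [show c * PSL2Inv.pr j * c⁻¹ * (c * PSL2Inv.pr j * c⁻¹) =
      c * (PSL2Inv.pr j * PSL2Inv.pr j) * c⁻¹ by group, PSL2Inv.pr_mul_self hj.1, mul_one, mul_inv_cancel]
  · calc _ = c * (PSL2Inv.pr SL2Inv.w * PSL2Inv.pr j) * c⁻¹ := by group
      _ = c * (PSL2Inv.pr j * PSL2Inv.pr SL2Inv.w) * c⁻¹ := by rw [hjc]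
      _ = _ := by group

/-- A field involution fixes a four-group. -/
theorem field_fix_four (hodd : Odd (Fintype.card F)) {β : MulAut PSL2} (hβ : β * β = 1)
    (hfld : fldHom β ≠ 1) :
    ∃ x y : PSL2, x * x = 1 ∧ x ≠ 1 ∧ y * y = 1 ∧ y ≠ 1 ∧ x ≠ y ∧ x * y = y * x ∧
      β x = x ∧ β y = y := by
  classical
  have h2 := two_ne_zero_of_odd hodd
  obtain ⟨g, σ, rfl⟩ := exists_semi β
  rw [fldHom_semi] at hfld
  have hσ2 : σ * σ = 1 := by
    have := congrArg fldHom hβ
    rwa [map_mul, fldHom_semi, map_one] at this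
  have hσo : orderOf σ = 2 := orderOf_eq_prime (by rw [pow_two, hσ2]) hfld
  obtain ⟨P, hP⟩ := conj_of_pow_eq_one le_rfl g σ (by rw [hσo, pow_two, hβ])
  obtain ⟨i, hi⟩ : ∃ i : F, i * i = -1 := by
    have hsq : IsSquare (-1 : F) := by
      rw [FiniteField.isSquare_neg_one_iff]
      obtain ⟨K, -, hK⟩ := exists_fixed_field σ
      rw [hσo, pow_two] at hK
      intro h4
      have h : Nat.card K % 4 = 0 ∨ Nat.card K % 4 = 1 ∨ Nat.card K % 4 = 2 ∨ Nat.card K % 4 = 3 := by omega
      rw [hK, Nat.mul_mod] at h4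
      rcases h with h | h | h | h <;> rw [h] at h4 <;> simp at h4
    obtain ⟨i, hi⟩ := hsq
    exact ⟨i, hi.symm⟩
  have hi0 : i ≠ 0 := fun e => by rw [e, mul_zero] at hi; exact one_ne_zero (neg_eq_zero.1 hi.symm)
  have hne : (1 : F) ≠ -1 := fun e => h2 (by linear_combination e)
  let D : SL2 := ⟨!![i, 0; 0, -i], by simp [Matrix.det_fin_two, hi]⟩
  set w' : SL2 := SL2Inv.w
  set x0 : PSL2 := PSL2Inv.pr w' with hx0
  set y0 : PSL2 := PSL2Inv.pr D with hy0
  have hfix : ∀ u : SL2, u.1.map σ = u.1 ∨ u.1.map σ = -u.1 →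
      (semi 1 σ : MulAut PSL2) (PSL2Inv.pr u) = PSL2Inv.pr u := by
    intro u hu
    show PSL2Inv.pr (slSemi 1 σ u) = PSL2Inv.pr u
    rw [PSL2Inv.pr_eq_iff]
    have hv : (slSemi (1 : GL2) σ u).1 = u.1.map σ := by rw [slSemi_coe]; simp
    rcases hu with e | e
    · exact Or.inl (Subtype.ext (by rw [hv, e]))
    · refine Or.inr (Subtype.ext ?_)
      rw [Matrix.SpecialLinearGroup.coe_mul, SL2Inv.coe_negOne, hv, e]; simp
  have hfx : (semi 1 σ : MulAut PSL2) x0 = x0 := hfix _ (Or.inl (by
    ext a b; fin_cases a <;> fin_cases b <;> simp [w', SL2Inv.w]))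
  have hfy : (semi 1 σ : MulAut PSL2) y0 = y0 := by
    have hσi : σ i = i ∨ σ i = -i := by
      have h1 : σ i * σ i = i * i := by rw [← map_mul, hi, map_neg, map_one]
      exact mul_self_eq_mul_self_iff.1 h1
    refine hfix _ ?_
    rcases hσi with e | e
    · exact Or.inl (by ext a b; fin_cases a <;> fin_cases b <;> simp [D, e])
    · exact Or.inr (by ext a b; fin_cases a <;> fin_cases b <;> simp [D, e])
  have hx2 : x0 * x0 = 1 := by
    rw [hx0, ← map_mul, ← map_one PSL2Inv.pr, PSL2Inv.pr_eq_iff]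
    exact Or.inr (Subtype.ext (by
      simp only [Matrix.SpecialLinearGroup.coe_mul, SL2Inv.coe_negOne, Matrix.SpecialLinearGroup.coe_one]
      ext a b; fin_cases a <;> fin_cases b <;> simp [w', SL2Inv.w, Matrix.mul_apply, Fin.sum_univ_two]))
  have hy2 : y0 * y0 = 1 := by
    rw [hy0, ← map_mul, ← map_one PSL2Inv.pr, PSL2Inv.pr_eq_iff]
    exact Or.inr (Subtype.ext (by
      simp only [Matrix.SpecialLinearGroup.coe_mul, SL2Inv.coe_negOne, Matrix.SpecialLinearGroup.coe_one]
      ext a b; fin_cases a <;> fin_cases b <;> simp [D, Matrix.mul_apply, Fin.sum_univ_two, hi]))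
  have hxy : x0 * y0 = y0 * x0 := by
    rw [hx0, hy0, ← map_mul, ← map_mul, PSL2Inv.pr_eq_iff]
    exact Or.inr (Subtype.ext (by
      simp only [Matrix.SpecialLinearGroup.coe_mul, SL2Inv.coe_negOne]
      ext a b; fin_cases a <;> fin_cases b <;> simp [w', SL2Inv.w, D, Matrix.mul_apply, Fin.sum_univ_two]))
  have hent : ∀ u v : SL2, PSL2Inv.pr u = PSL2Inv.pr v → u.1 0 0 = v.1 0 0 ∨ v.1 0 0 = -u.1 0 0 := by
    intro u v e
    rcases PSL2Inv.pr_eq_iff.1 e with e | e
    · exact Or.inl (by rw [e])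
    · exact Or.inr (by rw [e, Matrix.SpecialLinearGroup.coe_mul, SL2Inv.coe_negOne]; simp)
  have hx1 : x0 ≠ 1 := fun e => by
    rcases hent w' 1 (e.trans (map_one _).symm) with h | h <;> simp [w', SL2Inv.w] at h
  have hy1 : y0 ≠ 1 := fun e => by
    rcases hent D 1 (e.trans (map_one _).symm) with h | h
    · have : i = 1 := by simpa [D] using h
      rw [this, one_mul] at hi; exact hne hi
    · have h' : (1 : F) = -i := by simpa [D] using h
      have : i = -1 := by linear_combination h'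
      rw [this] at hi; exact hne (by linear_combination hi)
  have hne' : x0 ≠ y0 := fun e => by
    rcases hent w' D e with h | h <;> exact hi0 (by simpa [w', SL2Inv.w, D, eq_comm] using h)
  set γ : MulAut PSL2 := semi P 1 with hγ
  have hfix' : ∀ z, (semi 1 σ : MulAut PSL2) z = z → (semi g σ : MulAut PSL2) (γ z) = γ z := by
    intro z hz
    rw [← hP, MulAut.mul_apply, MulAut.mul_apply, MulAut.inv_apply_self, hz]
  refine ⟨γ x0, γ y0, ?_, fun e => hx1 (γ.injective (e.trans (map_one γ).symm)), ?_,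
    fun e => hy1 (γ.injective (e.trans (map_one γ).symm)), fun e => hne' (γ.injective e), ?_,
    hfix' _ hfx, hfix' _ hfy⟩
  · rw [← map_mul, hx2, map_one]
  · rw [← map_mul, hy2, map_one]
  · simp only [← map_mul γ, hxy]

omit [Fintype F] in
/-- The fixed points of a diagonal automorphism. -/
theorem semi_fix_iff (g : GL2) (u : SL2) :
    (semi g 1 : MulAut PSL2) (PSL2Inv.pr u) = PSL2Inv.pr u ↔
      g.1 * u.1 = u.1 * g.1 ∨ g.1 * u.1 = -(u.1 * g.1) := by
  show PSL2Inv.pr (slSemi g 1 u) = PSL2Inv.pr u ↔ _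
  rw [PSL2Inv.pr_eq_iff]
  have hv : (slSemi g 1 u).1 = g.1 * u.1 * g⁻¹.1 := by
    rw [slSemi_coe]
    congr
  have hval : ∀ a b : SL2, a = b ↔ a.1 = b.1 := fun a b => ⟨congrArg Subtype.val, Subtype.ext⟩
  refine or_congr ?_ ?_
  · rw [hval, hv, eq_comm, Units.mul_inv_eq_iff_eq_mul]
  · rw [hval, Matrix.SpecialLinearGroup.coe_mul, SL2Inv.coe_negOne, neg_one_mul, hv,
      eq_neg_iff_add_eq_zero, add_comm, ← eq_neg_iff_add_eq_zero, Units.mul_inv_eq_iff_eq_mul, neg_mul]

/-- The data of an outer diagonal involution: `g² = d` with `g` of trace zero and `-d` a non-square. -/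
structure OuterData (g : GL2) (d : F) : Prop where
  tr : g.1 1 1 = -g.1 0 0
  sq : g.1 0 0 * g.1 0 0 + g.1 0 1 * g.1 1 0 = d
  ns : ¬ IsSquare (-d)

namespace OuterData

variable {d : F}

omit [Fintype F] in
theorem d_ne {g : GL2} (h : OuterData g d) : d ≠ 0 := fun e => h.ns (by rw [e, neg_zero]; exact ⟨0, (mul_zero 0).symm⟩)

omit [Fintype F] in
theorem eta {g : GL2} (h : OuterData g d) : g.1 = !![g.1 0 0, g.1 0 1; g.1 1 0, -g.1 0 0] := by
  conv_lhs => rw [Matrix.eta_fin_two g.1, h.tr]

omit [Fintype F] in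
theorem mul_self {g : GL2} (h : OuterData g d) : g.1 * g.1 = d • (1 : M2) := by
  rw [h.eta]
  have := h.sq
  ext a b
  fin_cases a <;> fin_cases b <;> simp [Matrix.mul_apply, Fin.sum_univ_two] <;>
    first | ring1 | linear_combination this | linear_combination -this

omit [Fintype F] in
theorem det_eq {g : GL2} (h : OuterData g d) : g.1.det = -d := by
  rw [Matrix.det_fin_two, h.tr]
  linear_combination -h.sq

omit [Fintype F] in
/-- The centraliser of `g` is the span of `1` and `g`. -/
theorem commutant {g : GL2} (h : OuterData g d) (h2 : (2 : F) ≠ 0) {u : M2} (hu : g.1 * u = u * g.1) :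
    ∃ x y : F, u = x • (1 : M2) + y • g.1 := by
  refine ⟨(u 0 0 + u 1 1) / 2, ((u * g.1) 0 0 + (u * g.1) 1 1) / (2 * d), ?_⟩
  set x := (u 0 0 + u 1 1) / 2 with hx
  set y := ((u * g.1) 0 0 + (u * g.1) 1 1) / (2 * d) with hy
  set m : M2 := u - x • (1 : M2) - y • g.1 with hm
  have hd := h.d_ne
  have hmc : g.1 * m = m * g.1 := by
    rw [hm]
    simp only [mul_sub, sub_mul, Matrix.mul_smul, Matrix.smul_mul, mul_one, one_mul, hu]
  have htr : m 1 1 = -m 0 0 := by
    simp only [hm, Matrix.sub_apply, Matrix.smul_apply, Matrix.one_apply_eq, smul_eq_mul, h.tr, hx]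
    field_simp
    ring
  have hmg : m * g.1 = u * g.1 - x • g.1 - (y * d) • (1 : M2) := by
    rw [hm]
    simp only [sub_mul, Matrix.smul_mul, one_mul, h.mul_self, smul_smul]
  have htmg : (m * g.1) 0 0 + (m * g.1) 1 1 = 0 := by
    rw [hmg]
    simp only [Matrix.sub_apply, Matrix.smul_apply, Matrix.one_apply_eq, smul_eq_mul, h.tr, hy]
    field_simp
    ring
  have hsum : m * g.1 + g.1 * m = 0 := by
    simp only [Matrix.mul_apply, Fin.sum_univ_two, htr, h.tr] at htmg
    ext a b
    fin_cases a <;> fin_cases b <;>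
      simp [Matrix.mul_apply, Fin.sum_univ_two, htr, h.tr] <;>
      first | (linear_combination htmg) | ring
  rw [hmc, ← two_smul F, smul_eq_zero] at hsum
  have hm0 : m = 0 := by
    rcases hsum with e | e
    · exact absurd e h2
    · have := congrArg (· * g⁻¹.1) e
      simpa [mul_assoc] using this
  rw [hm, sub_sub, sub_eq_zero] at hm0
  exact hm0

omit [Fintype F] in
theorem det_comb {g : GL2} (h : OuterData g d) (x y : F) :
    (x • (1 : M2) + y • g.1).det = x * x - d * (y * y) := by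
  rw [Matrix.det_fin_two]
  simp [h.tr]
  linear_combination -(y * y) * h.sq

/-- The conic is parametrised by the lines through one of its points. -/
theorem card_conic (h2 : (2 : F) ≠ 0) (hd : d ≠ 0) :
    Nat.card {p : F × F // p.1 * p.1 - d * (p.2 * p.2) = 1} + Nat.card {m : F // d * (m * m) = 1} =
      Fintype.card F + 1 := by
  classical
  let f : Option {m : F // ¬ d * (m * m) = 1} → {p : F × F // p.1 * p.1 - d * (p.2 * p.2) = 1} :=
    fun o => o.elim ⟨(1, 0), by simp⟩ fun m =>
      ⟨((d * (m.1 * m.1) + 1) / (d * (m.1 * m.1) - 1), 2 * m.1 / (d * (m.1 * m.1) - 1)), by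
        have hne : d * (m.1 * m.1) - 1 ≠ 0 := sub_ne_zero.2 m.2
        dsimp only
        rw [div_mul_div_comm, div_mul_div_comm, mul_div_assoc', ← sub_div,
          div_eq_one_iff_eq (mul_ne_zero hne hne)]
        ring⟩
  have hx1 : ∀ m : {m : F // ¬ d * (m * m) = 1},
      (d * (m.1 * m.1) + 1) / (d * (m.1 * m.1) - 1) ≠ 1 := by
    intro m e
    have hne : d * (m.1 * m.1) - 1 ≠ 0 := sub_ne_zero.2 m.2
    rw [div_eq_one_iff_eq hne] at e
    exact h2 (by linear_combination e)
  have hinj : Function.Injective f := by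
    rintro (_ | m) (_ | m') e
    · rfl
    · exact absurd (congrArg (fun p => p.1.1) e).symm (hx1 m')
    · exact absurd (congrArg (fun p => p.1.1) e) (hx1 m)
    · refine congrArg some (Subtype.ext ?_)
      have e1 : _ = _ := congrArg (fun p => p.1.1) e
      have e2 : _ = _ := congrArg (fun p => p.1.2) e
      simp only [f, Option.elim_some] at e1 e2
      have hne : d * (m.1 * m.1) - 1 ≠ 0 := sub_ne_zero.2 m.2
      have hne' : d * (m'.1 * m'.1) - 1 ≠ 0 := sub_ne_zero.2 m'.2
      rw [div_eq_div_iff hne hne'] at e1 e2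
      have h3 : d * (m.1 * m.1) = d * (m'.1 * m'.1) := mul_left_cancel₀ h2 (by linear_combination -e1)
      rw [← h3] at e2
      have := mul_right_cancel₀ hne e2
      exact mul_left_cancel₀ h2 this
  have hsurj : Function.Surjective f := by
    rintro ⟨⟨x, y⟩, hp⟩
    dsimp only at hp
    by_cases hx : x = 1
    · refine ⟨none, Subtype.ext ?_⟩
      have hy : y = 0 := by
        rw [hx] at hp
        have : d * (y * y) = 0 := by linear_combination -hp
        simpa [hd] using this
      simp [f, hx, hy]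
    · have hx' : x - 1 ≠ 0 := sub_ne_zero.2 hx
      set m := y / (x - 1) with hm
      have hy : y = m * (x - 1) := by rw [hm, div_mul_cancel₀ _ hx']
      have hk : d * (m * m) * (x - 1) = x + 1 := mul_right_cancel₀ hx' (by
        rw [hy] at hp; linear_combination -hp)
      have hne : ¬ d * (m * m) = 1 := fun e => h2 (by rw [e] at hk; linear_combination -hk)
      have hne' : d * (m * m) - 1 ≠ 0 := sub_ne_zero.2 hne
      refine ⟨some ⟨m, hne⟩, Subtype.ext (Prod.ext ?_ ?_)⟩
      · show (d * (m * m) + 1) / (d * (m * m) - 1) = x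
        rw [div_eq_iff hne']
        linear_combination -hk
      · show 2 * m / (d * (m * m) - 1) = y
        rw [div_eq_iff hne', hy]
        linear_combination -m * hk
  rw [← Nat.card_congr (Equiv.ofBijective f ⟨hinj, hsurj⟩), Finite.card_option,
    Nat.card_eq_fintype_card, Nat.card_eq_fintype_card]
  have := Fintype.card_subtype_compl (fun m : F => d * (m * m) = 1)
  have hle := Fintype.card_subtype_le (fun m : F => d * (m * m) = 1)
  omega

theorem card_roots (h2 : (2 : F) ≠ 0) [Decidable (IsSquare d ∧ d ≠ 0)] :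
    Nat.card {m : F // d * (m * m) = 1} = if IsSquare d ∧ d ≠ 0 then 2 else 0 := by
  classical
  split_ifs with hs
  · obtain ⟨⟨s, hs⟩, hd⟩ := hs
    have hs0 : s ≠ 0 := fun e => hd (by rw [hs, e, mul_zero])
    have hne : s⁻¹ ≠ -s⁻¹ := fun e => by
      have : (2 : F) * s⁻¹ = 0 := by linear_combination e
      exact mul_ne_zero h2 (inv_ne_zero hs0) this
    have heq : {m : F | d * (m * m) = 1} = {s⁻¹, -s⁻¹} := by
      ext m
      rw [Set.mem_setOf_eq, hs]
      constructor
      · intro e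
        have h : s * m * (s * m) = 1 := by linear_combination e
        rcases mul_self_eq_one_iff.1 h with e' | e'
        · exact Or.inl (eq_inv_of_mul_eq_one_right e')
        · exact Or.inr (neg_eq_iff_eq_neg.1 (eq_inv_of_mul_eq_one_right (by linear_combination -e')))
      · rintro (rfl | rfl) <;> field_simp
    rw [show Nat.card {m : F // d * (m * m) = 1} = ({m : F | d * (m * m) = 1} : Set F).ncard from
      Nat.card_coe_set_eq _, heq, Set.ncard_pair hne]
  · rw [Nat.card_eq_zero]
    refine Or.inl ⟨fun ⟨m, hm⟩ => hs ⟨⟨m⁻¹, ?_⟩, fun e => by simp [e] at hm⟩⟩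
    have hm0 : m ≠ 0 := fun e => by simp [e] at hm
    field_simp
    linear_combination hm

/-- The elements of `SL₂` commuting with `g` form a conic. -/
theorem card_commuting {g : GL2} (h : OuterData g d) (h2 : (2 : F) ≠ 0) :
    Nat.card {u : SL2 // g.1 * u.1 = u.1 * g.1} =
      Nat.card {p : F × F // p.1 * p.1 - d * (p.2 * p.2) = 1} := by
  symm
  let f : {p : F × F // p.1 * p.1 - d * (p.2 * p.2) = 1} → {u : SL2 // g.1 * u.1 = u.1 * g.1} :=
    fun p => ⟨⟨p.1.1 • (1 : M2) + p.1.2 • g.1, by rw [h.det_comb, p.2]⟩, by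
      show g.1 * (p.1.1 • (1 : M2) + p.1.2 • g.1) = (p.1.1 • (1 : M2) + p.1.2 • g.1) * g.1
      simp [mul_add, add_mul]⟩
  refine Nat.card_congr (Equiv.ofBijective f ⟨?_, ?_⟩)
  · rintro ⟨⟨x, y⟩, hp⟩ ⟨⟨x', y'⟩, hp'⟩ e
    have e' : x • (1 : M2) + y • g.1 = x' • (1 : M2) + y' • g.1 :=
      congrArg (fun u => u.1.1) e
    have hd := h.d_ne
    have hy : y = y' := by
      by_contra hyy
      have hx : (x - x') • (1 : M2) = (y' - y) • g.1 := by
        rw [sub_smul, sub_smul, sub_eq_sub_iff_add_eq_add, e', add_comm]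
      have := congrArg Matrix.trace hx
      simp [Matrix.trace_fin_two, h.tr] at this
      have hxx : x = x' := sub_eq_zero.1 (this.resolve_right h2)
      rw [hxx, sub_self, zero_smul, eq_comm, smul_eq_zero] at hx
      rcases hx with hx | hx
      · exact hyy (sub_eq_zero.1 hx).symm
      · exact g.ne_zero hx
    subst hy
    rw [add_left_inj] at e'
    have := congrFun (congrFun e' 0) 0
    simp at this
    exact Subtype.ext (Prod.ext this rfl)
  · rintro ⟨u, hu⟩
    obtain ⟨x, y, hxy⟩ := h.commutant h2 hu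
    exact ⟨⟨(x, y), by rw [← h.det_comb, ← hxy]; exact u.2⟩, Subtype.ext (Subtype.ext hxy.symm)⟩

/-- The fixed group of an outer diagonal involution is the size of the conic. -/
theorem card_fixed {g : GL2} (h : OuterData g d) (h2 : (2 : F) ≠ 0) {k : SL2}
    (hk : g.1 * k.1 = -(k.1 * g.1)) :
    Nat.card (fixedGroup (semi g 1 : MulAut PSL2)) =
      Nat.card {p : F × F // p.1 * p.1 - d * (p.2 * p.2) = 1} := by
  classical
  set D := fixedGroup (semi g 1 : MulAut PSL2) with hD
  set R := D.comap (PSL2Inv.pr : SL2 →* PSL2) with hR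
  have h1 : Nat.card R = 2 * Nat.card D := by
    let f : R →* D := (PSL2Inv.pr.comp R.subtype).codRestrict D fun x => x.2
    have hf : Function.Surjective f := fun y => by
      obtain ⟨x, hx⟩ := PSL2Inv.pr_surjective y.1
      exact ⟨⟨x, show PSL2Inv.pr x ∈ D from hx.symm ▸ y.2⟩, Subtype.ext hx⟩
    have hker : Nat.card f.ker = 2 := by
      have e : f.ker.map R.subtype = Subgroup.center SL2 := by
        ext x
        rw [Subgroup.mem_map]
        constructor
        · rintro ⟨u, hu, rfl⟩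
          exact (QuotientGroup.eq_one_iff (u : SL2)).1 (congrArg Subtype.val hu)
        · intro hx
          have hx1 : PSL2Inv.pr x = 1 := (QuotientGroup.eq_one_iff x).2 hx
          exact ⟨⟨x, show PSL2Inv.pr x ∈ D by rw [hx1]; exact one_mem D⟩, Subtype.ext hx1, rfl⟩
      rw [← Subgroup.card_map_of_injective (K := f.ker) R.subtype_injective, e,
        show Nat.card (Subgroup.center SL2) = Nat.card ({1, SL2Inv.negOne} : Set SL2) from
          Nat.card_congr (Equiv.subtypeEquivRight fun u => by simp [SL2Inv.mem_center_iff]),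
        Nat.card_coe_set_eq, Set.ncard_pair (SL2Inv.negOne_ne_one h2).symm]
    rw [Schur.card_cover f hf, hker, mul_comm]
  let A := {u : SL2 // g.1 * u.1 = u.1 * g.1}
  have h3 : Nat.card R = 2 * Nat.card A := by
    let B := {u : SL2 // g.1 * u.1 = -(u.1 * g.1)}
    have hkinv : g.1 * (k⁻¹).1 = -((k⁻¹).1 * g.1) := by
      have hm : k.1 * (k⁻¹).1 = 1 := congrArg Subtype.val (mul_inv_cancel k)
      have hm' : (k⁻¹).1 * k.1 = 1 := congrArg Subtype.val (inv_mul_cancel k)
      have := congrArg (fun m => (k⁻¹).1 * m * (k⁻¹).1) hk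
      simp only [mul_neg, neg_mul, ← mul_assoc, hm', one_mul] at this
      simp only [mul_assoc, hm, mul_one] at this
      rw [this, neg_neg]
    have hAB : Nat.card A = Nat.card B := by
      refine Nat.card_congr
        { toFun := fun u => ⟨u.1 * k, ?_⟩
          invFun := fun u => ⟨u.1 * k⁻¹, ?_⟩
          left_inv := fun u => Subtype.ext (mul_inv_cancel_right u.1 k)
          right_inv := fun u => Subtype.ext (inv_mul_cancel_right u.1 k) }
      · rw [Matrix.SpecialLinearGroup.coe_mul, ← mul_assoc, u.2, mul_assoc, hk, mul_neg, mul_assoc]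
      · rw [Matrix.SpecialLinearGroup.coe_mul, ← mul_assoc, u.2, neg_mul, mul_assoc, hkinv, mul_neg,
          neg_neg, mul_assoc]
    have hmem : ∀ u : SL2, u ∈ R ↔ (g.1 * u.1 = u.1 * g.1 ∨ g.1 * u.1 = -(u.1 * g.1)) := fun u => by
      rw [hR, Subgroup.mem_comap, hD, mem_fixedGroup, semi_fix_iff]
    rw [two_mul]
    nth_rewrite 2 [hAB]
    rw [← Nat.card_sum]
    refine Nat.card_congr ((Equiv.subtypeEquivRight hmem).trans (subtypeOrEquiv _ _ ?_))
    rw [Pi.disjoint_iff]
    intro u
    rw [Prop.disjoint_iff]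
    rintro ⟨e1, e2⟩
    rw [e2, neg_eq_iff_add_eq_zero, ← two_smul F, smul_eq_zero] at e1
    rcases e1 with e | e
    · exact h2 e
    · have := congrArg Matrix.det e
      rw [Matrix.det_mul, u.2, h.det_eq, Matrix.det_zero] at this
      simp [h.d_ne] at this
  rw [← h.card_commuting h2]
  exact Nat.eq_of_mul_eq_mul_left two_pos (h1.symm.trans h3)

/-- The order of the fixed group. -/
theorem fixed_order {g : GL2} (h : OuterData g d) (hodd : Odd (Fintype.card F)) {k : SL2}
    (hk : g.1 * k.1 = -(k.1 * g.1)) :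
    Nat.card (fixedGroup (semi g 1 : MulAut PSL2)) % 4 = 2 ∧
      (Nat.card (fixedGroup (semi g 1 : MulAut PSL2)) + 1 = Fintype.card F ∨
        Nat.card (fixedGroup (semi g 1 : MulAut PSL2)) = Fintype.card F + 1) := by
  classical
  have h2 := two_ne_zero_of_odd hodd
  have hd := h.d_ne
  have hc := card_conic (d := d) h2 hd
  rw [card_roots h2, ← h.card_fixed h2 hk] at hc
  obtain ⟨r, hr⟩ := hodd
  by_cases hs : IsSquare d
  · rw [if_pos ⟨hs, hd⟩] at hc
    have h4 : Fintype.card F % 4 = 3 := by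
      by_contra h4
      obtain ⟨s, hs'⟩ := hs
      obtain ⟨i, hi⟩ := (FiniteField.isSquare_neg_one_iff (F := F)).2 h4
      exact h.ns ⟨i * s, by linear_combination s * s * hi - hs'⟩
    omega
  · rw [if_neg (fun e => hs e.1)] at hc
    have h4 : Fintype.card F % 4 ≠ 3 := by
      intro h4
      have hF : ringChar F ≠ 2 := fun e => h2 (by
        have := ringChar.charP F
        rw [e] at this
        exact CharTwo.two_eq_zero)
      have hm1 : quadraticChar F (-1) = -1 := by
        rw [quadraticChar_neg_one_iff_not_isSquare]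
        exact fun hh => (FiniteField.isSquare_neg_one_iff.1 hh) h4
      have hd1 : quadraticChar F d = -1 := quadraticChar_neg_one_iff_not_isSquare.2 hs
      have hnd : quadraticChar F (-d) = -1 := quadraticChar_neg_one_iff_not_isSquare.2 h.ns
      rw [← neg_one_mul d, map_mul, hm1, hd1] at hnd
      norm_num at hnd
    omega

end OuterData

/-- Two commuting distinct outer diagonal involutions, in normal form. -/
theorem outer_pair (hodd : Odd (Fintype.card F)) {α β : MulAut PSL2}
    (ha : α ∈ Cfsg.inndiagPSL 2 F) (hb : β ∈ Cfsg.inndiagPSL 2 F) (ha' : α ∉ Cfsg.Inn PSL2)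
    (hb' : β ∉ Cfsg.Inn PSL2) (ha2 : α * α = 1) (hb2 : β * β = 1) (hne : α ≠ β)
    (hc : α * β = β * α) :
    ∃ (g h : GL2) (d : F), α = semi g 1 ∧ β = semi h 1 ∧ OuterData g d ∧ OuterData h d ∧
      g.1 * h.1 = -(h.1 * g.1) := by
  classical
  have h2 := two_ne_zero_of_odd hodd
  have key : ∀ γ : MulAut PSL2, γ ∈ Cfsg.inndiagPSL 2 F → γ ∉ Cfsg.Inn PSL2 → γ * γ = 1 →
      ∃ g : GL2, γ = semi g 1 ∧ ∃ d, OuterData g d := by
    intro γ hγ hγ' hγ2
    obtain ⟨g, rfl⟩ := mem_inndiag.1 hγ
    have htr : g.1 1 1 = -g.1 0 0 := by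
      rw [semi_mul', mapGL_one, one_mul, semi_eq_one_iff le_rfl] at hγ2
      obtain ⟨-, c, hc⟩ := hγ2
      have hc' := congrArg Units.val hc
      rw [Units.val_mul, GeneralLinearGroup.coe_scalar, ← Matrix.ext_iff] at hc'
      simp [Fin.forall_fin_two, Matrix.mul_apply, Fin.sum_univ_two] at hc'
      obtain ⟨⟨e00, e01⟩, e10, e11⟩ := hc'
      by_contra htr
      have ht : g.1 0 0 + g.1 1 1 ≠ 0 := fun e => htr (by linear_combination e)
      have h01 : g.1 0 1 = 0 := by
        have : g.1 0 1 * (g.1 0 0 + g.1 1 1) = 0 := by linear_combination e01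
        exact (mul_eq_zero.1 this).resolve_right ht
      have h10 : g.1 1 0 = 0 := by
        have : g.1 1 0 * (g.1 0 0 + g.1 1 1) = 0 := by linear_combination e10
        exact (mul_eq_zero.1 this).resolve_right ht
      have hd : g.1 0 0 = g.1 1 1 := by
        have : (g.1 0 0 - g.1 1 1) * (g.1 0 0 + g.1 1 1) = 0 := by linear_combination e00 - e11
        exact sub_eq_zero.1 ((mul_eq_zero.1 this).resolve_right ht)
      refine hγ' ⟨1, ?_⟩
      rw [map_one, eq_comm, semi_eq_one_iff le_rfl]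
      have h00 : g.1 0 0 ≠ 0 := fun e0 =>
        ((Matrix.isUnit_iff_isUnit_det _).1 g.isUnit).ne_zero (by
          rw [Matrix.det_fin_two, e0, h01]; ring)
      refine ⟨rfl, Units.mk0 _ h00, Units.ext (Matrix.ext fun a b => ?_)⟩
      fin_cases a <;> fin_cases b <;> simp [h01, h10, ← hd]
    refine ⟨g, rfl, _, htr, rfl, fun hsq => hγ' ?_⟩
    show semi g 1 ∈ (MulAut.conj : PSL2 →* MulAut PSL2).range
    rw [semi_mem_inn le_rfl]
    obtain ⟨s, hs⟩ := hsq
    have hdet : g.1.det = s * s := by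
      rw [← hs, Matrix.det_fin_two, htr]; ring
    have hs0 : s ≠ 0 := fun e => ((Matrix.isUnit_iff_isUnit_det _).1 g.isUnit).ne_zero (by
      rw [hdet, e, mul_zero])
    exact ⟨Units.mk0 s hs0, Units.ext (by simp [pow_two, hdet])⟩
  obtain ⟨g, rfl, d, hg⟩ := key α ha ha' ha2
  obtain ⟨h, rfl, e, hh⟩ := key β hb hb' hb2
  rw [semi_mul', semi_mul', mapGL_one, one_mul, mapGL_one, semi_eq_semi le_rfl] at hc
  obtain ⟨-, c, hgh⟩ := hc
  have hgh' : g.1 * h.1 = (c : F) • (h.1 * g.1) := by
    have := congrArg Units.val hgh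
    rw [Units.val_mul, Units.val_mul, Units.val_mul, GeneralLinearGroup.coe_scalar] at this
    rw [this]
    ext a b
    simp [Matrix.diagonal_mul]
  have hc2 : (c : F) * c = 1 := by
    have := congrArg Matrix.det hgh'
    rw [Matrix.det_smul, Matrix.det_mul, Matrix.det_mul, hg.det_eq, hh.det_eq, Fintype.card_fin] at this
    have h0 : d * e ≠ 0 := mul_ne_zero hg.d_ne hh.d_ne
    exact mul_right_cancel₀ h0 (by linear_combination -this)
  rcases mul_self_eq_one_iff.1 hc2 with hc1 | hc1
  · exfalso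
    rw [hc1, one_smul] at hgh'
    obtain ⟨x, y, hxy⟩ := hg.commutant h2 hgh'
    have hx : x = 0 := by
      have t := hh.tr
      rw [hxy] at t
      simp [hg.tr] at t
      have h' : (2 : F) * x = 0 := by linear_combination t
      exact (mul_eq_zero.1 h').resolve_left h2
    rw [hx, zero_smul, zero_add] at hxy
    have hy : y ≠ 0 := fun e0 => h.ne_zero (by rw [hxy, e0, zero_smul])
    refine hne ((semi_eq_semi le_rfl).2 ⟨rfl, (Units.mk0 y hy)⁻¹, Units.ext ?_⟩)
    rw [Units.val_mul, GeneralLinearGroup.coe_scalar, hxy]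
    ext a b
    simp [Matrix.diagonal_mul, hy]
  rw [hc1, neg_smul, one_smul] at hgh'
  obtain ⟨t, ht⟩ : IsSquare (d / e) := by
    have hF : ringChar F ≠ 2 := fun e => h2 (by
      have := ringChar.charP F
      rw [e] at this
      exact CharTwo.two_eq_zero)
    have hd1 : quadraticChar F (-d) = -1 := quadraticChar_neg_one_iff_not_isSquare.2 hg.ns
    have he1 : quadraticChar F (-e) = -1 := quadraticChar_neg_one_iff_not_isSquare.2 hh.ns
    by_contra hn
    have h3 : quadraticChar F (d / e) = -1 := quadraticChar_neg_one_iff_not_isSquare.2 hn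
    rw [show -d = d / e * (-e) by field_simp [hh.d_ne], map_mul, h3, he1] at hd1
    norm_num at hd1
  have ht0 : t ≠ 0 := fun e0 => by
    rw [e0, mul_zero, div_eq_zero_iff] at ht
    rcases ht with e1 | e1
    · exact hg.d_ne e1
    · exact hh.d_ne e1
  let h' : GL2 := GeneralLinearGroup.scalar (Fin 2) (Units.mk0 t ht0) * h
  have hval : ∀ a b, h'.1 a b = t * h.1 a b := fun a b => by
    simp [h', GeneralLinearGroup.coe_scalar, Matrix.diagonal_mul]
  refine ⟨g, h', d, rfl, ?_, hg, ⟨by rw [hval, hval, hh.tr, mul_neg], ?_, hg.ns⟩, ?_⟩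
  · rw [semi_scalar_mul]
  · simp only [hval]
    have hde : d = t * t * e := by rw [← ht, div_mul_cancel₀ _ hh.d_ne]
    linear_combination t * t * hh.sq - hde
  · have hv : h'.1 = t • h.1 := Matrix.ext fun a b => by simp [hval]
    rw [hv, Matrix.mul_smul, Matrix.smul_mul, hgh', smul_neg]

/-- The fixed group of one of two such involutions is not contained in the other's. -/
theorem fixed_not_le (hodd : Odd (Fintype.card F)) (h3 : 3 < Fintype.card F) {g h : GL2} {d : F}
    (hg : OuterData g d) (hgh : g.1 * h.1 = -(h.1 * g.1)) :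
    ¬ fixedGroup (semi g 1 : MulAut PSL2) ≤ fixedGroup (semi h 1 : MulAut PSL2) := by
  classical
  have h2 := two_ne_zero_of_odd hodd
  have hd := hg.d_ne
  obtain ⟨m, hm0, hm1⟩ : ∃ m : F, m ≠ 0 ∧ d * (m * m) ≠ 1 := by
    by_contra hall
    push Not at hall
    let f : Fˣ → {m : F // d * (m * m) = 1} := fun u => ⟨u, hall u u.ne_zero⟩
    have hle := Nat.card_le_card_of_injective f fun a b e => Units.ext (congrArg Subtype.val e :)
    rw [OuterData.card_roots h2, Nat.card_units, Nat.card_eq_fintype_card] at hle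
    split_ifs at hle <;> omega
  have hne : d * (m * m) - 1 ≠ 0 := sub_ne_zero.2 hm1
  set x := (d * (m * m) + 1) / (d * (m * m) - 1) with hx
  set y := 2 * m / (d * (m * m) - 1) with hy
  have hy0 : y ≠ 0 := div_ne_zero (mul_ne_zero h2 hm0) hne
  have hx0 : x ≠ 0 := div_ne_zero (fun e => hg.ns ⟨m⁻¹, by field_simp; linear_combination -e⟩) hne
  have hxy : x * x - d * (y * y) = 1 := by
    rw [hx, hy, div_mul_div_comm, div_mul_div_comm, mul_div_assoc', ← sub_div,
      div_eq_one_iff_eq (mul_ne_zero hne hne)]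
    ring
  let u : SL2 := ⟨x • (1 : M2) + y • g.1, by rw [hg.det_comb, hxy]⟩
  intro hle
  have hu : PSL2Inv.pr u ∈ fixedGroup (semi g 1 : MulAut PSL2) := by
    rw [mem_fixedGroup, semi_fix_iff]
    left
    show g.1 * (x • (1 : M2) + y • g.1) = (x • (1 : M2) + y • g.1) * g.1
    simp [mul_add, add_mul]
  have hu' := hle hu
  rw [mem_fixedGroup, semi_fix_iff] at hu'
  have hhg : h.1 * g.1 = -(g.1 * h.1) := by rw [hgh, neg_neg]
  change h.1 * (x • (1 : M2) + y • g.1) = (x • (1 : M2) + y • g.1) * h.1 ∨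
    h.1 * (x • (1 : M2) + y • g.1) = -((x • (1 : M2) + y • g.1) * h.1) at hu'
  simp only [mul_add, add_mul, Matrix.mul_smul, Matrix.smul_mul, mul_one, one_mul, hhg, smul_neg,
    neg_add] at hu'
  rcases hu' with e | e
  · rw [add_right_inj, neg_eq_iff_add_eq_zero, ← two_smul F, smul_smul, smul_eq_zero] at e
    rcases e with e | e
    · exact mul_ne_zero h2 hy0 e
    · exact (g * h).ne_zero e
  · rw [add_left_inj, eq_neg_iff_add_eq_zero, ← two_smul F, smul_smul, smul_eq_zero] at e
    rcases e with e | e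
    · exact mul_ne_zero h2 hx0 e
    · exact h.ne_zero e

end Cfsg.Agent.GW
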