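import Cfsg.Agent.S3957
import Cfsg.Agent.S3974
import Cfsg.Agent.S2086
import Cfsg.Agent.S2116
import Cfsg.Agent.S0254
import Cfsg.Agent.Lib.Schur.Congr

/-!
Perfect double covers of `PSL(2, q)`.
-/

set_option autoImplicit false

namespace Cfsg.Agent.GW

universe u

/-- Perfect covers with kernels of the same order are isomorphic if the multiplier is cyclic. -/
theorem cover_unique_cyclic {Q : Type u} [Group Q] [Finite Q] (hQ : commutator Q = ⊤) {n : ℕ}
    [NeZero n] (hA : Cfsg.HasCyclicSchurMultiplier Q n) {E₁ E₂ : Type u} [Group E₁] [Finite E₁]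
    [Group E₂] [Finite E₂] (σ₁ : E₁ →* Q) (h₁ : Cfsg.IsStemExtension σ₁) (σ₂ : E₂ →* Q)
    (h₂ : Cfsg.IsStemExtension σ₂) (hc : Nat.card σ₁.ker = Nat.card σ₂.ker) :
    Nonempty (E₁ ≃* E₂) := by
  classical
  obtain ⟨Γ, _, _, τ₁, ht₁, e₁, β₁, hβ₁, hb₁⟩ := S3957.result hA σ₁ h₁
  obtain ⟨Γ', _, _, τ₂, ht₂, e₂, β₂, hβ₂, hb₂⟩ := S3957.result hA σ₂ h₂
  have hcop : Nat.Coprime (Nat.card (Abelianization Q)) (Nat.card (Multiplicative (ZMod n))) := by
    rw [show Nat.card (Abelianization Q) = 1 by
      show Nat.card (Q ⧸ commutator Q) = 1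
      rw [← Subgroup.index_eq_card, hQ, Subgroup.index_top]]
    exact Nat.coprime_one_left _
  obtain ⟨e, he⟩ := (S3974.result hA).2 hcop Γ Γ' τ₁ τ₂ ht₁ ht₂ e₁ e₂
  set β : Γ →* E₂ := β₂.comp e.toMonoidHom with hβ
  have hbeta : σ₂.comp β = τ₁ := by rw [hβ, ← MonoidHom.comp_assoc, hb₂, he]
  have hsurj : Function.Surjective β := hβ₂.comp e.surjective
  have hle₁ : β₁.ker ≤ τ₁.ker := fun x hx => by
    rw [MonoidHom.mem_ker, ← hb₁, MonoidHom.comp_apply, MonoidHom.mem_ker.1 hx, map_one]
  have hle₂ : β.ker ≤ τ₁.ker := fun x hx => by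
    rw [MonoidHom.mem_ker, ← hbeta, MonoidHom.comp_apply, MonoidHom.mem_ker.1 hx, map_one]
  have hcard : Nat.card β₁.ker = Nat.card β.ker := by
    have h1 := Schur.card_cover β₁ hβ₁
    rw [Schur.card_cover σ₁ h₁.1] at h1
    have h2 := Schur.card_cover β hsurj
    rw [Schur.card_cover σ₂ h₂.1, ← hc] at h2
    exact Nat.eq_of_mul_eq_mul_left (Nat.mul_pos Nat.card_pos Nat.card_pos) (h1.symm.trans h2)
  haveI : IsCyclic τ₁.ker := e₁.some.isCyclic.2 inferInstance
  -- a cyclic group has one subgroup of each order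
  have huniq : ∀ {K L : Subgroup Γ}, K ≤ τ₁.ker → L ≤ τ₁.ker → Nat.card K = Nat.card L → K ≤ L := by
    intro K L hK hL hKL x hx
    by_contra hxL
    haveI := Fintype.ofFinite τ₁.ker
    haveI := Fintype.ofFinite L
    have hle := IsCyclic.card_pow_eq_one_le (α := τ₁.ker) (n := Nat.card L) Nat.card_pos
    let f : L → τ₁.ker := fun y => ⟨y, hL y.2⟩
    have hsub : insert (⟨x, hK hx⟩ : τ₁.ker) (Finset.univ.image f) ⊆
        Finset.univ.filter (fun a : τ₁.ker => a ^ Nat.card L = 1) := by
      intro a ha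
      rw [Finset.mem_filter]
      refine ⟨Finset.mem_univ _, ?_⟩
      rcases Finset.mem_insert.1 ha with rfl | ha
      · refine Subtype.ext ?_
        show x ^ Nat.card L = 1
        rw [← hKL]
        exact congrArg Subtype.val (pow_card_eq_one' (x := (⟨x, hx⟩ : K)))
      · obtain ⟨y, -, rfl⟩ := Finset.mem_image.1 ha
        refine Subtype.ext ?_
        show (y : Γ) ^ Nat.card L = 1
        exact congrArg Subtype.val (pow_card_eq_one' (x := y))
    have h := Finset.card_le_card hsub
    have hfi : Function.Injective f := fun a b hab =>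
      Subtype.ext (congrArg (fun z : τ₁.ker => (z : Γ)) hab)
    rw [Finset.card_insert_of_notMem, Finset.card_image_of_injective _ hfi, Finset.card_univ,
      ← Nat.card_eq_fintype_card] at h
    · omega
    · intro hm
      obtain ⟨y, -, hy⟩ := Finset.mem_image.1 hm
      have e' : (y : Γ) = x := congrArg Subtype.val hy
      exact hxL (e' ▸ y.2)
  have hker : β₁.ker = β.ker :=
    le_antisymm (huniq hle₁ hle₂ hcard) (huniq hle₂ hle₁ hcard.symm)
  exact ⟨((QuotientGroup.quotientKerEquivOfSurjective β₁ hβ₁).symm.trans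
    (QuotientGroup.quotientMulEquivOfEq hker)).trans
    (QuotientGroup.quotientKerEquivOfSurjective β hsurj)⟩

/-- A perfect group with centre of order two over `PSL(2, q)` is `SL(2, q)`. -/
theorem sl2_cover {E : Type u} [Group E] [Finite E] (hE : commutator E = ⊤)
    (hZ : Nat.card (Subgroup.center E) = 2) {F : Type} [Field F] [Fintype F]
    (hodd : Odd (Fintype.card F)) (h3 : 3 < Fintype.card F)
    (e : E ⧸ Subgroup.center E ≃* Matrix.ProjectiveSpecialLinearGroup (Fin 2) F) :
    Nonempty (E ≃* Matrix.SpecialLinearGroup (Fin 2) F) := by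
  classical
  have hperf : commutator (Matrix.SpecialLinearGroup (Fin 2) F) = ⊤ := by
    obtain ⟨a, ha⟩ := SLPres.exists_unit_sq_ne_one (K := F) (by rw [Nat.card_eq_fintype_card]; omega)
      (by rw [Nat.card_eq_fintype_card]; omega)
    exact Matrix.SL2.commutator_eq_top (a := (a : F)) a.ne_zero
      fun h => ha (Units.ext (by simpa using h))
  obtain ⟨n, hn, hA⟩ : ∃ n, n ≠ 0 ∧
      Cfsg.HasCyclicSchurMultiplier (Matrix.ProjectiveSpecialLinearGroup (Fin 2) F) n := by
    by_cases h9 : Fintype.card F = 9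
    · obtain ⟨e6⟩ := S0254.result h9
      exact ⟨6, by norm_num,
        Schur.hasCyclicSchurMultiplier_of_mulEquiv e6.symm (S2116.result 6 (Or.inl rfl))⟩
    · refine ⟨_, (Nat.gcd_pos_of_pos_left _ (by norm_num)).ne',
        S2086.result rfl 2 le_rfl (fun _ => by omega) ?_⟩
      simp only [Set.mem_insert_iff, Set.mem_singleton_iff, Prod.mk.injEq, not_or]
      obtain ⟨k, hk⟩ := hodd
      omega
  haveI : NeZero n := ⟨hn⟩
  set π := QuotientGroup.mk' (Subgroup.center E)
  set Q := E ⧸ Subgroup.center E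
  have hQ : commutator Q = ⊤ := by
    rw [commutator_def] at hE ⊢
    have h := congrArg (Subgroup.map π) hE
    rw [Subgroup.map_commutator, Subgroup.map_top_of_surjective π (QuotientGroup.mk'_surjective _)] at h
    exact h
  have hπk : π.ker = Subgroup.center E := QuotientGroup.ker_mk' _
  let ρ := QuotientGroup.mk' (Subgroup.center (Matrix.SpecialLinearGroup (Fin 2) F))
  let d : ULift.{u} (Matrix.SpecialLinearGroup (Fin 2) F) ≃* Matrix.SpecialLinearGroup (Fin 2) F :=
    MulEquiv.ulift
  set σ : ULift.{u} (Matrix.SpecialLinearGroup (Fin 2) F) →* Q :=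
    e.symm.toMonoidHom.comp (ρ.comp d.toMonoidHom) with hσ
  have hσk : σ.ker = (Subgroup.center (Matrix.SpecialLinearGroup (Fin 2) F)).comap d.toMonoidHom := by
    ext x
    rw [MonoidHom.mem_ker, Subgroup.mem_comap]
    show e.symm (ρ (d x)) = 1 ↔ _
    rw [map_eq_one_iff _ e.symm.injective]
    exact QuotientGroup.eq_one_iff _
  have hst : Cfsg.IsStemExtension σ := by
    refine ⟨e.symm.surjective.comp ((QuotientGroup.mk'_surjective _).comp d.surjective), ?_, ?_⟩
    · rw [hσk]
      intro x hx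
      rw [Subgroup.mem_center_iff]
      intro y
      exact d.injective (by rw [map_mul, map_mul]; exact Subgroup.mem_center_iff.1 hx (d y))
    · refine le_top.trans (le_of_eq ?_)
      have h := congrArg (Subgroup.map d.symm.toMonoidHom) hperf
      rw [commutator_def, Subgroup.map_commutator,
        Subgroup.map_top_of_surjective _ (d.symm.surjective :
          Function.Surjective d.symm.toMonoidHom)] at h
      rw [commutator_def]
      exact h.symm
  obtain ⟨e'⟩ := cover_unique_cyclic hQ (Schur.hasCyclicSchurMultiplier_of_mulEquiv e.symm hA) π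
    ⟨QuotientGroup.mk'_surjective _, hπk.le, hπk.le.trans (hE ▸ le_top)⟩ σ hst (by
      rw [hπk, hZ, hσk,
        Nat.card_congr (Equiv.subtypeEquiv d.toEquiv (fun _ => Iff.rfl) :
          ((Subgroup.center (Matrix.SpecialLinearGroup (Fin 2) F)).comap d.toMonoidHom : Subgroup _) ≃
            Subgroup.center (Matrix.SpecialLinearGroup (Fin 2) F)),
        ClassicalSL.card_center_sl, Fintype.card_fin, Nat.card_eq_fintype_card]
      obtain ⟨k, hk⟩ := hodd
      rw [hk, show 2 * k + 1 - 1 = 2 * k by omega, Nat.gcd_mul_right_right])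
  exact ⟨e'.trans d⟩

end Cfsg.Agent.GW
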