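import Cfsg.Agent.Lib.DGroup.Four
import Mathlib.GroupTheory.Nilpotent
import Mathlib.GroupTheory.OrderOfElement

/-!
An involution acting on groups of odd order: lifting of centralised elements and elements inverted by it.
-/

set_option autoImplicit false
set_option linter.style.haveILetI false
set_option linter.unusedSectionVars false

namespace Cfsg.Agent.GW

open Cfsg.Agent.DGroup
open scoped commutatorElement

universe u

variable {X : Type u} [Group X] [Finite X]

/-- A coset of an odd subgroup normalised by an involution `t` that is fixed by `t` contains an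
element commuting with `t`. -/
theorem exists_cent_mul {K : Subgroup X} (hK : Odd (Nat.card K)) {t : X} (ht : t * t = 1) {c : X}
    (h : c⁻¹ * (t * c * t) ∈ K) : ∃ k ∈ K, t * (c * k) = c * k * t := by
  set ε := c⁻¹ * (t * c * t) with hε
  have hinv : t * ε * t = ε⁻¹ := by
    rw [hε, invol_conj_mul ht, invol_conj_conj ht, invol_conj_inv ht]
    group
  refine ⟨rt K ε, rt_mem h, (invol_conj_eq_iff ht).1 ?_⟩
  have hw : t * rt K ε * t = (rt K ε)⁻¹ := by rw [invol_conj_rt ht, hinv, rt_inv]
  have h2 : rt K ε * rt K ε = ε := rt_sq hK h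
  rw [invol_conj_mul ht, hw]
  calc t * c * t * (rt K ε)⁻¹ = c * ε * (rt K ε)⁻¹ := by rw [hε]; group
    _ = c * (rt K ε * rt K ε) * (rt K ε)⁻¹ := by rw [h2]
    _ = c * rt K ε := by group

/-- An element commuting with `t` modulo a normal subgroup of odd order, adjusted. -/
theorem exists_cent_lift {K : Subgroup X} [K.Normal] (hK : Odd (Nat.card K)) {t c : X} (ht : t * t = 1)
    (h : (t : X ⧸ K) * c = c * t) : ∃ k ∈ K, t * (c * k) = c * k * t := by
  refine exists_cent_mul hK ht ((QuotientGroup.eq_one_iff _).1 ?_)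
  rw [QuotientGroup.mk_mul, QuotientGroup.mk_inv, QuotientGroup.mk_mul, QuotientGroup.mk_mul, h,
    mul_assoc (c : X ⧸ K), ← QuotientGroup.mk_mul, ht, QuotientGroup.mk_one, mul_one, inv_mul_cancel]

/-- One central step: `g` inverted by `t` and centralising the fixed points of `t`. -/
theorem commute_step {t g : X} (ht : t * t = 1) (hg : t * g * t = g⁻¹) (hgo : Odd (orderOf g))
    {A B : Subgroup X} (hA : Odd (Nat.card A)) (hBA : B ≤ A) (hAt : ∀ a ∈ A, t * a * t ∈ A)
    (hAg : ∀ a ∈ A, g * a * g⁻¹ ∈ A) (hAg' : ∀ a ∈ A, g⁻¹ * a * g ∈ A)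
    (hcomm : ∀ a ∈ A, ∀ b ∈ A, a * b * a⁻¹ * b⁻¹ ∈ B) (hcop : (orderOf g).Coprime (Nat.card A))
    (hfix : ∀ a ∈ A, t * a * t = a → g * a = a * g) (hB : ∀ b ∈ B, g * b = b * g) :
    ∀ a ∈ A, g * a = a * g := by
  -- the inverted elements suffice
  suffices key : ∀ i ∈ A, t * i * t = i⁻¹ → g * i = i * g by
    intro a ha
    set d := a⁻¹ * (t * a * t) with hd
    have hdA : d ∈ A := mul_mem (inv_mem ha) (hAt a ha)
    have hdi : t * d * t = d⁻¹ := by
      rw [hd, invol_conj_mul ht, invol_conj_inv ht, invol_conj_conj ht]; group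
    have hw : t * rt A d * t = (rt A d)⁻¹ := by rw [invol_conj_rt ht, hdi, rt_inv]
    have hwA : rt A d ∈ A := rt_mem hdA
    have hsq := rt_sq hA hdA
    have hfx : t * (a * rt A d) * t = a * rt A d := by
      rw [invol_conj_mul ht, hw]
      calc t * a * t * (rt A d)⁻¹ = a * d * (rt A d)⁻¹ := by rw [hd]; group
        _ = a * (rt A d * rt A d) * (rt A d)⁻¹ := by rw [hsq]
        _ = a * rt A d := by group
    have h1 : Commute g (a * rt A d) := hfix _ (mul_mem ha hwA) hfx
    have h2 : Commute g (rt A d) := key _ hwA hw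
    have h3 := h1.mul_right h2.inv_right
    rw [mul_inv_cancel_right] at h3
    exact h3.eq
  intro i hi hinv
  have hginv : t * g⁻¹ * t = g := by rw [invol_conj_inv ht, hg, inv_inv]
  set x := g * i * g⁻¹ with hx
  set y := g⁻¹ * i * g with hy
  have hxA : x ∈ A := hAg i hi
  have hyA : y ∈ A := hAg' i hi
  have htx : t * x * t = y⁻¹ := by
    rw [hx, invol_conj_mul ht, invol_conj_mul ht, hg, hinv, hginv, hy]; group
  have hty : t * y * t = x⁻¹ := by
    rw [hy, invol_conj_mul ht, invol_conj_mul ht, hg, hinv, hginv, hx]; group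
  set k := x * y⁻¹ with hk
  have hkA : k ∈ A := mul_mem hxA (inv_mem hyA)
  set z := k⁻¹ * (t * k * t) with hz
  have htk : t * k * t = y⁻¹ * x := by
    rw [hk, invol_conj_mul ht, invol_conj_inv ht, htx, hty, inv_inv]
  have hzB : z ∈ B := by
    have := hcomm y hyA x⁻¹ (inv_mem hxA)
    rw [inv_inv] at this
    rw [hz, htk, hk, mul_inv_rev, inv_inv, ← mul_assoc]
    exact this
  have hzi : t * z * t = z⁻¹ := by
    rw [hz, invol_conj_mul ht, invol_conj_inv ht, invol_conj_conj ht]; group
  have hBo : Odd (Nat.card B) := hA.of_dvd_nat (Subgroup.card_dvd_of_le hBA)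
  have hw : t * rt B z * t = (rt B z)⁻¹ := by rw [invol_conj_rt ht, hzi, rt_inv]
  have hfx : t * (k * rt B z) * t = k * rt B z := by
    rw [invol_conj_mul ht, hw]
    calc t * k * t * (rt B z)⁻¹ = k * z * (rt B z)⁻¹ := by rw [hz]; group
      _ = k * (rt B z * rt B z) * (rt B z)⁻¹ := by rw [rt_sq hBo hzB]
      _ = k * rt B z := by group
  have hck : Commute g k := by
    have h1 : Commute g (k * rt B z) := hfix _ (mul_mem hkA (hBA (rt_mem hzB))) hfx
    have h3 := h1.mul_right (show Commute g (rt B z) from hB _ (rt_mem hzB)).inv_right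
    rwa [mul_inv_cancel_right] at h3
  have hs : g ^ 2 * i = k * i * g ^ 2 := by
    have e : g * k * g⁻¹ = k := by rw [hck.eq, mul_inv_cancel_right]
    calc g ^ 2 * i = (g * (x * y⁻¹) * g⁻¹) * i * g ^ 2 := by rw [hx, hy, pow_two]; group
      _ = k * i * g ^ 2 := by rw [← hk, e]
  have hpow : ∀ n : ℕ, (g ^ 2) ^ n * i = k ^ n * i * (g ^ 2) ^ n := by
    intro n
    induction n with
    | zero => simp
    | succ n ih =>
      have h2 : Commute (g ^ 2) (k ^ n) := (hck.pow_pow 2 n)
      calc (g ^ 2) ^ (n + 1) * i = g ^ 2 * ((g ^ 2) ^ n * i) := by rw [pow_succ', mul_assoc]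
        _ = g ^ 2 * k ^ n * i * (g ^ 2) ^ n := by rw [ih]; group
        _ = k ^ n * (g ^ 2 * i) * (g ^ 2) ^ n := by rw [h2.eq]; group
        _ = k ^ (n + 1) * i * (g ^ 2) ^ (n + 1) := by rw [hs, pow_succ k, pow_succ' (g ^ 2)]; group
  have hk1 : k = 1 := by
    have e := hpow (orderOf g)
    rw [← pow_mul, mul_comm 2, pow_mul, pow_orderOf_eq_one, one_pow, one_mul, mul_one,
      eq_comm, mul_eq_right] at e
    exact orderOf_eq_one_iff.1 (Nat.eq_one_of_dvd_coprimes hcop (orderOf_dvd_of_pow_eq_one e)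
      (Subgroup.orderOf_dvd_natCard A hkA))
  rw [hk1, one_mul] at hs
  obtain ⟨j, hj⟩ := hgo
  have hg2 : (g ^ 2) ^ (j + 1) = g := by
    rw [← pow_mul, show 2 * (j + 1) = orderOf g + 1 by omega, pow_succ, pow_orderOf_eq_one, one_mul]
  have := (show Commute (g ^ 2) i from hs).pow_left (j + 1)
  rwa [hg2] at this

/-- An element of coprime order inverted by an involution and centralising its fixed points on a
normal nilpotent subgroup of odd order centralises that subgroup. -/
theorem commute_of_fixed {F : Subgroup X} [F.Normal] [Group.IsNilpotent F] (hF : Odd (Nat.card F))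
    {t g : X} (ht : t * t = 1) (hg : t * g * t = g⁻¹) (hgo : Odd (orderOf g))
    (hcop : (orderOf g).Coprime (Nat.card F)) (hfix : ∀ f ∈ F, t * f * t = f → g * f = f * g) :
    ∀ f ∈ F, g * f = f * g := by
  obtain ⟨n, hn⟩ := Group.IsNilpotent.nilpotent (G := F)
  have hA : ∀ j, ∀ f ∈ (Subgroup.upperCentralSeries F j).map F.subtype, g * f = f * g := by
    intro j
    induction j with
    | zero =>
      intro f hf
      rw [Subgroup.upperCentralSeries_zero, Subgroup.map_bot, Subgroup.mem_bot] at hf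
      rw [hf, mul_one, one_mul]
    | succ j ih =>
      have hn : ((Subgroup.upperCentralSeries F (j + 1)).map F.subtype).Normal := inferInstance
      have hle : (Subgroup.upperCentralSeries F j).map F.subtype ≤
          (Subgroup.upperCentralSeries F (j + 1)).map F.subtype :=
        Subgroup.map_mono (Subgroup.upperCentralSeries_mono F (Nat.le_succ j))
      have hd := Subgroup.card_dvd_of_le
        (Subgroup.map_subtype_le (Subgroup.upperCentralSeries F (j + 1)) : _ ≤ F)
      refine commute_step ht hg hgo (hF.of_dvd_nat hd) hle ?_ ?_ ?_ ?_ (hcop.coprime_dvd_right hd)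
        (fun f hf => hfix f (Subgroup.map_subtype_le _ hf)) ih
      · intro a ha
        have := hn.conj_mem a ha t
        rwa [inv_eq_of_mul_eq_one_right ht] at this
      · exact fun a ha => hn.conj_mem a ha g
      · intro a ha
        have := hn.conj_mem a ha g⁻¹
        rwa [inv_inv] at this
      · rintro _ ⟨a, ha, rfl⟩ _ ⟨b, hb, rfl⟩
        refine ⟨⁅a, b⁆, Subgroup.mem_upperCentralSeries_succ_iff.1 ha b, ?_⟩
        rw [map_commutatorElement, commutatorElement_def]
  intro f hf
  refine hA n f ?_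
  rw [hn, ← MonoidHom.range_eq_map, Subgroup.range_subtype]
  exact hf

/-- An element moved by `t` in an odd subgroup invariant under a four-group gives a nontrivial
inverted element fixed by one of the other two involutions. -/
theorem exists_axis {u v w : X} (h : Four u v w) {Y : Subgroup X} (ho : Odd (Nat.card Y))
    (hu : ∀ x ∈ Y, u * x * u ∈ Y) (hv : ∀ x ∈ Y, v * x * v ∈ Y) {x : X} (hx : x ∈ Y)
    (hne : w * x ≠ x * w) :
    ∃ y ∈ Y, y ≠ 1 ∧ w * y * w = y⁻¹ ∧ (u * y * u = y ∨ v * y * v = y) := by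
  have huu := h.uu
  have hvv := h.vv
  have hww := h.ww
  have hwY : ∀ y ∈ Y, w * y * w ∈ Y := fun y hy => by rw [h.conj_mul]; exact hu _ (hv _ hy)
  set i := x⁻¹ * (w * x * w) with hidef
  have hiY : i ∈ Y := mul_mem (inv_mem hx) (hwY x hx)
  have hiw : w * i * w = i⁻¹ := by
    rw [hidef, invol_conj_mul hww, invol_conj_inv hww, invol_conj_conj hww]; group
  have hi1 : i ≠ 1 := fun e => hne ((invol_conj_eq_iff hww).1 (inv_mul_eq_one.1 e).symm)
  set m := v * i * v with hm
  have hmY : m ∈ Y := hv _ hiY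
  set s := rt Y m with hs
  have hsY : s ∈ Y := rt_mem hmY
  have hs2 : s * s = m := rt_sq ho hmY
  set r := rt Y (s * i * s) with hr
  have hrY : r ∈ Y := rt_mem (mul_mem (mul_mem hsY hiY) hsY)
  have hr2 : r * r = s * i * s := rt_sq ho (mul_mem (mul_mem hsY hiY) hsY)
  set y := s⁻¹ * r * s⁻¹ with hy
  have hyY : y ∈ Y := mul_mem (mul_mem (inv_mem hsY) hrY) (inv_mem hsY)
  have hyeq : y * m * y = i := by
    calc y * m * y = y * (s * s) * y := by rw [hs2]
      _ = s⁻¹ * (r * r) * s⁻¹ := by rw [hy]; group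
      _ = i := by rw [hr2]; group
  have huniq : ∀ z ∈ Y, z * m * z = i → z = y := by
    intro z hz hzeq
    have e : (s * z * s) * (s * z * s) = r * r := by
      calc (s * z * s) * (s * z * s) = s * (z * (s * s) * z) * s := by group
        _ = r * r := by rw [hs2, hzeq, hr2]
    rw [hy, ← sq_injective ho (mul_mem (mul_mem hsY hz) hsY) hrY e]
    group
  have hvm : v * m * v = i := invol_conj_conj hvv i
  have hui : u * i * u = m⁻¹ := by
    rw [h.rot.conj_mul, hiw, invol_conj_inv hvv]
  have hum : u * m * u = i⁻¹ := by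
    rw [← inv_inv m, ← hui, invol_conj_inv huu, invol_conj_conj huu]
  have hwm : w * m * w = m⁻¹ := by rw [h.conj_mul, hvm, hui]
  have huy : u * y * u = y := by
    refine huniq _ (hu _ hyY) ?_
    have e := congrArg (fun g => u * g * u) hyeq
    simp only [invol_conj_mul huu, hum, hui] at e
    have e2 := congrArg (·⁻¹) e
    simp only [mul_inv_rev, inv_inv] at e2
    rw [← e2]
    group
  have hwy : w * y * w = y⁻¹ := by
    have e := congrArg (fun g => w * g * w) hyeq
    simp only [invol_conj_mul hww, hwm, hiw] at e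
    rw [← inv_inv (w * y * w), huniq (w * y * w)⁻¹ (inv_mem (hwY _ hyY)) (by
      have e2 := congrArg (·⁻¹) e
      simp only [mul_inv_rev, inv_inv] at e2
      rw [← e2]; group)]
  by_cases hy1 : y = 1
  · refine ⟨i, hiY, hi1, hiw, Or.inr ?_⟩
    rwa [hy1, one_mul, mul_one] at hyeq
  · exact ⟨y, hyY, hy1, hwy, Or.inl huy⟩

end Cfsg.Agent.GW
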