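import Cfsg.Agent.Lib.GW.Consequences
import Cfsg.Agent.Lib.OddChar.OddTheorem

/-!
The preimage of the socle in a group with dihedral Sylow 2-subgroups, as a subgroup that only grows
in overgroups.
-/

set_option autoImplicit false
set_option linter.unusedSectionVars false
set_option linter.style.haveILetI false

namespace Cfsg.Agent.GW

universe u v

variable {X : Type u} [Group X] {Y : Type v} [Group Y]

/-- The last term of the derived series. -/
def res (X : Type u) [Group X] : Subgroup X := ⨅ n, derivedSeries X n

theorem res_map_le (f : X →* Y) : (res X).map f ≤ res Y :=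
  le_iInf fun n => (Subgroup.map_mono (iInf_le _ n)).trans (map_derivedSeries_le_derivedSeries f n)

instance res_normal : (res X).Normal :=
  Subgroup.normal_iInf_normal fun n => derivedSeries_normal X n

theorem res_le_of_solvable (N : Subgroup X) [N.Normal] [Group.IsSolvable (X ⧸ N)] : res X ≤ N := by
  obtain ⟨n, hn⟩ := (Group.isSolvable_def (X ⧸ N)).1 inferInstance
  refine (iInf_le _ n).trans ?_
  have h := map_derivedSeries_le_derivedSeries (QuotientGroup.mk' N) n
  rwa [hn, le_bot_iff, Subgroup.map_eq_bot_iff, QuotientGroup.ker_mk'] at h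

theorem perfect_le_res {L : Subgroup X} (h : ⁅L, L⁆ = L) : L ≤ res X := by
  refine le_iInf fun n => ?_
  induction n with
  | zero => exact le_top
  | succ n ih => exact h.ge.trans (by rw [derivedSeries_succ]; exact Subgroup.commutator_mono ih ih)

variable [Finite X]

theorem exists_res_eq : ∃ n, derivedSeries X n = res X ∧ ⁅res X, res X⁆ = res X := by
  classical
  obtain ⟨n, hn⟩ : ∃ n, derivedSeries X n = derivedSeries X (n + 1) := by
    by_contra hne
    push Not at hne
    have hlt : ∀ n, Nat.card (derivedSeries X n) + n ≤ Nat.card X := by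
      intro n
      induction n with
      | zero => simpa using Subgroup.card_le_card_group _
      | succ n ih =>
        have hle : derivedSeries X (n + 1) ≤ derivedSeries X n := by
          rw [derivedSeries_succ]; exact (Subgroup.commutator_le_self _)
        have : Nat.card (derivedSeries X (n + 1)) < Nat.card (derivedSeries X n) := by
          refine lt_of_le_of_ne (Nat.le_of_dvd Nat.card_pos (Subgroup.card_dvd_of_le hle)) fun e => ?_
          exact hne n (Subgroup.eq_of_le_of_card_ge hle e.ge).symm
        omega
    have h1 := hlt (Nat.card X)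
    have h2 : 0 < Nat.card (derivedSeries X (Nat.card X)) := Nat.card_pos
    omega
  have hperf : ⁅derivedSeries X n, derivedSeries X n⁆ = derivedSeries X n := by
    rw [← derivedSeries_succ, ← hn]
  have he : res X = derivedSeries X n := le_antisymm (iInf_le _ n) (perfect_le_res hperf)
  exact ⟨n, he.symm, by rw [he, hperf]⟩

theorem res_commutator : ⁅res X, res X⁆ = res X :=
  (exists_res_eq (X := X)).choose_spec.2

/-- The preimage of the socle. -/
def socPre (X : Type u) [Group X] : Subgroup X := res X ⊔ Cfsg.oddCore X

theorem oddCore_normal : (Cfsg.oddCore X).Normal :=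
  (inferInstance : (Cfsg.oddCore X).Normal)

instance socPre_normal : (socPre X).Normal :=
  haveI := oddCore_normal (X := X)
  Subgroup.sup_normal _ _

theorem oddCore_odd : Odd (Nat.card (Cfsg.oddCore X)) := by
  haveI : Fact (Nat.Prime 2) := ⟨Nat.prime_two⟩
  exact Nat.coprime_two_right.1 (PBasic.pPrimeCore_coprime 2 X)

theorem oddCore_solvable : Group.IsSolvable (Cfsg.oddCore X) :=
  OddChar.oddSolvable _ oddCore_odd

/-- An involution of the preimage of the socle stays there in a bigger group. -/
theorem socPre_mono [Finite Y] (f : X →* Y) {v : X} (hv : v * v = 1) (h : v ∈ socPre X) :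
    f v ∈ socPre Y := by
  haveI := oddCore_normal (X := X)
  obtain ⟨r, hr, o, ho, rfl⟩ : ∃ r ∈ res X, ∃ o ∈ Cfsg.oddCore X, r * o = v := by
    rw [socPre, ← SetLike.mem_coe, Subgroup.mul_normal] at h
    exact Set.mem_mul.1 h
  have hfr : f r ∈ socPre Y :=
    Subgroup.mem_sup_left (res_map_le f (Subgroup.mem_map_of_mem f hr))
  have h1 : QuotientGroup.mk' (socPre Y) (f (r * o)) = QuotientGroup.mk' (socPre Y) (f o) := by
    rw [map_mul f, map_mul,
      show QuotientGroup.mk' (socPre Y) (f r) = 1 from (QuotientGroup.eq_one_iff (f r)).2 hfr,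
      one_mul]
  have h2 : (QuotientGroup.mk' (socPre Y) (f o)) ^ 2 = 1 := by
    rw [← h1, pow_two, ← map_mul, ← map_mul, hv, map_one, map_one]
  have ho' : Odd (orderOf o) :=
    oddCore_odd.of_dvd_nat (Subgroup.orderOf_dvd_natCard _ ho)
  have h3 : orderOf (QuotientGroup.mk' (socPre Y) (f o)) ∣ Nat.gcd 2 (orderOf o) :=
    Nat.dvd_gcd (orderOf_dvd_of_pow_eq_one h2) ((orderOf_map_dvd _ _).trans (orderOf_map_dvd f o))
  rw [Nat.coprime_two_left.2 ho', Nat.dvd_one, orderOf_eq_one_iff] at h3
  rw [h3] at h1
  exact (QuotientGroup.eq_one_iff _).1 h1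

/-- With a socle, `socPre` is its preimage. -/
theorem socPre_eq {L : Subgroup (X ⧸ Cfsg.oddCore X)} (hn : L.Normal) (hs : IsSimpleGroup L)
    (hnc : ¬ IsMulCommutative L) (ht : IsTarget L)
    (hC : Subgroup.centralizer (L : Set (X ⧸ Cfsg.oddCore X)) = ⊥) :
    socPre X = L.comap (QuotientGroup.mk' (Cfsg.oddCore X)) := by
  haveI := hn
  haveI := oddCore_normal (X := X)
  haveI := quotient_solvable hC ht
  set π := QuotientGroup.mk' (Cfsg.oddCore X) with hπ
  have hker : π.ker = Cfsg.oddCore X := QuotientGroup.ker_mk' _
  refine le_antisymm (sup_le ?_ ?_) fun x hx => ?_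
  · rw [← Subgroup.map_le_iff_le_comap]
    exact (res_map_le π).trans (res_le_of_solvable L)
  · exact hker.symm.le.trans (Subgroup.ker_le_comap _ _)
  · have hL : L ≤ (res X).map π := by
      haveI := hs
      haveI : ((res X).map π).Normal := Subgroup.Normal.map inferInstance π (QuotientGroup.mk'_surjective _)
      rcases (Subgroup.Normal.subgroupOf (inferInstance : ((res X).map π).Normal) L).eq_bot_or_eq_top
        with e | e
      · exfalso
        have hle : (res X).map π ≤ L := (res_map_le π).trans (res_le_of_solvable L)
        have hb : (res X).map π = ⊥ := by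
          rw [← le_bot_iff]
          intro y hy
          have : (⟨y, hle hy⟩ : L) ∈ ((res X).map π).subgroupOf L := hy
          rw [e, Subgroup.mem_bot] at this
          exact Subgroup.mem_bot.2 (congrArg Subtype.val this)
        rw [Subgroup.map_eq_bot_iff, hker] at hb
        -- then `X` would be solvable
        haveI := oddCore_solvable (X := X)
        have hsX : Group.IsSolvable (res X) := Components.isSolvable_mono hb
        have hbot : res X = ⊥ := by
          by_contra hne
          haveI : Nontrivial (res X) := (Subgroup.nontrivial_iff_ne_bot _).2 hne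
          have hp : Group.IsPerfect (res X) := Subgroup.isPerfect_iff.2 res_commutator
          exact (Group.IsSolvable.commutator_lt_top_of_nontrivial (res X)).ne
            Group.IsPerfect.commutator_eq_top
        haveI : Group.IsSolvable X := by
          obtain ⟨n, hn', -⟩ := exists_res_eq (X := X)
          exact (Group.isSolvable_def X).2 ⟨n, hn'.trans hbot⟩
        haveI : Group.IsSolvable (X ⧸ Cfsg.oddCore X) :=
          Group.isSolvable_of_surjective (QuotientGroup.mk'_surjective _)
        exact hnc (IsSimpleGroup.comm_iff_isSolvable.2 inferInstance |> fun h => ⟨⟨h⟩⟩)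
      · exact Subgroup.subgroupOf_eq_top.1 e
    obtain ⟨r, hr, hrx⟩ := hL hx
    have : r⁻¹ * x ∈ Cfsg.oddCore X := by
      rw [← hker, MonoidHom.mem_ker, map_mul, map_inv, hrx, inv_mul_cancel]
    rw [← mul_inv_cancel_left r x]
    exact mul_mem (Subgroup.mem_sup_left hr) (Subgroup.mem_sup_right this)

end Cfsg.Agent.GW
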