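import Cfsg.Agent.Lib.GW.FieldPart
import Cfsg.Agent.Lib.GW.Consequences

/-!
The shape of a group with dihedral Sylow 2-subgroups over a self-centralising target.
-/

set_option autoImplicit false

namespace Cfsg.Agent.GW

open Matrix

universe u v

theorem DihSylow.of_equiv {A : Type u} {B : Type v} [Group A] [Group B] [Finite A]
    (e : A ≃* B) (h : DihSylow A) : DihSylow B := by
  haveI : Fact (Nat.Prime 2) := ⟨Nat.prime_two⟩
  haveI : Finite B := Finite.of_equiv _ e.toEquiv
  obtain ⟨P, n, hn, ⟨f⟩⟩ := h
  let Q : Sylow 2 B := P.mapSurjective (f := e.toMonoidHom) e.surjective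
  let g : (P : Subgroup A) ≃* (Q : Subgroup B) :=
    (P : Subgroup A).equivMapOfInjective e.toMonoidHom e.injective
  exact ⟨Q, n, hn, ⟨g.symm.trans f⟩⟩

/-- `S₇` has no dihedral Sylow 2-subgroup. -/
theorem perm_seven_not_dih : ¬ DihSylow (Equiv.Perm (Fin 7)) := by
  intro h
  let f : Multiplicative (ZMod 2) × Multiplicative (ZMod 2) × Multiplicative (ZMod 2) →
      Equiv.Perm (Fin 7) := fun x =>
    (if x.1 = 1 then 1 else Equiv.swap 0 1) * (if x.2.1 = 1 then 1 else Equiv.swap 2 3) *
      (if x.2.2 = 1 then 1 else Equiv.swap 4 5)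
  have hm : ∀ x y, f (x * y) = f x * f y := by decide +kernel
  let φ := MonoidHom.mk' f hm
  have hi : Function.Injective φ := by
    show Function.Injective f
    decide +kernel
  haveI : IsMulCommutative φ.range := ⟨⟨by
    rintro ⟨_, x, rfl⟩ ⟨_, y, rfl⟩
    exact Subtype.ext (by rw [Subgroup.coe_mul, Subgroup.coe_mul, ← map_mul, ← map_mul, mul_comm])⟩⟩
  have h4 := h.elementary (A := φ.range) inferInstance (by
    rintro _ ⟨x, rfl⟩
    rw [← map_mul, show x * x = 1 by revert x; decide +kernel, map_one])
  rw [← Nat.card_congr (MonoidHom.ofInjective hi).toEquiv, Nat.card_prod, Nat.card_prod] at h4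
  simp at h4

theorem conjNormal_coe {X : Type u} [Group X] {L : Subgroup X} [L.Normal] (a : L) :
    MulAut.conjNormal (a : X) = (MulAut.conj a : MulAut L) := by
  ext b
  simp

variable {X : Type u} [Group X] [Finite X]

/-- The shape of `X` over a self-centralising target `L`. -/
theorem almost_target (h : DihSylow X) (L : Subgroup X) [L.Normal] [hs : IsSimpleGroup L]
    (hnc : ¬ IsMulCommutative L) (hC : Subgroup.centralizer (L : Set X) = ⊥) (ht : IsTarget L) :
    (L = ⊤ ∧ Nonempty (X ≃* alternatingGroup (Fin 7))) ∨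
      ∃ (F : Type) (_ : Field F) (_ : Fintype F), Odd (Fintype.card F) ∧ 3 < Fintype.card F ∧
        ∃ ι : X →* MulAut (ProjectiveSpecialLinearGroup (Fin 2) F),
          Function.Injective ι ∧
          L.map ι = Cfsg.Inn (ProjectiveSpecialLinearGroup (Fin 2) F) ∧
          ∀ x : X, Odd (orderOf (fldHom (ι x))) := by
  classical
  rcases ht with ⟨F, i1, i2, hodd, h3, ⟨e⟩⟩ | ht
  · refine Or.inr ⟨F, i1, i2, hodd, h3, (autCongr e).toMonoidHom.comp MulAut.conjNormal,
      (autCongr e).injective.comp (conjNormal_injective hC), ?_, ?_⟩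
    · ext β
      constructor
      · rintro ⟨x, hx, rfl⟩
        exact ⟨e ⟨x, hx⟩, by
          rw [← autCongr_conj]
          show autCongr e (MulAut.conj ⟨x, hx⟩) = autCongr e (MulAut.conjNormal x)
          rw [conjNormal_coe ⟨x, hx⟩]⟩
      · rintro ⟨a, rfl⟩
        refine ⟨(e.symm a : L), (e.symm a).2, ?_⟩
        show autCongr e (MulAut.conjNormal ((e.symm a : L) : X)) = _
        rw [conjNormal_coe,
          autCongr_conj, MulEquiv.apply_symm_apply]
    · intro x
      set ι := (autCongr e).toMonoidHom.comp (MulAut.conjNormal : X →* MulAut L)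
      have hi : Function.Injective ι := (autCongr e).injective.comp (conjNormal_injective hC)
      haveI : Finite ι.range := Finite.of_equiv _ (MonoidHom.ofInjective hi).toEquiv
      haveI : IsSimpleGroup (ProjectiveSpecialLinearGroup (Fin 2) F) :=
        e.isSimpleGroup_congr.1 hs
      refine odd_fld hodd (fun hc => hnc ⟨⟨fun a b => e.injective ?_⟩⟩) ι.range ?_
        (h.of_equiv (MonoidHom.ofInjective hi)) ⟨ι x, x, rfl⟩
      · rw [map_mul, map_mul, hc.is_comm.comm]
      · rintro _ ⟨a, rfl⟩
        refine ⟨(e.symm a : L), ?_⟩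
        show autCongr e (MulAut.conjNormal ((e.symm a : L) : X)) = _
        rw [conjNormal_coe,
          autCongr_conj, MulEquiv.apply_symm_apply]
  · obtain ⟨e⟩ := ht
    have hb := AutAlt.bijective_conjNormal (n := 7) (by norm_num) (by norm_num)
    let κ : X →* Equiv.Perm (Fin 7) := (MulEquiv.ofBijective _ hb).symm.toMonoidHom.comp
      ((autCongr e).toMonoidHom.comp MulAut.conjNormal)
    have hi : Function.Injective κ := fun a b hab => conjNormal_injective hC
      ((autCongr e).injective ((MulEquiv.ofBijective _ hb).symm.injective hab))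
    have hns : ¬ Function.Surjective κ := fun hsj => perm_seven_not_dih
      (h.of_equiv (MulEquiv.ofBijective κ ⟨hi, hsj⟩))
    have htop : L = ⊤ := by
      by_contra hne
      have h1 : 2 ≤ L.index := by
        have := Subgroup.index_ne_zero_of_finite (H := L)
        have : L.index ≠ 1 := fun e1 => hne (Subgroup.index_eq_one.1 e1)
        omega
      have h2 := L.card_mul_index
      have hcardL : Nat.card L * 2 = Nat.card (Equiv.Perm (Fin 7)) := by
        rw [Nat.card_congr e.toEquiv, mul_comm, Nat.card_eq_fintype_card, Nat.card_eq_fintype_card,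
          two_mul_card_alternatingGroup]
      exact hns ((Nat.bijective_iff_injective_and_card κ).2 ⟨hi, le_antisymm
        (Nat.card_le_card_of_injective κ hi) (by rw [← hcardL, ← h2]; exact Nat.mul_le_mul_left _ h1)⟩).2
    subst htop
    exact Or.inl ⟨rfl, ⟨Subgroup.topEquiv.symm.trans e⟩⟩

end Cfsg.Agent.GW
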