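import Cfsg.Prelude.Def_CaseTheorems
import Mathlib.GroupTheory.SpecificGroups.Alternating
import Mathlib.GroupTheory.SpecificGroups.Dihedral
import Mathlib.GroupTheory.Sylow
import Mathlib.LinearAlgebra.Matrix.SpecialLinearGroup
import Mathlib.Data.ZMod.Basic

/-!
Quasi-dihedral and wreathed 2-groups as two-generated groups, and small facts on `SL(2, F)`, `S₇`.
-/

set_option autoImplicit false
set_option linter.style.haveILetI false

namespace Cfsg.Agent.GW

open Matrix

/-- An elementary abelian image of a two-generated group has order at most four. -/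
theorem elem_image_le_four {S M : Type*} [Group S] [CommGroup M] [Finite M]
    (hM : ∀ m : M, m * m = 1) {a b : S} (hgen : Subgroup.closure ({a, b} : Set S) = ⊤)
    (f : S →* M) (hf : Function.Surjective f) : Nat.card M ≤ 4 := by
  classical
  have hmem : ∀ m : M, m ∈ ({1, f a, f b, f a * f b} : Finset M) := by
    intro m
    obtain ⟨s, rfl⟩ := hf m
    have hs : s ∈ Subgroup.closure ({a, b} : Set S) := hgen ▸ Subgroup.mem_top s
    simp only [Finset.mem_insert, Finset.mem_singleton]
    induction hs using Subgroup.closure_induction with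
    | mem x hx => rcases hx with rfl | rfl <;> simp
    | one => simp
    | mul x y _ _ hx hy =>
      have h1 := hM (f a); have h2 := hM (f b)
      have h3 : f a * (f a * f b) = f b := by rw [← mul_assoc, h1, one_mul]
      have h4 : f b * (f a * f b) = f a := by rw [mul_comm (f a) (f b), ← mul_assoc, h2, one_mul]
      have h5 : f a * f b * f a = f b := by rw [mul_comm, h3]
      have h6 : f a * f b * f b = f a := by rw [mul_assoc, h2, mul_one]
      have h7 : f a * f b * (f a * f b) = 1 := hM _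
      rw [map_mul]
      rcases hx with e | e | e | e <;> rcases hy with e' | e' | e' | e' <;> rw [e, e'] <;>
        simp [h1, h2, h3, h4, h5, h6, h7, mul_comm (f b) (f a)]
    | inv x _ hx =>
      rw [map_inv, inv_eq_of_mul_eq_one_right (hM (f x))]
      exact hx
  calc Nat.card M ≤ Nat.card ({1, f a, f b, f a * f b} : Finset M) :=
        Nat.card_le_card_of_injective (fun m => ⟨m, hmem m⟩) fun x y e => congrArg Subtype.val e
    _ ≤ 4 := by rw [Nat.card_eq_fintype_card, Fintype.card_coe]; exact Finset.card_le_four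

/-- A quasi-dihedral or wreathed group is two-generated and has a non-central involution. -/
theorem qd_wr_facts {S : Type*} [Group S] (hS : Cfsg.IsQuasiDihedral S ∨ Cfsg.IsWreathed S) :
    (∃ a b : S, Subgroup.closure ({a, b} : Set S) = ⊤) ∧
      ∃ y x : S, orderOf y = 2 ∧ y * x ≠ x * y := by
  have hcardne : Nat.card S ≠ 0 := by
    rcases hS with ⟨n, -, h, -⟩ | ⟨n, -, h, -⟩ <;> rw [h] <;> exact pow_ne_zero _ two_ne_zero
  haveI : Finite S := Nat.finite_of_card_ne_zero hcardne
  rcases hS with ⟨n, hn, hc, x, y, hx, hy, hyx⟩ | ⟨n, hn, hc, x, y, z, hx, hxy, hd, hz, hzx⟩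
  · obtain ⟨k, rfl⟩ : ∃ k, n = k + 3 := ⟨n - 3, by omega⟩
    have hne : y * x ≠ x * y := by
      intro h
      rw [h, mul_inv_cancel_right] at hyx
      have h4 : 4 ≤ 2 ^ (k + 3 - 1) := by
        calc 4 = 2 ^ 2 := rfl
          _ ≤ _ := Nat.pow_le_pow_right two_pos (by omega)
      have h2 : x ^ (2 ^ (k + 3 - 1) - 1 - 1) = 1 := by
        have : x ^ (2 ^ (k + 3 - 1) - 1 - 1) * x = x := by
          rw [← pow_succ, show 2 ^ (k + 3 - 1) - 1 - 1 + 1 = 2 ^ (k + 3 - 1) - 1 by omega]
          exact hyx.symm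
        exact mul_eq_right.1 this
      have h3 := orderOf_dvd_of_pow_eq_one h2
      rw [hx] at h3
      have h5 := Nat.le_of_dvd (by omega) h3
      have : 2 ^ (k + 3) = 2 * 2 ^ (k + 3 - 1) := by rw [← pow_succ']; congr 1
      omega
    refine ⟨⟨x, y, ?_⟩, y, x, hy, hne⟩
    set K := Subgroup.closure ({x, y} : Set S) with hK
    have hxK : x ∈ K := Subgroup.subset_closure (by simp)
    have hyK : y ∈ K := Subgroup.subset_closure (by simp)
    have hlt : Nat.card (Subgroup.zpowers x) < Nat.card K := by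
      refine lt_of_le_of_ne (Subgroup.card_le_of_le (Subgroup.zpowers_le.2 hxK)) fun e => hne ?_
      have he := Subgroup.eq_of_le_of_card_ge (Subgroup.zpowers_le.2 hxK) e.ge
      obtain ⟨i, hi⟩ := Subgroup.mem_zpowers_iff.1 (he ▸ hyK)
      rw [← hi]
      exact (Commute.refl x).zpow_left i
    rw [Nat.card_zpowers, hx] at hlt
    obtain ⟨j, hj, hj'⟩ := (Nat.dvd_prime_pow Nat.prime_two).1 (hc ▸ Subgroup.card_subgroup_dvd_card K)
    have : k + 3 < j := (Nat.pow_lt_pow_iff_right one_lt_two).1 (hj' ▸ hlt)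
    refine Subgroup.eq_top_of_card_eq K ?_
    rw [hj', hc, show j = k + 3 + 1 by omega]
  · have hxne : x ∉ Subgroup.zpowers y := fun h => by
      have h1 : x ∈ (⊥ : Subgroup S) := hd ▸ ⟨Subgroup.mem_zpowers x, h⟩
      rw [Subgroup.mem_bot] at h1
      rw [h1, orderOf_one] at hx
      have := Nat.one_lt_two_pow (show n ≠ 0 by omega)
      omega
    have hne : z * x ≠ x * z := fun h => by
      rw [h, mul_inv_cancel_right] at hzx
      exact hxne (hzx ▸ Subgroup.mem_zpowers x)
    refine ⟨⟨x, z, ?_⟩, z, x, hz, hne⟩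
    set K := Subgroup.closure ({x, z} : Set S) with hK
    have hxK : x ∈ K := Subgroup.subset_closure (by simp)
    have hzK : z ∈ K := Subgroup.subset_closure (by simp)
    have hyK : y ∈ K := hzx ▸ mul_mem (mul_mem hzK hxK) (inv_mem hzK)
    set A := Subgroup.zpowers x ⊔ Subgroup.zpowers y with hA
    have hAK : A ≤ K := sup_le (Subgroup.zpowers_le.2 hxK) (Subgroup.zpowers_le.2 hyK)
    have hy : orderOf y = 2 ^ n := by
      rw [← hzx, ← hx]
      exact (MulAut.conj z).orderOf_eq x
    have hcA : 2 ^ (2 * n) ≤ Nat.card A := by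
      let g : Subgroup.zpowers x × Subgroup.zpowers y → A := fun p =>
        ⟨p.1.1 * p.2.1, mul_mem (Subgroup.mem_sup_left p.1.2) (Subgroup.mem_sup_right p.2.2)⟩
      have hg : Function.Injective g :=
        fun p q e => Prod.ext_iff.2 (by
          have h := congrArg Subtype.val e
          have h2 : (q.1.1)⁻¹ * p.1.1 = q.2.1 * (p.2.1)⁻¹ := by
            rw [eq_mul_inv_iff_mul_eq, mul_assoc, show p.1.1 * p.2.1 = q.1.1 * q.2.1 from h,
              inv_mul_cancel_left]
          have h3 : (q.1.1)⁻¹ * p.1.1 ∈ (⊥ : Subgroup S) :=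
            hd ▸ Subgroup.mem_inf.2 ⟨(Subgroup.zpowers x).mul_mem ((Subgroup.zpowers x).inv_mem q.1.2) p.1.2,
              h2.symm ▸ (Subgroup.zpowers y).mul_mem q.2.2 ((Subgroup.zpowers y).inv_mem p.2.2)⟩
          rw [Subgroup.mem_bot] at h3
          rw [h3] at h2
          exact ⟨Subtype.ext (inv_mul_eq_one.1 h3).symm, Subtype.ext (mul_inv_eq_one.1 h2.symm).symm⟩)
      have := Nat.card_le_card_of_injective g hg
      rwa [Nat.card_prod, Nat.card_zpowers, Nat.card_zpowers, hx, hy, ← pow_add, ← two_mul] at this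
    have hzA : z ∉ A := fun h => hne (by
      have hAc : A ≤ Subgroup.centralizer ({x} : Set S) := sup_le
        (Subgroup.zpowers_le.2 (Subgroup.mem_centralizer_singleton_iff.2 rfl))
        (Subgroup.zpowers_le.2 (Subgroup.mem_centralizer_singleton_iff.2 hxy.symm))
      exact Subgroup.mem_centralizer_singleton_iff.1 (hAc h))
    have hlt : Nat.card A < Nat.card K := lt_of_le_of_ne (Subgroup.card_le_of_le hAK) fun e =>
      hzA ((Subgroup.eq_of_le_of_card_ge hAK e.ge) ▸ hzK)
    obtain ⟨j, hj, hj'⟩ := (Nat.dvd_prime_pow Nat.prime_two).1 (hc ▸ Subgroup.card_subgroup_dvd_card K)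
    have : 2 * n < j := (Nat.pow_lt_pow_iff_right one_lt_two).1 (hj' ▸ hcA.trans_lt hlt)
    refine Subgroup.eq_top_of_card_eq K ?_
    rw [hj', hc, show j = 2 * n + 1 by omega]

/-- The upper transvection. -/
def upT {F : Type*} [CommRing F] (x : F) : SpecialLinearGroup (Fin 2) F :=
  ⟨!![1, x; 0, 1], by simp [det_fin_two]⟩

/-- The lower transvection. -/
def loT {F : Type*} [CommRing F] (x : F) : SpecialLinearGroup (Fin 2) F :=
  ⟨!![1, 0; x, 1], by simp [det_fin_two]⟩

theorem upT_coe {F : Type*} [CommRing F] (x : F) :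
    ((upT x : SpecialLinearGroup (Fin 2) F) : Matrix (Fin 2) (Fin 2) F) = !![1, x; 0, 1] := rfl

theorem loT_coe {F : Type*} [CommRing F] (x : F) :
    ((loT x : SpecialLinearGroup (Fin 2) F) : Matrix (Fin 2) (Fin 2) F) = !![1, 0; x, 1] := rfl

/-- A homomorphism from `SL(2, F)`, `F` of odd order, to a 2-group is trivial. -/
theorem sl2_hom_two_trivial {F : Type*} [Field F] [Fintype F] (hF : Odd (Fintype.card F))
    {Q : Type*} [Group Q] (hQ : IsPGroup 2 Q) (f : SpecialLinearGroup (Fin 2) F →* Q) :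
    ∀ A, f A = 1 := by
  have hkill : ∀ A : SpecialLinearGroup (Fin 2) F, A ^ Fintype.card F = 1 → f A = 1 := by
    intro A hA
    obtain ⟨k, hk⟩ := IsPGroup.iff_orderOf.1 hQ (f A)
    have hd : orderOf (f A) ∣ Fintype.card F :=
      orderOf_dvd_of_pow_eq_one (by rw [← map_pow, hA, map_one])
    exact orderOf_eq_one_iff.1 (Nat.eq_one_of_dvd_coprimes
      ((Nat.coprime_two_left.2 hF).pow_left k) (dvd_of_eq hk) hd)
  have hupow : ∀ (x : F) (n : ℕ), upT x ^ n = upT (n • x) := by
    intro x n
    induction n with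
    | zero => ext i j; fin_cases i <;> fin_cases j <;> simp [upT_coe]
    | succ n ih =>
      rw [pow_succ, ih]
      ext i j
      fin_cases i <;> fin_cases j <;>
        simp [upT_coe, Matrix.mul_apply, Fin.sum_univ_two] <;> ring
  have hlpow : ∀ (x : F) (n : ℕ), loT x ^ n = loT (n • x) := by
    intro x n
    induction n with
    | zero => ext i j; fin_cases i <;> fin_cases j <;> simp [loT_coe]
    | succ n ih =>
      rw [pow_succ, ih]
      ext i j
      fin_cases i <;> fin_cases j <;>
        simp [loT_coe, Matrix.mul_apply, Fin.sum_univ_two] <;> ring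
  have h0 : ∀ x : F, Fintype.card F • x = 0 := fun x => card_nsmul_eq_zero
  have hu : ∀ x, f (upT x) = 1 := fun x => hkill _ (by
    rw [hupow, h0]; ext i j; fin_cases i <;> fin_cases j <;> simp [upT_coe])
  have hl : ∀ x, f (loT x) = 1 := fun x => hkill _ (by
    rw [hlpow, h0]; ext i j; fin_cases i <;> fin_cases j <;> simp [loT_coe])
  have key : ∀ A : SpecialLinearGroup (Fin 2) F, A 1 0 ≠ 0 → f A = 1 := by
    intro A hc
    have hd : A 0 0 * A 1 1 - A 0 1 * A 1 0 = 1 := by rw [← Matrix.det_fin_two]; exact A.det_coe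
    have e : A = upT ((A 0 0 - 1) / A 1 0) * loT (A 1 0) * upT ((A 1 1 - 1) / A 1 0) := by
      ext i j
      fin_cases i <;> fin_cases j <;>
        simp [upT_coe, loT_coe, Matrix.SpecialLinearGroup.coe_mul, Matrix.mul_apply, Fin.sum_univ_two] <;> field_simp <;>
          first | linear_combination hd | linear_combination -hd | ring
    rw [e, map_mul, map_mul, hu, hl, hu, one_mul, one_mul]
  intro A
  by_cases hc : A 1 0 = 0
  · have hd : A 0 0 * A 1 1 - A 0 1 * A 1 0 = 1 := by rw [← Matrix.det_fin_two]; exact A.det_coe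
    have h1 : f (A * loT 1) = 1 := key _ (by
      have : A 1 1 ≠ 0 := fun e => by simp [hc, e] at hd
      simpa [loT_coe, Matrix.SpecialLinearGroup.coe_mul, Matrix.mul_apply, Fin.sum_univ_two, hc] using this)
    rwa [map_mul, hl, mul_one] at h1
  · exact key A hc

/-- Two elements of order four of `SL(2, F)` not powers of one another. -/
theorem sl2_two_fours {F : Type*} [Field F] (h2 : (2 : F) ≠ 0) :
    ∃ a b : SpecialLinearGroup (Fin 2) F, orderOf a = 4 ∧ orderOf b = 4 ∧ b ≠ a ∧ b ≠ a⁻¹ := by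
  have h11 : (-1 : F) ≠ 1 := fun h => h2 (by linear_combination -h)
  have ho : ∀ M : SpecialLinearGroup (Fin 2) F,
      (M : Matrix (Fin 2) (Fin 2) F) * (M : Matrix (Fin 2) (Fin 2) F) = -1 → orderOf M = 4 := by
    intro M hM
    have h2' : ((M ^ 2 : SpecialLinearGroup (Fin 2) F) : Matrix (Fin 2) (Fin 2) F) = -1 := by
      exact (Matrix.SpecialLinearGroup.coe_pow M 2).trans (by rw [pow_two, hM])
    refine orderOf_eq_prime_pow (p := 2) (n := 1) ?_ ?_
    · rw [pow_one]
      intro e
      rw [e] at h2'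
      have := congrFun (congrFun ((Matrix.SpecialLinearGroup.coe_one).symm.trans h2') 0) 0
      simp at this
      exact h11 this.symm
    · rw [show 2 ^ (1 + 1) = 2 * 2 from rfl, pow_mul]
      exact Subtype.ext ((Matrix.SpecialLinearGroup.coe_pow (M ^ 2) 2).trans (by rw [h2', neg_one_sq]; rfl))
  let A : SpecialLinearGroup (Fin 2) F := ⟨!![0, 1; -1, 0], by simp [det_fin_two]⟩
  let B : SpecialLinearGroup (Fin 2) F := ⟨!![1, 1; -2, -1], by simp [det_fin_two]; ring⟩
  have hA : (A : Matrix (Fin 2) (Fin 2) F) = !![0, 1; -1, 0] := rfl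
  have hB : (B : Matrix (Fin 2) (Fin 2) F) = !![1, 1; -2, -1] := rfl
  refine ⟨A, B, ho _ ?_, ho _ ?_, ?_, ?_⟩
  · rw [hA]; ext i j; fin_cases i <;> fin_cases j <;> simp [Matrix.mul_apply, Fin.sum_univ_two]
  · rw [hB]; ext i j; fin_cases i <;> fin_cases j <;> simp [Matrix.mul_apply, Fin.sum_univ_two] <;> ring
  · intro e
    have := congrArg (fun M : SpecialLinearGroup (Fin 2) F => (M : Matrix (Fin 2) (Fin 2) F) 0 0) e
    simp [hA, hB] at this
  · intro e
    have h := mul_eq_one_iff_eq_inv.2 e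
    have := congrArg (fun M : SpecialLinearGroup (Fin 2) F => (M : Matrix (Fin 2) (Fin 2) F) 0 0) h
    simp [hA, hB, Matrix.SpecialLinearGroup.coe_mul, Matrix.mul_apply, Fin.sum_univ_two] at this
    exact h11 this

/-- A dihedral group of order eight times two, in `S₇`. -/
def sylS7 (p : DihedralGroup 4 × Multiplicative (ZMod 2)) : Equiv.Perm (Fin 7) :=
  (match p.1 with
    | .r i => (Equiv.swap (0 : Fin 7) 1 * Equiv.swap (1 : Fin 7) 2 * Equiv.swap (2 : Fin 7) 3) ^ i.val
    | .sr i => Equiv.swap (0 : Fin 7) 2 * (Equiv.swap (0 : Fin 7) 1 * Equiv.swap (1 : Fin 7) 2 * Equiv.swap (2 : Fin 7) 3) ^ i.val) *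
    Equiv.swap (4 : Fin 7) 5 ^ (Multiplicative.toAdd p.2).val

theorem sylS7_mul : ∀ a b, sylS7 (a * b) = sylS7 a * sylS7 b := by decide +kernel

theorem sylS7_inj : Function.Injective sylS7 := by decide +kernel

/-- A dihedral group of order eight in `A₇`. -/
def sylA7 : DihedralGroup 4 → Equiv.Perm (Fin 7)
  | .r i => (Equiv.swap 0 1 * Equiv.swap 1 2 * Equiv.swap 2 3 * Equiv.swap 4 5) ^ i.val
  | .sr i => Equiv.swap 0 2 * Equiv.swap 4 5 *
      (Equiv.swap 0 1 * Equiv.swap 1 2 * Equiv.swap 2 3 * Equiv.swap 4 5) ^ i.val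

theorem sylA7_mul : ∀ a b, sylA7 (a * b) = sylA7 a * sylA7 b := by decide +kernel

theorem sylA7_inj : Function.Injective sylA7 := by decide +kernel

theorem sylA7_sign : ∀ a, Equiv.Perm.sign (sylA7 a) = 1 := by decide +kernel

/-- The abelianisation of the dihedral group of order eight. -/
def dihAb : DihedralGroup 4 → ZMod 2 × ZMod 2
  | .r i => ((i.val : ZMod 2), 0)
  | .sr i => ((i.val : ZMod 2), 1)

theorem dihAb_mul : ∀ a b, dihAb (a * b) = dihAb a + dihAb b := by decide +kernel

theorem dihAb_surj : Function.Surjective fun p : DihedralGroup 4 =>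
    Multiplicative.ofAdd (dihAb p) := by decide +kernel

theorem dihAb_prod_surj : Function.Surjective fun p : DihedralGroup 4 × Multiplicative (ZMod 2) =>
    Multiplicative.ofAdd ((dihAb p.1).1, (dihAb p.1).2, Multiplicative.toAdd p.2) := by decide +kernel

/-- The Sylow 2-subgroups of `S₇` map onto an elementary abelian group of order eight. -/
theorem perm_seven_sylow (P : Sylow 2 (Equiv.Perm (Fin 7))) :
    ∃ f : (P : Subgroup (Equiv.Perm (Fin 7))) →* Multiplicative (ZMod 2 × ZMod 2 × ZMod 2),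
      Function.Surjective f := by
  haveI : Fact (Nat.Prime 2) := ⟨Nat.prime_two⟩
  let φ := MonoidHom.mk' sylS7 sylS7_mul
  have hi : Function.Injective φ := sylS7_inj
  let e : DihedralGroup 4 × Multiplicative (ZMod 2) ≃* φ.range := MonoidHom.ofInjective hi
  have hc : Nat.card φ.range = 2 ^ (Nat.card (Equiv.Perm (Fin 7))).factorization 2 := by
    rw [← Nat.card_congr e.toEquiv, Nat.card_prod, DihedralGroup.nat_card, Nat.card_perm,
      Nat.card_eq_fintype_card, Nat.card_eq_fintype_card]
    simp only [Fintype.card_multiplicative, ZMod.card, Fintype.card_fin]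
    rw [show Nat.factorial 7 = 2 ^ 4 * 315 by rfl, Nat.factorization_mul (by norm_num) (by norm_num),
      Finsupp.add_apply, Nat.Prime.factorization_pow Nat.prime_two, Finsupp.single_eq_same,
      Nat.factorization_eq_zero_of_not_dvd (by norm_num : ¬ 2 ∣ 315)]
    rfl
  let Q : Sylow 2 (Equiv.Perm (Fin 7)) := Sylow.ofCard φ.range hc
  let ψ : DihedralGroup 4 × Multiplicative (ZMod 2) →* Multiplicative (ZMod 2 × ZMod 2 × ZMod 2) :=
    MonoidHom.mk' (fun p => Multiplicative.ofAdd ((dihAb p.1).1, (dihAb p.1).2, Multiplicative.toAdd p.2))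
      (fun a b => by simp [dihAb_mul, ← ofAdd_add])
  have hψ : Function.Surjective ψ := dihAb_prod_surj
  let E : (P : Subgroup (Equiv.Perm (Fin 7))) ≃* φ.range := P.equiv Q
  exact ⟨ψ.comp (E.trans e.symm).toMonoidHom, hψ.comp (E.trans e.symm).surjective⟩

/-- The Sylow 2-subgroups of `A₇` map onto a four-group. -/
theorem alt_seven_sylow (P : Sylow 2 (alternatingGroup (Fin 7))) :
    ∃ f : (P : Subgroup (alternatingGroup (Fin 7))) →* Multiplicative (ZMod 2 × ZMod 2),
      Function.Surjective f := by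
  haveI : Fact (Nat.Prime 2) := ⟨Nat.prime_two⟩
  let φ : DihedralGroup 4 →* alternatingGroup (Fin 7) :=
    (MonoidHom.mk' sylA7 sylA7_mul).codRestrict _ fun a =>
      Equiv.Perm.mem_alternatingGroup.2 (sylA7_sign a)
  have hi : Function.Injective φ := fun a b h => sylA7_inj (congrArg Subtype.val h)
  let e : DihedralGroup 4 ≃* φ.range := MonoidHom.ofInjective hi
  have hA : Nat.card (alternatingGroup (Fin 7)) = 2 ^ 3 * 315 := by
    have h := two_mul_nat_card_alternatingGroup (α := Fin 7)
    rw [Nat.card_perm, Nat.card_eq_fintype_card (α := Fin 7), Fintype.card_fin,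
      show Nat.factorial 7 = 2 * (2 ^ 3 * 315) by rfl] at h
    omega
  have hc : Nat.card φ.range = 2 ^ (Nat.card (alternatingGroup (Fin 7))).factorization 2 := by
    rw [← Nat.card_congr e.toEquiv, DihedralGroup.nat_card, hA,
      Nat.factorization_mul (by norm_num) (by norm_num),
      Finsupp.add_apply, Nat.Prime.factorization_pow Nat.prime_two, Finsupp.single_eq_same,
      Nat.factorization_eq_zero_of_not_dvd (by norm_num : ¬ 2 ∣ 315)]
    rfl
  let Q : Sylow 2 (alternatingGroup (Fin 7)) := Sylow.ofCard φ.range hc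
  let ψ : DihedralGroup 4 →* Multiplicative (ZMod 2 × ZMod 2) :=
    MonoidHom.mk' (fun p => Multiplicative.ofAdd (dihAb p)) (fun a b => by simp [dihAb_mul, ← ofAdd_add])
  have hψ : Function.Surjective ψ := dihAb_surj
  let E : (P : Subgroup (alternatingGroup (Fin 7))) ≃* φ.range := P.equiv Q
  exact ⟨ψ.comp (E.trans e.symm).toMonoidHom, hψ.comp (E.trans e.symm).surjective⟩

end Cfsg.Agent.GW
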