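import Cfsg.Agent.Lib.GW.RankOne
import Cfsg.Agent.Lib.GW.AlmostTarget
import Cfsg.Agent.Lib.GW.Residual
import Cfsg.Agent.Lib.GW.TwoGenerated
import Cfsg.Agent.Lib.LocalEven.SolvDih
import Cfsg.Agent.Lib.Small.Burnside

/-!
The normal `SL(2, F)` of a group with quasi-dihedral or wreathed Sylow 2-subgroups and a subgroup
of 2-power index with quaternion Sylow 2-subgroups, given the simple case.
-/

set_option autoImplicit false
set_option linter.style.haveILetI false

namespace Cfsg.Agent.GW

open Cfsg.Agent.TwoFus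

universe u

/-- Commuting elements of order four of a group of 2-rank one generate the same subgroup. -/
theorem four_eq_or_inv {K : Type u} [Group K] (hR : BrauerSuzuki.RankOne K) {a b : K}
    (ha : orderOf a = 4) (hb : orderOf b = 4) (hab : Commute a b) : b = a ∨ b = a⁻¹ := by
  have hsq : ∀ x : K, orderOf x = 4 → orderOf (x * x) = 2 := fun x hx => by
    rw [← pow_two, orderOf_pow_of_dvd two_ne_zero (by rw [hx]; norm_num), hx]
  have e : a * a = b * b := hR _ _ (hsq a ha) (hsq b hb)
    ((hab.mul_right hab).mul_left (hab.mul_right hab))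
  have hc : (a * b⁻¹) * (a * b⁻¹) = 1 := by
    rw [hab.inv_right.symm.mul_mul_mul_comm, e, ← mul_inv_rev, mul_inv_cancel]
  by_cases h1 : a * b⁻¹ = 1
  · exact Or.inl (mul_inv_eq_one.1 h1).symm
  right
  have h := hR (a * b⁻¹) (a * a) (orderOf_eq_prime (by rw [pow_two, hc]) h1) (hsq a ha)
    ((Commute.refl a).mul_right (Commute.refl a) |>.mul_left (hab.inv_right.symm.mul_right hab.inv_right.symm))
  exact inv_injective ((mul_left_cancel h).trans (inv_inv a).symm)

/-- There is no four-subgroup in 2-rank one. -/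
theorem no_klein {K : Type u} [Group K] [Finite K] (hR : BrauerSuzuki.RankOne K) (U : Subgroup K)
    (hU : IsKleinFour U) : False := by
  classical
  haveI := hU
  haveI := Fintype.ofFinite U
  haveI := klein_comm hU
  obtain ⟨u, hu⟩ : ∃ u : U, u ≠ 1 := by
    haveI : Nontrivial U := Finite.one_lt_card_iff_nontrivial.1 (by rw [hU.card_four]; norm_num)
    exact exists_ne 1
  obtain ⟨v, hv, hv'⟩ : ∃ v : U, v ≠ 1 ∧ v ≠ u := by
    by_contra h
    push Not at h
    have h' := Finset.card_le_card (s := (Finset.univ : Finset U)) (t := {1, u}) fun x _ => by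
      rw [Finset.mem_insert, Finset.mem_singleton]
      exact or_iff_not_imp_left.2 (h x)
    rw [Finset.card_univ, ← Nat.card_eq_fintype_card, hU.card_four] at h'
    exact absurd (h'.trans Finset.card_le_two) (by norm_num)
  have ho : ∀ w : U, w ≠ 1 → orderOf (w : K) = 2 := fun w hw => by
    rw [Subgroup.orderOf_coe]
    exact orderOf_eq_prime (by rw [pow_two]; exact IsKleinFour.mul_self w) hw
  exact hv' (Subtype.ext (hR _ _ (ho v hv) (ho u hu) (congrArg Subtype.val (mul_comm' v u))))

variable {K : Type u} [Group K] [Finite K]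

/-- The solvable case: `SL(2, 3)`. -/
theorem solvable_case (S : Sylow 2 K) {m : ℕ} (hm : 1 ≤ m)
    (e : (S : Subgroup K) ≃* QuaternionGroup (2 ^ m)) (hO : Cfsg.oddCore K = ⊥)
    (h2 : ∀ M : Subgroup K, M.index ≠ 2) (hsol : Group.IsSolvable K) :
    Nonempty (K ≃* Matrix.SpecialLinearGroup (Fin 2) (ZMod 3)) := by
  haveI : Fact (Nat.Prime 2) := ⟨Nat.prime_two⟩
  haveI := hsol
  have hn : 2 ≤ 2 ^ m := Nat.le_self_pow (by omega) 2
  obtain ⟨hR, D, hDS, -⟩ := BrauerSuzuki.exists_quaternion_data S hn e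
  have hcard : Nat.card (S : Subgroup K) = 8 * D.k := hDS ▸ D.card_S
  have hle : Subgroup.zpowers D.a ≤ (S : Subgroup K) := Subgroup.zpowers_le.2 (hDS ▸ D.a_mem)
  have hidx : ((Subgroup.zpowers D.a).subgroupOf (S : Subgroup K)).index = 2 := by
    have h := Subgroup.card_mul_index ((Subgroup.zpowers D.a).subgroupOf (S : Subgroup K))
    rw [Nat.card_congr (Subgroup.subgroupOfEquivOfLe hle).toEquiv, Nat.card_zpowers, D.order_a,
      hcard] at h
    have := D.k_pos
    nlinarith
  have hcm : CycMax (S : Subgroup K) D.a := by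
    refine ⟨S.2, hle (Subgroup.mem_zpowers _), fun x hx y hy hxn hyn => ?_, fun x hx hxn => ?_,
      fun U _ hU => ?_⟩
    · have := (Subgroup.mul_mem_iff_of_index_two hidx (a := (⟨x, hx⟩ : (S : Subgroup K))⁻¹)
        (b := ⟨y, hy⟩)).2 (iff_of_false (fun h => hxn (inv_mem_iff.1 h)) hyn)
      exact this
    · rw [show 4 = 2 * 2 from rfl, pow_mul, pow_two x, (D.out x (hDS.symm ▸ hx) hxn).1, ← pow_mul,
        show 2 * D.k * 2 = 4 * D.k by ring, ← D.order_a, pow_orderOf_eq_one]
    · exact (no_klein hR U hU).elim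
  haveI := Cfsg.pCore_normal 2 K
  have hC := FittingCores.centralizer_pCore_le (G := K) (p := 2) Nat.prime_two hO
  set R := Cfsg.pCore 2 K with hRdef
  have hRS : R ≤ (S : Subgroup K) := LEBasic.pCore_le_sylow S
  have h2dvd : 2 ∣ Nat.card K := by
    refine dvd_trans ?_ (Subgroup.card_subgroup_dvd_card (S : Subgroup K))
    rw [hcard]; exact dvd_mul_of_dvd_left (by norm_num) _
  obtain ⟨q, hq, hq2, hqd⟩ : ∃ q, q.Prime ∧ q ≠ 2 ∧ q ∣ Nat.card K := by
    by_contra h
    push Not at h
    have hp : IsPGroup 2 K := IsPGroup.of_card (Nat.eq_prime_pow_of_unique_prime_dvd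
      Nat.card_pos.ne' fun {d} hd hdd => by
        by_contra hd2
        exact h d hd hd2 hdd)
    obtain ⟨M, hM⟩ := Small.exists_index_eq_prime hp (by
      have := Nat.le_of_dvd Nat.card_pos h2dvd
      omega)
    exact h2 M hM
  haveI : Fact q.Prime := ⟨hq⟩
  have hnotC : ∀ w : K, orderOf w = q → w ∉ Subgroup.centralizer (R : Set K) := fun w hw hwC => by
    have h1 := PBasic.eq_one_of_isPGroup_of_coprime (LEBasic.pCore_isPGroup (p := 2)) (hC hwC)
      (by rw [hw]; exact (Nat.coprime_primes hq Nat.prime_two).2 hq2)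
    rw [h1, orderOf_one] at hw
    exact hq.ne_one hw.symm
  obtain ⟨w, hw⟩ := exists_prime_orderOf_dvd_card' q hqd
  rcases hcm.oddTrivial hRS with h | hK | ⟨⟨eR⟩⟩
  · exact absurd (h w (Subgroup.le_normalizer_of_normal (H := R) (K := ⊤) (Subgroup.mem_top w))
      (hw ▸ hq.odd_of_ne_two hq2)) (hnotC w hw)
  · exact (no_klein hR R hK).elim
  · have h6 := quat_relIndex_dvd eR
    rw [sup_eq_left.2 hC, Subgroup.normalizer_eq_top_iff.2 (inferInstance : R.Normal),
      Subgroup.relIndex_top_right] at h6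
    have hR8 : Nat.card R = 8 := by
      rw [Nat.card_congr eR.toEquiv, Nat.card_eq_fintype_card, QuaternionGroup.card]
    have hdiv : Nat.card K ∣ 48 := by
      rw [← Subgroup.card_mul_index R, hR8]
      exact Nat.mul_dvd_mul_left 8 h6
    have h3 : q = 3 := by
      have h1 : q ∣ 2 ^ 4 * 3 := hqd.trans (hdiv.trans (by norm_num))
      rcases hq.dvd_mul.1 h1 with h | h
      · exact absurd ((Nat.prime_dvd_prime_iff_eq hq Nat.prime_two).1 (hq.dvd_of_dvd_pow h)) hq2
      · exact (Nat.prime_dvd_prime_iff_eq hq Nat.prime_three).1 h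
    obtain ⟨U, -, ⟨eU⟩⟩ := LESolvDih.exists_sl23 eR hC (hw.trans h3)
    have hU : U = ⊤ := by
      have hcU : Nat.card U = 24 := by rw [Nat.card_congr eU.toEquiv, NearField.card_sl23]
      have h := U.card_mul_index
      rw [hcU] at h
      have hle' := Nat.le_of_dvd (by norm_num) hdiv
      have := h2 U
      have := Subgroup.index_ne_zero_of_finite (H := U)
      exact Subgroup.index_eq_one.1 (by omega)
    exact ⟨(Subgroup.topEquiv.symm.trans (MulEquiv.subgroupCongr hU.symm)).trans eU⟩

end Cfsg.Agent.GW
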