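import Cfsg.Agent.Lib.GW.KleinOrbit

/-!
The numerical end of the last configuration with a Sylow 2-subgroup of order eight: the degree fifteen
that the ratio identity leaves, and the count of linear constituents that rules it out.
-/

set_option autoImplicit false
set_option linter.unusedSectionVars false
set_option linter.style.haveILetI false

namespace Cfsg.Agent.GW

open Cfsg Cfsg.Agent.Char Cfsg.Agent.Blocks Cfsg.Agent.TwoFus
open scoped ComplexConjugate

universe u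

/-- When one class inverts three times as many elements as the other, the degree is fifteen. -/
theorem exotic_numeric {x e A B : ℤ} (he : e = 1 ∨ e = -1) (hxp : 0 < x) (hne : x ≠ e)
    (hx8 : 8 ∣ x - e) (hA : 8 ∣ A + 3 * e) (hB : 8 ∣ B + 3 * e) (hs : A + B = x + e)
    (hid : A * B * (x - e) ^ 2 = 4 * e * x * (A - B) ^ 2) : e = -1 ∧ x = 15 := by
  rcases he with rfl | rfl
  · exfalso
    have hx : 9 ≤ x := by omega
    have key : A * B * ((x - 1) ^ 2 + 16 * x) = 4 * x * (x + 1) ^ 2 := by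
      linear_combination hid + 4 * x * (A + B + x + 1) * hs
    have hAB : 0 < A * B := by
      have hR : 0 < 4 * x * (x + 1) ^ 2 := by positivity
      rw [← key] at hR
      exact pos_of_mul_pos_left hR (by positivity)
    have hApos : 5 ≤ A ∧ 5 ≤ B := by
      rcases pos_and_pos_or_neg_and_neg_of_mul_pos hAB with ⟨a, b⟩ | ⟨a, b⟩ <;> omega
    have hlow : 5 * (x - 4) ≤ A * B := by
      nlinarith [mul_nonneg (show 0 ≤ A - 5 by omega) (show 0 ≤ B - 5 by omega)]
    have h1 : 5 * (x - 4) * ((x - 1) ^ 2 + 16 * x) ≤ 4 * x * (x + 1) ^ 2 :=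
      key ▸ mul_le_mul_of_nonneg_right hlow (by positivity)
    nlinarith [mul_nonneg (show 0 ≤ x - 9 by omega) (mul_nonneg hxp.le hxp.le),
      mul_nonneg (show 0 ≤ x - 9 by omega) hxp.le]
  · refine ⟨rfl, ?_⟩
    have k2 : -(A * B) * (x ^ 2 - 14 * x + 1) = 4 * x * (x - 1) ^ 2 := by
      linear_combination -hid + 4 * x * (A + B + x - 1) * hs
    by_cases h7 : x = 7
    · exfalso
      subst h7
      have h21 : A * B = 21 := by norm_num at k2; omega
      nlinarith [sq_nonneg (A - B)]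
    have hx : 15 ≤ x := by omega
    have hp : 0 < x ^ 2 - 14 * x + 1 := by nlinarith
    have hneg : 0 < -(A * B) := by
      have hR : 0 < 4 * x * (x - 1) ^ 2 := by
        have : (x - 1 : ℤ) ≠ 0 := by omega
        positivity
      rw [← k2] at hR
      exact pos_of_mul_pos_left hR hp.le
    have hn : 5 * (x + 4) ≤ -(A * B) := by
      rcases mul_neg_iff.1 (by linarith : A * B < 0) with ⟨a, b⟩ | ⟨a, b⟩
      · nlinarith [mul_le_mul (show 5 ≤ -B by omega) (show x + 4 ≤ A by omega) (by omega) (by omega)]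
      · nlinarith [mul_le_mul (show 5 ≤ -A by omega) (show x + 4 ≤ B by omega) (by omega) (by omega)]
    have h1 : 5 * (x + 4) * (x ^ 2 - 14 * x + 1) ≤ 4 * x * (x - 1) ^ 2 :=
      k2 ▸ mul_le_mul_of_nonneg_right hn hp.le
    have h2 : x ≤ 47 := by
      by_contra hlt
      nlinarith [mul_nonneg (show 0 ≤ x - 48 by omega) (mul_nonneg hxp.le hxp.le),
        mul_nonneg (show 0 ≤ x - 48 by omega) hxp.le]
    generalize A * B = n at k2
    have h8 : x = 15 ∨ x = 23 ∨ x = 31 ∨ x = 39 ∨ x = 47 := by omega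
    rcases h8 with rfl | rfl | rfl | rfl | rfl <;> norm_num at k2 ⊢ <;> omega

/-! ## The constituents -/

section

variable {α : Type*}

theorem iterate_odd_of_sq {f : α → α} {ν : α} (h : f (f ν) = ν) (j : ℕ) : f^[2 * j + 1] ν = f ν := by
  induction j with
  | zero => rfl
  | succ j ih =>
    rw [show 2 * (j + 1) + 1 = 2 * j + 1 + 2 by ring, Function.iterate_add_apply]
    show f^[2 * j + 1] (f (f ν)) = f ν
    rw [h, ih]

end

theorem hom_ne_inv {X : Type u} [Group X] [Finite X] (hodd : Odd (Nat.card X)) {ν : X →* ℂˣ}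
    (hν : ν ≠ 1) : ν ≠ ν⁻¹ := by
  intro e
  refine hν (MonoidHom.ext fun f => ?_)
  have h1 : ν f ^ 2 = 1 := by
    have h := DFunLike.congr_fun e f
    rw [MonoidHom.inv_apply] at h
    rw [pow_two]
    nth_rewrite 1 [h]
    exact inv_mul_cancel _
  exact orderOf_eq_one_iff.1 (Nat.eq_one_of_dvd_coprimes (Nat.coprime_two_left.2 hodd)
    (orderOf_dvd_of_pow_eq_one h1) (orderOf_dvd_of_pow_eq_one (by
      rw [← map_pow, pow_card_eq_one', map_one])))

variable {G : Type u} [Group G] [Fintype G]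

/-- Conjugation on a subgroup by an element normalising it. -/
def conjOn (B : Subgroup G) (g : G) (hg : ∀ f ∈ B, g * f * g⁻¹ ∈ B) : B →* B where
  toFun f := ⟨g * f * g⁻¹, hg f f.2⟩
  map_one' := Subtype.ext (by simp)
  map_mul' f f' := Subtype.ext (by simp only [Subgroup.coe_mul]; group)

set_option maxHeartbeats 800000 in
/-- Sixteen linear constituents. -/
theorem orbit_sixteen (χ : IrrCharacter G) {B X : Subgroup G} {z a x k y : G} (hzz : z * z = 1)
    (hab : ∀ f ∈ B, ∀ f' ∈ B, f * f' = f' * f) (hBodd : Odd (Nat.card B)) (hXB : X ≤ B)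
    (hBz : ∀ f ∈ B, Commute f z) (hval : ∀ f ∈ B, (χ : G → ℂ) (z * f) = (χ : G → ℂ) z)
    (hker : ∀ f ∈ B, (χ : G → ℂ) f = (χ : G → ℂ) 1 → f = 1)
    (haB : ∀ f ∈ B, a * f * a⁻¹ ∈ B) (hxB : ∀ f ∈ B, x * f * x⁻¹ ∈ B)
    (hkB : ∀ f ∈ B, k * f * k⁻¹ ∈ B) (hkX : ∀ f ∈ X, k * f * k⁻¹ ∈ X)
    (haX : ∀ f ∈ X, a * f * a⁻¹ = f⁻¹) (hxX : ∀ f ∈ X, x * f * x⁻¹ = f)
    (hy : y ∈ B) (hy1 : y ≠ 1) (hky : k * y * k⁻¹ = y) (hay : a * y * a⁻¹ = y)
    (hxy : x * y * x⁻¹ = y⁻¹) (hkodd : Odd (orderOf k)) (hmove : ∃ f ∈ X, k * f * k⁻¹ ≠ f) :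
    16 ≤ charDegree (χ : G → ℂ) := by
  classical
  haveI : Fintype B := Fintype.ofFinite B
  have hXodd : Odd (Nat.card X) := hBodd.of_dvd_nat (Subgroup.card_dvd_of_le hXB)
  set r : B → ℂ := fun f => (χ : G → ℂ) f with hr
  have hrc : IsCharacter B r := IsCharacter.restrict (irr_isCharacter χ) B
  have hone : ∀ ψ : IrrCharacter B, (ψ : B → ℂ) 1 = 1 := fun ψ =>
    degree_one_of_comm (fun a b => Subtype.ext (hab a a.2 b b.2)) ψ.2
  have hlin : ∀ ψ : IrrCharacter B, ∃ μ : B →* ℂˣ, (ψ : B → ℂ) = fun f => (μ f : ℂ) := fun ψ =>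
    exists_hom_of_degree_one (IsIrrCharacter.isCharacter ψ.2) (hone ψ)
  choose m hm using fun ψ : IrrCharacter B =>
    IsCharacter.exists_classInner_nat hrc (IsIrrCharacter.isCharacter ψ.2)
  have hexp : ∀ f : B, r f = ∑ ψ : IrrCharacter B, (m ψ : ℂ) * (ψ : B → ℂ) f := fun f => by
    have h := congrFun (classFunction_eq_sum (IsCharacter.isClassFunction hrc)) f
    rw [h, Finset.sum_apply]
    exact Finset.sum_congr rfl fun ψ _ => by rw [Pi.smul_apply, smul_eq_mul, hm]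
  have htot : ∑ ψ : IrrCharacter B, m ψ = charDegree (χ : G → ℂ) := by
    have h := hexp 1
    simp only [hone, mul_one, hr, OneMemClass.coe_one, irr_one_eq_charDegree] at h
    exact_mod_cast h.symm
  let irr : (B →* ℂˣ) → IrrCharacter B := fun μ => ⟨fun f => (μ f : ℂ), isIrrCharacter_linear μ⟩
  have hirr : Function.Injective irr := fun μ ν e => MonoidHom.ext fun f => Units.ext
    (congrFun (congrArg Subtype.val e) f)
  -- a nontrivial constituent has even multiplicity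
  have htwo : ∀ μ : B →* ℂˣ, μ ≠ 1 → m (irr μ) ≠ 0 → 2 ≤ m (irr μ) := by
    intro μ hμ1 hμ0
    have hsum0 : ∑ f : B, conj ((μ f : ℂ)) = 0 := by
      obtain ⟨a, ha⟩ : ∃ a, μ a ≠ 1 := by
        by_contra h; push Not at h; exact hμ1 (MonoidHom.ext h)
      have h1 : ∑ f : B, (μ f : ℂ) = (μ a : ℂ) * ∑ f : B, (μ f : ℂ) := by
        rw [Finset.mul_sum]
        refine Eq.trans (Fintype.sum_equiv (Equiv.mulLeft a) _ _ fun f => rfl).symm
          (Finset.sum_congr rfl fun f _ => ?_)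
        simp only [Equiv.coe_mulLeft, map_mul, Units.val_mul]
      have h2 : ∑ f : B, (μ f : ℂ) = 0 := by
        by_contra h0
        exact ha (Units.ext ((mul_eq_right₀ h0).1 h1.symm))
      rw [← map_sum, h2, map_zero]
    have hβ := exists_eigenChar (H := B) (irr_isCharacter χ) hzz (fun f => hBz f f.2) (e := 1)
      (Or.inl rfl)
    obtain ⟨n, hn⟩ := IsCharacter.exists_classInner_nat hβ
      (IsIrrCharacter.isCharacter (irr μ).2)
    have h1 := hm (irr μ)
    simp only [classInner] at h1 hn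
    rw [Finset.sum_congr rfl (g := fun f : B =>
      (2 : ℂ)⁻¹ * (r f * conj ((irr μ : B → ℂ) f)) + (χ : G → ℂ) z / 2 * conj ((μ f : ℂ)))
      fun f _ => by
        rw [hval f f.2, hr]
        show _ = _ + _ * conj ((irr μ : B → ℂ) f)
        push_cast
        ring,
      Finset.sum_add_distrib, ← Finset.mul_sum, ← Finset.mul_sum, hsum0, mul_zero, add_zero,
      mul_left_comm, h1] at hn
    have h2 : (m (irr μ) : ℂ) = ((2 * n : ℕ) : ℂ) := by push_cast; rw [← hn]; ring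
    have h3 : m (irr μ) = 2 * n := by exact_mod_cast h2
    omega
  -- the support is invariant
  let Supp : (B →* ℂˣ) → Prop := fun μ => m (irr μ) ≠ 0 ∧ μ ≠ 1
  have hsupp : ∀ (g : G) (hg : ∀ f ∈ B, g * f * g⁻¹ ∈ B) (μ : B →* ℂˣ), Supp μ →
      Supp (μ.comp (conjOn B g hg)) := by
    rintro g hg μ ⟨hμ0, hμ1⟩
    have hφ : Function.Bijective (conjOn B g hg) := Finite.injective_iff_bijective.1 fun a b e =>
      Subtype.ext (mul_left_cancel (mul_right_cancel (congrArg Subtype.val e)))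
    refine ⟨?_, fun e => hμ1 (MonoidHom.ext fun f => ?_)⟩
    · have h1 := hm (irr (μ.comp (conjOn B g hg)))
      have h2 := hm (irr μ)
      simp only [classInner] at h1 h2
      have h3 : (m (irr (μ.comp (conjOn B g hg))) : ℂ) = (m (irr μ) : ℂ) := by
        rw [← h1, ← h2]
        congr 1
        refine Fintype.sum_bijective _ hφ _ _ fun f => ?_
        show r f * conj ((μ (conjOn B g hg f) : ℂ)) = r (conjOn B g hg f) * conj ((μ (conjOn B g hg f) : ℂ))
        congr 1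
        exact (irr_conj_invariant χ _ _).symm
      intro h4
      rw [h4] at h3
      exact hμ0 (by exact_mod_cast h3.symm)
    · obtain ⟨f', rfl⟩ := hφ.2 f
      exact DFunLike.congr_fun e f'
  -- an element off the kernel is seen by the support
  have hsee : ∀ f : B, (f : G) ≠ 1 → ∃ μ, Supp μ ∧ μ f ≠ 1 := by
    intro f hf
    by_contra hno
    push Not at hno
    refine hf (hker f f.2 ?_)
    rw [show (χ : G → ℂ) (f : G) = r f from rfl, show (χ : G → ℂ) 1 = r 1 from rfl, hexp f, hexp 1]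
    refine Finset.sum_congr rfl fun ψ _ => ?_
    by_cases h0 : m ψ = 0
    · rw [h0, Nat.cast_zero, zero_mul, zero_mul]
    congr 1
    obtain ⟨μ, hμ⟩ := hlin ψ
    have hψ : irr μ = ψ := Subtype.ext hμ.symm
    rw [hone, hμ]
    show (μ f : ℂ) = 1
    by_cases hμ1 : μ = 1
    · rw [hμ1]; rfl
    · rw [hno μ ⟨by rwa [hψ], hμ1⟩, Units.val_one]
  -- tags
  let iX : X →* B := Subgroup.inclusion hXB
  let σ : (X →* ℂˣ) → (X →* ℂˣ) := fun ν => ν.comp (conjOn X k hkX)
  let T : (B →* ℂˣ) → (X →* ℂˣ) × ℂˣ := fun μ => (μ.comp iX, μ ⟨y, hy⟩)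
  have hTk : ∀ μ, T (μ.comp (conjOn B k hkB)) = (σ (T μ).1, (T μ).2) := fun μ =>
    Prod.ext (MonoidHom.ext fun f => rfl) (congrArg μ (Subtype.ext hky))
  have hTa : ∀ μ, T (μ.comp (conjOn B a haB)) = ((T μ).1⁻¹, (T μ).2) := fun μ =>
    Prod.ext (MonoidHom.ext fun f => by
      show μ ⟨a * (f : G) * a⁻¹, _⟩ = (μ (iX f))⁻¹
      rw [← map_inv]
      exact congrArg μ (Subtype.ext (haX f f.2))) (congrArg μ (Subtype.ext hay))
  have hTx : ∀ μ, T (μ.comp (conjOn B x hxB)) = ((T μ).1, (T μ).2⁻¹) := fun μ =>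
    Prod.ext (MonoidHom.ext fun f => congrArg μ (Subtype.ext (hxX f f.2))) (by
      show μ ⟨x * y * x⁻¹, _⟩ = (μ ⟨y, hy⟩)⁻¹
      rw [← map_inv]
      exact congrArg μ (Subtype.ext hxy))
  have hσinv : ∀ ν, σ ν⁻¹ = (σ ν)⁻¹ := fun ν => MonoidHom.ext fun f => rfl
  have hσinj : Function.Injective σ := fun ν ν' e => MonoidHom.ext fun f => by
    obtain ⟨f', rfl⟩ := (Finite.injective_iff_surjective.1 (fun a b e =>
      Subtype.ext (mul_left_cancel (mul_right_cancel (congrArg Subtype.val e))) :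
        Function.Injective (conjOn X k hkX))) f
    exact DFunLike.congr_fun e f'
  have hiter : ∀ (n : ℕ) (ν : X →* ℂˣ) (f : X) (hf : k ^ n * (f : G) * (k ^ n)⁻¹ ∈ X),
      (σ^[n]) ν f = ν ⟨k ^ n * (f : G) * (k ^ n)⁻¹, hf⟩ := by
    intro n
    induction n with
    | zero => intro ν f hf; exact congrArg ν (Subtype.ext (by simp))
    | succ n ih =>
      intro ν f hf
      have e : k * (k ^ n * (f : G) * (k ^ n)⁻¹) * k⁻¹ = k ^ (n + 1) * (f : G) * (k ^ (n + 1))⁻¹ := by
        rw [pow_succ']; group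
      have hf' : k ^ n * (f : G) * (k ^ n)⁻¹ ∈ X := by
        have : ∀ (j : ℕ), k ^ j * (f : G) * (k ^ j)⁻¹ ∈ X := fun j => by
          induction j with
          | zero => simp
          | succ j ihj =>
            rw [pow_succ', show k * k ^ j * (f : G) * (k * k ^ j)⁻¹ =
              k * (k ^ j * (f : G) * (k ^ j)⁻¹) * k⁻¹ by group]
            exact hkX _ ihj
        exact this n
      rw [Function.iterate_succ_apply, ih (σ ν) f hf']
      exact congrArg ν (Subtype.ext e)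
  obtain ⟨j, hj⟩ := hkodd
  have hper : ∀ ν : X →* ℂˣ, σ^[2 * j + 1] ν = ν := fun ν => MonoidHom.ext fun f => by
    have hf : k ^ (2 * j + 1) * (f : G) * (k ^ (2 * j + 1))⁻¹ = f := by
      rw [← hj, pow_orderOf_eq_one, one_mul, inv_one, mul_one]
    rw [hiter _ ν f (by rw [hf]; exact f.2)]
    exact congrArg ν (Subtype.ext hf)
  -- a constituent moved by `k`
  obtain ⟨f, hfX, hf⟩ := hmove
  obtain ⟨μ, hμ, hμc⟩ := hsee ⟨k * f * k⁻¹ * f⁻¹, mul_mem (hkB f (hXB hfX)) (inv_mem (hXB hfX))⟩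
    fun e => hf (mul_inv_eq_one.1 e)
  set ν := (T μ).1 with hνdef
  set c := (T μ).2 with hcdef
  have d1 : σ ν ≠ ν := by
    intro e
    have h := DFunLike.congr_fun e (⟨f, hfX⟩ : X)
    refine hμc ?_
    rw [show (⟨k * f * k⁻¹ * f⁻¹, _⟩ : B) = iX (conjOn X k hkX ⟨f, hfX⟩) * (iX ⟨f, hfX⟩)⁻¹ from rfl,
      map_mul, map_inv]
    exact mul_inv_eq_one.2 h
  have hν1 : ν ≠ 1 := fun e => d1 (by rw [e]; exact MonoidHom.ext fun _ => rfl)
  have d2 : σ (σ ν) ≠ ν := fun e => d1 ((iterate_odd_of_sq e j).symm.trans (hper ν))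
  have hii : ∀ ν' : X →* ℂˣ, ν'⁻¹⁻¹ = ν' := fun ν' => MonoidHom.ext fun f => inv_inv _
  have hiinj : ∀ {α β : X →* ℂˣ}, α⁻¹ = β⁻¹ → α = β := fun {α β} e => by rw [← hii α, e, hii]
  have d3 : σ ν ≠ ν⁻¹ := fun e => d2 (by rw [e, hσinv, e, hii])
  have d4 : σ (σ ν) ≠ ν⁻¹ := fun e => d2 (by
    have h4 : (σ ∘ σ) ((σ ∘ σ) ν) = ν := by
      show σ (σ (σ (σ ν))) = ν
      rw [e, hσinv, hσinv, e, hii]
    have h5 := iterate_odd_of_sq h4 j
    have h6 : σ ∘ σ = σ^[2] := rfl
    rw [h6, ← Function.iterate_mul, mul_comm, Function.iterate_mul, Function.iterate_fixed (hper ν)] at h5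
    exact h5.symm)
  have i0 : ν ≠ ν⁻¹ := hom_ne_inv hXodd hν1
  have i1 : σ ν ≠ (σ ν)⁻¹ := fun e => i0 (hσinj (by rw [hσinv]; exact e))
  have i2 : σ (σ ν) ≠ (σ (σ ν))⁻¹ := fun e => i1 (hσinj (by rw [hσinv]; exact e))
  have e12 : σ ν ≠ σ (σ ν) := fun e => d1 (hσinj e.symm)
  have e15 : σ ν ≠ (σ (σ ν))⁻¹ := fun e => by
    rw [← hσinv] at e
    exact d3 ((hii _).symm.trans (by rw [← hσinj e]))
  have e03 : ν ≠ (σ ν)⁻¹ := fun e => d3 ((hii _).symm.trans (by rw [← e]))
  have e04 : ν ≠ (σ (σ ν))⁻¹ := fun e => d4 ((hii _).symm.trans (by rw [← e]))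
  have e21 : σ (σ ν) ≠ (σ ν)⁻¹ := fun e => d3 (hσinj (by rw [hσinv]; exact e))
  have e34 : ν⁻¹ ≠ (σ ν)⁻¹ := fun e => d1 (hiinj e).symm
  have e35 : ν⁻¹ ≠ (σ (σ ν))⁻¹ := fun e => d2 (hiinj e).symm
  have e45 : (σ ν)⁻¹ ≠ (σ (σ ν))⁻¹ := fun e => e12 (hiinj e)
  -- eight constituents
  let ck := conjOn B k hkB
  let ca := conjOn B a haB
  let cx := conjOn B x hxB
  obtain ⟨L, hL, hlen, hnd⟩ : ∃ L : List (B →* ℂˣ), (∀ μ' ∈ L, Supp μ') ∧ L.length = 8 ∧
      (L.map T).Nodup := by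
    have s1 := hsupp k hkB μ hμ
    have s2 := hsupp k hkB _ s1
    by_cases hc : c = 1
    · obtain ⟨μ', hμ', hμy⟩ := hsee ⟨y, hy⟩ hy1
      have hc' : (T μ').2 ≠ (T μ').2⁻¹ := by
        intro e
        refine hμy ?_
        have h1 : (T μ').2 ^ 2 = 1 := by
          rw [pow_two]
          nth_rewrite 1 [e]
          exact inv_mul_cancel _
        exact orderOf_eq_one_iff.1 (Nat.eq_one_of_dvd_coprimes (Nat.coprime_two_left.2 hBodd)
          (orderOf_dvd_of_pow_eq_one h1) (orderOf_dvd_of_pow_eq_one (by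
            show μ' ⟨y, hy⟩ ^ Nat.card B = 1
            rw [← map_pow, pow_card_eq_one', map_one])))
      refine ⟨[μ, μ.comp ck, (μ.comp ck).comp ck, μ.comp ca, (μ.comp ck).comp ca,
        ((μ.comp ck).comp ck).comp ca, μ', μ'.comp cx], ?_, rfl, ?_⟩
      · intro μ'' h
        simp only [List.mem_cons, List.not_mem_nil, or_false] at h
        rcases h with rfl | rfl | rfl | rfl | rfl | rfl | rfl | rfl
        exacts [hμ, s1, s2, hsupp a haB _ hμ, hsupp a haB _ s1, hsupp a haB _ s2, hμ', hsupp x hxB _ hμ']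
      · have hc'' : (T μ').2 ≠ 1 := hμy
        simp only [List.map_cons, List.map_nil, ck, ca, cx, hTk, hTa, hTx, ← hνdef, ← hcdef, hc,
          List.nodup_cons, List.mem_cons, List.not_mem_nil, or_false, List.nodup_nil, and_true,
          Prod.ext_iff, not_or, not_and]
        simp [inv_inj, d1, d1.symm, d2, d2.symm, d3, d3.symm, d4, d4.symm, i0, i1, i2, e12, e15, e03, e04, e21, e34, e35, e45,
          hc', hc'', hc''.symm, inv_eq_one, eq_comm (a := (1 : ℂˣ))]
    · have hc' : c ≠ c⁻¹ := by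
        intro e
        refine hc ?_
        have h1 : c ^ 2 = 1 := by rw [pow_two]; nth_rewrite 1 [e]; exact inv_mul_cancel _
        exact orderOf_eq_one_iff.1 (Nat.eq_one_of_dvd_coprimes (Nat.coprime_two_left.2 hBodd)
          (orderOf_dvd_of_pow_eq_one h1) (orderOf_dvd_of_pow_eq_one (by
            show μ ⟨y, hy⟩ ^ Nat.card B = 1
            rw [← map_pow, pow_card_eq_one', map_one])))
      refine ⟨[μ, μ.comp ck, (μ.comp ck).comp ck, μ.comp ca, (μ.comp ck).comp ca,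
        ((μ.comp ck).comp ck).comp ca, μ.comp cx, (μ.comp ca).comp cx], ?_, rfl, ?_⟩
      · intro μ'' h
        simp only [List.mem_cons, List.not_mem_nil, or_false] at h
        rcases h with rfl | rfl | rfl | rfl | rfl | rfl | rfl | rfl
        exacts [hμ, s1, s2, hsupp a haB _ hμ, hsupp a haB _ s1, hsupp a haB _ s2, hsupp x hxB _ hμ,
          hsupp x hxB _ (hsupp a haB _ hμ)]
      · simp only [List.map_cons, List.map_nil, ck, ca, cx, hTk, hTa, hTx, ← hνdef, ← hcdef,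
          List.nodup_cons, List.mem_cons, List.not_mem_nil, or_false, List.nodup_nil, and_true,
          Prod.ext_iff, not_or, not_and]
        simp [inv_inj, d1, d1.symm, d2, d2.symm, d3, d3.symm, d4, d4.symm, i0, i1, i2, e12, e15, e03, e04, e21, e34, e35, e45, hc',
          hc'.symm]
  have hndL : L.Nodup := hnd.of_map T
  have h1 : ∑ ψ ∈ L.toFinset.image irr, m ψ ≤ ∑ ψ : IrrCharacter B, m ψ :=
    Finset.sum_le_sum_of_subset (Finset.subset_univ _)
  rw [Finset.sum_image hirr.injOn, htot] at h1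
  have h2 : ∑ _μ ∈ L.toFinset, 2 ≤ ∑ μ ∈ L.toFinset, m (irr μ) :=
    Finset.sum_le_sum fun μ hμ => htwo μ (hL μ (List.mem_toFinset.1 hμ)).2 (hL μ (List.mem_toFinset.1 hμ)).1
  rw [Finset.sum_const, List.toFinset_card_of_nodup hndL, hlen, smul_eq_mul] at h2
  omega

end Cfsg.Agent.GW
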