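import Cfsg.Agent.Lib.GW.LinearIso
import Cfsg.Agent.Lib.Char.RootUnityPSingular
import Cfsg.Agent.Lib.DGroup.Ratio
import Mathlib.GroupTheory.NoncommCoprod
import Mathlib.GroupTheory.GroupAction.ConjAct
import Mathlib.GroupTheory.Perm.Sign

/-!
A character of small degree that is a multiple of the linear character on the section of the
central involution: the odd core of the centralizer is abelian and the Sylow subgroup fixes only
the identity in it.
-/

set_option linter.unusedSectionVars false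
set_option linter.style.haveILetI false

namespace Cfsg.Agent.GW

open Cfsg Cfsg.Agent.Blocks Cfsg.Agent.Char Cfsg.Agent.Star Cfsg.Agent.TwoFus
open scoped ComplexConjugate

universe u

variable {G : Type u} [Group G] [Fintype G]

/-! ## Simple groups -/

theorem hom_comm_trivial [IsSimpleGroup G] (hnc : ¬ ∀ a b : G, a * b = b * a) {A : Type*}
    [CommGroup A] (f : G →* A) (g : G) : f g = 1 := by
  rcases f.normal_ker.eq_bot_or_eq_top with h | h
  · exact absurd (fun a b => (MonoidHom.ker_eq_bot_iff f).1 h (by rw [map_mul, map_mul, mul_comm])) hnc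
  · exact MonoidHom.mem_ker.1 (h ▸ Subgroup.mem_top g)

theorem center_eq_one [IsSimpleGroup G] (hnc : ¬ ∀ a b : G, a * b = b * a) {g : G}
    (hg : g ∈ Subgroup.center G) : g = 1 := by
  rcases (inferInstance : (Subgroup.center G).Normal).eq_bot_or_eq_top with h | h
  · rwa [h, Subgroup.mem_bot] at hg
  · exact absurd (fun a b => (Subgroup.mem_center_iff.1 (h ▸ Subgroup.mem_top b) a)) hnc

theorem eq_principal_of_deg_one [IsSimpleGroup G] (hnc : ¬ ∀ a b : G, a * b = b * a)
    {χ : IrrCharacter G} (h : charDegree (χ : G → ℂ) = 1) : χ = principal G := by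
  obtain ⟨f, hf⟩ := exists_hom_of_degree_one (irr_isCharacter χ)
    (by rw [irr_one_eq_charDegree, h, Nat.cast_one])
  refine Subtype.ext (funext fun g => ?_)
  rw [congrFun hf g, hom_comm_trivial hnc f g]
  rfl

theorem faithful_of_simple [IsSimpleGroup G] {χ : IrrCharacter G}
    (hd : charDegree (χ : G → ℂ) ≠ 1) {g : G} (hg : (χ : G → ℂ) g = (χ : G → ℂ) 1) : g = 1 := by
  obtain ⟨K, hK, hmem, -⟩ := IsCharacter.exists_kernel (irr_isCharacter χ)
  rcases hK.eq_bot_or_eq_top with h | h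
  · exact Subgroup.mem_bot.1 (h ▸ (hmem g).2 hg)
  · exfalso
    have hall : ∀ a : G, (χ : G → ℂ) a = (χ : G → ℂ) 1 := fun a => (hmem a).1 (h ▸ Subgroup.mem_top a)
    have h1 := classInner_self_irr χ.2
    simp only [classInner, hall, irr_one_eq_charDegree, map_natCast, Finset.sum_const,
      Finset.card_univ, nsmul_eq_mul, ← Nat.card_eq_fintype_card] at h1
    rw [inv_mul_cancel_left₀ (Nat.cast_ne_zero.2 Nat.card_pos.ne')] at h1
    exact hd (Nat.eq_one_of_mul_eq_one_left (by exact_mod_cast h1))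

/-- A simple group with a subgroup of index between two and five has order not divisible by eight. -/
theorem not_eight_dvd [IsSimpleGroup G] (hnc : ¬ ∀ a b : G, a * b = b * a) (D : Subgroup G)
    (h1 : D ≠ ⊤) (h5 : D.index ≤ 5) (h8 : 8 ∣ Nat.card G) : False := by
  classical
  set f : G →* Equiv.Perm (G ⧸ D) := MulAction.toPermHom G (G ⧸ D) with hf
  have hinj : Function.Injective f := by
    refine (MonoidHom.ker_eq_bot_iff f).1 ?_
    rcases f.normal_ker.eq_bot_or_eq_top with h | h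
    · exact h
    · exfalso
      refine h1 (eq_top_iff.2 fun g _ => ?_)
      have hg : f g = 1 := MonoidHom.mem_ker.1 (h ▸ Subgroup.mem_top g)
      have := congrArg (fun s : Equiv.Perm (G ⧸ D) => s (QuotientGroup.mk 1)) hg
      simp only [hf, MulAction.toPermHom_apply, MulAction.toPerm_apply, Equiv.Perm.coe_one, id] at this
      rw [MulAction.Quotient.smul_mk, QuotientGroup.eq, smul_eq_mul, mul_one, mul_one] at this
      simpa using this
  haveI : Fintype (G ⧸ D) := Fintype.ofFinite _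
  have halt : f.range ≤ alternatingGroup (G ⧸ D) := by
    rintro _ ⟨g, rfl⟩
    rw [Equiv.Perm.mem_alternatingGroup]
    exact hom_comm_trivial hnc (Equiv.Perm.sign.comp f) g
  have h2 : 2 ≤ D.index := by
    have h0 : D.index ≠ 0 := Subgroup.index_ne_zero_of_finite
    have h1' : D.index ≠ 1 := fun e => h1 (Subgroup.index_eq_one.1 e)
    omega
  haveI : Nontrivial (G ⧸ D) := Fintype.one_lt_card_iff_nontrivial.1 (by
    rw [← Nat.card_eq_fintype_card]; exact h2)
  have hd := Subgroup.card_dvd_of_le halt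
  rw [← Nat.card_congr (MonoidHom.ofInjective hinj).toEquiv] at hd
  have h3 : 2 * 8 ∣ 2 * Nat.card (alternatingGroup (G ⧸ D)) := Nat.mul_dvd_mul_left 2 (h8.trans hd)
  rw [two_mul_nat_card_alternatingGroup, Nat.card_perm, show Nat.card (G ⧸ D) = D.index from rfl] at h3
  interval_cases D.index <;> norm_num [Nat.factorial] at h3

/-! ## Eigenspaces of an involution -/

theorem exists_eigenChar {H : Subgroup G} [Fintype H] {χ : G → ℂ} (hχ : IsCharacter G χ) {z : G}
    (hzz : z * z = 1) (hc : ∀ w : H, Commute (w : G) z) {e : ℤ} (he : e = 1 ∨ e = -1) :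
    IsCharacter H fun w => (χ w + e * χ (z * w)) / 2 := by
  classical
  obtain ⟨n, ρ, rfl⟩ := hχ
  set T : Module.End ℂ (Fin n → ℂ) := (2 : ℂ)⁻¹ • (1 + (e : ℂ) • ρ z) with hT
  have hsq : ρ z * ρ z = 1 := by rw [← map_mul, hzz, map_one]
  have hee : (e : ℂ) * (e : ℂ) = 1 := by rcases he with rfl | rfl <;> norm_num
  have hTT : T * T = T := by
    simp only [hT, smul_mul_smul_comm, mul_add, add_mul, one_mul, mul_one, hsq, hee]
    module
  have hcomm : ∀ w : H, ρ (w : G) * T = T * ρ (w : G) := fun w => by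
    have h := congrArg ρ (hc w).eq
    rw [map_mul, map_mul] at h
    simp only [hT, mul_smul_comm, smul_mul_assoc, mul_add, add_mul, one_mul, mul_one, h]
  let W : Submodule ℂ (Fin n → ℂ) := LinearMap.range T
  have hW : ∀ w : H, ∀ v ∈ W, ρ (w : G) v ∈ W := by
    rintro w _ ⟨u, rfl⟩
    exact ⟨ρ (w : G) u, (LinearMap.congr_fun (hcomm w) u).symm⟩
  let σ : Representation ℂ H W :=
    { toFun := fun w => (ρ (w : G)).restrict (hW w)
      map_one' := by ext v; simp
      map_mul' := fun a b => by ext v; simp }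
  have hch : σ.character = fun w : H => (ρ.character w + e * ρ.character (z * (w : G))) / 2 := by
    funext w
    have hfix : ∀ v ∈ W, T v = v := by
      rintro _ ⟨u, rfl⟩
      rw [← Module.End.mul_apply, hTT]
    have hrange : ∀ v, (ρ (w : G) * T) v ∈ W := fun v => hW w _ ⟨v, rfl⟩
    have h1 : σ.character w = LinearMap.trace ℂ (Fin n → ℂ) (ρ (w : G) * T) := by
      rw [← LinearMap.trace_restrict_eq_of_forall_mem W _ hrange]
      unfold Representation.character
      congr 1
      refine LinearMap.ext fun v => Subtype.ext ?_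
      show ρ (w : G) (v : Fin n → ℂ) = ρ (w : G) (T (v : Fin n → ℂ))
      rw [hfix _ v.2]
    rw [h1]
    simp only [hT, mul_smul_comm, mul_add, mul_one, ← map_mul, map_smul, map_add,
      Representation.character, (hc w).eq, smul_eq_mul]
    ring
  rw [← hch]
  exact isCharacter_of_rep σ

theorem exists_two_linear {H : Type u} [Group H] [Fintype H] (hodd : Odd (Nat.card H)) {β : H → ℂ}
    (hβ : IsCharacter H β) (h2 : β 1 = 2) :
    ∃ l₁ l₂ : H →* ℂˣ, β = fun g => (l₁ g : ℂ) + (l₂ g : ℂ) := by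
  classical
  obtain ⟨n, hn⟩ := IsCharacter.exists_decomp hβ
  have hsum : ∑ θ : IrrCharacter H, n θ * charDegree (θ : H → ℂ) = 2 := by
    have := congrFun hn 1
    simp only [Finset.sum_apply, Pi.smul_apply, smul_eq_mul, irr_one_eq_charDegree, h2] at this
    exact_mod_cast this.symm
  have hlin : ∀ θ : IrrCharacter H, n θ ≠ 0 → ∃ l : H →* ℂˣ, (θ : H → ℂ) = fun g => (l g : ℂ) := by
    intro θ hθ
    refine exists_hom_of_degree_one (irr_isCharacter θ) ?_
    have h1 : n θ * charDegree (θ : H → ℂ) ≤ 2 := hsum ▸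
      Finset.single_le_sum (f := fun θ => n θ * charDegree (θ : H → ℂ)) (fun _ _ => Nat.zero_le _)
        (Finset.mem_univ θ)
    have h2' : charDegree (θ : H → ℂ) ≠ 2 := fun e => hodd.not_two_dvd_nat
      (e ▸ Cfsg.Agent.CharX.irr_deg_dvd_card θ)
    have h3 := charDegree_pos θ
    have h4 : charDegree (θ : H → ℂ) ≤ 2 :=
      (Nat.le_mul_of_pos_left _ (Nat.pos_of_ne_zero hθ)).trans h1
    rw [irr_one_eq_charDegree, show charDegree (θ : H → ℂ) = 1 by omega, Nat.cast_one]
  obtain ⟨θ₁, h₁⟩ : ∃ θ, n θ ≠ 0 := by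
    by_contra hc
    push Not at hc
    simp [hc] at hsum
  obtain ⟨l₁, hl₁⟩ := hlin θ₁ h₁
  have hd₁ : charDegree (θ₁ : H → ℂ) = 1 := by
    have := irr_one_eq_charDegree θ₁
    rw [congrFun hl₁ 1, map_one, Units.val_one] at this
    exact_mod_cast this.symm
  rw [← Finset.add_sum_erase _ _ (Finset.mem_univ θ₁), hd₁, mul_one] at hsum
  rcases (show n θ₁ = 2 ∨ n θ₁ = 1 by omega) with e | e
  · refine ⟨l₁, l₁, ?_⟩
    rw [hn, ← Finset.add_sum_erase _ _ (Finset.mem_univ θ₁),
      Finset.sum_eq_zero (fun θ hθ => ?_), add_zero, e]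
    · funext g
      simp [hl₁, two_mul]
    · have h0 : n θ * charDegree (θ : H → ℂ) = 0 := by
        have := Finset.single_le_sum (f := fun θ => n θ * charDegree (θ : H → ℂ))
          (fun _ _ => Nat.zero_le _) hθ
        omega
      simp [(mul_eq_zero.1 h0).resolve_right (charDegree_pos θ).ne']
  · obtain ⟨θ₂, hθ₂, h₂⟩ : ∃ θ ∈ Finset.univ.erase θ₁, n θ ≠ 0 := by
      by_contra hc
      push Not at hc
      rw [Finset.sum_eq_zero (fun θ hθ => by rw [hc θ hθ, zero_mul])] at hsum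
      omega
    obtain ⟨l₂, hl₂⟩ := hlin θ₂ h₂
    have hd₂ : charDegree (θ₂ : H → ℂ) = 1 := by
      have := irr_one_eq_charDegree θ₂
      rw [congrFun hl₂ 1, map_one, Units.val_one] at this
      exact_mod_cast this.symm
    rw [← Finset.add_sum_erase _ _ hθ₂, hd₂, mul_one] at hsum
    have e2 : n θ₂ = 1 := by omega
    refine ⟨l₁, l₂, ?_⟩
    rw [hn, ← Finset.add_sum_erase _ _ (Finset.mem_univ θ₁), ← Finset.add_sum_erase _ _ hθ₂,
      Finset.sum_eq_zero (fun θ hθ => ?_), add_zero, e, e2]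
    · funext g
      simp [hl₁, hl₂]
    · have h0 : n θ * charDegree (θ : H → ℂ) = 0 := by
        have := Finset.single_le_sum (f := fun θ => n θ * charDegree (θ : H → ℂ))
          (fun _ _ => Nat.zero_le _) hθ
        omega
      simp [(mul_eq_zero.1 h0).resolve_right (charDegree_pos θ).ne']

/-- Two unordered pairs of linear characters with equal sums agree on squares and values. -/
theorem pair_eq_of_sums {a b a' b' : ℂ} (h : a + b = a' + b') (h2 : a * a + b * b = a' * a' + b' * b') :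
    (a = a' ∧ b = b') ∨ (a = b' ∧ b = a') := by
  have hp : (a - a') * (a - b') = 0 := by linear_combination (a - (a' + b' + a + b) / 2) * h + h2 / 2
  rcases mul_eq_zero.1 hp with e | e
  · exact Or.inl ⟨sub_eq_zero.1 e, by linear_combination h - e⟩
  · exact Or.inr ⟨sub_eq_zero.1 e, by linear_combination h - e⟩

variable {P : Sylow 2 G} {d : Dih (P : Subgroup G)}

namespace LinCtx

open LinBase (P_le dz_mem inf_centralizer_le lamF bLin)

variable (c : LinCtx P d)

theorem mul_pi_decomp {g : G} (hg : g ∈ secC d.z) :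
    ∃ w ∈ c.U, ∃ s ∈ (P : Subgroup G), g = w * s :=
  ⟨_, c.div_pi_mem ⟨g, hg⟩, _, (c.pi ⟨g, hg⟩).2, by simp⟩

theorem conj_to_z (c : LinCtx P d) {v : G} (hv : v ∈ (P : Subgroup G)) (hvv : v * v = 1) (hv1 : v ≠ 1) :
    IsConj d.z v := by
  by_cases h : v = d.z
  · rw [h]
  · obtain ⟨k, hk, -⟩ := c.coh v hv hvv hv1 h
    exact isConj_iff.2 ⟨k, hk⟩

theorem one_class (c : LinCtx P d) (a b : G) (ha : orderOf a = 2) (hb : orderOf b = 2) :
    IsConj a b := by
  have key : ∀ a : G, orderOf a = 2 → IsConj d.z a := fun a ha => by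
    obtain ⟨g, hg⟩ := exists_conj_mem P (k := 1) (by rw [pow_one]; exact ha)
    have ho : orderOf (g * a * g⁻¹) = 2 := by rw [← ha]; exact (MulAut.conj g).orderOf_eq a
    refine (c.conj_to_z hg ?_ fun e => ?_).trans (isConj_iff.2 ⟨g, rfl⟩).symm
    · rw [← pow_two, ← ho, pow_orderOf_eq_one]
    · rw [e, orderOf_one] at ho; omega
  exact (key a ha).symm.trans (key b hb)

variable [IsSimpleGroup G] (hnc : ¬ ∀ a b : G, a * b = b * a) {χ : IrrCharacter G} {k : ℤ}
  (hdeg : (charDegree (χ : G → ℂ) : ℤ) = k + 4) (hk : k = -1 ∨ k = 1 ∨ k = 2)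
  (hval : ∀ w ∈ c.U, (χ : G → ℂ) (d.z * w) = (k : ℂ) * c.lamF w)

include hnc hdeg hk hval

theorem exists_pair : ∃ l₁ l₂ : c.U →* ℂˣ,
    ∀ w : c.U, (χ : G → ℂ) w = 2 * ((l₁ w : ℂ) + (l₂ w : ℂ)) + (k : ℂ) * c.lamF w := by
  classical
  haveI : Fintype c.U := Fintype.ofFinite _
  have hc : ∀ w : c.U, Commute (w : G) d.z := fun w => mem_secC.1 (c.le w.2)
  have h := exists_eigenChar (H := c.U) (irr_isCharacter χ) d.zz hc (e := -1) (Or.inr rfl)
  have hone : (c.lamF ((1 : c.U) : G)) = 1 := by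
    rw [OneMemClass.coe_one, c.lamF_mem (one_mem _),
      show (⟨1, one_mem (secC d.z)⟩ : secC d.z) = 1 from rfl, map_one, Units.val_one]
  obtain ⟨l₁, l₂, he⟩ := exists_two_linear c.odd h (by
    rw [OneMemClass.coe_one] at hone
    rw [OneMemClass.coe_one, hval _ (one_mem c.U), hone, irr_one_eq_charDegree,
      show ((charDegree (χ : G → ℂ) : ℂ)) = (k : ℂ) + 4 by exact_mod_cast hdeg]
    push_cast
    ring)
  refine ⟨l₁, l₂, fun w => ?_⟩
  have h2 := congrFun he w
  simp only [hval _ w.2] at h2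
  push_cast at h2
  linear_combination 2 * h2

theorem eq_one_of_values {l₁ l₂ : c.U →* ℂˣ}
    (hl : ∀ w : c.U, (χ : G → ℂ) w = 2 * ((l₁ w : ℂ) + (l₂ w : ℂ)) + (k : ℂ) * c.lamF w)
    (w : c.U) (h1 : l₁ w = 1) (h2 : l₂ w = 1) (h3 : c.lamF w = 1) : w = 1 := by
  refine Subtype.ext (faithful_of_simple (χ := χ) (by omega) ?_)
  rw [hl, h1, h2, h3, irr_one_eq_charDegree,
    show ((charDegree (χ : G → ℂ) : ℂ)) = (k : ℂ) + 4 by exact_mod_cast hdeg, Units.val_one]
  ring

theorem abelian (a b : c.U) : a * b = b * a := by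
  obtain ⟨l₁, l₂, hl⟩ := c.exists_pair hnc hdeg hk hval
  have key : ∀ {A : Type} [CommGroup A] (f : c.U →* A), f (a * b * (b * a)⁻¹) = 1 := fun f => by
    rw [map_mul, map_inv, map_mul, map_mul, mul_comm (f b), mul_inv_cancel]
  refine mul_inv_eq_one.1 (c.eq_one_of_values hnc hdeg hk hval hl _ (key l₁) (key l₂) ?_)
  rw [c.lamF_mem (c.le (a * b * (b * a)⁻¹).2)]
  have h := key (c.lin.comp (Subgroup.inclusion c.le))
  rw [show (⟨_, c.le (a * b * (b * a)⁻¹).2⟩ : secC d.z) =
    Subgroup.inclusion c.le (a * b * (b * a)⁻¹) from rfl]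
  exact congrArg Units.val h

/-- Outside the four group case some element moving the involution centralises the fixed points. -/
theorem exists_centralising {h : ℕ} (hh : d.m = 2 * h) (hev : 2 ∣ h) {v : G}
    (hv : v ∈ (P : Subgroup G)) (hvv : v * v = 1) (hv1 : v ≠ 1) (hvz : v ≠ d.z) :
    ∃ g : G, g * d.z * g⁻¹ = v ∧ ∀ w ∈ c.U, Commute w v → g * w * g⁻¹ = w := by
  classical
  obtain ⟨g, hgz, hgN, hgcoh⟩ := c.coh v hv hvv hv1 hvz
  have hzv : Commute d.z v := (d.z_comm hv).symm
  set V := Subgroup.closure ({d.z, v} : Set G) with hV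
  have hmemV : ∀ q ∈ V, q = 1 ∨ q = d.z ∨ q = v ∨ q = d.z * v := by
    intro q hq
    induction hq using Subgroup.closure_induction with
    | mem q hq => rcases hq with rfl | rfl <;> simp
    | one => simp
    | mul a b _ _ ha hb =>
      have e1 : d.z * (d.z * v) = v := by rw [← mul_assoc, d.zz, one_mul]
      have e2 : v * (d.z * v) = d.z := by rw [← mul_assoc, ← hzv.eq, mul_assoc, hvv, mul_one]
      have e3 : d.z * v * d.z = v := by rw [hzv.eq, mul_assoc, d.zz, mul_one]
      have e4 : d.z * v * v = d.z := by rw [mul_assoc, hvv, mul_one]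
      have e5 : d.z * v * (d.z * v) = 1 := by rw [← mul_assoc, e3, hvv]
      rcases ha with rfl | rfl | rfl | rfl <;> rcases hb with rfl | rfl | rfl | rfl <;>
        simp [d.zz, hvv, e1, e2, e3, e4, e5, hzv.eq.symm]
    | inv a _ ha =>
      have i1 : d.z⁻¹ = d.z := inv_eq_of_mul_eq_one_right d.zz
      have i2 : v⁻¹ = v := inv_eq_of_mul_eq_one_right hvv
      rcases ha with rfl | rfl | rfl | rfl <;> simp [i1, i2, mul_inv_rev, hzv.eq]
  have hgv : g * v * g⁻¹ = d.z ∨ g * v * g⁻¹ = d.z * v := by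
    have hin : g * v * g⁻¹ ∈ V :=
      (Subgroup.mem_normalizer_iff.1 hgN v).1 (Subgroup.subset_closure (Set.mem_insert_of_mem _ rfl))
    rcases hmemV _ hin with e | e | e | e
    · exact absurd (conj_eq_one_iff.1 e) hv1
    · exact Or.inl e
    · exact absurd (mul_right_injective g (mul_left_injective g⁻¹ (e.trans hgz.symm))) hvz
    · exact Or.inr e
  -- a rotation exchanging the other two involutions
  obtain ⟨q, hq⟩ := hev
  obtain ⟨i, hi⟩ : ∃ i : ℤ, v = d.x ^ i * d.y := by
    rcases d.cases v hv with ⟨i, hi⟩ | h'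
    · rcases d.sq_cases (hi ▸ Subgroup.zpow_mem_zpowers d.x i) hvv with e | e
      · exact absurd e hv1
      · exact absurd e hvz
    · exact h'
  set s := d.x ^ (q : ℤ) with hs
  have hsP : s ∈ (P : Subgroup G) := zpow_mem d.hx _
  have hsz : s * d.z * s⁻¹ = d.z := by rw [d.z_comm hsP, mul_inv_cancel_right]
  have hsv : s * v * s⁻¹ = d.z * v := by
    rw [hi, hs, DihBlock.z_eq d hh, ← zpow_natCast d.x h, ← mul_assoc (d.x ^ (q : ℤ)), ← zpow_add,
      mul_assoc, ← zpow_neg, d.swap, neg_neg, ← mul_assoc, ← zpow_add, ← mul_assoc, ← zpow_add]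
    congr 2
    push_cast [hq]
    ring
  -- the element of order three on the four group
  have hG : ∀ w ∈ c.U, Commute w v → g * w * g⁻¹ ∈ c.U → c.lamF (g * w * g⁻¹) = c.lamF w :=
    fun w hw hcw hw' => c.lamF_coh hgcoh hw hw' hcw
  obtain ⟨r, hrz, hrv, hrlam⟩ : ∃ r : G, r * d.z * r⁻¹ = v ∧ r * v * r⁻¹ = d.z * v ∧
      ∀ w ∈ c.U, Commute w v → r * w * r⁻¹ ∈ c.U → c.lamF (r * w * r⁻¹) = c.lamF w := by
    rcases hgv with e | e
    · have hgzv : g * (d.z * v) * g⁻¹ = d.z * v := by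
        rw [show g * (d.z * v) * g⁻¹ = g * d.z * g⁻¹ * (g * v * g⁻¹) by group, hgz, e, hzv.eq]
      refine ⟨g * s, ?_, ?_, fun w hw hcw hw' => ?_⟩
      · rw [show g * s * d.z * (g * s)⁻¹ = g * (s * d.z * s⁻¹) * g⁻¹ by group, hsz, hgz]
      · rw [show g * s * v * (g * s)⁻¹ = g * (s * v * s⁻¹) * g⁻¹ by group, hsv, hgzv]
      · have hwz : Commute w d.z := mem_secC.1 (c.le hw)
        have h1 : s * w * s⁻¹ ∈ c.U := c.conj_mem s (P_le hsP) w hw
        have h2 : Commute (s * w * s⁻¹) v := by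
          have hw3 : Commute w (d.z * v) := hwz.mul_right hcw
          have e3 : s * (d.z * v) * s⁻¹ = v := by
            rw [show s * (d.z * v) * s⁻¹ = s * d.z * s⁻¹ * (s * v * s⁻¹) by group, hsz, hsv,
              ← mul_assoc, d.zz, one_mul]
          have h3 := congrArg (fun t => s * t * s⁻¹) hw3.eq
          show s * w * s⁻¹ * v = v * (s * w * s⁻¹)
          conv_lhs => rw [← e3]
          conv_rhs => rw [← e3]
          calc s * w * s⁻¹ * (s * (d.z * v) * s⁻¹) = s * (w * (d.z * v)) * s⁻¹ := by group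
            _ = s * (d.z * v * w) * s⁻¹ := h3
            _ = s * (d.z * v) * s⁻¹ * (s * w * s⁻¹) := by group
        have e4 : g * s * w * (g * s)⁻¹ = g * (s * w * s⁻¹) * g⁻¹ := by group
        rw [e4] at hw' ⊢
        rw [hG _ h1 h2 hw', c.lamF_conj (P_le hsP)]
    · exact ⟨g, hgz, e, hG⟩
  -- the fixed points are stable
  have hstab : ∀ w ∈ c.U, Commute w v → r * w * r⁻¹ ∈ c.U ∧ Commute (r * w * r⁻¹) v := by
    intro w hw hcw
    have hwz : Commute w d.z := mem_secC.1 (c.le hw)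
    have hcc : ∀ t, Commute w t → Commute (r * w * r⁻¹) (r * t * r⁻¹) := fun t ht =>
      ht.map (MulAut.conj r).toMonoidHom
    have h1 := hcc _ hwz
    have h2 := hcc _ hcw
    rw [hrz] at h1
    rw [hrv] at h2
    have h3 : Commute (r * w * r⁻¹) d.z := by
      have := h2.mul_right h1
      rwa [show d.z * v * v = d.z by rw [mul_assoc, hvv, mul_one]] at this
    refine ⟨(c.mem_U_iff (mem_secC.2 h3.eq)).2 ?_, h1⟩
    rw [show r * w * r⁻¹ = MulAut.conj r w from rfl, MulEquiv.orderOf_eq]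
    exact (c.mem_U_iff (c.le hw)).1 hw
  obtain ⟨l₁, l₂, hl⟩ := c.exists_pair hnc hdeg hk hval
  let W : Subgroup G := c.U ⊓ Subgroup.centralizer ({v} : Set G)
  have hW : ∀ w : W, (w : G) ∈ c.U ∧ Commute (w : G) v := fun w =>
    ⟨w.2.1, Subgroup.mem_centralizer_singleton_iff.1 w.2.2⟩
  let σ : W →* W :=
    MonoidHom.codRestrict ((MulAut.conj r).toMonoidHom.comp W.subtype) W fun w =>
      ⟨(hstab _ (hW w).1 (hW w).2).1,
        Subgroup.mem_centralizer_singleton_iff.2 (hstab _ (hW w).1 (hW w).2).2.eq⟩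
  let a : W →* ℂˣ := l₁.comp (Subgroup.inclusion inf_le_left)
  let b : W →* ℂˣ := l₂.comp (Subgroup.inclusion inf_le_left)
  have hsum : ∀ w : W, (a (σ w) : ℂ) + b (σ w) = a w + b w := fun w => by
    have h1 := hl (Subgroup.inclusion inf_le_left (σ w))
    have h2 := hl (Subgroup.inclusion inf_le_left w)
    have e : (χ : G → ℂ) (σ w : G) = (χ : G → ℂ) (w : G) := irr_conj_invariant χ (w : G) r
    have e' : c.lamF (σ w : G) = c.lamF (w : G) :=
      hrlam _ (hW w).1 (hW w).2 (hstab _ (hW w).1 (hW w).2).1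
    simp only [Subgroup.coe_inclusion, e, e'] at h1 h2
    show (l₁ _ : ℂ) + l₂ _ = l₁ _ + l₂ _
    linear_combination (h2 - h1) / 2
  have hAB : ∀ w : W, (a (σ w) = a w ∧ b (σ w) = b w) ∨ (a (σ w) = b w ∧ b (σ w) = a w) := fun w => by
    have h2 := hsum (w * w)
    rw [map_mul σ] at h2
    simp only [map_mul, Units.val_mul] at h2
    rcases pair_eq_of_sums (hsum w) h2 with ⟨e1, e2⟩ | ⟨e1, e2⟩
    · exact Or.inl ⟨Units.ext e1, Units.ext e2⟩
    · exact Or.inr ⟨Units.ext e1, Units.ext e2⟩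
  have hσσ : ∀ w : W, a (σ (σ w)) = a w ∧ b (σ (σ w)) = b w := by
    by_cases hA : ∀ w : W, a (σ w) = a w ∧ b (σ w) = b w
    · exact fun w => ⟨(hA _).1.trans (hA w).1, (hA _).2.trans (hA w).2⟩
    · push Not at hA
      obtain ⟨w₀, hw₀⟩ := hA
      have hB : ∀ w : W, a (σ w) = b w ∧ b (σ w) = a w := fun w => by
        by_contra hnot
        have hw := (hAB w).resolve_right hnot
        have hw0 := (hAB w₀).resolve_left fun e => hw₀ e.1 e.2
        rcases hAB (w * w₀) with ⟨e1, e2⟩ | ⟨e1, e2⟩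
        · simp only [map_mul, hw.1, hw.2, mul_right_inj] at e1 e2
          exact hw₀ e1 e2
        · simp only [map_mul, hw0.1, hw0.2, mul_left_inj] at e1 e2
          exact hnot ⟨e1, e2⟩
      exact fun w => ⟨(hB _).1.trans (hB w).2, (hB _).2.trans (hB w).1⟩
  have hr2 : ∀ w : W, σ (σ w) = w := fun w => by
    refine mul_inv_eq_one.1 (Subtype.ext ?_)
    have h := c.eq_one_of_values hnc hdeg hk hval hl
      (Subgroup.inclusion inf_le_left (σ (σ w) * w⁻¹)) ?_ ?_ ?_
    · simpa using congrArg Subtype.val h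
    · show a _ = 1
      rw [map_mul, (hσσ w).1, map_inv, mul_inv_cancel]
    · show b _ = 1
      rw [map_mul, (hσσ w).2, map_inv, mul_inv_cancel]
    · have e1 := hrlam _ (hW w).1 (hW w).2 (hstab _ (hW w).1 (hW w).2).1
      have e2 := hrlam _ (hW (σ w)).1 (hW (σ w)).2 (hstab _ (hW (σ w)).1 (hW (σ w)).2).1
      let L : W →* ℂˣ := c.lin.comp (Subgroup.inclusion (inf_le_left.trans c.le))
      have hL : ∀ t : W, c.lamF (t : G) = (L t : ℂ) := fun t => c.lamF_mem _
      have e3 : L (σ (σ w)) = L w := Units.ext (by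
        rw [← hL, ← hL]
        exact e2.trans e1)
      show c.lamF ((σ (σ w) * w⁻¹ : W) : G) = 1
      rw [hL, map_mul, e3, map_inv, mul_inv_cancel, Units.val_one]
  refine ⟨r * r * (r * r), ?_, fun w hw hcw => ?_⟩
  · have h3 : r * (d.z * v) * r⁻¹ = d.z := by
      rw [show r * (d.z * v) * r⁻¹ = r * d.z * r⁻¹ * (r * v * r⁻¹) by group, hrz, hrv,
        ← mul_assoc, ← hzv.eq, mul_assoc, hvv, mul_one]
    calc r * r * (r * r) * d.z * (r * r * (r * r))⁻¹
        = r * (r * (r * (r * d.z * r⁻¹) * r⁻¹) * r⁻¹) * r⁻¹ := by group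
      _ = v := by rw [hrz, hrv, h3, hrz]
  · have h1 := congrArg (Subtype.val)
      (hr2 ⟨w, hw, Subgroup.mem_centralizer_singleton_iff.2 hcw.eq⟩)
    have h2 : r * (r * w * r⁻¹) * r⁻¹ = w := h1
    calc r * r * (r * r) * w * (r * r * (r * r))⁻¹
        = r * (r * (r * (r * w * r⁻¹) * r⁻¹) * r⁻¹) * r⁻¹ := by group
      _ = w := by rw [h2, h2]

/-- For a group of order eight or more the Sylow subgroup fixes only the identity. -/
theorem fixed_trivial {h : ℕ} (hh : d.m = 2 * h) (hev : 2 ∣ h) {w : G} (hw : w ∈ c.U)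
    (hfix : ∀ s ∈ (P : Subgroup G), Commute w s) : w = 1 := by
  classical
  haveI : Fact (Nat.Prime 2) := ⟨Nat.prime_two⟩
  set D := Subgroup.centralizer ({w} : Set G) with hD
  have hPD : (P : Subgroup G) ≤ D := fun s hs =>
    Subgroup.mem_centralizer_singleton_iff.2 (hfix s hs).symm.eq
  have hCD : Subgroup.centralizer ({d.z} : Set G) ≤ D := fun g hg => by
    obtain ⟨u, hu, s, hs, rfl⟩ := c.mul_pi_decomp (g := g) (by rw [secC_eq]; exact hg)
    refine mul_mem (Subgroup.mem_centralizer_singleton_iff.2 ?_) (hPD hs)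
    exact congrArg Subtype.val (c.abelian hnc hdeg hk hval ⟨u, hu⟩ ⟨w, hw⟩)
  have key : ∀ a ∈ D, orderOf a = 2 → ∃ k ∈ D, k * d.z * k⁻¹ = a := by
    intro a ha ho
    obtain ⟨g, hg⟩ := exists_conj_mem (P.subtype hPD) (a := (⟨a, ha⟩ : D)) (k := 1)
      (by rw [Subgroup.orderOf_mk, pow_one]; exact ho)
    have hg' : (g : G) * a * (g : G)⁻¹ ∈ (P : Subgroup G) := by
      rw [Sylow.coe_subtype, Subgroup.mem_subgroupOf] at hg
      exact hg
    set v := (g : G) * a * (g : G)⁻¹ with hv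
    have hvo : orderOf v = 2 := by rw [hv, ← ho]; exact (MulAut.conj (g : G)).orderOf_eq a
    have hvv : v * v = 1 := by rw [← pow_two, ← hvo, pow_orderOf_eq_one]
    have hv1 : v ≠ 1 := fun e => by rw [e, orderOf_one] at hvo; omega
    obtain ⟨r, hr, hrz⟩ : ∃ r ∈ D, r * d.z * r⁻¹ = v := by
      by_cases hvz : v = d.z
      · exact ⟨1, one_mem _, by simp [hvz]⟩
      · obtain ⟨r, hrz, hrw⟩ := c.exists_centralising hnc hdeg hk hval hh hev hg' hvv hv1 hvz
        exact ⟨r, Subgroup.mem_centralizer_singleton_iff.2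
          (mul_inv_eq_iff_eq_mul.1 (hrw w hw (hfix v hg'))), hrz⟩
    refine ⟨(g : G)⁻¹ * r, mul_mem (inv_mem g.2) hr, ?_⟩
    rw [show (g : G)⁻¹ * r * d.z * ((g : G)⁻¹ * r)⁻¹ = (g : G)⁻¹ * (r * d.z * r⁻¹) * g by group,
      hrz, hv]
    group
  have h5 := DGroup.index_le_five P d c.one_class hPD hCD fun a ha b hb hao hbo => by
    obtain ⟨r, hr, ea⟩ := key a ha hao
    obtain ⟨r', hr', eb⟩ := key b hb hbo
    refine ⟨r' * r⁻¹, mul_mem hr' (inv_mem hr), ?_⟩
    rw [← ea, ← eb]
    group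
  have h8 : 8 ∣ Nat.card G := by
    refine dvd_trans ?_ (P : Subgroup G).card_subgroup_dvd_card
    rw [d.card, hh]
    obtain ⟨q, rfl⟩ := hev
    exact ⟨q, by ring⟩
  by_cases htop : D = ⊤
  · refine center_eq_one hnc (Subgroup.mem_center_iff.2 fun g => ?_)
    exact Subgroup.mem_centralizer_singleton_iff.1 (show g ∈ D by rw [htop]; trivial)
  · exact (not_eight_dvd hnc D htop h5 h8).elim

/-- For a four group already each reflection fixes only the identity. -/
theorem klein_fixed (hm : d.m = 2) (hk1 : k = -1) {w : G} (hw : w ∈ c.U)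
    (hfix : ∀ s ∈ (P : Subgroup G), Commute w s) : w = 1 := by
  classical
  haveI : Fintype (P : Subgroup G) := Fintype.ofFinite _
  subst hk1
  have hq : ∀ s : (P : Subgroup G), s ≠ 1 →
      (χ : G → ℂ) ((s : G) * w) = -c.lamF w ∧ (χ : G → ℂ) s = -1 := by
    intro s hs
    have hs1 : (s : G) ≠ 1 := fun e => hs (Subtype.ext e)
    have hss : (s : G) * s = 1 := by
      rcases d.cases _ s.2 with ⟨i, hi⟩ | ⟨i, hi⟩
      · rw [hi, ← zpow_add, d.zpow_eq_one, hm]; exact ⟨i, by push_cast; ring⟩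
      · rw [hi, d.form_sq]
    have key : ∀ u ∈ c.U, Commute u (s : G) → (∃ k : G, k * d.z * k⁻¹ = (s : G) ∧
        k⁻¹ * u * k ∈ c.U ∧ c.lamF (k⁻¹ * u * k) = c.lamF u) := by
      intro u hu hcu
      by_cases hz : (s : G) = d.z
      · exact ⟨1, by simp [hz], by simpa using hu, by simp⟩
      obtain ⟨k, hkz, hkN, hkcoh⟩ := c.coh _ s.2 hss hs1 hz
      set V := Subgroup.closure ({d.z, (s : G)} : Set G) with hV
      have huV : u ∈ Subgroup.centralizer (V : Set G) := by
        rw [hV, Subgroup.centralizer_closure, Subgroup.mem_centralizer_iff]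
        rintro t (rfl | rfl)
        · exact (mem_secC.1 (c.le hu)).symm
        · exact hcu.symm.eq
      have hW : BrauerPairs.cjS k (Subgroup.centralizer (V : Set G)) = Subgroup.centralizer (V : Set G) := by
        rw [BrauerPairs.cjS_centralizer, BrauerPairs.cjS_eq_of_mem_normalizer hkN]
      have hu' : k⁻¹ * u * k ∈ Subgroup.centralizer (V : Set G) := by
        rw [← BrauerPairs.mem_cjS, hW]; exact huV
      have hu'C : k⁻¹ * u * k ∈ secC d.z :=
        mem_secC.2 (Subgroup.mem_centralizer_iff.1 hu' d.z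
          (Subgroup.subset_closure (Set.mem_insert _ _))).symm
      have hu'U : k⁻¹ * u * k ∈ c.U := by
        rw [c.mem_U_iff hu'C, show k⁻¹ * u * k = MulAut.conj k⁻¹ u by simp, MulEquiv.orderOf_eq]
        exact (c.mem_U_iff (c.le hu)).1 hu
      refine ⟨k, hkz, hu'U, ?_⟩
      have e : k * (k⁻¹ * u * k) * k⁻¹ = u := by group
      have h1 := c.lamF_coh hkcoh hu'U (by rw [e]; exact hu)
        (Subgroup.mem_centralizer_iff.1 hu' (s : G)
          (Subgroup.subset_closure (Set.mem_insert_of_mem _ rfl))).symm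
      rw [e] at h1
      exact h1.symm
    have hval' : ∀ u ∈ c.U, Commute u (s : G) → (χ : G → ℂ) ((s : G) * u) = -c.lamF u := by
      intro u hu hcu
      obtain ⟨k, hkz, hku, hlam⟩ := key u hu hcu
      rw [show (s : G) * u = k * (d.z * (k⁻¹ * u * k)) * k⁻¹ by rw [← hkz]; group,
        irr_conj_invariant, hval _ hku, hlam]
      push_cast
      ring
    refine ⟨hval' w hw (hfix _ s.2), ?_⟩
    have := hval' 1 (one_mem _) (Commute.one_left _)
    rwa [mul_one, c.lamF_mem (one_mem _), show (⟨1, one_mem (secC d.z)⟩ : secC d.z) = 1 from rfl,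
      map_one, Units.val_one] at this
  obtain ⟨n, ρ, hρ, hρe⟩ := χ.2
  set T : Module.End ℂ (Fin n → ℂ) := ∑ s : (P : Subgroup G), ρ (s : G) with hT
  have hcard : Fintype.card (P : Subgroup G) = 4 := by
    rw [← Nat.card_eq_fintype_card, d.card, hm]
  have hTs : ∀ s : (P : Subgroup G), ρ (s : G) * T = T := fun s => by
    rw [hT, Finset.mul_sum]
    refine Fintype.sum_equiv (Equiv.mulLeft s) _ _ fun t => ?_
    rw [Equiv.coe_mulLeft, Subgroup.coe_mul, map_mul]
  have htr : ∀ g : G, LinearMap.trace ℂ _ (ρ g) = (χ : G → ℂ) g := fun g => congrFun hρe g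
  have htrT : LinearMap.trace ℂ _ T = 0 := by
    rw [hT, map_sum, Finset.sum_congr rfl fun (s : (P : Subgroup G)) _ => htr (s : G),
      ← Finset.add_sum_erase _ _ (Finset.mem_univ (1 : (P : Subgroup G))),
      Finset.sum_congr rfl fun s hs => (hq s (Finset.mem_erase.1 hs).1).2, Finset.sum_const,
      Finset.card_erase_of_mem (Finset.mem_univ _), Finset.card_univ, hcard, OneMemClass.coe_one,
      irr_one_eq_charDegree, show ((charDegree (χ : G → ℂ) : ℂ)) = ((-1 + 4 : ℤ) : ℂ) by exact_mod_cast hdeg]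
    norm_num
  have hTT : T * T = (4 : ℂ) • T := by
    conv_lhs => rw [hT]
    rw [Finset.sum_mul, Finset.sum_congr rfl fun s _ => hTs s, Finset.sum_const, Finset.card_univ,
      hcard, ← Nat.cast_smul_eq_nsmul ℂ]
    norm_num
  have hT0 : T = 0 := by
    set E : Module.End ℂ (Fin n → ℂ) := (4 : ℂ)⁻¹ • T with hE
    have hEE : E * E = E := by rw [hE, smul_mul_smul_comm, hTT, smul_smul]; norm_num
    have hp : LinearMap.IsProj (LinearMap.range E) E :=
      ⟨fun x => LinearMap.mem_range_self E x, by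
        rintro _ ⟨x, rfl⟩
        rw [← Module.End.mul_apply, hEE]⟩
    have h1 := hp.trace
    rw [hE, map_smul, htrT, smul_zero, eq_comm, Nat.cast_eq_zero, ← hE,
      Submodule.finrank_eq_zero, LinearMap.range_eq_bot] at h1
    rw [hE] at h1
    exact (smul_eq_zero.1 h1).resolve_left (by norm_num)
  have h0 : ∑ s : (P : Subgroup G), (χ : G → ℂ) ((s : G) * w) = 0 := by
    rw [Finset.sum_congr rfl fun (s : (P : Subgroup G)) _ => (htr ((s : G) * w)).symm, ← map_sum,
      Finset.sum_congr rfl (fun (s : (P : Subgroup G)) _ => map_mul ρ (s : G) w), ← Finset.sum_mul,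
      ← hT, hT0, zero_mul, map_zero]
  rw [← Finset.add_sum_erase _ _ (Finset.mem_univ (1 : (P : Subgroup G))),
    Finset.sum_congr rfl fun s hs => (hq s (Finset.mem_erase.1 hs).1).1, Finset.sum_const,
    Finset.card_erase_of_mem (Finset.mem_univ _), Finset.card_univ, hcard, OneMemClass.coe_one,
    one_mul] at h0
  norm_num at h0
  have hw3 : (χ : G → ℂ) w = 3 * c.lamF w := by linear_combination h0
  refine center_eq_one hnc (Cfsg.Agent.RootUnity.mem_center_of_norm χ.2 (fun g hg => faithful_of_simple (by omega) hg) ?_)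
  have hn : ‖c.lamF w‖ = 1 := by
    rw [c.lamF_mem (c.le hw)]
    refine norm_eq_one_of_pow (Nat.card_pos (α := secC d.z)).ne' ?_
    rw [← Units.val_pow_eq_pow_val, ← map_pow, pow_card_eq_one', map_one, Units.val_one]
  rw [hw3, norm_mul, hn, mul_one, Complex.norm_ofNat, irr_one_eq_charDegree,
    show ((charDegree (χ : G → ℂ) : ℂ)) = ((-1 + 4 : ℤ) : ℂ) by exact_mod_cast hdeg]
  norm_num

/-- The linear character is trivial. -/
theorem lamF_eq_one {h : ℕ} (hh : d.m = 2 * h) (hev : h = 1 ∧ k = -1 ∨ 2 ∣ h) {w : G}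
    (hw : w ∈ c.U) : c.lamF w = 1 := by
  classical
  letI : CommGroup c.U :=
    { (inferInstance : Group c.U) with mul_comm := c.abelian hnc hdeg hk hval }
  haveI : Fintype (P : Subgroup G) := Fintype.ofFinite _
  have hfixed : ∀ t ∈ c.U, (∀ s ∈ (P : Subgroup G), Commute t s) → t = 1 := fun t ht hf => by
    rcases hev with ⟨rfl, hk1⟩ | hev
    · exact c.klein_fixed hnc hdeg hk hval hh hk1 ht hf
    · exact c.fixed_trivial hnc hdeg hk hval hh hev ht hf
  let act : ↥(P : Subgroup G) → c.U →* c.U := fun s =>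
    MonoidHom.codRestrict ((MulAut.conj (s : G)).toMonoidHom.comp c.U.subtype) c.U
      fun t => c.conj_mem _ (P_le s.2) _ t.2
  have hact : ∀ (s : (P : Subgroup G)) (t : c.U), ((act s t : c.U) : G) = s * t * (s : G)⁻¹ :=
    fun _ _ => rfl
  set N : c.U := ∏ s : (P : Subgroup G), act s ⟨w, hw⟩ with hN
  have hN1 : N = 1 := by
    refine Subtype.ext (hfixed _ N.2 fun t ht => ?_)
    have e : act ⟨t, ht⟩ N = N := by
      rw [hN, map_prod]
      refine Fintype.prod_equiv (Equiv.mulLeft (⟨t, ht⟩ : (P : Subgroup G))) _ _ fun s => ?_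
      refine Subtype.ext ?_
      simp only [hact, Equiv.coe_mulLeft, Subgroup.coe_mul]
      group
    have e2 := congrArg Subtype.val e
    rw [hact] at e2
    exact (mul_inv_eq_iff_eq_mul.1 e2).symm
  let L : c.U →* ℂˣ := c.lin.comp (Subgroup.inclusion c.le)
  have hL : ∀ t : c.U, (L t : ℂ) = c.lamF (t : G) := fun t => (c.lamF_mem (c.le t.2)).symm
  have hinv : ∀ s : (P : Subgroup G), L (act s ⟨w, hw⟩) = L ⟨w, hw⟩ := fun s =>
    Units.ext (by rw [hL, hL, hact, c.lamF_conj (P_le s.2)])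
  have hpow : L ⟨w, hw⟩ ^ Nat.card (P : Subgroup G) = 1 := by
    have := congrArg L hN1
    rw [hN, map_prod, Finset.prod_congr rfl fun s _ => hinv s, Finset.prod_const, Finset.card_univ,
      map_one, ← Nat.card_eq_fintype_card] at this
    exact this
  have hpow' : L ⟨w, hw⟩ ^ Nat.card c.U = 1 := by rw [← map_pow, pow_card_eq_one', map_one]
  have hL1 : L ⟨w, hw⟩ = 1 := by
    obtain ⟨n, hn⟩ := IsPGroup.iff_card.1 P.2
    rw [hn] at hpow
    exact orderOf_eq_one_iff.1 (Nat.eq_one_of_dvd_coprimes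
      (((Nat.prime_two.coprime_iff_not_dvd).2 c.odd.not_two_dvd_nat).pow_left n)
      (orderOf_dvd_of_pow_eq_one hpow) (orderOf_dvd_of_pow_eq_one hpow'))
  rw [← hL ⟨w, hw⟩, hL1, Units.val_one]

end LinCtx

end Cfsg.Agent.GW
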