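import Cfsg.Agent.Lib.GW.RatioCount
import Cfsg.Agent.Lib.Blocks.Degree

/-!
The identity between the degrees of the principal block of a group with one class of involutions
and dihedral Sylow 2-subgroups and the indices of the centralisers of the two classes of four-groups.
-/

set_option linter.unusedSectionVars false
set_option linter.style.haveILetI false

namespace Cfsg.Agent.GW

open Cfsg Cfsg.Agent.TwoFus Cfsg.Agent.Blocks Cfsg.Agent.Char MonoidAlgebra
open scoped ComplexConjugate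

universe u

variable {G : Type u} [Group G] [Fintype G] {P : Sylow 2 G} (d : Dih (P : Subgroup G))

/-- A sum over the Sylow subgroup. -/
theorem sum_sylow [Fintype (P : Subgroup G)] (f : G → ℂ) :
    ∑ s : (P : Subgroup G), f s =
      ∑ l ∈ Finset.range d.m, f (d.x ^ l) + ∑ l ∈ Finset.range d.m, f (d.x ^ (l : ℤ) * d.y) := by
  classical
  let g : Fin d.m ⊕ Fin d.m → (P : Subgroup G) := Sum.elim
    (fun l => ⟨d.x ^ (l : ℕ), pow_mem d.hx _⟩)
    (fun l => ⟨d.x ^ ((l : ℕ) : ℤ) * d.y, DihBlock.form_mem d _⟩)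
  have hinj : ∀ {i j : Fin d.m}, d.x ^ (i : ℕ) = d.x ^ (j : ℕ) → i = j := fun {i j} e =>
    Fin.ext (pow_injOn_Iio_orderOf (by rw [Set.mem_Iio, d.hm]; exact i.2)
      (by rw [Set.mem_Iio, d.hm]; exact j.2) e)
  have hg : Function.Bijective g := by
    rw [Nat.bijective_iff_injective_and_card]
    refine ⟨?_, by simp only [Nat.card_sum, Nat.card_fin]; rw [d.card, two_mul]⟩
    rintro (i | i) (j | j) e <;> have e' := congrArg Subtype.val e <;>
      simp only [g, Sum.elim_inl, Sum.elim_inr] at e'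
    · rw [hinj e']
    · exact absurd (e' ▸ pow_mem (Subgroup.mem_zpowers d.x) _) (d.form_not_mem _)
    · exact absurd (e'.symm ▸ pow_mem (Subgroup.mem_zpowers d.x) _) (d.form_not_mem _)
    · rw [mul_left_inj, zpow_natCast, zpow_natCast] at e'
      rw [hinj e']
  rw [← Fintype.sum_bijective g hg (fun a => f (g a : G)) (fun s => f (s : G)) (fun _ => rfl),
    Fintype.sum_sum_type, ← Fin.sum_univ_eq_sum_range, ← Fin.sum_univ_eq_sum_range]
  rfl

theorem sum_neg_one_Ico {h : ℕ} (hev : 2 ∣ h) (h2 : 2 ≤ h) :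
    ∑ j ∈ Finset.Ico 1 h, (-1 : ℂ) ^ j = -1 := by
  obtain ⟨k, rfl⟩ := hev
  have key : ∀ k : ℕ, ∑ j ∈ Finset.range (2 * k), (-1 : ℂ) ^ j = 0 := fun k => by
    induction k with
    | zero => simp
    | succ k ih =>
      rw [show 2 * (k + 1) = 2 * k + 1 + 1 by ring, Finset.sum_range_succ, Finset.sum_range_succ, ih,
        pow_succ]
      ring
  have h1 := key k
  rw [Finset.range_eq_Ico, Finset.sum_eq_sum_Ico_succ_bot (by omega), pow_zero] at h1
  linear_combination h1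

theorem identity_of {g K x e A B N a b : ℤ}
    (hI : g * ((x * (x + e) + e * (x + e)) * A * B + e * x * (x + e) * (A + B) - 8 * e * x * A * B) =
      2 * K * N * x * (x + e) * A * B)
    (hO : g * (x - e) ^ 2 = x * (x + e) * K * (a + b) ^ 2) (hN : N = a * a + b * b)
    (hs : A + B = x + e) (hne : K * (x * (x + e)) ≠ 0) :
    (a - b) ^ 2 * A * B * (x - e) ^ 2 = e * x * (A - B) ^ 2 * (a + b) ^ 2 := by
  subst hN
  refine mul_left_cancel₀ hne ?_
  linear_combination ((x * (x + e) + e * (x + e)) * A * B + e * x * (x + e) * (A + B) -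
      8 * e * x * A * B) * hO - (x - e) ^ 2 * hI -
    K * (x * (x + e)) * (a + b) ^ 2 * e * x * (A + B) * hs

variable {U : Subgroup G}

set_option maxHeartbeats 1000000 in
/-- The ratio identity with the order and the congruences. -/
theorem ratio (hle : U ≤ Subgroup.centralizer ({d.z} : Set G))
    (hconj : ∀ g ∈ Subgroup.centralizer ({d.z} : Set G), ∀ w ∈ U, g * w * g⁻¹ ∈ U)
    (hodd : Odd (Nat.card U))
    (hcard : Nat.card (Subgroup.centralizer ({d.z} : Set G)) =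
      Nat.card U * Nat.card (P : Subgroup G))
    (h1 : ∀ a b : G, orderOf a = 2 → orderOf b = 2 → IsConj a b)
    {M : Ideal AlgInt} [M.IsPrime] (hM : IsPModular 2 M)
    {h : ℕ} (hh : d.m = 2 * h) (h2 : 2 ≤ h) (hev : 2 ∣ h) :
    ∃ (χ : IrrCharacter G) (e x A B : ℤ),
      χ ∈ principalBlock M G ∧ (χ : G → ℂ) d.z = (e : ℂ) ∧ (charDegree (χ : G → ℂ) : ℤ) = x ∧
      (e = 1 ∨ e = -1) ∧ 0 < x ∧ x ≠ e ∧ A ≠ 0 ∧ B ≠ 0 ∧ A + B = x + e ∧
      2 * (d.m : ℤ) ∣ x - e ∧ 2 * (d.m : ℤ) ∣ A - e * (1 - d.m) ∧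
      2 * (d.m : ℤ) ∣ B - e * (1 - d.m) ∧
      (Nat.card G : ℤ) * (x - e) ^ 2 = x * (x + e) * (8 * (h : ℤ) ^ 3 * Nat.card U) *
        ((numInv U d.y : ℤ) + numInv U (d.x * d.y)) ^ 2 ∧
      ((numInv U d.y : ℤ) - numInv U (d.x * d.y)) ^ 2 * A * B * (x - e) ^ 2 =
        e * x * (A - B) ^ 2 * ((numInv U d.y : ℤ) + numInv U (d.x * d.y)) ^ 2 := by
  classical
  haveI : Fact (Nat.Prime 2) := ⟨Nat.prime_two⟩
  have hzo : orderOf d.z = 2 := orderOf_eq_prime (by rw [pow_two, d.zz]) d.z_ne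
  have hζ := Complex.isPrimitiveRoot_exp d.m (by omega)
  set ζ : ℂ := Complex.exp (2 * Real.pi * Complex.I / d.m) with hζdef
  obtain ⟨χ₁, χ₂, χ₃, q, e, ea, eb, he, hea, heb, n1, n2, n3, n12, n13, n23, nq, qinj, hB, hv, hrel⟩ :=
    DihBlock.block_structure d hζ hM hh h2 hev
  have hnd : ∀ l, 0 < l → l < d.m → ¬ d.m ∣ l := fun l hl hlm hd => by
    have := Nat.le_of_dvd hl hd; omega
  have hzx : d.z = d.x ^ h := DihBlock.z_eq d hh
  obtain ⟨vz1, vz2, vz3, vzq⟩ := hv h (hnd h (by omega) (by omega))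
  rw [← hzx] at vz1 vz2 vz3
  have hsg : ((-1 : ℂ)) ^ (h + 1) = -1 := by
    rw [pow_succ, (even_iff_two_dvd.2 hev).neg_one_pow, one_mul]
  rw [hsg] at vz2 vz3
  have hzh : ζ ^ h = -1 := by
    have e1 : ζ ^ h * ζ ^ h = 1 := by rw [← pow_add, ← two_mul, ← hh, hζ.pow_eq_one]
    exact (mul_self_eq_one_iff.1 e1).resolve_left fun e' => by
      have := Nat.le_of_dvd (by omega) ((hζ.pow_eq_one_iff_dvd h).1 e'); omega
  have vq : ∀ j, 1 ≤ j → j < h → (q j : G → ℂ) d.z = 2 * (e : ℂ) * (-1) ^ j := by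
    intro j hj hjh
    rw [hzx, vzq j hj hjh, mul_comm j, mul_comm (d.m - j), pow_mul, pow_mul, hzh]
    have hpar : (-1 : ℂ) ^ (d.m - j) = (-1) ^ j := by
      refine neg_one_pow_congr ?_
      rw [Nat.even_sub (by omega)]
      simp [even_iff_two_dvd, d.even]
    rw [hpar]
    ring
  -- sums over the block
  set Bf := Finset.univ.filter (· ∈ principalBlock M G) with hBf
  have hsumB : ∀ f : IrrCharacter G → ℂ, ∑ χ ∈ Bf, f χ = f (principal G) + f χ₁ + f χ₂ + f χ₃ +
      ∑ j ∈ Finset.Ico 1 h, f (q j) := by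
    intro f
    have hset : Bf = ({principal G, χ₁, χ₂, χ₃} : Finset (IrrCharacter G)) ∪
        (Finset.Ico 1 h).image q := by
      ext χ
      simp only [hBf, Finset.mem_filter, Finset.mem_univ, true_and, hB, Finset.mem_union,
        Finset.mem_insert, Finset.mem_singleton, Finset.mem_image, Finset.mem_Ico]
      constructor
      · rintro (r | r | r | r | ⟨j, hj, r⟩)
        · exact Or.inl (Or.inl r)
        · exact Or.inl (Or.inr (Or.inl r))
        · exact Or.inl (Or.inr (Or.inr (Or.inl r)))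
        · exact Or.inl (Or.inr (Or.inr (Or.inr r)))
        · exact Or.inr ⟨j, hj, r.symm⟩
      · rintro ((r | r | r | r) | ⟨j, hj, r⟩)
        · exact Or.inl r
        · exact Or.inr (Or.inl r)
        · exact Or.inr (Or.inr (Or.inl r))
        · exact Or.inr (Or.inr (Or.inr (Or.inl r)))
        · exact Or.inr (Or.inr (Or.inr (Or.inr ⟨j, hj, r.symm⟩)))
    have hdisj : Disjoint ({principal G, χ₁, χ₂, χ₃} : Finset (IrrCharacter G))
        ((Finset.Ico 1 h).image q) := by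
      rw [Finset.disjoint_left]
      intro χ hχ hχ'
      obtain ⟨j, hj, rfl⟩ := Finset.mem_image.1 hχ'
      obtain ⟨a1, a2, a3, a4⟩ := nq j (Finset.mem_Ico.1 hj).1 (Finset.mem_Ico.1 hj).2
      simp [a1, a2, a3, a4] at hχ
    rw [hset, Finset.sum_union hdisj, Finset.sum_image (fun j hj k hk e' =>
      qinj j k (Finset.mem_Ico.1 hj).1 (Finset.mem_Ico.1 hj).2 (Finset.mem_Ico.1 hk).1
        (Finset.mem_Ico.1 hk).2 e'), Finset.sum_insert (by simp [n1.symm, n2.symm, n3.symm]),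
      Finset.sum_insert (by simp [n12, n13]), Finset.sum_pair n23]
    ring
  have hmemB : ∀ χ : IrrCharacter G, χ ∈ Bf → χ ∈ principalBlock M G :=
    fun χ hχ => (Finset.mem_filter.1 hχ).2
  -- involutions
  set I : Finset G := Finset.univ.filter fun a => orderOf a = 2 with hI
  have hIcl : I = classFinset d.z := by
    ext a
    rw [mem_classFinset, hI, Finset.mem_filter]
    refine ⟨fun ha => h1 _ _ hzo ha.2, fun hc => ⟨Finset.mem_univ _, ?_⟩⟩
    obtain ⟨g, rfl⟩ := isConj_iff.1 hc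
    rw [DihBlock.order_conj', hzo]
  have hcI : (I.card : ℂ) * (Nat.card (Subgroup.centralizer ({d.z} : Set G)) : ℂ) = Nat.card G := by
    rw [hIcl, card_classFinset]
    exact_mod_cast Subgroup.index_mul_card _
  -- the section of the central involution
  have hΦ : ∀ g : G, ∑ χ ∈ Bf, (χ : G → ℂ) d.z * (χ : G → ℂ) g =
      ∑ w ∈ I, if IsPPart 2 g w then ((4 * h : ℕ) : ℂ) else 0 := by
    intro g
    obtain ⟨w₀, hw₀⟩ := exists_isPPart Nat.prime_two g
    have hconjz : ∀ χ : IrrCharacter G, conj ((χ : G → ℂ) d.z) = (χ : G → ℂ) d.z := fun χ => by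
      rw [hzx]; exact DihBlock.real_value d χ h
    by_cases hw : w₀ ∈ I
    · rw [Finset.sum_eq_single_of_mem w₀ hw (fun w _ hne => if_neg fun h' =>
        hne (isPPart_unique Nat.prime_two h' hw₀)), if_pos hw₀]
      have hw2 : orderOf w₀ = 2 := (Finset.mem_filter.1 hw).2
      obtain ⟨r, hr, hrc, hk, hro⟩ := hw₀
      have hne1 : w₀ ≠ 1 := fun e' => by rw [e', orderOf_one] at hw2; omega
      have hval : ∀ χ ∈ Bf, (χ : G → ℂ) g = (χ : G → ℂ) d.z := fun χ hχ => by
        rw [DihBlock.section_const hM (hmemB χ hχ) hr hrc hk hro (DihBlock.complement_all d hk hne1)]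
        exact irr_isConj χ (h1 _ _ hzo hw2)
      have hp := DihBlock.pair_self hM (a := d.z) ⟨1, by rw [hzo, pow_one]⟩ (DihBlock.data_z d).1
      rw [(DihBlock.data_z d).2] at hp
      rw [Finset.sum_congr rfl fun χ hχ => by rw [hval χ hχ],
        show 4 * h = 2 * d.m by omega, ← hp]
      unfold blockPair
      refine Finset.sum_congr (by rw [hBf]) fun χ _ => ?_
      rw [hconjz]
    · rw [Finset.sum_eq_zero (s := I) fun w hwI => if_neg fun h' =>
        hw ((isPPart_unique Nat.prime_two h' hw₀) ▸ hwI)]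
      have hz : IsPPart 2 d.z d.z := DihBlock.isPPart_self ⟨1, by rw [hzo, pow_one]⟩
      have hp := blockPair_eq_zero_of_pPart hM (B := principalBlock M G)
        (isPBlock_principalBlock M G) hw₀ hz fun hc => hw (by
          rw [hI, Finset.mem_filter]
          refine ⟨Finset.mem_univ _, ?_⟩
          obtain ⟨c, hc'⟩ := isConj_iff.1 hc
          rw [← hzo, ← hc', DihBlock.order_conj'])
      rw [← hp]
      unfold blockPair
      refine Finset.sum_congr (by rw [hBf]) fun χ _ => ?_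
      rw [hconjz, mul_comm]
  have hscal : ∀ χ : IrrCharacter G, ∑ a ∈ I, ∑ b ∈ I, (χ : G → ℂ) (a * b) =
      (I.card : ℂ) ^ 2 * ((χ : G → ℂ) d.z ^ 2 / (χ : G → ℂ) 1) := by
    intro χ
    have hx : IsClassElt (classSum ℂ d.z) := isClassElt_classSum _
    have hsum' : classSum ℂ d.z = ∑ a ∈ I, MonoidAlgebra.single a (1 : ℂ) := by
      refine gaExt fun y => ?_
      rw [coeff_classSum, MonoidAlgebra.coeff_sum, Finset.sum_apply']
      simp only [MonoidAlgebra.coeff_single, Finsupp.single_apply, Finset.sum_ite_eq', hIcl,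
        mem_classFinset]
    have hom : ∀ g : G, omega χ (MonoidAlgebra.single g (1 : ℂ)) = (χ : G → ℂ) g / (χ : G → ℂ) 1 := by
      intro g
      simp [omega, Finsupp.single_apply]
    have h2' := omega_mul χ hx hx
    rw [omega_classSum, centralChar, ← card_classFinset, ← hIcl] at h2'
    rw [hsum', Finset.sum_mul, omega_sum] at h2'
    simp only [Finset.mul_sum, omega_sum, MonoidAlgebra.single_mul_single, mul_one, hom,
      ← Finset.sum_div] at h2'
    rw [div_eq_iff (irr_one_ne_zero χ)] at h2'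
    rw [h2']
    field_simp [irr_one_ne_zero χ]
  -- the counts
  set N : ℕ := numInv U d.y * numInv U d.y + numInv U (d.x * d.y) * numInv U (d.x * d.y) with hN
  have hcount : ∀ w ∈ I, ((I ×ˢ I).filter fun p : G × G => IsPPart 2 (p.1 * p.2) w).card = h * N := by
    intro w hw
    rw [hN, mul_add, ← card_pairs d hle hconj hodd hcard hh, ← hI]
    rw [hIcl, mem_classFinset] at hw
    obtain ⟨c, rfl⟩ := isConj_iff.1 hw
    refine (Finset.card_equiv ((MulAut.conj c).toEquiv.prodCongr (MulAut.conj c).toEquiv)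
      fun p => ?_).symm
    simp only [Finset.mem_filter, Finset.mem_product, hI, Finset.mem_univ, true_and,
      Equiv.prodCongr_apply, Prod.map_fst, Prod.map_snd, MulEquiv.toEquiv_eq_coe,
      MulEquiv.coe_toEquiv, MulEquiv.orderOf_eq, ← map_mul]
    refine and_congr_right fun _ => ⟨fun h' => by simpa using IsPPart.conj h' c, fun h' => ?_⟩
    have h'' := IsPPart.conj h' c⁻¹
    simp only [MulAut.conj_apply, inv_inv] at h''
    rwa [show c⁻¹ * (c * (p.1 * p.2) * c⁻¹) * c = p.1 * p.2 by group,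
      show c⁻¹ * (c * d.z * c⁻¹) * c = d.z by group] at h''
  set S : ℂ := ∑ χ ∈ Bf, (χ : G → ℂ) d.z ^ 3 / (χ : G → ℂ) 1 with hS
  have hkey : (I.card : ℂ) * S = ((4 * h : ℕ) : ℂ) * ((h * N : ℕ) : ℂ) := by
    have hIne : (I.card : ℂ) ≠ 0 := by
      rw [hIcl]
      exact Nat.cast_ne_zero.2 (Finset.card_ne_zero.2 ⟨_, mem_classFinset.2 (IsConj.refl _)⟩)
    refine mul_left_cancel₀ hIne ?_
    calc (I.card : ℂ) * ((I.card : ℂ) * S)
        = ∑ χ ∈ Bf, (χ : G → ℂ) d.z * ∑ a ∈ I, ∑ b ∈ I, (χ : G → ℂ) (a * b) := by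
          rw [hS, Finset.mul_sum, Finset.mul_sum]
          exact Finset.sum_congr rfl fun χ _ => by rw [hscal]; ring
      _ = ∑ p ∈ I ×ˢ I, ∑ χ ∈ Bf, (χ : G → ℂ) d.z * (χ : G → ℂ) (p.1 * p.2) := by
          rw [Finset.sum_comm (s := I ×ˢ I)]
          refine Finset.sum_congr rfl fun χ _ => ?_
          simp only [Finset.mul_sum]
          rw [Finset.sum_product]
      _ = ∑ w ∈ I, ∑ p ∈ I ×ˢ I, if IsPPart 2 (p.1 * p.2) w then ((4 * h : ℕ) : ℂ) else 0 := by
          simp only [hΦ]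
          exact Finset.sum_comm
      _ = ∑ _w ∈ I, ((4 * h : ℕ) : ℂ) * ((h * N : ℕ) : ℂ) := by
          refine Finset.sum_congr rfl fun w hw => ?_
          rw [← Finset.sum_filter, Finset.sum_const, hcount w hw, nsmul_eq_mul, mul_comm]
      _ = _ := by rw [Finset.sum_const, nsmul_eq_mul]
  -- degrees
  set X := charDegree (χ₁ : G → ℂ) with hX
  set A₀ := charDegree (χ₂ : G → ℂ) with hA₀
  set B₀ := charDegree (χ₃ : G → ℂ) with hB₀
  have hXp : 0 < X := charDegree_pos χ₁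
  have hAp : 0 < A₀ := charDegree_pos χ₂
  have hBp : 0 < B₀ := charDegree_pos χ₃
  obtain ⟨hr1, hr2⟩ := hrel 1 (by rw [orderOf_one]; norm_num)
  simp only [irr_one_eq_charDegree, ← hX, ← hA₀, ← hB₀] at hr1 hr2
  have hee : e * e = 1 := by rcases he with rfl | rfl <;> norm_num
  have haa : ea * ea = 1 := by rcases hea with rfl | rfl <;> norm_num
  have hbb : eb * eb = 1 := by rcases heb with rfl | rfl <;> norm_num
  have hdeg : (1 : ℤ) + e * X + ea * A₀ + eb * B₀ = 0 := by exact_mod_cast hr1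
  have hqdeg : ∀ j, 1 ≤ j → j < h → ((charDegree (q j : G → ℂ) : ℤ)) = X + e := by
    intro j hj hjh
    have := hr2 j hj hjh
    have h' : (1 : ℤ) + e * X - e * charDegree (q j : G → ℂ) = 0 := by exact_mod_cast this
    rcases he with rfl | rfl <;> linarith
  have hXe : 0 < (X : ℤ) + e := by
    rw [← hqdeg 1 le_rfl (by omega)]; exact_mod_cast charDegree_pos (q 1)
  -- the value of the sum
  have hSval : S = 1 + (e : ℂ) / X - (ea : ℂ) / A₀ - (eb : ℂ) / B₀ - 8 * (e : ℂ) / ((X : ℂ) + e) := by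
    rw [hS, hsumB]
    have hsq : ∀ {n : ℤ}, n * n = 1 → ((n : ℂ)) ^ 3 = n := fun {n} hn => by
      have : (n : ℂ) * n = 1 := by exact_mod_cast hn
      linear_combination (n : ℂ) * this
    rw [Finset.sum_congr rfl (g := fun j => 8 * (e : ℂ) / ((X : ℂ) + e) * (-1) ^ j) fun j hj => ?_]
    · rw [← Finset.mul_sum, sum_neg_one_Ico hev h2, vz1, vz2, vz3]
      simp only [irr_one_eq_charDegree, ← hX, ← hA₀, ← hB₀, mul_neg, mul_one, neg_div]
      rw [show ((-(ea : ℂ)) ^ 3) = -(ea : ℂ) by rw [Odd.neg_pow (by decide), hsq haa],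
        show ((-(eb : ℂ)) ^ 3) = -(eb : ℂ) by rw [Odd.neg_pow (by decide), hsq hbb], hsq hee]
      simp [principal, charDegree]
      ring
    · obtain ⟨hj1, hj2⟩ := Finset.mem_Ico.1 hj
      rw [vq j hj1 hj2, irr_one_eq_charDegree,
        show ((charDegree (q j : G → ℂ) : ℂ)) = (X : ℂ) + e by exact_mod_cast hqdeg j hj1 hj2]
      have : ((-1 : ℂ) ^ j) ^ 3 = (-1) ^ j := by
        rcases neg_one_pow_eq_or ℂ j with r | r <;> rw [r] <;> norm_num
      rw [mul_pow, mul_pow, this, hsq hee]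
      ring
  -- congruences
  haveI : Fintype (P : Subgroup G) := Fintype.ofFinite _
  have hcP : Nat.card (P : Subgroup G) = 2 * d.m := d.card
  have hrefl : ∀ (χ : IrrCharacter G) (l : ℕ),
      (χ : G → ℂ) (d.x ^ (l : ℤ) * d.y) = (χ : G → ℂ) d.z := fun χ l => by
    refine irr_isConj χ (h1 _ _ hzo (orderOf_eq_prime (by rw [pow_two]; exact d.form_sq l)
      fun e' => d.form_not_mem (l : ℤ) (by rw [e']; exact one_mem _)))
  have hcongr : ∀ χ : IrrCharacter G, ∃ k : ℤ,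
      (charDegree (χ : G → ℂ) : ℂ) + ∑ l ∈ Finset.Ico 1 d.m, (χ : G → ℂ) (d.x ^ l) +
        (d.m : ℂ) * (χ : G → ℂ) d.z = 2 * (d.m : ℂ) * k := by
    intro χ
    obtain ⟨k, hk⟩ := exists_sum_subgroup_eq (P : Subgroup G) χ
    refine ⟨k, ?_⟩
    rw [sum_sylow d, Finset.sum_congr rfl fun l _ => hrefl χ l, Finset.sum_const, Finset.card_range,
      Finset.range_eq_Ico, Finset.sum_eq_sum_Ico_succ_bot (by omega), pow_zero,
      irr_one_eq_charDegree, hcP] at hk
    push_cast at hk ⊢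
    rw [← hk, nsmul_eq_mul]
  have halt : ∑ l ∈ Finset.Ico 1 d.m, (-1 : ℂ) ^ (l + 1) = 1 := by
    simp only [pow_succ, ← Finset.sum_mul, sum_neg_one_Ico d.even d.two_le]
    norm_num
  have hcx : 2 * (d.m : ℤ) ∣ (X : ℤ) - e := by
    obtain ⟨k, hk⟩ := hcongr χ₁
    rw [vz1, Finset.sum_congr rfl (g := fun _ => (e : ℂ)) fun l hl =>
      (hv l (hnd l (Finset.mem_Ico.1 hl).1 (Finset.mem_Ico.1 hl).2)).1, Finset.sum_const,
      Nat.card_Ico, nsmul_eq_mul, Nat.cast_sub (by omega : 1 ≤ d.m), Nat.cast_one, ← hX] at hk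
    have h' : (X : ℤ) + ((d.m : ℤ) - 1) * e + d.m * e = 2 * d.m * k := by exact_mod_cast hk
    exact ⟨k - e, by linear_combination h'⟩
  have hcab : ∀ (χ : IrrCharacter G) (E : ℤ), E * E = 1 →
      (∀ l : ℕ, ¬ d.m ∣ l → (χ : G → ℂ) (d.x ^ l) = (E : ℂ) * (-1) ^ (l + 1)) →
      2 * (d.m : ℤ) ∣ -e * E * (charDegree (χ : G → ℂ) : ℤ) - e * (1 - d.m) := by
    intro χ E hE hχ
    obtain ⟨k, hk⟩ := hcongr χ
    have hz' : (χ : G → ℂ) d.z = -(E : ℂ) := by
      rw [hzx, hχ h (hnd h (by omega) (by omega)), hsg]; ring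
    rw [hz', Finset.sum_congr rfl fun l hl =>
      hχ l (hnd l (Finset.mem_Ico.1 hl).1 (Finset.mem_Ico.1 hl).2), ← Finset.mul_sum, halt] at hk
    have h' : (charDegree (χ : G → ℂ) : ℤ) + E * 1 + d.m * -E = 2 * d.m * k := by exact_mod_cast hk
    exact ⟨-e * E * k, by linear_combination (-e * E) * h' + e * (1 - (d.m : ℤ)) * hE⟩
  have hca := hcab χ₂ ea haa fun l hl => (hv l hl).2.1
  have hcb := hcab χ₃ eb hbb fun l hl => (hv l hl).2.2.1
  -- the order formula
  have hnk : ∀ s : G, s * s = 1 → (∀ w ∈ U, s * w * s⁻¹ ∈ U) →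
      (1 : ℚ) / (4 * Nat.card {w : U // (w : G) * s = s * w}) = (numInv U s : ℚ) / (4 * Nat.card U) := by
    intro s hs hn
    have h' := numInv_mul_card hodd hs hn
    have hne : (Nat.card U : ℚ) ≠ 0 := Nat.cast_ne_zero.2 Nat.card_pos.ne'
    have h'' : (numInv U s : ℚ) * Nat.card {w : U // (w : G) * s = s * w} = Nat.card U := by
      exact_mod_cast h'
    have hk : (Nat.card {w : U // (w : G) * s = s * w} : ℚ) ≠ 0 := fun e' =>
      hne (by rw [← h'', e', mul_zero])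
    field_simp
    linear_combination -h''
  have hxy : d.x ^ (1 : ℤ) * d.y = d.x * d.y := by rw [zpow_one]
  have hy0 : d.x ^ (0 : ℤ) * d.y = d.y := by rw [zpow_zero, one_mul]
  have hc1 := card_centralizer_refl d hle hconj hodd hcard 0
  have hc2 := card_centralizer_refl d hle hconj hodd hcard 1
  rw [hy0] at hc1
  rw [hxy] at hc2
  have hinvol : ∀ s ∈ (P : Subgroup G), ∀ w ∈ U, s * w * s⁻¹ ∈ U := fun s hs =>
    hconj s (P_le_centralizer d hs)
  have hyo : orderOf d.y = 2 := orderOf_eq_prime (by rw [pow_two, d.yy])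
    (fun e' => d.ynot (e' ▸ one_mem _))
  have hxyo : orderOf (d.x * d.y) = 2 := by
    refine orderOf_eq_prime (by rw [pow_two, ← hxy]; exact d.form_sq 1) fun e1 => ?_
    exact d.form_not_mem 1 (by rw [hxy, e1]; exact one_mem _)
  obtain ⟨hXne, hord⟩ := DihBlock.order_formula d hM hζ hh h2 hev (h1 _ _ hzo hyo) (h1 _ _ hzo hxyo)
    χ₁ ((hB χ₁).2 (Or.inr (Or.inl rfl))) n1 e he fun l hl hl' => (hv l (hnd l hl hl')).1
  rw [hc1, hc2, hcard, hcP, ← hX] at hord
  push_cast at hord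
  rw [hnk d.y d.yy (hinvol _ d.hy),
    hnk (d.x * d.y) (by rw [← hxy]; exact d.form_sq 1) (hinvol _ (mul_mem d.hx d.hy))] at hord
  set T : ℤ := (numInv U d.y : ℤ) + numInv U (d.x * d.y) with hT
  set K : ℤ := 8 * (h : ℤ) ^ 3 * Nat.card U with hK
  have hU0 : (Nat.card U : ℚ) ≠ 0 := Nat.cast_ne_zero.2 Nat.card_pos.ne'
  have hordZ : (Nat.card G : ℤ) * ((X : ℤ) - e) ^ 2 = (X : ℤ) * ((X : ℤ) + e) * K * T ^ 2 := by
    have h' : ((Nat.card G : ℤ) : ℚ) * (((X : ℤ) : ℚ) - e) ^ 2 =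
        ((X : ℤ) : ℚ) * (((X : ℤ) : ℚ) + e) * (K : ℚ) * (T : ℚ) ^ 2 := by
      rw [hT, hK]
      push_cast
      rw [hord, show (d.m : ℚ) = 2 * h by exact_mod_cast hh]
      field_simp
      ring
    exact_mod_cast h'
  -- the identity
  set A : ℤ := -e * ea * A₀ with hA
  set B : ℤ := -e * eb * B₀ with hBdef
  have hsum : A + B = X + e := by
    rw [hA, hBdef]; linear_combination (-e) * hdeg + (X : ℤ) * hee
  have hA0 : A ≠ 0 := by rw [hA]; rcases he with rfl | rfl <;> rcases hea with rfl | rfl <;> omega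
  have hB0 : B ≠ 0 := by rw [hBdef]; rcases he with rfl | rfl <;> rcases heb with rfl | rfl <;> omega
  have hI' : (Nat.card G : ℤ) * (((X : ℤ) * ((X : ℤ) + e) + e * ((X : ℤ) + e)) * A * B +
      e * X * ((X : ℤ) + e) * (A + B) - 8 * e * X * A * B) =
      2 * K * (N : ℤ) * X * ((X : ℤ) + e) * A * B := by
    have hXc : (X : ℂ) ≠ 0 := Nat.cast_ne_zero.2 hXp.ne'
    have hXec : (X : ℂ) + e ≠ 0 := by
      have : (((X : ℤ) + e : ℤ) : ℂ) ≠ 0 := Int.cast_ne_zero.2 hXe.ne'
      push_cast at this; exact this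
    have hAc : (A₀ : ℂ) ≠ 0 := Nat.cast_ne_zero.2 hAp.ne'
    have hBc : (B₀ : ℂ) ≠ 0 := Nat.cast_ne_zero.2 hBp.ne'
    have h' := congrArg (· * (Nat.card (Subgroup.centralizer ({d.z} : Set G)) : ℂ)) hkey
    simp only [mul_right_comm _ S, hcI] at h'
    rw [hSval, hcard, hcP, hh] at h'
    field_simp at h'
    have hee' : (e : ℂ) * e = 1 := by exact_mod_cast hee
    have haa' : (ea : ℂ) * ea = 1 := by exact_mod_cast haa
    have hbb' : (eb : ℂ) * eb = 1 := by exact_mod_cast hbb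
    refine Int.cast_injective (α := ℂ) ?_
    rw [hA, hBdef, hK]
    push_cast at h' ⊢
    linear_combination ((e : ℂ) ^ 2 * ea * eb) * h' +
      ((Nat.card G : ℂ) * X * ((X : ℂ) + e) * (e : ℂ) ^ 2 * eb * B₀) * haa' +
      ((Nat.card G : ℂ) * X * ((X : ℂ) + e) * (e : ℂ) ^ 2 * ea * A₀) * hbb'
  refine ⟨χ₁, e, X, A, B, (hB χ₁).2 (Or.inr (Or.inl rfl)), vz1, rfl, he, by exact_mod_cast hXp,
    hXne, hA0, hB0, hsum, hcx, hca, hcb, hordZ, ?_⟩
  have hne : K * ((X : ℤ) * ((X : ℤ) + e)) ≠ 0 := by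
    refine mul_ne_zero ?_ (mul_ne_zero (by exact_mod_cast hXp.ne') hXe.ne')
    rw [hK]
    have : 0 < Nat.card U := Nat.card_pos
    positivity
  have hNZ : (N : ℤ) = (numInv U d.y : ℤ) * numInv U d.y +
      (numInv U (d.x * d.y) : ℤ) * numInv U (d.x * d.y) := by rw [hN]; push_cast; ring
  exact identity_of hI' hordZ hNZ hsum hne

end Cfsg.Agent.GW
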