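import Cfsg.Agent.Lib.GW.ExoticLocal
import Cfsg.Agent.Lib.GW.ExoticNum
import Cfsg.Agent.Lib.GW.Ratio
import Cfsg.Agent.Lib.GW.LinearKill
import Cfsg.Agent.Lib.Char.GlaubermanMod

/-!
The last configuration with a Sylow 2-subgroup of order eight is impossible: `O_s(C)` would have order
three, one class would invert three times as many elements of `U` as the other, and the ratio identity
would give a faithful character of degree fifteen with at least sixteen linear constituents.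
-/

set_option autoImplicit false
set_option linter.unusedSectionVars false
set_option linter.style.haveILetI false

namespace Cfsg.Agent.GW

open Cfsg.Agent.TwoFus Cfsg.Agent.BenderUnique Subgroup

universe u

/-- A subgroup containing the elements of prime power order of another contains it. -/
theorem le_of_parts {G : Type u} [Group G] [Finite G] {K T : Subgroup G}
    (h : ∀ f ∈ K, ∀ t : ℕ, t.Prime → IsPGroup t (zpowers f) → f ∈ T) : K ≤ T := by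
  refine subgroupOf_eq_top.1 (FittingCores.eq_top_of_forall_sylow_le fun t ht => ?_)
  haveI := Fact.mk ht
  exact ⟨default, fun f hf => mem_subgroupOf.2 (h f f.2 t ht
    (isPGroup_zpowers_of_mem ((default : Sylow t K).isPGroup'.map K.subtype) ⟨f, hf, rfl⟩))⟩

/-- A product of commuting elements of prime power order. -/
theorem isPGroup_zpowers_mul {G : Type u} [Group G] [Finite G] {s : ℕ} [Fact s.Prime] {f g : G}
    (hf : IsPGroup s (zpowers f)) (hg : IsPGroup s (zpowers g)) (hc : Commute f g) :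
    IsPGroup s (zpowers (f * g)) := by
  obtain ⟨i, hi⟩ := IsPGroup.iff_card.1 hf
  obtain ⟨j, hj⟩ := IsPGroup.iff_card.1 hg
  rw [Nat.card_zpowers] at hi hj
  have h1 : (f * g) ^ (s ^ (i + j)) = 1 := by
    rw [hc.mul_pow, pow_add, pow_mul, ← hi, pow_orderOf_eq_one, one_pow, one_mul, mul_comm (orderOf f),
      pow_mul, ← hj, pow_orderOf_eq_one, one_pow]
  obtain ⟨e, -, he⟩ := (Nat.dvd_prime_pow (Fact.out : s.Prime)).1 (orderOf_dvd_of_pow_eq_one h1)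
  exact IsPGroup.of_card (n := e) (by rw [Nat.card_zpowers, he])

namespace ExoData

variable {G : Type u} [Group G] [Finite G] {c : Core G} {a : G} {s : ℕ} (E : ExoData c a s)

include E

theorem y_form : ∃ j : ℤ, c.d.y = c.d.x ^ j * a := by
  rcases c.d.cases a E.refl.1 with ⟨j, hj⟩ | ⟨j, hj⟩
  · exact absurd (hj ▸ zpow_mem (mem_zpowers _) j) E.refl.2
  · exact ⟨-j, by rw [hj, ← mul_assoc, ← zpow_add]; simp⟩

/-- `P` is generated by `x` and `a`. -/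
theorem P_le_of {T : Subgroup G} (hx : c.d.x ∈ T) (ha : a ∈ T) : (c.P : Subgroup G) ≤ T := by
  intro p hp
  obtain ⟨j, hj⟩ := E.y_form
  rcases c.d.cases p hp with ⟨i, rfl⟩ | ⟨i, rfl⟩
  · exact zpow_mem hx i
  · exact mul_mem (zpow_mem hx i) (hj ▸ mul_mem (zpow_mem hx j) ha)

set_option maxHeartbeats 800000 in
/-- An `s`-element of `U` centralised by `P` and by `O_s(C)`. -/
theorem exists_k (hC : IsCoatom c.C) (hY : c.Qc s ≠ ⊥) :
    ∃ k, k ≠ 1 ∧ k ∈ c.U ∧ IsPGroup s (zpowers k) ∧ Commute k c.d.x ∧ Commute k a ∧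
      (∀ y ∈ c.Qc s, Commute k y) ∧
      ∀ t : ℕ, t.Prime → t ≠ s → c.Qc t ≤ c.W a → ∀ f ∈ c.Qc t, Commute k f := by
  classical
  haveI := E.fact
  have ha := E.refl
  obtain ⟨g, g1, g2, g3⟩ := ha.exists_rot
  set Y := c.Qc s with hYdef
  have hCY : ∀ c' ∈ c.C, ∀ y ∈ Y, c' * y * c'⁻¹ ∈ Y := fun c' hc' y hy =>
    (mem_normalizer_iff.1 (normalizes_coreIn s c.C hc') y).1 hy
  have hWC : c.W a ≤ c.C := Core.Refl.W_le (ha := ha) |>.trans c.U_le
  -- `g` and its inverse normalise `W`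
  have hWmap : (c.W a).map (MulAut.conj g).toMonoidHom = c.W a := by
    refine eq_of_le_of_card_ge ?_ (Nat.card_congr
      ((c.W a).equivMapOfInjective _ (MulAut.conj g).injective).toEquiv).le
    rintro _ ⟨w, hw, rfl⟩
    exact ha.rot_W g1 g3 hw
  have hWg : ∀ w ∈ c.W a, g⁻¹ * w * g ∈ c.W a := fun w hw => by
    rw [← hWmap] at hw
    obtain ⟨v, hv, rfl⟩ := hw
    show g⁻¹ * (g * v * g⁻¹) * g ∈ c.W a
    rwa [show g⁻¹ * (g * v * g⁻¹) * g = v by group]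
  have hWg' : ∀ w ∈ c.W a, g * w * g⁻¹ ∈ c.W a := fun w hw => ha.rot_W g1 g3 hw
  -- normal subgroups of `C` inside `O_s(C)`
  have hnormC : ∀ D : Subgroup G, D ≤ Y → (∀ w ∈ c.W a, ∀ v ∈ D, w * v * w⁻¹ ∈ D) →
      c.C ≤ normalizer (D : Set G) := by
    intro D hD hW g' hg'
    obtain ⟨u, hu, p, hp, rfl⟩ := c.U_sup g' hg'
    refine mul_mem ?_ (E.P_le_of ?_ ?_ hp)
    · refine mem_normalizer_fintype fun v hv => ?_
      obtain ⟨r, hrU, hri, hw, -⟩ := ha.decomp hu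
      have hvw := hW _ hw v hv
      have hrc : r * (r⁻¹ * u * v * (r⁻¹ * u)⁻¹) = r⁻¹ * u * v * (r⁻¹ * u)⁻¹ * r := by
        have hyY := hD hvw
        exact inverted_comm hri (c.odd_of_mem_U hrU) (mul_inv_eq_iff_eq_mul.2 (E.Y_a hyY).symm)
          (mul_inv_eq_iff_eq_mul.2 (E.Y_a (hCY _ (c.U_le hrU) _ hyY)).symm)
      show u * v * u⁻¹ ∈ D
      rw [show u * v * u⁻¹ = r * (r⁻¹ * u * v * (r⁻¹ * u)⁻¹) * r⁻¹ by group, hrc, mul_inv_cancel_right]
      exact hvw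
    · refine mem_normalizer_fintype fun v hv => ?_
      show c.d.x * v * c.d.x⁻¹ ∈ D
      rw [E.Y_x (hD hv)]
      exact inv_mem hv
    · refine mem_normalizer_fintype fun v hv => ?_
      show a * v * a⁻¹ ∈ D
      rw [mul_inv_eq_iff_eq_mul.2 (E.Y_a (hD hv)).symm]
      exact hv
  -- the conjugate meets `O_s(C)` trivially
  have hdisj : ∀ y ∈ Y, g * y * g⁻¹ ∈ Y → y = 1 := by
    by_contra hno
    push Not at hno
    obtain ⟨y₀, hy₀, hgy₀, hy₀1⟩ := hno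
    let D : Subgroup G :=
      { carrier := {v | v ∈ Y ∧ g * v * g⁻¹ ∈ Y}
        one_mem' := ⟨one_mem _, by simp⟩
        mul_mem' := fun {p q} hp hq => ⟨mul_mem hp.1 hq.1, by
          rw [← conj_mul]; exact mul_mem hp.2 hq.2⟩
        inv_mem' := fun {p} hp => ⟨inv_mem hp.1, by rw [← conj_inv]; exact inv_mem hp.2⟩ }
    set D' := D.map (MulAut.conj g).toMonoidHom with hD'
    have hDY : D ≤ Y := fun v hv => hv.1
    have hD'Y : D' ≤ Y := by rintro _ ⟨v, hv, rfl⟩; exact hv.2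
    have hD1 : D ≠ ⊥ := fun e => hy₀1 (mem_bot.1 (e ▸ (⟨hy₀, hgy₀⟩ : y₀ ∈ D)))
    have hD'1 : D' ≠ ⊥ := by
      rw [hD', ne_eq, map_eq_bot_iff_of_injective _ (MulAut.conj g).injective]
      exact hD1
    have hWD : ∀ w ∈ c.W a, ∀ v ∈ D, w * v * w⁻¹ ∈ D := fun w hw v hv => ⟨hCY w (hWC hw) v hv.1, by
      rw [show g * (w * v * w⁻¹) * g⁻¹ = g * w * g⁻¹ * (g * v * g⁻¹) * (g * w * g⁻¹)⁻¹ by group]
      exact hCY _ (hWC (hWg' w hw)) _ hv.2⟩
    have hWD' : ∀ w ∈ c.W a, ∀ v ∈ D', w * v * w⁻¹ ∈ D' := by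
      rintro w hw _ ⟨v, hv, rfl⟩
      refine ⟨_, hWD _ (hWg w hw) v hv, ?_⟩
      show g * (g⁻¹ * w * g * v * (g⁻¹ * w * g)⁻¹) * g⁻¹ = w * (g * v * g⁻¹) * w⁻¹
      group
    have hN := Core.normalizer_eq_C hC (hDY.trans (c.Qc_le_C s)) hD1 (hnormC D hDY hWD)
    have hN' := Core.normalizer_eq_C hC (hD'Y.trans (c.Qc_le_C s)) hD'1 (hnormC D' hD'Y hWD')
    have hx : g * c.d.x * g⁻¹ ∈ c.C := by
      rw [← hN']
      refine mem_normalizer_fintype fun v hv => ?_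
      obtain ⟨v, hv, rfl⟩ := hv
      refine ⟨c.d.x * v * c.d.x⁻¹, ?_, ?_⟩
      · exact (mem_normalizer_iff.1 (hnormC D hDY hWD (c.P_le c.d.hx)) v).1 hv
      · show g * (c.d.x * v * c.d.x⁻¹) * g⁻¹ = g * c.d.x * g⁻¹ * (g * v * g⁻¹) * (g * c.d.x * g⁻¹)⁻¹
        group
    have h1 := c.mem_C.1 hx
    rw [← g3] at h1
    simp only [conj_mul] at h1
    have h2 : c.d.x * (c.d.z * a) = c.d.z * a * c.d.x := mul_left_cancel (mul_right_cancel h1)
    have h3 := E.x_conj_za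
    rw [h2, mul_inv_cancel_right] at h3
    exact ha.ne_z_mul h3.symm
  have hdisj2 : ∀ y ∈ Y, g⁻¹ * y * g ∈ Y → y = 1 := fun y hy h => by
    have h1 := hdisj _ h (by rwa [show g * (g⁻¹ * y * g) * g⁻¹ = y by group])
    calc y = g * (g⁻¹ * y * g) * g⁻¹ := by group
      _ = 1 := by rw [h1, mul_one, mul_inv_cancel]
  -- the cube fixes `z`
  have hcube : g * g * g ∈ c.C := c.mem_C.2 (by
    have e : g * g * g * c.d.z * (g * g * g)⁻¹ = c.d.z := by
      calc g * g * g * c.d.z * (g * g * g)⁻¹ = g * (g * (g * c.d.z * g⁻¹) * g⁻¹) * g⁻¹ := by group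
        _ = c.d.z := by rw [g1, g2, g3]
    exact mul_inv_eq_iff_eq_mul.1 e)
  have hdisj12 : ∀ y ∈ Y, ∀ y' ∈ Y, g * y * g⁻¹ = g⁻¹ * y' * g → y = 1 := by
    intro y hy y' hy' e
    have h1 : g * y' * g⁻¹ ∈ Y → y' = 1 := hdisj y' hy'
    have h2 : g * y' * g⁻¹ = g * g * g * y * (g * g * g)⁻¹ := by
      calc g * y' * g⁻¹ = g * g * (g⁻¹ * y' * g) * (g * g)⁻¹ := by group
        _ = _ := by rw [← e]; group
    have h3 := h1 (h2 ▸ hCY _ hcube y hy)
    rw [h3] at e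
    exact conj_eq_one_iff.1 (e.trans (by group))
  -- the conjugates in `W`
  have hY1W : ∀ y ∈ Y, g * y * g⁻¹ ∈ c.W a := fun y hy => hWg' y (E.le_W hy)
  have hY2W : ∀ y ∈ Y, g⁻¹ * y * g ∈ c.W a := fun y hy => hWg y (E.le_W hy)
  obtain ⟨⟨y, hy⟩, hy1⟩ := ne_bot_iff_exists_ne_one.1 hY
  replace hy1 : y ≠ 1 := fun e => hy1 (Subtype.ext e)
  set n := c.d.x * g * c.d.x⁻¹ * g with hn
  have hnC : n ∈ centralizer ({c.d.z, a} : Set G) := by
    have hxz : c.d.x⁻¹ * c.d.z * c.d.x = c.d.z := by rw [mul_assoc, ← E.xz, inv_mul_cancel_left]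
    have hxa : c.d.x⁻¹ * a * c.d.x = c.d.z * a := by
      conv_lhs => rw [← E.x_conj_za]
      group
    refine mem_centralizer_iff.2 ?_
    rintro v (hv | hv)
    · rw [hv]
      refine (mul_inv_eq_iff_eq_mul.1 ?_).symm
      calc n * c.d.z * n⁻¹ = c.d.x * (g * (c.d.x⁻¹ * (g * c.d.z * g⁻¹) * c.d.x) * g⁻¹) * c.d.x⁻¹ := by
            rw [hn]; group
        _ = c.d.z := by rw [g1, hxa, g3, E.xz, mul_inv_cancel_right]
    · rw [Set.mem_singleton_iff.1 hv]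
      refine (mul_inv_eq_iff_eq_mul.1 ?_).symm
      have hxza : c.d.x⁻¹ * (c.d.z * a) * c.d.x = a := by
        calc c.d.x⁻¹ * (c.d.z * a) * c.d.x = c.d.x⁻¹ * c.d.z * c.d.x * (c.d.x⁻¹ * a * c.d.x) := by group
          _ = a := by rw [hxz, hxa, ← mul_assoc, c.d.zz, one_mul]
      calc n * a * n⁻¹ = c.d.x * (g * (c.d.x⁻¹ * (g * a * g⁻¹) * c.d.x) * g⁻¹) * c.d.x⁻¹ := by
            rw [hn]; group
        _ = a := by rw [g2, hxza, g2, E.x_conj_za]
  obtain ⟨w, hw, v, hv, hnwv⟩ := c.klein_cent_eq ha hnC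
  have hy₂ : ∃ y' ∈ Y, c.d.x * (g * y * g⁻¹) * c.d.x⁻¹ = g⁻¹ * y' * g := by
    refine ⟨g * w * g⁻¹ * y⁻¹ * (g * w * g⁻¹)⁻¹, hCY _ (hWC (hWg' w hw)) _ (inv_mem hy), ?_⟩
    have hm := hY2W _ (inv_mem hy)
    have hvc : v * (g⁻¹ * y⁻¹ * g) * v⁻¹ = g⁻¹ * y⁻¹ * g := by
      obtain ⟨h1, h2, h3⟩ := ha.W_comm hm
      rw [mul_inv_eq_iff_eq_mul]
      rcases hv with rfl | rfl | rfl | rfl
      · rw [one_mul, mul_one]
      · exact h1.symm
      · exact h2.symm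
      · exact h3.symm
    calc c.d.x * (g * y * g⁻¹) * c.d.x⁻¹
        = n * (g⁻¹ * (c.d.x * y * c.d.x⁻¹) * g) * n⁻¹ := by rw [hn]; group
      _ = w * (v * (g⁻¹ * y⁻¹ * g) * v⁻¹) * w⁻¹ := by rw [E.Y_x hy, hnwv]; group
      _ = _ := by rw [hvc]; group
  obtain ⟨y', hy', he⟩ := hy₂
  set v1 := g * y * g⁻¹ with hv1
  set v2 := c.d.x * v1 * c.d.x⁻¹ with hv2
  -- commutation
  have hcomm : ∀ {p q : G}, p * q * p⁻¹ * q⁻¹ = 1 → Commute p q := fun {p q} e =>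
    mul_inv_eq_iff_eq_mul.1 (mul_inv_eq_one.1 e)
  have hY1n : ∀ w ∈ c.W a, ∀ y ∈ Y, ∃ y₃ ∈ Y, w * (g * y * g⁻¹) * w⁻¹ = g * y₃ * g⁻¹ :=
    fun w hw y hy => ⟨_, hCY _ (hWC (hWg w hw)) y hy, by group⟩
  have hY2n : ∀ w ∈ c.W a, ∀ y ∈ Y, ∃ y₃ ∈ Y, w * (g⁻¹ * y * g) * w⁻¹ = g⁻¹ * y₃ * g :=
    fun w hw y hy => ⟨_, hCY _ (hWC (hWg' w hw)) y hy, by group⟩
  have h12 : Commute v1 v2 := by
    refine hcomm ?_
    obtain ⟨y₃, hy₃, e₃⟩ := hY2n v1 (hY1W y hy) y' hy'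
    rw [he, e₃]
    obtain ⟨y₄, hy₄, e₄⟩ := hY1n _ (hY2W y' hy') y⁻¹ (inv_mem hy)
    have e5 : g⁻¹ * y₃ * g * (g⁻¹ * y' * g)⁻¹ = g⁻¹ * (y₃ * y'⁻¹) * g := by group
    have e6 : g⁻¹ * y₃ * g * (g⁻¹ * y' * g)⁻¹ = g * (y * y₄) * g⁻¹ := by
      rw [← e₃, hv1, show g * (y * y₄) * g⁻¹ = g * y * g⁻¹ * (g * y₄ * g⁻¹) by group, ← e₄]
      group
    have h7 := hdisj12 _ (mul_mem hy hy₄) _ (mul_mem hy₃ (inv_mem hy')) (e6.symm.trans e5)
    rw [e6, h7, mul_one, mul_inv_cancel]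
  have hv1Y : ∀ f ∈ Y, Commute v1 f := fun f hf => by
    refine hcomm ?_
    have h1 := mul_mem (hCY _ (hWC (hY1W y hy)) f hf) (inv_mem hf)
    obtain ⟨y₄, hy₄, e₄⟩ := hY1n _ (E.le_W hf) y⁻¹ (inv_mem hy)
    have e6 : v1 * f * v1⁻¹ * f⁻¹ = g * (y * y₄) * g⁻¹ := by
      rw [hv1, show g * (y * y₄) * g⁻¹ = g * y * g⁻¹ * (g * y₄ * g⁻¹) by group, ← e₄]
      group
    rw [e6] at h1 ⊢
    rw [hdisj _ (mul_mem hy hy₄) h1, mul_one, mul_inv_cancel]
  have hv2Y : ∀ f ∈ Y, Commute v2 f := fun f hf => by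
    have hxf : c.d.x * f⁻¹ * c.d.x⁻¹ = f := by rw [E.Y_x (inv_mem hf), inv_inv]
    have h := hv1Y _ (inv_mem hf)
    show v2 * f = f * v2
    conv_lhs => rw [hv2, ← hxf, conj_mul, h.eq, ← conj_mul, hxf]
  have hv1s : IsPGroup s (zpowers v1) :=
    isPGroup_zpowers_conj (isPGroup_zpowers_of_mem (coreIn_pGroup s c.C) hy) g
  have hv1W : v1 ∈ c.W a := hY1W y hy
  have hv2W : v2 ∈ c.W a := he ▸ hY2W y' hy'
  refine ⟨v1 * v2, ?_, ?_, isPGroup_zpowers_mul hv1s (isPGroup_zpowers_conj hv1s _) h12, ?_, ?_,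
    fun f hf => (hv1Y f hf).mul_left (hv2Y f hf), fun t ht hts htW f hf => ?_⟩
  · intro e
    rw [mul_eq_one_iff_inv_eq, he] at e
    have h1 : g * y⁻¹ * g⁻¹ = g⁻¹ * y' * g := by rw [← e, hv1]; group
    exact hy1 (inv_eq_one.1 (hdisj12 _ (inv_mem hy) _ hy' h1))
  · exact mul_mem (ha.mem_W.1 hv1W).1 (ha.mem_W.1 hv2W).1
  · show v1 * v2 * c.d.x = c.d.x * (v1 * v2)
    refine (mul_inv_eq_iff_eq_mul.1 ?_).symm
    have hz : c.d.z * v1 * c.d.z⁻¹ = v1 :=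
      mul_inv_eq_iff_eq_mul.2 (ha.W_comm hv1W).1.symm
    calc c.d.x * (v1 * v2) * c.d.x⁻¹ = v2 * (c.d.x * c.d.x * v1 * (c.d.x * c.d.x)⁻¹) := by
          rw [hv2]; group
      _ = v1 * v2 := by rw [← E.z_xx, hz, h12.eq]
  · exact (show Commute v1 a from (ha.mem_W.1 hv1W).2).mul_left (ha.mem_W.1 hv2W).2
  · haveI := Fact.mk ht
    have hkey : ∀ u ∈ Y, ∀ q : G, (∀ w ∈ c.W a, ∀ y ∈ Y, ∃ y₃ ∈ Y, w * (q * y * q⁻¹) * w⁻¹ = q * y₃ * q⁻¹) →
        q * u * q⁻¹ ∈ c.W a → Commute (q * u * q⁻¹) f := by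
      intro u hu q hq huW
      refine hcomm ?_
      obtain ⟨y₄, hy₄, e₄⟩ := hq _ (htW hf) u⁻¹ (inv_mem hu)
      have h1 : q * u * q⁻¹ * f * (q * u * q⁻¹)⁻¹ * f⁻¹ ∈ c.Qc t :=
        mul_mem ((mem_normalizer_iff.1 (normalizes_coreIn t c.C (hWC huW)) f).1 hf) (inv_mem hf)
      have e6 : q * u * q⁻¹ * f * (q * u * q⁻¹)⁻¹ * f⁻¹ = q * (u * y₄) * q⁻¹ := by
        rw [show q * (u * y₄) * q⁻¹ = q * u * q⁻¹ * (q * y₄ * q⁻¹) by group, ← e₄]
        group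
      have h2 : IsPGroup s (zpowers (q * u * q⁻¹ * f * (q * u * q⁻¹)⁻¹ * f⁻¹)) := by
        rw [e6]
        exact isPGroup_zpowers_conj (isPGroup_zpowers_of_mem (coreIn_pGroup s c.C) (mul_mem hu hy₄)) q
      have h3 := IsPGroup.disjoint_of_ne t s hts _ _ (coreIn_pGroup t c.C) h2
      exact mem_bot.1 (disjoint_iff.1 h3 ▸ ⟨h1, mem_zpowers _⟩)
    refine Commute.mul_left (hkey y hy g hY1n hv1W) ?_
    have := hkey y' hy' g⁻¹ (by simpa using hY2n) (by rw [inv_inv]; exact hY2W y' hy')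
    rw [inv_inv, ← he] at this
    exact this

set_option maxHeartbeats 800000 in
/-- `O_s(C)` has order three. -/
theorem card_three (hC : IsCoatom c.C) (hY : c.Qc s ≠ ⊥) : s = 3 ∧ Nat.card (c.Qc s) = 3 := by
  classical
  haveI := E.fact
  haveI : Fact (Nat.Prime 2) := ⟨Nat.prime_two⟩
  obtain ⟨k, hk1, hkU, hks, hkx, hka, hkY, -⟩ := E.exists_k hC hY
  have hb := E.refl_b
  set b := c.d.x * a with hbdef
  have hkb : Commute k b := hkx.mul_right hka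
  have hkW : k ∈ c.W b := hb.mem_W.2 ⟨hkU, hkb⟩
  have hPW : (c.P : Subgroup G) ≤ normalizer (c.W b : Set G) := by
    have key : ∀ p ∈ (c.P : Subgroup G), p * b * p⁻¹ = c.d.z * b → p ∈ normalizer (c.W b : Set G) := by
      intro p hp e
      refine mem_normalizer_fintype fun w hw => ?_
      show p * w * p⁻¹ ∈ c.W b
      obtain ⟨hwU, hwb⟩ := hb.mem_W.1 hw
      rw [← hb.W_eq]
      refine hb.mul_z.mem_W.2 ⟨c.U_conj p (c.P_le hp) w hwU, ?_⟩
      rw [← e, conj_mul, conj_mul, hwb]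
    refine E.P_le_of (key _ c.d.hx E.b_zb) (key _ E.refl.1 ?_)
    have hxi : c.d.x⁻¹ = c.d.z * c.d.x := by
      refine inv_eq_of_mul_eq_one_right ?_
      rw [← mul_assoc, E.xz, mul_assoc, ← E.z_xx, c.d.zz]
    calc a * b * a⁻¹ = a * c.d.x * a⁻¹ * a := by rw [hbdef]; group
      _ = c.d.z * b := by rw [E.refl.inv_x, hxi, mul_assoc]
  have hPk : (c.P : Subgroup G) ≤ normalizer (zpowers k : Set G) :=
    (E.P_le_of (T := centralizer ({k} : Set G)) (mem_centralizer_singleton_iff.2 hkx.eq.symm)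
      (mem_centralizer_singleton_iff.2 hka.eq.symm)).trans (by
        refine le_trans ?_ (centralizer_le_normalizer _)
        rw [zpowers_eq_closure, centralizer_closure])
  have hWodd : Odd (Nat.card (c.W b)) := c.U_odd.of_dvd_nat (card_dvd_of_le inf_le_left)
  have hcop : (Nat.card (c.P : Subgroup G)).Coprime (Nat.card (c.W b)) := by
    obtain ⟨n, hn⟩ := IsPGroup.iff_card.1 c.P.isPGroup'
    rw [hn]
    exact Nat.Coprime.pow_left n (Nat.coprime_two_left.2 hWodd)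
  haveI : Group.IsNilpotent (c.P : Subgroup G) := c.P.isPGroup'.isNilpotent
  obtain ⟨S, hkS, hPS⟩ := CoprimeAct.exists_invariant_sylow_ge hPW hcop (Or.inl inferInstance)
    (zpowers_le.2 hkW) hks hPk
  set R := (S : Subgroup (c.W b)).map (c.W b).subtype with hR
  have hRW : R ≤ c.W b := map_subtype_le _
  have hRp : IsPGroup s R := S.isPGroup'.map _
  have hkR : k ∈ R := hkS (mem_zpowers k)
  have hRne : R ≠ ⊥ := fun e => hk1 (mem_bot.1 (e ▸ hkR))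
  -- a rotation normalising `R`
  obtain ⟨g, g1, -, g3⟩ := hb.exists_rot
  have hgR : R.map (MulAut.conj g).toMonoidHom ≤ c.W b := by
    rintro _ ⟨r, hr, rfl⟩
    exact hb.rot_W g1 g3 (hRW hr)
  have hcard : Nat.card (R.map (MulAut.conj g).toMonoidHom : Subgroup G) =
      s ^ (Nat.card (c.W b)).factorization s := by
    rw [card_map_of_injective (MulAut.conj g).injective, hR, CoprimeAct.card_map_sylow S]
  obtain ⟨S', hS'⟩ := CoprimeAct.exists_sylow_of_card hgR hcard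
  obtain ⟨w, hw⟩ := MulAction.exists_smul_eq (c.W b) S' S
  set n := (w : G) * g with hn
  have hnR : n ∈ normalizer (R : Set G) := by
    refine mem_normalizer_fintype fun r hr => ?_
    have h1 : g * r * g⁻¹ ∈ (S' : Subgroup (c.W b)).map (c.W b).subtype := by
      rw [hS']; exact ⟨r, hr, rfl⟩
    obtain ⟨r', hr', e⟩ := h1
    refine ⟨w * r' * w⁻¹, ?_, ?_⟩
    · rw [← hw]
      exact smul_mem_pointwise_smul _ _ _ hr'
    · change (r' : G) = g * r * g⁻¹ at e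
      show (w : G) * r' * (w : G)⁻¹ = n * r * n⁻¹
      rw [e, hn]; group
  have hnz : n * c.d.z * n⁻¹ = b := by
    rw [hn, show (w : G) * g * c.d.z * ((w : G) * g)⁻¹ = w * (g * c.d.z * g⁻¹) * (w : G)⁻¹ by group, g1,
      (hb.mem_W.1 w.2).2, mul_inv_cancel_right]
  set H := normalizer (R : Set G) with hH
  have hHtop : H ≠ ⊤ := by
    intro e
    haveI := c.simple
    haveI : R.Normal := normalizer_eq_top_iff.1 e
    rcases (inferInstance : R.Normal).eq_bot_or_eq_top with h | h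
    · exact hRne h
    · exact c.C_ne_top (top_le_iff.1 (h ▸ (hRW.trans inf_le_left).trans c.U_le))
  have hPH : (c.P : Subgroup G) ≤ H := hPS
  have hfus : ∃ e ∈ H, e * b * e⁻¹ = c.d.z :=
    ⟨n⁻¹, inv_mem hnR, by rw [← hnz]; group⟩
  -- a fixed point of `R`
  have hRC : R ≤ c.C := (hRW.trans inf_le_left).trans c.U_le
  obtain ⟨y, hy, hy1, hyR⟩ : ∃ y ∈ c.Qc s, y ≠ 1 ∧ ∀ r ∈ R, r * y = y * r := by
    letI : MulAction R (c.Qc s) :=
      { smul := fun r v => ⟨(r : G) * v * (r : G)⁻¹,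
          (mem_normalizer_iff.1 (normalizes_coreIn s c.C (hRC r.2)) _).1 v.2⟩
        one_smul := fun v => Subtype.ext (show (1 : G) * v * (1 : G)⁻¹ = v by group)
        mul_smul := fun r r' v => Subtype.ext (show
          ((r : G) * r') * v * ((r : G) * r')⁻¹ = r * (r' * v * (r' : G)⁻¹) * (r : G)⁻¹ by group) }
    haveI : Nontrivial (c.Qc s) := (nontrivial_iff_ne_bot _).2 hY
    obtain ⟨m, hm⟩ := IsPGroup.iff_card.1 (coreIn_pGroup s c.C)
    have hm0 : m ≠ 0 := fun e => hY (card_eq_one.1 (by rw [hm, e, pow_zero]))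
    obtain ⟨v, hv, hv1⟩ := hRp.exists_fixed_point_of_prime_dvd_card_of_fixed_point (c.Qc s)
      (a := 1) (hm ▸ dvd_pow_self s hm0) (fun r => Subtype.ext (show (r : G) * 1 * (r : G)⁻¹ = 1 by group))
    exact ⟨v, v.2, fun e => hv1 (Subtype.ext e.symm), fun r hr => mul_inv_eq_iff_eq_mul.1
      (congrArg Subtype.val (hv ⟨r, hr⟩))⟩
  have hyH : y ∈ H := centralizer_le_normalizer _ (mem_centralizer_iff.2 hyR)
  obtain ⟨hPC, e, he, heb⟩ := E.fus_in_cent hHtop hPH hfus le_rfl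
    (fun r hr => c.mem_C.1 (hRC hr)) (fun r hr => (hb.mem_W.1 (hRW hr)).2) hy hyH hy1
  -- the centraliser of `k`
  set H₂ := centralizer ({k} : Set G) with hH₂
  have hle : centralizer (R : Set G) ≤ H₂ := centralizer_le (Set.singleton_subset_iff.2 hkR)
  have hH₂top : H₂ ≠ ⊤ := by
    intro e'
    haveI := c.simple
    have hmem : k ∈ center G := mem_center_iff.2 fun g =>
      mem_centralizer_singleton_iff.1 (by rw [← hH₂, e']; exact mem_top g)
    rcases (center G).normal_of_characteristic.eq_bot_or_eq_top with h | h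
    · rw [h, mem_bot] at hmem; exact hk1 hmem
    · exact c.noncomm (center_eq_top_iff.1 h)
  have h3 := E.card_dvd_three hH₂top (hPC.trans hle) ⟨e, hle he, heb⟩ le_rfl
    (fun v hv => mem_centralizer_singleton_iff.2 (hkY v hv).eq.symm)
  obtain ⟨m, hm⟩ := IsPGroup.iff_card.1 (coreIn_pGroup s c.C)
  have hne1 : Nat.card (c.Qc s) ≠ 1 := fun e' => hY (card_eq_one.1 e')
  have h3' : Nat.card (c.Qc s) = 3 := ((Nat.dvd_prime Nat.prime_three).1 h3).resolve_left hne1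
  refine ⟨?_, h3'⟩
  rw [hm] at h3' hne1
  have hm0 : m ≠ 0 := fun e' => hne1 (by rw [e', pow_zero])
  exact ((Nat.prime_dvd_prime_iff_eq E.prime Nat.prime_three).1 (h3' ▸ dvd_pow_self s hm0))

end ExoData

namespace Core

variable {G : Type u} [Group G] [Finite G] {c : Core G}

open Cfsg Cfsg.Agent.Blocks Cfsg.Agent.Char

theorem numInv_shift (i j : ℤ) :
    numInv c.U (c.d.x ^ (i + 2 * j) * c.d.y) = numInv c.U (c.d.x ^ i * c.d.y) := by
  have e : c.d.x ^ j * (c.d.x ^ i * c.d.y) * (c.d.x ^ j)⁻¹ = c.d.x ^ (i + 2 * j) * c.d.y := by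
    rw [← zpow_neg, mul_assoc, mul_assoc, c.d.swap, neg_neg, ← mul_assoc, ← mul_assoc, ← zpow_add,
      ← zpow_add]
    congr 2
    ring
  rw [← e]
  haveI : Fintype G := Fintype.ofFinite G
  have hp := c.P_le (zpow_mem c.d.hx j)
  refine numInv_conj c.U _ _ fun w => ⟨fun h => ?_, fun h => c.U_conj _ hp w h⟩
  have := c.U_conj _ (inv_mem hp) _ h
  rwa [inv_inv, show (c.d.x ^ j)⁻¹ * (c.d.x ^ j * w * (c.d.x ^ j)⁻¹) * c.d.x ^ j = w by group] at this

theorem numInv_eq_of_mem {F : Subgroup G} {r : G} (hF : ∀ f, f ∈ F ↔ f ∈ c.U ∧ r * f * r⁻¹ = f⁻¹) :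
    numInv c.U r = Nat.card F :=
  Nat.card_congr
    { toFun := fun w => ⟨w.1, (hF _).2 ⟨w.1.2, w.2⟩⟩
      invFun := fun f => ⟨⟨f, ((hF _).1 f.2).1⟩, ((hF _).1 f.2).2⟩
      left_inv := fun w => rfl
      right_inv := fun f => rfl }

set_option maxHeartbeats 1000000 in
/-- No reflection of a Sylow subgroup of order eight centralises an `O_s(C)` inverted by the other class. -/
theorem exotic_false (hC : IsCoatom c.C) (hN : ∀ r, c.Refl r → c.NeverMixed r) {a : G} (ha : c.Refl a)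
    (hm : c.d.m = 4) {s : ℕ} [Fact s.Prime] (hs2 : s ≠ 2) (hY : c.Qc s ≠ ⊥) (hYW : c.Qc s ≤ c.W a)
    (hYb : c.Qc s ⊓ c.W (c.d.x * a) = ⊥) : False := by
  classical
  haveI := c.simple
  have E : ExoData c a s := ⟨ha, hN, hm, Fact.out, hs2, hYW, hYb⟩
  obtain ⟨hs3, hY3⟩ := E.card_three hC hY
  obtain ⟨k, hk1, hkU, hks, hkx, hka, hkY, hkcore⟩ := E.exists_k hC hY
  have hb := E.refl_b
  set b := c.d.x * a with hbdef
  have hkW : k ∈ c.W b := hb.mem_W.2 ⟨hkU, hkx.mul_right hka⟩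
  obtain ⟨Fa, hFaU, hFaZ, hFan, hFam⟩ := (hN a ha).exists_inv_subgroup ha
  obtain ⟨Fb, hFbU, hFbZ, hFbn, hFbm⟩ := (hN b hb).exists_inv_subgroup hb
  have hodd : ∀ f ∈ c.U, Odd (orderOf f) := fun f hf => c.odd_of_mem_U hf
  have hself : ∀ {r f : G}, f ∈ c.U → r * f * r⁻¹ = f⁻¹ → r * f * r⁻¹ = f → f = 1 := fun {r f} hf h1 h2 =>
    eq_one_of_sq_odd (by nth_rewrite 1 [h2.symm.trans h1]; rw [inv_mul_cancel]) (hodd f hf)
  have hfix : ∀ {r f : G}, c.Refl r → f ∈ c.W r → r * f * r⁻¹ = f := fun {r f} hr hf =>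
    mul_inv_eq_iff_eq_mul.2 (hr.mem_W.1 hf).2.symm
  -- only the prime `s` is exotic
  have hfree : ∀ (r : G) (t : ℕ), t.Prime → t ≠ 2 → c.Refl r → c.Qc t ≤ c.W r →
      c.Qc t ⊓ c.W (c.d.x * r) = ⊥ → c.Qc t ≠ ⊥ → t = s := fun r t ht ht2 hr hle hcap hne => by
    have E' : ExoData c r t := ⟨hr, hN, hm, ht, ht2, hle, hcap⟩
    rw [(E'.card_three hC hne).1, hs3]
  have hne2 : ∀ {f : G} {t : ℕ}, f ∈ c.U → t.Prime → IsPGroup t (zpowers f) → f ≠ 1 → t ≠ 2 := by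
    rintro f t hf ht hp hf1 rfl
    obtain ⟨j, hj⟩ := IsPGroup.iff_card.1 hp
    rw [Nat.card_zpowers] at hj
    refine hf1 (orderOf_eq_one_iff.1 (Nat.eq_one_of_dvd_coprimes
      (Nat.Coprime.pow_right j (Nat.coprime_two_right.2 (hodd f hf))) dvd_rfl hj.dvd))
  have hQbot : ∀ {f : G} {t : ℕ}, f ∈ c.Qc t → f ≠ 1 → c.Qc t ≠ ⊥ := fun {f t} hf hf1 e =>
    hf1 (mem_bot.1 (e ▸ hf))
  have hYFb : c.Qc s ≤ Fb := fun y hy => (hFbm y).2 ⟨c.Qc_le_U hs2 hy, E.Y_b hy⟩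
  have hFbY : Fb ⊓ c.W a ≤ c.Qc s := by
    refine le_of_parts fun f hf t ht hp => ?_
    by_cases hf1 : f = 1
    · rw [hf1]; exact one_mem _
    haveI := Fact.mk ht
    have hfQ : f ∈ c.Qc t := mem_Qc_of_pow (hFbZ hf.1).1 hp
    have ht2 := hne2 (hFbU hf.1) ht hp hf1
    have hle : c.Qc t ≤ c.W a := by
      by_contra h
      refine hN a ha t inferInstance ht2 ⟨fun e => hf1 (mem_bot.1 ?_), h⟩
      rw [← e]; exact ⟨hfQ, hf.2⟩
    have hcap : c.Qc t ⊓ c.W b = ⊥ := by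
      by_contra h
      have hle' : c.Qc t ≤ c.W b := by
        by_contra h'
        exact hN b hb t inferInstance ht2 ⟨h, h'⟩
      exact hf1 (hself (hFbU hf.1) ((hFbm f).1 hf.1).2 (hfix hb (hle' hfQ)))
    rwa [← hfree a t ht ht2 ha hle hcap (hQbot hfQ hf1)]
  have hFaFb : Fa ≤ Fb := by
    refine le_of_parts fun f hf t ht hp => ?_
    by_cases hf1 : f = 1
    · rw [hf1]; exact one_mem _
    haveI := Fact.mk ht
    have hfQ : f ∈ c.Qc t := mem_Qc_of_pow (hFaZ hf).1 hp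
    have ht2 := hne2 (hFaU hf) ht hp hf1
    obtain ⟨hfU, hfi⟩ := (hFam f).1 hf
    rcases (hN b hb).dichotomy hb t ht2 with h | h
    · exfalso
      have hle : c.Qc t ≤ c.W b := fun v hv =>
        hb.mem_W.2 ⟨c.Qc_le_U ht2 hv, (mul_inv_eq_iff_eq_mul.1 (h v hv)).symm⟩
      have hcap : c.Qc t ⊓ c.W (c.d.x * b) = ⊥ := by
        rw [hbdef, ← mul_assoc, ← E.z_xx, ha.W_eq]
        by_contra h'
        have hle' : c.Qc t ≤ c.W a := by
          by_contra h''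
          exact hN a ha t inferInstance ht2 ⟨h', h''⟩
        exact hf1 (hself hfU hfi (hfix ha (hle' hfQ)))
      have hts := hfree b t ht ht2 hb hle hcap (hQbot hfQ hf1)
      rw [hts] at hfQ
      exact hf1 (hself hfU hfi (hfix ha (hYW hfQ)))
    · exact (hFbm f).2 ⟨hfU, h f hfQ⟩
  have hcomm : ∀ f ∈ Fb, ∀ f' ∈ Fb, f * f' = f' * f := fun f hf f' hf' =>
    mem_centralizer_iff.1 (ZFit_comm (hFbZ hf')) f (hFbZ hf)
  -- the inverted elements of the two classes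
  have hsplit : Nat.card Fb = 3 * Nat.card Fa := by
    rw [← hY3, ← Nat.card_prod]
    refine (Nat.card_eq_of_bijective (fun p : c.Qc s × Fa =>
      (⟨p.1 * p.2, mul_mem (hYFb p.1.2) (hFaFb p.2.2)⟩ : Fb)) ⟨?_, ?_⟩).symm
    · rintro ⟨⟨y, hy⟩, ⟨f, hf⟩⟩ ⟨⟨y', hy'⟩, ⟨f', hf'⟩⟩ e
      have e' : y * f = y' * f' := congrArg Subtype.val e
      have h1 : y'⁻¹ * y = f' * f⁻¹ := by
        calc y'⁻¹ * y = y'⁻¹ * (y * f) * f⁻¹ := by group
          _ = f' * f⁻¹ := by rw [e']; group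
      obtain ⟨hU1, hi⟩ := (hFam _).1 (mul_mem hf' (inv_mem hf))
      have h2 : f' * f⁻¹ = 1 := hself hU1 hi (hfix ha (by rw [← h1]; exact hYW (mul_mem (inv_mem hy') hy)))
      have h3 : f' = f := mul_inv_eq_one.1 h2
      subst h3
      exact Prod.ext (Subtype.ext (mul_right_cancel e')) rfl
    · rintro ⟨v, hv⟩
      obtain ⟨r, hr, w, hw, e, hri, hwa⟩ := split_invol ha.sq
        (fun f hf => (mem_normalizer_iff.1 (hFbn ha.mem_C) f).1 hf) (fun f hf => hodd f (hFbU hf)) hv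
      have hwY : w ∈ c.Qc s := hFbY ⟨hw, ha.mem_W.2 ⟨hFbU hw, hwa.symm⟩⟩
      refine ⟨(⟨w, hwY⟩, ⟨r, (hFam r).2 ⟨hFbU hr, hri⟩⟩), Subtype.ext ?_⟩
      show w * r = v
      rw [e, hcomm r hr w hw]
  -- `k` moves an inverted element
  have hmove : ∃ f ∈ Fa, k * f * k⁻¹ ≠ f := by
    by_contra hno
    push Not at hno
    have hcent : fitIn c.C ≤ centralizer ({k} : Set G) := fitIn_le_iff.2 fun t ht f hf => by
      haveI := Fact.mk ht
      rw [mem_centralizer_singleton_iff]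
      suffices h : Commute k f from h.eq.symm
      by_cases hts : t = s
      · exact hkY f (hts ▸ hf)
      by_cases ht2 : t = 2
      · subst ht2
        have hf' : k * f * k⁻¹ ∈ c.Qc 2 := (mem_normalizer_iff.1 (normalizes_coreIn 2 c.C (c.U_le hkU)) f).1 hf
        have hm' : k * f * k⁻¹ * f⁻¹ ∈ c.Qc 2 := mul_mem hf' (inv_mem hf)
        have hmU : k * f * k⁻¹ * f⁻¹ ∈ c.U := by
          rw [show k * f * k⁻¹ * f⁻¹ = k * (f * k⁻¹ * f⁻¹) by group]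
          exact mul_mem hkU (c.U_conj f (c.Qc_le_C 2 hf) _ (inv_mem hkU))
        by_contra hne
        exact (hne2 hmU Nat.prime_two (isPGroup_zpowers_of_mem (coreIn_pGroup 2 c.C) hm')
          fun e => hne (mul_inv_eq_iff_eq_mul.1 (mul_inv_eq_one.1 e))) rfl
      rcases (hN a ha).dichotomy ha t ht2 with h | h
      · exact hkcore t ht hts (fun v hv =>
          ha.mem_W.2 ⟨c.Qc_le_U ht2 hv, (mul_inv_eq_iff_eq_mul.1 (h v hv)).symm⟩) f hf
      · exact mul_inv_eq_iff_eq_mul.1 (hno f ((hFam f).2 ⟨c.Qc_le_U ht2 hf, h f hf⟩))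
    have hkF : k ∈ fitIn c.C := by
      haveI := c.C_solvable
      refine ⟨⟨k, c.U_le hkU⟩, FittingCores.centralizer_fitting_le ?_, rfl⟩
      exact mem_centralizer_iff.2 fun f hf => Subtype.ext
        (mem_centralizer_singleton_iff.1 (hcent ⟨f, hf, rfl⟩))
    have hm' : k ∈ c.Qc s ⊓ c.W b := ⟨mem_Qc_of_pow hkF hks, hkW⟩
    rw [hYb, mem_bot] at hm'
    exact hk1 hm'
  -- the degree
  haveI : Fintype G := Fintype.ofFinite G
  haveI : Fact (Nat.Prime 2) := ⟨Nat.prime_two⟩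
  obtain ⟨M, hM⟩ := Cfsg.Agent.GlaubermanMod.exists_isPModular 2
  haveI : M.IsPrime := hM.2.1.isPrime
  have hcardC : Nat.card c.C = Nat.card c.U * Nat.card (c.P : Subgroup G) := by
    rw [c.C_card, c.d.card]
  obtain ⟨χ, e, x, A, B, hχ, hχz, hdeg, he, hxp, hxe, hA0, hB0, hsum, hx8, hA, hB, -, hid⟩ :=
    ratio c.d c.U_le c.U_conj c.U_odd hcardC c.one_class hM (h := 2) hm le_rfl dvd_rfl
  have hna := numInv_eq_of_mem hFam
  have hnb := numInv_eq_of_mem hFbm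
  rw [hsplit] at hnb
  set n := Nat.card Fa with hn
  have hn0 : (n : ℤ) ≠ 0 := by exact_mod_cast Nat.card_pos.ne'
  have hnums : (numInv c.U c.d.y = n ∧ numInv c.U (c.d.x * c.d.y) = 3 * n) ∨
      (numInv c.U c.d.y = 3 * n ∧ numInv c.U (c.d.x * c.d.y) = n) := by
    rcases c.d.cases a ha.1 with ⟨i, hi⟩ | ⟨i, hi⟩
    · exact absurd (hi ▸ zpow_mem (mem_zpowers _) i) ha.2
    have hbe : b = c.d.x ^ (i + 1) * c.d.y := by
      rw [hbdef, hi, ← mul_assoc, ← zpow_one_add, add_comm]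
    rcases Int.even_or_odd' i with ⟨j, rfl | rfl⟩
    · left
      rw [hi, show (2 * j : ℤ) = 0 + 2 * j by ring, numInv_shift, zpow_zero, one_mul] at hna
      rw [hbe, show (2 * j + 1 : ℤ) = 1 + 2 * j by ring, numInv_shift, zpow_one] at hnb
      exact ⟨hna, hnb⟩
    · right
      rw [hi, show (2 * j + 1 : ℤ) = 1 + 2 * j by ring, numInv_shift, zpow_one] at hna
      rw [hbe, show (2 * j + 1 + 1 : ℤ) = 0 + 2 * (j + 1) by ring, numInv_shift, zpow_zero, one_mul] at hnb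
      exact ⟨hnb, hna⟩
  rw [hm] at hx8 hA hB
  push_cast at hx8 hA hB
  obtain ⟨he1, hx15⟩ := exotic_numeric he hxp hxe (by omega) (by omega) (by omega) hsum (by
    have h16 : (4 : ℤ) * (n : ℤ) ^ 2 ≠ 0 := mul_ne_zero (by norm_num) (pow_ne_zero _ hn0)
    refine mul_left_cancel₀ h16 ?_
    rcases hnums with ⟨e1, e2⟩ | ⟨e1, e2⟩ <;> rw [e1, e2] at hid <;> push_cast at hid <;>
      linear_combination hid)
  have hdeg15 : charDegree (χ : G → ℂ) = 15 := by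
    rw [hx15] at hdeg; exact_mod_cast hdeg
  -- too many constituents
  obtain ⟨⟨y, hy⟩, hy1⟩ := ne_bot_iff_exists_ne_one.1 hY
  have hkC : k ∈ c.C := c.U_le hkU
  have h16 := orbit_sixteen χ (B := Fb) (X := Fa) (z := c.d.z) (a := a) (x := c.d.x) (k := k) (y := y)
    c.d.zz hcomm (c.U_odd.of_dvd_nat (card_dvd_of_le hFbU)) hFaFb
    (fun f hf => c.mem_C.1 (c.U_le (hFbU hf)))
    (fun f hf => DihBlock.section_const hM hχ rfl (c.mem_C.1 (c.U_le (hFbU hf))).symm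
      ⟨1, by rw [c.z_order, pow_one]⟩ (hodd f (hFbU hf)).not_two_dvd_nat
      (DihBlock.complement_all c.d ⟨1, by rw [c.z_order, pow_one]⟩ c.d.z_ne))
    (fun f _ h => faithful_of_simple (by omega) h)
    (fun f hf => (mem_normalizer_iff.1 (hFbn ha.mem_C) f).1 hf)
    (fun f hf => (mem_normalizer_iff.1 (hFbn (c.P_le c.d.hx)) f).1 hf)
    (fun f hf => (mem_normalizer_iff.1 (hFbn hkC) f).1 hf)
    (fun f hf => (mem_normalizer_iff.1 (hFan hkC) f).1 hf)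
    (fun f hf => ((hFam f).1 hf).2)
    (fun f hf => by
      have h1 := ((hFbm f).1 (hFaFb hf)).2
      have h2 := ((hFam f).1 hf).2
      calc c.d.x * f * c.d.x⁻¹ = b * (a⁻¹ * f * a) * b⁻¹ := by rw [hbdef]; group
        _ = b * f⁻¹ * b⁻¹ := by rw [ha.inv_eq] at h2 ⊢; rw [h2]
        _ = f := by rw [← conj_inv, h1, inv_inv])
    (hYFb hy) (fun e1 => hy1 (Subtype.ext e1))
    (mul_inv_eq_iff_eq_mul.2 (hkY y hy).eq) (mul_inv_eq_iff_eq_mul.2 (E.Y_a hy).symm) (E.Y_x hy)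
    (hodd k hkU) hmove
  omega

end Core

end Cfsg.Agent.GW
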