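import Cfsg.Agent.Lib.GW.Endgame
import Cfsg.Agent.Lib.GW.Exotic

/-!
With `C` maximal and no mixed reflection, `G` is a target.
-/

set_option autoImplicit false

namespace Cfsg.Agent.GW

universe u

namespace Core

variable {G : Type u} [Group G] [Finite G] {c : Core G}

theorem noMixed_of_never (h : ∀ r, c.Refl r → c.NeverMixed r) : c.NoMixed :=
  fun q hq hq2 a ha hne => by_contra fun hle => h a ha q ⟨hq⟩ hq2 ⟨hne, hle⟩

theorem never_of_noMixed (h : c.NoMixed) : ∀ r, c.Refl r → c.NeverMixed r :=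
  fun r hr q hq hq2 hm => hm.2 (h q hq.out hq2 r hr hm.1)

theorem no_exotic (hC : IsCoatom c.C) (hN : c.NoMixed) (a : G) : ¬ c.Exotic a := by
  rintro ⟨ha, hm, s, hs, hs2, hY, hYW, hYb⟩
  haveI := Fact.mk hs
  exact exotic_false hC (never_of_noMixed hN) ha hm hs2 hY hYW hYb

/-- With `C` maximal and no mixed reflection the core is finished. -/
theorem target_of_noMixed (hC : IsCoatom c.C) (hN : c.NoMixed) : IsTarget G :=
  target_of_w_eq_bot (w_eq_bot hC hN (no_exotic hC hN))

end Core

end Cfsg.Agent.GW
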