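import Cfsg.Agent.Lib.GW.CoreExists
import Cfsg.Agent.Lib.GW.EndgameMain

/-!
The assembly of the core theorem from its two main steps.
-/

set_option autoImplicit false

namespace Cfsg.Agent.GW

universe u

/-- The simple dihedral theorem from step C and the absence of mixed reflections. -/
theorem simpleDihedral_of_steps
    (hC : ∀ (G : Type u) [Group G] [Finite G] (c : Core G) (M : Subgroup G),
      IsCoatom M → c.C < M → IsTarget G)
    (hN : ∀ (G : Type u) [Group G] [Finite G] (c : Core G), IsCoatom c.C → c.NoMixed) :
    SimpleDihedral.{u} := by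
  refine simpleDihedral_of_step fun G _ _ _ P n hn hP hK => ?_
  obtain ⟨c⟩ := exists_core P n hn hP hK
  obtain ⟨M, hM, hle⟩ := (eq_top_or_exists_le_coatom c.C).resolve_left c.C_ne_top
  rcases eq_or_lt_of_le hle with e | hlt
  · exact Core.target_of_noMixed (e ▸ hM) (hN G c (e ▸ hM))
  · exact hC G c M hM hlt

end Cfsg.Agent.GW
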