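import Cfsg.Agent.Lib.GW.Structure
import Cfsg.Agent.Lib.AutPSL.Centralizer
import Cfsg.Agent.Lib.Perm.AutAlternating
import Cfsg.Prelude.Def_KGroupFacts

/-!
Groups between a target and its automorphism group.
-/

set_option autoImplicit false

namespace Cfsg.Agent.GW

universe u v

section Transport

variable {A : Type u} {B : Type v} [Group A] [Group B]

/-- Transport of automorphisms along an isomorphism. -/
def autCongr (e : A ≃* B) : MulAut A ≃* MulAut B := MulAut.congr e

theorem autCongr_conj (e : A ≃* B) (a : A) :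
    autCongr e (MulAut.conj a) = MulAut.conj (e a) := by
  ext b
  simp [autCongr, MulAut.congr]

/-- The outer automorphism group is an isomorphism invariant. -/
theorem out_solvable_congr (e : A ≃* B)
    (h : Group.IsSolvable (MulAut B ⧸ Cfsg.Inn B)) : Group.IsSolvable (MulAut A ⧸ Cfsg.Inn A) := by
  let f : MulAut A →* MulAut B ⧸ Cfsg.Inn B := (QuotientGroup.mk' _).comp (autCongr e).toMonoidHom
  have hker : f.ker = Cfsg.Inn A := by
    ext φ
    rw [MonoidHom.mem_ker]
    simp only [f, MonoidHom.comp_apply, MulEquiv.coe_toMonoidHom, QuotientGroup.mk'_apply,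
      QuotientGroup.eq_one_iff]
    constructor
    · rintro ⟨b, hb⟩
      refine ⟨e.symm b, (autCongr e).injective ?_⟩
      rw [autCongr_conj, MulEquiv.apply_symm_apply, hb]
    · rintro ⟨a, rfl⟩
      exact ⟨e a, (autCongr_conj e a).symm⟩
  haveI := h
  exact Group.isSolvable_of_isSolvable_injective
    (f := (QuotientGroup.kerLift f).comp (QuotientGroup.quotientMulEquivOfEq hker.symm).toMonoidHom)
    ((QuotientGroup.kerLift_injective f).comp (MulEquiv.injective _))

end Transport

theorem out_psl_solvable (F : Type) [Field F] [Fintype F] :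
    Group.IsSolvable (MulAut (Matrix.ProjectiveSpecialLinearGroup (Fin 2) F) ⧸
      Cfsg.Inn (Matrix.ProjectiveSpecialLinearGroup (Fin 2) F)) := by
  obtain ⟨φ, -, -, -, ⟨e⟩⟩ := AutPSL.exists_outer_hom (F := F) (n := 2) le_rfl
  haveI : Group.IsSolvable ((F ≃+* F) × Multiplicative (ZMod 2)) :=
    Group.isSolvable_of_comm fun a b => Prod.ext (AutPSL.ringAut_comm a.1 b.1) (mul_comm _ _)
  haveI : Group.IsSolvable (Fˣ ⧸ (powMonoidHom 2 : Fˣ →* Fˣ).range) :=
    Group.isSolvable_of_comm fun a b => mul_comm a b
  haveI : Group.IsSolvable φ.ker :=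
    Group.isSolvable_of_isSolvable_injective (f := e.toMonoidHom) e.injective
  exact Group.isSolvable_of_ker_le_range φ.ker.subtype φ (by rw [Subgroup.range_subtype])

theorem out_alt_seven_solvable :
    Group.IsSolvable (MulAut (alternatingGroup (Fin 7)) ⧸ Cfsg.Inn (alternatingGroup (Fin 7))) := by
  have hb := AutAlt.bijective_conjNormal (n := 7) (by norm_num) (by norm_num)
  refine Group.isSolvable_of_comm fun a b => ?_
  induction a using QuotientGroup.induction_on with
  | _ α =>
  induction b using QuotientGroup.induction_on with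
  | _ β =>
  obtain ⟨p, rfl⟩ := hb.2 α
  obtain ⟨q, rfl⟩ := hb.2 β
  rw [← QuotientGroup.mk_mul, ← QuotientGroup.mk_mul, QuotientGroup.eq]
  have hr : (q⁻¹ * p⁻¹ * q * p : Equiv.Perm (Fin 7)) ∈ alternatingGroup (Fin 7) := by
    rw [Equiv.Perm.mem_alternatingGroup, map_mul, map_mul, map_mul, map_inv, map_inv]
    rcases Int.units_eq_one_or (Equiv.Perm.sign p) with e | e <;>
      rcases Int.units_eq_one_or (Equiv.Perm.sign q) with e' | e' <;> rw [e, e'] <;> decide
  refine ⟨⟨_, hr⟩, ?_⟩
  simp only [← map_inv, ← map_mul]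
  ext x
  simp [MulAut.conjNormal_apply, mul_assoc]

theorem out_target_solvable {L : Type u} [Group L] (h : IsTarget L) :
    Group.IsSolvable (MulAut L ⧸ Cfsg.Inn L) := by
  rcases h with ⟨F, _, _, -, -, ⟨e⟩⟩ | h
  · exact out_solvable_congr e (out_psl_solvable F)
  · obtain ⟨e⟩ := h
    exact out_solvable_congr e out_alt_seven_solvable

variable {X : Type u} [Group X]

/-- The action on a normal subgroup, modulo inner automorphisms. -/
def outHom (L : Subgroup X) [L.Normal] : X →* MulAut L ⧸ Cfsg.Inn L :=
  (QuotientGroup.mk' _).comp MulAut.conjNormal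

theorem conjNormal_injective {L : Subgroup X} [L.Normal]
    (hC : Subgroup.centralizer (L : Set X) = ⊥) :
    Function.Injective (MulAut.conjNormal : X →* MulAut L) := by
  refine (injective_iff_map_eq_one _).2 fun x hx => ?_
  rw [← Subgroup.mem_bot, ← hC, Subgroup.mem_centralizer_iff]
  intro a ha
  have h1 : x * a * x⁻¹ = a := by
    have := congrArg (fun φ : MulAut L => ((φ ⟨a, ha⟩ : L) : X)) hx
    simpa using this
  exact (mul_inv_eq_iff_eq_mul.1 h1).symm

theorem ker_outHom {L : Subgroup X} [L.Normal] (hC : Subgroup.centralizer (L : Set X) = ⊥) :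
    (outHom L).ker = L := by
  ext x
  rw [MonoidHom.mem_ker, outHom, MonoidHom.comp_apply, QuotientGroup.mk'_apply,
    QuotientGroup.eq_one_iff]
  constructor
  · rintro ⟨a, ha⟩
    have : MulAut.conjNormal (a : X) = (MulAut.conjNormal x : MulAut L) := by
      rw [← ha]; ext b; simp
    rw [← conjNormal_injective hC this]
    exact a.2
  · intro hx
    exact ⟨⟨x, hx⟩, by ext b; simp⟩

/-- A group with normal self-centralising target `L` is solvable over `L`. -/
theorem quotient_solvable {L : Subgroup X} [L.Normal]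
    (hC : Subgroup.centralizer (L : Set X) = ⊥) (h : IsTarget L) : Group.IsSolvable (X ⧸ L) := by
  haveI := out_target_solvable h
  exact Group.isSolvable_of_isSolvable_injective
    (f := (QuotientGroup.kerLift (outHom L)).comp
      (QuotientGroup.quotientMulEquivOfEq (ker_outHom hC).symm).toMonoidHom)
    ((QuotientGroup.kerLift_injective _).comp (MulEquiv.injective _))

end Cfsg.Agent.GW
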