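import Cfsg.Agent.Lib.GW.OddInvariant
import Cfsg.Agent.Lib.GW.InvolAction
import Cfsg.Agent.Lib.Components.BenderUnique
import Cfsg.Agent.Lib.OddChar.OddTheorem

/-!
Balance: in a proper subgroup, an element of odd prime power order inverted by an involution and lying in
a subgroup of the same kind normalised by the centraliser of that involution lies in the core.
-/

set_option autoImplicit false
set_option linter.style.haveILetI false
set_option linter.unusedSectionVars false

namespace Cfsg.Agent.GW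

open Cfsg.Agent.BenderUnique (coreIn)
open Cfsg.Agent.DGroup

universe u

theorem odd_of_qpow {q k n : ℕ} [Fact q.Prime] (hq : q ≠ 2) (h : n = q ^ k) : Odd n := by
  subst h
  exact ((Fact.out : q.Prime).odd_of_ne_two hq).pow

/-- A subgroup containing two commuting involutions again has dihedral Sylow 2-subgroups. -/
theorem DihSylow.of_subgroup {G : Type u} [Group G] [Finite G] (h : DihSylow G) (H : Subgroup G)
    {t a : G} (ht : orderOf t = 2) (ha : orderOf a = 2) (hta : t * a = a * t) (hne : t ≠ a)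
    (htH : t ∈ H) (haH : a ∈ H) : DihSylow H := by
  haveI : Fact (Nat.Prime 2) := ⟨Nat.prime_two⟩
  have hV : IsKleinFour (Subgroup.closure ({(⟨t, htH⟩ : H), ⟨a, haH⟩} : Set H)) := by
    refine TwoFus.isKleinFour_of_pair (Subtype.ext (Invol.mul_self ht)) (Subtype.ext (Invol.mul_self ha))
      (Subtype.ext hta.symm) (fun e => Invol.ne_one ht (congrArg Subtype.val e)) fun hm => ?_
    rw [Subgroup.mem_zpowers_iff] at hm
    obtain ⟨i, hi⟩ := hm
    have hi' : t ^ i = a := by simpa using congrArg Subtype.val hi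
    rcases Int.even_or_odd i with ⟨j, rfl⟩ | ⟨j, rfl⟩
    · rw [← two_mul, zpow_mul, zpow_two, Invol.mul_self ht, one_zpow] at hi'
      exact Invol.ne_one ha hi'.symm
    · rw [zpow_add, zpow_mul, zpow_two, Invol.mul_self ht, one_zpow, one_mul, zpow_one] at hi'
      exact hne hi'
  set V := Subgroup.closure ({(⟨t, htH⟩ : H), ⟨a, haH⟩} : Set H)
  haveI := hV
  obtain ⟨R, hVR⟩ := (IsPGroup.of_card (n := 2) hV.card_four : IsPGroup 2 V).exists_le_sylow
  obtain ⟨Q, hQ⟩ := (R.isPGroup'.map H.subtype).exists_le_sylow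
  obtain ⟨k, -, ⟨e⟩⟩ := h.two_pow Q
  let f : (R : Subgroup H) →* DihedralGroup (2 ^ k) :=
    e.toMonoidHom.comp ((Subgroup.inclusion hQ).comp
      ((R : Subgroup H).equivMapOfInjective H.subtype H.subtype_injective).toMonoidHom)
  have hf : Function.Injective f := e.injective.comp ((Subgroup.inclusion_injective hQ).comp
    (MulEquiv.injective _))
  rcases PByCyclic.dihedral_two_subgroup f.range with hc | ⟨j, hj, ⟨e'⟩⟩
  · exfalso
    haveI : IsCyclic (R : Subgroup H) :=
      isCyclic_of_surjective (MonoidHom.ofInjective hf).symm.toMonoidHom (MulEquiv.surjective _)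
    exact IsKleinFour.not_isCyclic (Subgroup.isCyclic_of_le hVR : IsCyclic V)
  · exact ⟨R, 2 ^ j, by
      calc 2 = 2 ^ 1 := rfl
        _ ≤ 2 ^ j := Nat.pow_le_pow_right two_pos hj, ⟨(MonoidHom.ofInjective hf).trans e'⟩⟩

section

variable {X : Type u} [Group X] [Finite X]

/-- In a group with trivial `q`-core: the core of odd order has no nontrivial such element. -/
theorem balance_reduced {q : ℕ} [Fact q.Prime] (hbot : Cfsg.pCore q X = ⊥) {K : Subgroup X} [K.Normal]
    (hK : Odd (Nat.card K)) {t g : X} (ht : t * t = 1) (hgK : g ∈ K) (hinv : t * g * t = g⁻¹)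
    {Y : Subgroup X} (hY : IsPGroup q Y) (hgY : g ∈ Y)
    (hn : ∀ c : X, t * c = c * t → c ∈ Subgroup.normalizer (Y : Set X)) : g = 1 := by
  haveI : Group.IsSolvable K := OddChar.oddSolvable K hK
  haveI := FittingCores.fitting_characteristic (G := K)
  set F := (Cfsg.fittingSubgroup K).map K.subtype with hF
  haveI : F.Normal := inferInstance
  haveI := FittingCores.fitting_nilpotent (G := K)
  haveI : Group.IsNilpotent F := Group.nilpotent_of_mulEquiv
    ((Cfsg.fittingSubgroup K).equivMapOfInjective K.subtype K.subtype_injective)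
  have hFK : F ≤ K := Subgroup.map_subtype_le _
  have hFq : (Nat.card F).Coprime q := by
    rw [Nat.coprime_comm, (Fact.out : q.Prime).coprime_iff_not_dvd]
    intro hd
    obtain ⟨P⟩ : Nonempty (Sylow q F) := inferInstance
    have h1 := FittingCores.sylow_le_pCore_of_nilpotent (G := X) (N := F) inferInstance q P
    rw [hbot, le_bot_iff, Subgroup.map_eq_bot_iff_of_injective _ F.subtype_injective] at h1
    have := P.dvd_card_of_dvd_card hd
    rw [h1, Subgroup.card_bot, Nat.dvd_one] at this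
    exact (Fact.out : q.Prime).ne_one this
  obtain ⟨k, hk⟩ := IsPGroup.iff_orderOf.1 hY ⟨g, hgY⟩
  rw [Subgroup.orderOf_mk] at hk
  have hcop : (orderOf g).Coprime (Nat.card F) := by
    rw [hk]; exact (hFq.pow_right k).symm
  have hfix : ∀ f ∈ F, t * f * t = f → g * f = f * g := by
    intro f hf hft
    have hfn := hn f ((invol_conj_eq_iff ht).1 hft)
    have h1 : f * g * f⁻¹ * g⁻¹ ∈ Y :=
      mul_mem ((Subgroup.mem_normalizer_iff.1 hfn g).1 hgY) (inv_mem hgY)
    have h2 : f * g * f⁻¹ * g⁻¹ ∈ F := by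
      rw [show f * g * f⁻¹ * g⁻¹ = f * (g * f⁻¹ * g⁻¹) by group]
      exact mul_mem hf ((inferInstance : F.Normal).conj_mem _ (inv_mem hf) g)
    obtain ⟨j, hj⟩ := IsPGroup.iff_orderOf.1 hY ⟨_, h1⟩
    rw [Subgroup.orderOf_mk] at hj
    have h3 : orderOf (f * g * f⁻¹ * g⁻¹) = 1 := Nat.eq_one_of_dvd_coprimes (hFq.pow_right j)
      (Subgroup.orderOf_dvd_natCard F h2) (dvd_of_eq hj)
    rw [orderOf_eq_one_iff, mul_inv_eq_one, mul_inv_eq_iff_eq_mul] at h3
    exact h3.symm
  have hall := commute_of_fixed (hK.of_dvd_nat (Subgroup.card_dvd_of_le hFK)) ht hinv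
    (hK.of_dvd_nat (Subgroup.orderOf_dvd_natCard K hgK)) hcop hfix
  have hmem : (⟨g, hgK⟩ : K) ∈ Subgroup.centralizer (Cfsg.fittingSubgroup K : Set K) :=
    Subgroup.mem_centralizer_iff.2 fun f hf => Subtype.ext (hall f ⟨f, hf, rfl⟩).symm
  have hgF : g ∈ F := ⟨_, FittingCores.centralizer_fitting_le hmem, rfl⟩
  exact orderOf_eq_one_iff.1 (Nat.eq_one_of_dvd_coprimes hcop dvd_rfl
    (Subgroup.orderOf_dvd_natCard F hgF))

/-- An element of the odd core lying in a suitable subgroup lies in the `q`-core. -/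
theorem balance_core {q : ℕ} [Fact q.Prime] (hq : q ≠ 2) {t g : X} (ht : t * t = 1)
    (hgO : g ∈ Cfsg.oddCore X) (hinv : t * g * t = g⁻¹) {Y : Subgroup X} (hY : IsPGroup q Y)
    (hgY : g ∈ Y) (hn : ∀ c : X, t * c = c * t → c ∈ Subgroup.normalizer (Y : Set X)) :
    g ∈ Cfsg.pCore q X := by
  haveI : Fact (Nat.Prime 2) := ⟨Nat.prime_two⟩
  set N := Cfsg.pCore q X with hN
  haveI : N.Normal := FittingCores.pCore_normal q
  set π := QuotientGroup.mk' N with hπ
  have hsur : Function.Surjective π := QuotientGroup.mk'_surjective N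
  obtain ⟨k, hk⟩ := IsPGroup.iff_card.1 (FittingCores.pCore_isPGroup q : IsPGroup q N)
  have hNodd : Odd (Nat.card N) := odd_of_qpow hq hk
  have hbot : Cfsg.pCore q (X ⧸ N) = ⊥ := by
    rw [eq_bot_iff]
    intro x hx
    obtain ⟨y, rfl⟩ := hsur x
    have hle : (Cfsg.pCore q (X ⧸ N)).comap π ≤ N :=
      FittingCores.le_pCore ((FittingCores.pCore_normal q).comap π)
        ((FittingCores.pCore_isPGroup q).comap_of_ker_isPGroup π
          (by rw [hπ, QuotientGroup.ker_mk']; exact FittingCores.pCore_isPGroup q))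
    rw [Subgroup.mem_bot]
    exact (QuotientGroup.eq_one_iff y).2 (hle (show y ∈ (Cfsg.pCore q (X ⧸ N)).comap π from hx))
  haveI : (Cfsg.oddCore X).Normal := FittingCores.pPrimeCore_normal 2
  haveI : ((Cfsg.oddCore X).map π).Normal :=
    (FittingCores.pPrimeCore_normal (G := X) 2).map π hsur
  have hodd : Odd (Nat.card ((Cfsg.oddCore X).map π)) :=
    (Nat.coprime_two_right.1 (FittingCores.pPrimeCore_coprime (G := X) 2)).of_dvd_nat
      (Subgroup.card_map_dvd _ _)
  refine (QuotientGroup.eq_one_iff g).1 (balance_reduced hbot hodd (t := π t) (g := π g)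
    (by rw [← map_mul, ht, map_one]) (Subgroup.mem_map_of_mem π hgO)
    (by rw [← map_mul, ← map_mul, hinv, map_inv]) (hY.map π) (Subgroup.mem_map_of_mem π hgY)
    fun c hc => ?_)
  obtain ⟨c, rfl⟩ := hsur c
  obtain ⟨x, hx, hxc⟩ := exists_cent_lift hNodd ht hc
  have h2 := Subgroup.le_normalizer_map (H := Y) π (Subgroup.mem_map_of_mem π (hn _ hxc))
  rwa [map_mul, show π x = 1 from (QuotientGroup.eq_one_iff x).2 hx, mul_one] at h2

end

variable {G : Type u} [Group G] [Finite G]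

/-- Balance. -/
theorem balance (hK : KnownBelow.{u} (Nat.card G)) (hd : DihSylow G) {H : Subgroup G} (hH : H ≠ ⊤)
    {t a g : G} (ht : orderOf t = 2) (ha : orderOf a = 2) (hta : t * a = a * t) (hne : t ≠ a)
    (htH : t ∈ H) (haH : a ∈ H) (hgH : g ∈ H) {q : ℕ} [Fact q.Prime] (hq : q ≠ 2)
    (hinv : t * g * t = g⁻¹) {Y : Subgroup G} (hY : IsPGroup q Y) (hgY : g ∈ Y)
    (hn : ∀ c ∈ H, c * t = t * c → c ∈ Subgroup.normalizer (Y : Set G)) : g ∈ coreIn q H := by
  classical
  haveI : Fact (Nat.Prime 2) := ⟨Nat.prime_two⟩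
  have hlt : Nat.card H < Nat.card G := by
    rcases lt_or_ge (Nat.card H) (Nat.card G) with h | h
    · exact h
    · exact absurd (Subgroup.eq_top_of_le_card H h) hH
  have hdH := hd.of_subgroup H ht ha hta hne htH haH
  set Y' := Y.subgroupOf H with hY'
  have hY'q : IsPGroup q Y' := hY.comap_of_injective H.subtype H.subtype_injective
  obtain ⟨k, hk⟩ := IsPGroup.iff_card.1 hY'q
  have htH' : orderOf (⟨t, htH⟩ : H) = 2 := by rw [Subgroup.orderOf_mk, ht]
  have hgY' : (⟨g, hgH⟩ : H) ∈ Y' := hgY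
  have hn' : ∀ c : H, (⟨t, htH⟩ : H) * c = c * ⟨t, htH⟩ →
      c ∈ Subgroup.normalizer (Y' : Set H) := by
    intro c hc
    have hN := hn c c.2 (congrArg Subtype.val hc).symm
    rw [Subgroup.mem_normalizer_iff]
    intro y
    simp only [hY', Subgroup.mem_subgroupOf]
    push_cast
    exact Subgroup.mem_normalizer_iff.1 hN y
  have hinv' : (⟨t, htH⟩ : H) * ⟨g, hgH⟩ * ⟨t, htH⟩ = (⟨g, hgH⟩ : H)⁻¹ := Subtype.ext hinv
  have hto : (⟨t, htH⟩ : H) * ⟨t, htH⟩ = 1 := Subtype.ext (Invol.mul_self ht)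
  have h1 := odd_invariant hK hdH hlt htH' (odd_of_qpow hq hk)
    (fun c hc => hn' c (Subgroup.mem_centralizer_singleton_iff.1 hc).symm) hgY'
  have hinvg : (⟨t, htH⟩ : H) * (⟨g, hgH⟩ : H)⁻¹ * ⟨t, htH⟩ = ⟨g, hgH⟩ := by
    rw [invol_conj_inv hto, hinv', inv_inv]
  have hgg : (⟨g, hgH⟩ : H) * ⟨g, hgH⟩ ∈ Cfsg.oddCore H := by
    rw [inv_eq_of_mul_eq_one_right hto, mul_assoc, mul_assoc,
      ← mul_assoc (⟨t, htH⟩ : H), hinvg] at h1
    exact h1
  have hgO : (⟨g, hgH⟩ : H) ∈ Cfsg.oddCore H := by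
    obtain ⟨j, hj⟩ := IsPGroup.iff_orderOf.1 hY'q ⟨_, hgY'⟩
    rw [Subgroup.orderOf_mk] at hj
    obtain ⟨i, hi⟩ := odd_of_qpow hq hj
    have e : ((⟨g, hgH⟩ : H) * ⟨g, hgH⟩) ^ (i + 1) = ⟨g, hgH⟩ := by
      rw [← pow_two, ← pow_mul, show 2 * (i + 1) = orderOf (⟨g, hgH⟩ : H) + 1 by omega, pow_succ,
        pow_orderOf_eq_one, one_mul]
    exact e ▸ pow_mem hgg (i + 1)
  exact ⟨⟨g, hgH⟩, balance_core hq hto hgO hinv' hY'q hgY' hn', rfl⟩

end Cfsg.Agent.GW
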