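import Cfsg.Agent.Lib.GW.Consequences
import Cfsg.Agent.Lib.GW.DoubleCover
import Cfsg.Agent.Lib.BrauerSuzuki.Sylow
import Cfsg.Agent.Lib.Fusion.SupersolubleModels
import Cfsg.Agent.Lib.DGroup.TICanon

/-!
Perfect groups of 2-rank one, given the simple groups with dihedral Sylow 2-subgroups.
-/

set_option autoImplicit false

namespace Cfsg.Agent.GW

universe u

/-- A perfect group of even order has no cyclic Sylow 2-subgroup. -/
theorem perfect_not_cyclic_sylow {G : Type u} [Group G] [Finite G] [hp : Group.IsPerfect G]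
    (h2 : 2 ∣ Nat.card G) (P : Sylow 2 G) : ¬ IsCyclic (P : Subgroup G) := by
  haveI : Fact (Nat.Prime 2) := ⟨Nat.prime_two⟩
  intro hc
  have hmin : (Nat.card G).minFac = 2 := Nat.minFac_eq_two_iff _ |>.2 h2
  have hcompl := IsCyclic.isComplement' (P := P) hmin hc
  set T := MonoidHom.transferSylow P (hc.normalizer_le_centralizer hmin) with hT
  have htop : T.ker = ⊤ := by
    haveI : IsMulCommutative (P : Subgroup G) := hc.isMulCommutative
    rw [eq_top_iff, ← hp.commutator_eq_top, commutator_def, Subgroup.commutator_le]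
    intro a _ b _
    rw [MonoidHom.mem_ker, map_commutatorElement, commutatorElement_eq_one_iff_commute]
    exact mul_comm' _ _
  rw [htop, Subgroup.isComplement'_top_left] at hcompl
  exact P.ne_bot_of_dvd_card h2 hcompl

variable {X : Type u} [Group X] [Finite X]

/-- The perfect groups of 2-rank one. -/
theorem rank_one_perfect (hG : SimpleDihedral.{u}) [hP : Group.IsPerfect X]
    (h1 : Cfsg.PRankLE 2 1 X) (h2 : Even (Nat.card X)) :
    (∃ (F : Type) (_ : Field F) (_ : Fintype F), Odd (Fintype.card F) ∧ 3 < Fintype.card F ∧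
        Nonempty (X ⧸ Cfsg.oddCore X ≃* Matrix.SpecialLinearGroup (Fin 2) F)) ∨
      Cfsg.IsNonsplitDoubleCover (X ⧸ Cfsg.oddCore X) ↥(alternatingGroup (Fin 7)) := by
  classical
  haveI : Fact (Nat.Prime 2) := ⟨Nat.prime_two⟩
  set O := Cfsg.oddCore X with hO
  have hodd : Odd (Nat.card O) := Nat.coprime_two_right.1 (PBasic.pPrimeCore_coprime 2 X)
  set E := X ⧸ O
  haveI hEp : Group.IsPerfect E :=
    Group.IsPerfect.ofSurjective (f := QuotientGroup.mk' O) (QuotientGroup.mk'_surjective O)
  have hR : BrauerSuzuki.RankOne E := by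
    refine BrauerSuzuki.RankOne.quotient (BrauerSuzuki.rankOne_of_no_klein fun V hV => ?_) O
      fun hd => Nat.not_even_iff_odd.2 hodd (even_iff_two_dvd.2 hd)
    haveI := hV
    have := h1 V (klein_comm hV) fun a ha => by
      rw [pow_two]; exact congrArg Subtype.val (IsKleinFour.mul_self (⟨a, ha⟩ : V))
    rw [hV.card_four] at this
    norm_num at this
  have hEO : Cfsg.oddCore E = ⊥ := PBasic.pPrimeCore_quotient_pPrimeCore 2 X
  have hnoodd : ∀ N : Subgroup E, N.Normal → Odd (Nat.card N) → N = ⊥ :=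
    fun N hN ho => eq_bot_of_odd_normal hEO hN ho
  have h2E : 2 ∣ Nat.card E := by
    have h := Subgroup.card_eq_card_quotient_mul_card_subgroup O
    rcases (Nat.Prime.dvd_mul Nat.prime_two).1 (h ▸ h2.two_dvd) with hd | hd
    · exact hd
    · exact absurd (even_iff_two_dvd.2 hd) (Nat.not_even_iff_odd.2 hodd)
  obtain ⟨S⟩ : Nonempty (Sylow 2 E) := inferInstance
  obtain ⟨n, ⟨eS⟩⟩ : ∃ n, Nonempty ((S : Subgroup E) ≃* QuaternionGroup (2 ^ n)) := by
    rcases FpfStruct.cyclic_or_quaternion S.2 (BrauerSuzuki.abCyclic hR S.2) with hc | ⟨-, h⟩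
    · exact absurd hc (perfect_not_cyclic_sylow h2E S)
    · exact h
  have hn : 2 ≤ 2 ^ n := by
    by_contra hlt
    have h0 : 2 ^ n = 1 := by have := Nat.one_le_two_pow (n := n); omega
    refine perfect_not_cyclic_sylow h2E S (eS.isCyclic.2 ?_)
    rw [h0]
    exact QuaternionGroup.quaternionGroup_one_isCyclic
  obtain ⟨-, D, -, -⟩ := BrauerSuzuki.exists_quaternion_data S hn eS
  have hZ : Nat.card (Subgroup.center E) = 2 := BrauerSuzuki.card_center hR D hnoodd
  set Z := Subgroup.center E with hZdef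
  set Y := E ⧸ Z
  haveI : Group.IsPerfect Y :=
    Group.IsPerfect.ofSurjective (f := QuotientGroup.mk' Z) (QuotientGroup.mk'_surjective Z)
  obtain ⟨T, hT⟩ := SSModels.dihedral_of_quaternion hn S eS Z hZ
  have hY := perfect_case (knownBelow_of_simple hG (Nat.card Y + 1)) (X := Y) ⟨T, _, hn, hT⟩
    (Nat.lt_succ_self _)
  have hYO : Cfsg.oddCore Y = ⊥ := by
    set π := QuotientGroup.mk' Z
    set K := Cfsg.oddCore Y with hK
    set M := K.comap π with hM
    have hKo : Odd (Nat.card K) := Nat.coprime_two_right.1 (PBasic.pPrimeCore_coprime 2 Y)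
    have hcard : Nat.card M = 2 * Nat.card K := by
      let f : M →* K := (π.comp M.subtype).codRestrict K fun x => x.2
      have hf : Function.Surjective f := fun y => by
        obtain ⟨x, hx⟩ := QuotientGroup.mk'_surjective Z y.1
        exact ⟨⟨x, show π x ∈ K from hx ▸ y.2⟩, Subtype.ext hx⟩
      have hfk : Nat.card f.ker = 2 := by
        refine Eq.trans ?_ hZ
        refine Nat.card_congr
          { toFun := fun x => ⟨x.1.1, (QuotientGroup.eq_one_iff _).1 (congrArg Subtype.val x.2)⟩
            invFun := fun z => ⟨⟨z.1, show π z.1 ∈ K by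
              rw [(QuotientGroup.eq_one_iff _).2 z.2 |> fun e => (e : π z.1 = 1)]; exact one_mem K⟩,
              Subtype.ext ((QuotientGroup.eq_one_iff _).2 z.2)⟩
            left_inv := fun x => rfl
            right_inv := fun z => rfl }
      rw [Schur.card_cover f hf, hfk, mul_comm]
    obtain ⟨P⟩ : Nonempty (Sylow 2 M) := inferInstance
    have hd : 2 ∣ Nat.card M := hcard ▸ dvd_mul_right 2 _
    have hPc : Nat.card (P : Subgroup M) = 2 := by
      rw [P.card_eq_multiplicity, hcard, Nat.factorization_mul two_ne_zero Nat.card_pos.ne',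
        Finsupp.add_apply, Nat.Prime.factorization_self Nat.prime_two,
        Nat.factorization_eq_zero_of_not_dvd
          (fun h => Nat.not_even_iff_odd.2 hKo (even_iff_two_dvd.2 h)), add_zero, pow_one]
    have hc : IsCyclic (P : Subgroup M) := isCyclic_of_prime_card (p := 2) hPc
    have hmin : (Nat.card M).minFac = 2 := Nat.minFac_eq_two_iff _ |>.2 hd
    have hcompl := IsCyclic.isComplement' (P := P) hmin hc
    set W := (MonoidHom.transferSylow P (hc.normalizer_le_centralizer hmin)).ker with hW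
    have hWi : W.index = 2 := by rw [hcompl.symm.index_eq_card, hPc]
    have hWc : Nat.card W = Nat.card K := by
      have := W.card_mul_index
      rw [hWi, hcard, mul_comm] at this
      exact Nat.eq_of_mul_eq_mul_left two_pos this
    have hWn : (W.map M.subtype).Normal := ⟨fun y hy g => by
      obtain ⟨w, hw, rfl⟩ := hy
      have hgM : g * (w : E) * g⁻¹ ∈ M := (Subgroup.normal_comap π).conj_mem _ w.2 g
      refine ⟨⟨_, hgM⟩, DGroup.mem_of_sq_mem ?_ (Subgroup.mul_self_mem_of_index_two hWi _), rfl⟩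
      rw [← Subgroup.orderOf_coe, Invol.order_conj, Subgroup.orderOf_coe]
      exact (hWc ▸ hKo).of_dvd_nat (Subgroup.orderOf_dvd_natCard W hw)⟩
    have hbot := hnoodd _ hWn (by
      rw [Subgroup.card_map_of_injective (Subgroup.subtype_injective M), hWc]; exact hKo)
    rw [Subgroup.map_eq_bot_iff_of_injective _ (Subgroup.subtype_injective M)] at hbot
    rw [hbot, Subgroup.card_bot] at hWc
    exact Subgroup.eq_bot_of_card_eq _ hWc.symm
  let eY : Y ≃* Y ⧸ Cfsg.oddCore Y :=
    (QuotientGroup.quotientBot (G := Y)).symm.trans (QuotientGroup.quotientMulEquivOfEq hYO.symm)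
  rcases hY with ⟨F, i1, i2, ho, h3, ⟨e⟩⟩ | he
  · exact Or.inl ⟨F, i1, i2, ho, h3, sl2_cover hEp.commutator_eq_top hZ ho h3 (eY.trans e)⟩
  · obtain ⟨e⟩ := he
    refine Or.inr ⟨hZ, ⟨eY.trans e⟩, fun L hL => ?_⟩
    have hLi : L.index = 2 := by rw [hL.index_eq_card, hZ]
    haveI := Subgroup.normal_of_index_eq_two hLi
    haveI : Group.IsPerfect (E ⧸ L) :=
      Group.IsPerfect.ofSurjective (f := QuotientGroup.mk' L) (QuotientGroup.mk'_surjective L)
    haveI : IsCyclic (E ⧸ L) := isCyclic_of_prime_card (p := 2) (by rw [← Subgroup.index_eq_card, hLi])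
    haveI : IsMulCommutative (E ⧸ L) := IsCyclic.isMulCommutative
    have h := Group.IsPerfect.commutator_eq_top (G := E ⧸ L)
    rw [commutator_def, Subgroup.commutator_eq_bot_iff_le_centralizer.2
      (Subgroup.le_centralizer_iff_isMulCommutative.2 inferInstance)] at h
    have h' := congrArg (fun H : Subgroup (E ⧸ L) => Nat.card H) h
    simp only [Subgroup.card_bot, Subgroup.card_top, ← Subgroup.index_eq_card, hLi] at h'
    omega

end Cfsg.Agent.GW
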