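import Cfsg.Agent.Lib.GW.OuterInvol
import Cfsg.Agent.Lib.GW.RankOne
import Cfsg.Agent.S5892

/-!
Four-groups acting on a simple group with dihedral Sylow 2-subgroups.
-/

set_option autoImplicit false

namespace Cfsg.Agent.GW

open Matrix

universe u

/-- A subgroup of index at most three of a simple group of order sixty is everything. -/
theorem sixty_index {M : Type*} [Group M] [Finite M] [IsSimpleGroup M] (hM : Nat.card M = 60)
    (H : Subgroup M) (hi : H.index ≤ 3) : H = ⊤ := by
  classical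
  haveI := Fintype.ofFinite (M ⧸ H)
  set f := MulAction.toPermHom M (M ⧸ H) with hf
  rcases (MonoidHom.normal_ker f).eq_bot_or_eq_top with h | h
  · exfalso
    have hle := Nat.card_le_card_of_injective f ((MonoidHom.ker_eq_bot_iff f).1 h)
    rw [hM, Nat.card_perm, ← Subgroup.index_eq_card] at hle
    have : H.index.factorial ≤ Nat.factorial 3 := Nat.factorial_le hi
    norm_num [Nat.factorial] at this
    omega
  · rw [← Subgroup.normalCore_eq_ker] at h
    exact top_le_iff.1 (h ▸ Subgroup.normalCore_le H)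

theorem alt_four_no_six (H : Subgroup (alternatingGroup (Fin 4))) : Nat.card H ≠ 6 := by
  classical
  intro h6
  have h12 : Nat.card (alternatingGroup (Fin 4)) = 12 := by
    rw [nat_card_alternatingGroup, Nat.card_eq_fintype_card, Fintype.card_fin]; rfl
  have hi : H.index = 2 := by
    have := H.card_mul_index
    rw [h6, h12] at this; omega
  have hsub : Finset.univ.filter (fun x : alternatingGroup (Fin 4) => x ^ 3 = 1) ⊆
      Finset.univ.filter (fun x => x ∈ H) := by
    intro x hx
    rw [Finset.mem_filter] at hx ⊢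
    refine ⟨Finset.mem_univ _, ?_⟩
    have h1 := Subgroup.mul_self_mem_of_index_two hi (x * x)
    rwa [show x * x * (x * x) = x ^ 3 * x by simp [pow_succ, mul_assoc], hx.2, one_mul] at h1
  have h9 : (Finset.univ.filter (fun x : alternatingGroup (Fin 4) => x ^ 3 = 1)).card = 9 := by
    decide +kernel
  have := Finset.card_le_card hsub
  rw [h9, ← Fintype.card_subtype, ← Nat.card_eq_fintype_card, h6] at this
  omega

theorem five_cert : ∀ p : Equiv.Perm (Fin 5), p * p = 1 → ∀ r : Equiv.Perm (Fin 5), r ^ 5 = 1 → r ≠ 1 →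
    p * r = r * p → p = 1 := by decide +kernel

theorem four_sq : ∀ x : Equiv.Perm (Fin 4), Equiv.Perm.sign x = 1 → ∃ y, y * y = x := by decide +kernel

theorem four_cycle : ∀ r x : Equiv.Perm (Fin 4), r * r * r = 1 → r ≠ 1 → x * x = 1 → x ≠ 1 →
    Equiv.Perm.sign x = 1 → r * r * x ≠ x * (r * r) ∧
    ∀ y : Equiv.Perm (Fin 4), y * y = 1 → y ≠ 1 → Equiv.Perm.sign y = 1 →
      y = x ∨ y = r * x * r⁻¹ ∨ y = r⁻¹ * x * r := by decide +kernel

/-- An automorphism of order two of a group restricted to a stable subgroup. -/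
def restrictAut {P : Type*} [Group P] (α : MulAut P) (hα : α * α = 1) (M : Subgroup P)
    (hM : ∀ x ∈ M, α x ∈ M) : MulAut M where
  toFun x := ⟨α x, hM x x.2⟩
  invFun x := ⟨α x, hM x x.2⟩
  left_inv x := Subtype.ext (by
    show α (α x) = x
    rw [← MulAut.mul_apply, hα, MulAut.one_apply])
  right_inv x := Subtype.ext (by
    show α (α x) = x
    rw [← MulAut.mul_apply, hα, MulAut.one_apply])
  map_mul' x y := Subtype.ext (map_mul α x.1 y.1)

section PSL

variable {F : Type} [Field F] [Fintype F]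

local notation "PSL2" => Matrix.ProjectiveSpecialLinearGroup (Fin 2) F
local notation "GL2" => GL (Fin 2) F

/-- The fixed groups of two commuting outer involutions without fixed four-groups generate. -/
theorem outer_gen (hodd : Odd (Fintype.card F)) (h3 : 3 < Fintype.card F) {g h : GL2} {d : F}
    (hg : OuterData g d) (hh : OuterData h d) (hgh : g.1 * h.1 = -(h.1 * g.1))
    (hα : (AutPSL.semi g 1 : MulAut PSL2) * AutPSL.semi g 1 = 1)
    (hc : (AutPSL.semi g 1 : MulAut PSL2) * AutPSL.semi h 1 = AutPSL.semi h 1 * AutPSL.semi g 1)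
    (hno : ∀ x y : PSL2, x * x = 1 → x ≠ 1 → y * y = 1 → y ≠ 1 → x ≠ y → x * y = y * x →
      (AutPSL.semi g 1 : MulAut PSL2) x = x → (AutPSL.semi g 1 : MulAut PSL2) y = y → False) :
    fixedGroup (AutPSL.semi g 1 : MulAut PSL2) ⊔ fixedGroup (AutPSL.semi h 1 : MulAut PSL2) = ⊤ := by
  classical
  have h2 := two_ne_zero_of_odd hodd
  haveI : Fact (Nat.Prime 2) := ⟨Nat.prime_two⟩
  haveI : Fact (Nat.Prime 3) := ⟨Nat.prime_three⟩
  haveI : Fact (Nat.Prime 5) := ⟨Nat.prime_five⟩
  set α : MulAut PSL2 := AutPSL.semi g 1 with hαdef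
  set β : MulAut PSL2 := AutPSL.semi h 1 with hβdef
  set A := fixedGroup α with hA
  set B := fixedGroup β with hB
  set K := A ⊔ B with hK
  have hd := hg.d_ne
  obtain ⟨k, hk⟩ : ∃ k : SpecialLinearGroup (Fin 2) F, g.1 * k.1 = -(k.1 * g.1) := by
    refine ⟨⟨d⁻¹ • (g.1 * h.1), ?_⟩, ?_⟩
    · rw [Matrix.det_smul, Matrix.det_mul, hg.det_eq, hh.det_eq, Fintype.card_fin]
      field_simp
    · show g.1 * (d⁻¹ • (g.1 * h.1)) = -(d⁻¹ • (g.1 * h.1) * g.1)
      have hhg : h.1 * g.1 = -(g.1 * h.1) := by rw [hgh, neg_neg]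
      rw [Matrix.mul_smul, Matrix.smul_mul, mul_assoc g.1 h.1 g.1, hhg, mul_neg, smul_neg, neg_neg]
  obtain ⟨hN4, hNq⟩ := hg.fixed_order hodd hk
  rw [← hαdef, ← hA] at hN4 hNq
  have hBA : ¬ B ≤ A := fixed_not_le hodd h3 hh (by rw [hgh, neg_neg])
  have hKα : ∀ x ∈ K, α x ∈ K := by
    have hle : K ≤ K.comap (α : PSL2 ≃* PSL2).toMonoidHom := by
      refine sup_le (fun x hx => ?_) (fun x hx => ?_)
      · show α x ∈ K
        rw [mem_fixedGroup.1 hx]; exact Subgroup.mem_sup_left hx
      · show α x ∈ K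
        refine Subgroup.mem_sup_right (mem_fixedGroup.2 ?_)
        rw [← MulAut.mul_apply, ← hc, MulAut.mul_apply, mem_fixedGroup.1 hx]
    exact fun x hx => hle hx
  by_contra hne
  obtain ⟨M, hM, hKM⟩ := (eq_top_or_exists_le_coatom K).resolve_left hne
  have hAM : A ≤ M := le_sup_left.trans hKM
  have hBM : B ≤ M := le_sup_right.trans hKM
  have hdvd : Nat.card A ∣ Nat.card M := Subgroup.card_dvd_of_le hAM
  have hgt : Nat.card A < Nat.card K := by
    by_contra hle
    push Not at hle
    exact hBA ((Subgroup.eq_of_le_of_card_ge le_sup_left hle).symm ▸ le_sup_right)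
  have hAK : Nat.card A ∣ Nat.card K := Subgroup.card_dvd_of_le le_sup_left
  have hKdM : Nat.card K ∣ Nat.card M := Subgroup.card_dvd_of_le hKM
  set q := Fintype.card F with hq
  set N := Nat.card A with hN
  haveI hp : Fact (ringChar F).Prime := ⟨CharP.char_is_prime F (ringChar F)⟩
  have hdih : ∀ j : ℕ, (2 * j = q - 1 ∨ 2 * j = q + 1) → Nonempty (M ≃* DihedralGroup j) → False := by
    rintro j hj ⟨e⟩
    have hMc : Nat.card M = 2 * j := by rw [Nat.card_congr e.toEquiv, DihedralGroup.nat_card]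
    have heq : Nat.card M = N := by
      rw [hMc] at hdvd ⊢
      rcases hj with hj | hj <;> rw [hj] at hdvd ⊢ <;> rcases hNq with hNq | hNq
      · omega
      · have := Nat.le_of_dvd (by omega) hdvd; omega
      · exfalso
        have h' := Nat.dvd_sub hdvd dvd_rfl
        rw [show q + 1 - N = 2 by omega] at h'
        have := Nat.le_of_dvd two_pos h'
        omega
      · omega
    exact hBA ((Subgroup.eq_of_le_of_card_ge hAM heq.le).symm ▸ hBM)
  rcases S5892.result (ringChar F) hodd (by omega) M hM with hb | ⟨-, j, hj, hd'⟩ | ⟨-, -, j, hj, hd'⟩ |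
    ⟨F₀, _, _, hF₀, ⟨e⟩⟩ | ⟨F₀, _, _, r, hr, hro, hF₀, ⟨e⟩⟩ | ⟨hq10, -, ⟨e⟩⟩ | ⟨hqp, hq8, -, ⟨e⟩⟩ |
    ⟨hqp, hq8, ⟨e⟩⟩
  · -- a point stabiliser
    obtain ⟨r, hr⟩ := id hodd
    have hMc : Nat.card M = q * r := by
      refine Nat.eq_of_mul_eq_mul_left two_pos ?_
      rw [hb]
      change q * (q - 1) = 2 * (q * r)
      rw [show q - 1 = 2 * r by omega]; ring
    rw [hMc] at hdvd
    rcases hNq with hNq | hNq
    · obtain ⟨c, hc'⟩ := hdvd
      rw [show N = 2 * r by omega, show 2 * r * c = r * (2 * c) by ring, mul_comm q r] at hc'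
      have := Nat.eq_of_mul_eq_mul_left (by omega : 0 < r) hc'
      omega
    · have := Nat.le_of_dvd (by omega) ((Nat.Coprime.dvd_mul_left (by
        rw [hNq]; simp)).1 hdvd)
      omega
  · exact hdih j (Or.inl hj) hd'
  · exact hdih j (Or.inr hj) hd'
  · -- `PGL₂` over the subfield
    have hq0 : Nat.card F₀ = Fintype.card F₀ := Nat.card_eq_fintype_card
    set r := Fintype.card F₀
    have hr1 : 1 < r := Fintype.one_lt_card
    have hq1 : q % 4 = 1 := by
      rcases (by omega : r % 4 = 0 ∨ r % 4 = 1 ∨ r % 4 = 2 ∨ r % 4 = 3) with h | h | h | h <;>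
        obtain ⟨s, hs⟩ := id hodd <;>
        · have : q % 4 = (r % 4) * (r % 4) % 4 := by
            change q = r ^ 2 at hF₀
            rw [hF₀, pow_two, Nat.mul_mod]
          rw [h] at this
          norm_num at this
          omega
    have hNv : N = r * r + 1 := by
      change q = r ^ 2 at hF₀
      rw [pow_two] at hF₀
      omega
    rw [Nat.card_congr e.toEquiv, ClassicalSL.card_pgl, SL2Inv.card_sl2, hq0] at hdvd
    have hcop : Nat.Coprime N r := by rw [hNv]; simp
    rw [mul_assoc] at hdvd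
    have h1 := hcop.dvd_mul_left.1 hdvd
    have := Nat.le_of_dvd (Nat.mul_pos (by omega) (by omega)) h1
    rw [hNv] at this
    obtain ⟨s, hs⟩ : ∃ s, r = s + 1 := ⟨r - 1, by omega⟩
    rw [hs, show s + 1 - 1 = s by omega] at this
    nlinarith
  · -- `PSL₂` over a subfield
    change q = Fintype.card F₀ ^ r at hF₀
    have ho : Odd (Fintype.card F₀) := by
      rw [← Nat.not_even_iff_odd]
      intro he
      rw [hF₀] at hodd
      exact Nat.not_odd_iff_even.2 (Even.pow_of_ne_zero he hr.ne_zero) hodd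
    have h3r : 3 ≤ r := by
      rcases hro with ⟨s, hs⟩
      have := hr.two_le
      omega
    have hc0 := PSL2Inv.card_sl_eq (F := F₀) (two_ne_zero_of_odd ho)
    rw [SL2Inv.card_sl2, Nat.card_eq_fintype_card (α := F₀), ← Nat.card_congr e.toEquiv] at hc0
    have hle := Nat.le_of_dvd Nat.card_pos hdvd
    have hpow : Fintype.card F₀ ^ 3 ≤ q := hF₀ ▸ Nat.pow_le_pow_right Fintype.card_pos h3r
    obtain ⟨s, hs⟩ : ∃ s, Fintype.card F₀ = s + 1 := ⟨Fintype.card F₀ - 1, by
      have := Fintype.card_pos (α := F₀); omega⟩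
    rw [hs, show s + 1 - 1 = s by omega] at hc0
    rw [hs] at hpow
    have hN' : q ≤ N + 1 := by omega
    nlinarith
  · -- `A₅`
    change (q % 10 = 1 ∨ q % 10 = 9) at hq10
    have hMc : Nat.card M = 60 := by
      rw [Nat.card_congr e.toEquiv, nat_card_alternatingGroup, Nat.card_eq_fintype_card,
        Fintype.card_fin]; rfl
    haveI : IsSimpleGroup M := e.isSimpleGroup_congr.2 (alternatingGroup.isSimpleGroup (α := Fin 5) (by simp))
    rw [hMc] at hdvd hKdM
    have hNle := Nat.le_of_dvd (by norm_num) hdvd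
    have hN10 : N = 10 := by
      have : N ∈ Finset.range 61 := Finset.mem_range.2 (by omega)
      by_contra hne10
      have h30 : N = 30 := by
        revert hdvd hN4
        interval_cases N <;> omega
      have : (A.subgroupOf M).index ≤ 3 := by
        have h' := (A.subgroupOf M).card_mul_index
        rw [Nat.card_congr (Subgroup.subgroupOfEquivOfLe hAM).toEquiv, ← hN, h30, hMc] at h'
        omega
      have htop := sixty_index hMc _ this
      rw [Subgroup.subgroupOf_eq_top] at htop
      exact hBA (hBM.trans htop)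
    have hKM' : K = M := by
      refine le_antisymm hKM (Subgroup.subgroupOf_eq_top.1 (sixty_index hMc _ ?_))
      have h' := (K.subgroupOf M).card_mul_index
      rw [Nat.card_congr (Subgroup.subgroupOfEquivOfLe hKM).toEquiv, hMc] at h'
      obtain ⟨c, hc'⟩ := hAK
      rw [hN10] at hc' hgt
      have hc2 : 2 ≤ c := by omega
      have : 20 ≤ Nat.card K := by omega
      nlinarith
    obtain ⟨⟨x, hxA⟩, hx⟩ := exists_prime_orderOf_dvd_card' 5 (show 5 ∣ Nat.card A from ⟨2, by omega⟩)
    rw [Subgroup.orderOf_mk] at hx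
    let σ : MulAut M := restrictAut α hα M fun y hy => hKM' ▸ hKα y (hKM'.symm ▸ hy)
    let σ' : MulAut (alternatingGroup (Fin 5)) := autCongr e σ
    obtain ⟨p, hp'⟩ := (AutAlt.bijective_conjNormal (n := 5) (by norm_num) (by norm_num)).2 σ'
    have hσ2 : σ * σ = 1 := MulEquiv.ext fun y => Subtype.ext (by
      show α (α y) = y
      rw [← MulAut.mul_apply, hα, MulAut.one_apply])
    have hp2 : p * p = 1 := (AutAlt.bijective_conjNormal (n := 5) (by norm_num) (by norm_num)).1 (by
      rw [map_mul, hp', map_one, ← map_mul, hσ2, map_one])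
    have hpr : p * (e ⟨x, hAM hxA⟩ : Equiv.Perm (Fin 5)) = (e ⟨x, hAM hxA⟩ : Equiv.Perm (Fin 5)) * p := by
      have h1 : σ' (e ⟨x, hAM hxA⟩) = e ⟨x, hAM hxA⟩ := by
        show e (σ (e.symm (e ⟨x, hAM hxA⟩))) = _
        rw [e.symm_apply_apply]
        exact congrArg e (Subtype.ext (mem_fixedGroup.1 hxA))
      rw [← hp'] at h1
      have h2 := congrArg Subtype.val h1
      rw [MulAut.conjNormal_apply] at h2
      exact mul_inv_eq_iff_eq_mul.1 h2
    have hxo : orderOf (e ⟨x, hAM hxA⟩ : Equiv.Perm (Fin 5)) = 5 := by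
      rw [Subgroup.orderOf_coe, MulEquiv.orderOf_eq, Subgroup.orderOf_mk, hx]
    have hp1 := five_cert p hp2 _ (orderOf_dvd_iff_pow_eq_one.1 (dvd_of_eq hxo))
      (fun e0 => by rw [e0, orderOf_one] at hxo; omega) hpr
    have hσ1 : σ = 1 := (autCongr e).injective (by
      show σ' = _
      rw [← hp', hp1, map_one, map_one])
    let u : alternatingGroup (Fin 5) := ⟨Equiv.swap 0 1 * Equiv.swap 2 3,
      Equiv.Perm.mem_alternatingGroup.2 (by decide +kernel)⟩
    let v : alternatingGroup (Fin 5) := ⟨Equiv.swap 0 2 * Equiv.swap 1 3,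
      Equiv.Perm.mem_alternatingGroup.2 (by decide +kernel)⟩
    have hfix : ∀ y : M, α y = y := fun y => congrArg Subtype.val (DFunLike.congr_fun hσ1 y)
    have hinj : Function.Injective (fun w => ((e.symm w : M) : PSL2)) :=
      Subtype.val_injective.comp e.symm.injective
    refine hno (e.symm u : M) (e.symm v : M) ?_ ?_ ?_ ?_ ?_ ?_ (hfix _) (hfix _)
    · rw [← Subgroup.coe_mul, ← map_mul, show u * u = 1 by decide +kernel, map_one, Subgroup.coe_one]
    · intro e'
      exact absurd (hinj (a₁ := u) (a₂ := 1) (by simpa using e')) (by decide +kernel)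
    · rw [← Subgroup.coe_mul, ← map_mul, show v * v = 1 by decide +kernel, map_one, Subgroup.coe_one]
    · intro e'
      exact absurd (hinj (a₁ := v) (a₂ := 1) (by simpa using e')) (by decide +kernel)
    · intro e'
      exact absurd (hinj e') (by decide +kernel)
    · rw [← Subgroup.coe_mul, ← map_mul, show u * v = v * u by decide +kernel, map_mul, Subgroup.coe_mul]
  · -- `A₄`
    have hMc : Nat.card M = 12 := by
      rw [Nat.card_congr e.toEquiv, nat_card_alternatingGroup, Nat.card_eq_fintype_card,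
        Fintype.card_fin]; rfl
    rw [hMc] at hdvd
    have := Nat.le_of_dvd (by norm_num) hdvd
    have hN6 : N = 6 := by
      change q = ringChar F at hqp
      revert hdvd hN4
      interval_cases N <;> omega
    refine alt_four_no_six ((A.subgroupOf M).map e.toMonoidHom) ?_
    rw [Subgroup.card_map_of_injective (K := A.subgroupOf M) (f := e.toMonoidHom) e.injective,
      Nat.card_congr (Subgroup.subgroupOfEquivOfLe hAM).toEquiv, ← hN, hN6]
  · -- `S₄`
    have hMc : Nat.card M = 24 := by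
      rw [Nat.card_congr e.toEquiv, Nat.card_eq_fintype_card, Fintype.card_perm, Fintype.card_fin]; rfl
    rw [hMc] at hdvd
    have := Nat.le_of_dvd (by norm_num) hdvd
    have hN6 : N = 6 := by
      change q = ringChar F at hqp
      revert hdvd hN4
      interval_cases N <;> omega
    set AP := (A.subgroupOf M).map e.toMonoidHom with hAP
    have hAPc : Nat.card AP = 6 := by
      rw [hAP, Subgroup.card_map_of_injective (K := A.subgroupOf M) (f := e.toMonoidHom) e.injective,
        Nat.card_congr (Subgroup.subgroupOfEquivOfLe hAM).toEquiv, ← hN, hN6]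
    obtain ⟨c, hcA, hcs⟩ : ∃ c ∈ AP, Equiv.Perm.sign c ≠ 1 := by
      by_contra hall
      push Not at hall
      refine alt_four_no_six (AP.subgroupOf (alternatingGroup (Fin 4))) ?_
      rw [Nat.card_congr (Subgroup.subgroupOfEquivOfLe (fun x hx =>
        Equiv.Perm.mem_alternatingGroup.2 (hall x hx))).toEquiv, hAPc]
    have hKM' : K = M := by
      refine le_antisymm hKM ?_
      set KP := (K.subgroupOf M).map e.toMonoidHom
      have hKPc : Nat.card KP = Nat.card K := by
        rw [Subgroup.card_map_of_injective (K := K.subgroupOf M) (f := e.toMonoidHom) e.injective,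
          Nat.card_congr (Subgroup.subgroupOfEquivOfLe hKM).toEquiv]
      have hKi : KP.index ≤ 2 := by
        have h' := KP.card_mul_index
        rw [hKPc, show Nat.card (Equiv.Perm (Fin 4)) = 24 by
          rw [Nat.card_eq_fintype_card, Fintype.card_perm, Fintype.card_fin]; rfl] at h'
        obtain ⟨m, hm⟩ := hAK
        rw [hN6] at hm hgt
        have hm2 : 2 ≤ m := by omega
        have : 12 ≤ Nat.card K := by omega
        nlinarith
      have hev : ∀ x, Equiv.Perm.sign x = 1 → x ∈ KP := by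
        intro x hx
        obtain ⟨y, rfl⟩ := four_sq x hx
        have hi0 := Subgroup.index_ne_zero_of_finite (H := KP)
        rcases (by omega : KP.index = 1 ∨ KP.index = 2) with h1 | h1
        · rw [Subgroup.index_eq_one.1 h1]; exact Subgroup.mem_top _
        · exact Subgroup.mul_self_mem_of_index_two h1 y
      have hcK : c ∈ KP := Subgroup.map_mono (fun z hz => Subgroup.mem_subgroupOf.2
        ((le_sup_left : A ≤ K) (Subgroup.mem_subgroupOf.1 hz))) hcA
      intro y hy
      have hmem : e ⟨y, hy⟩ ∈ KP := by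
        rcases Int.units_eq_one_or (Equiv.Perm.sign (e ⟨y, hy⟩)) with h1 | h1
        · exact hev _ h1
        · have h1' : Equiv.Perm.sign c = -1 := (Int.units_eq_one_or _).resolve_left hcs
          have := mul_mem (hev (e ⟨y, hy⟩ * c) (by rw [map_mul, h1, h1']; rfl)) (inv_mem hcK)
          rwa [mul_inv_cancel_right] at this
      rw [Subgroup.mem_map_equiv, MulEquiv.symm_apply_apply] at hmem
      exact hmem
    obtain ⟨⟨x, hxA⟩, hx⟩ := exists_prime_orderOf_dvd_card' 3 (show 3 ∣ Nat.card A from ⟨2, by omega⟩)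
    rw [Subgroup.orderOf_mk] at hx
    let σ : MulAut M := restrictAut α hα M fun y hy => hKM' ▸ hKα y (hKM'.symm ▸ hy)
    let σ' : MulAut (Equiv.Perm (Fin 4)) := autCongr e σ
    have hσ2 : ∀ y, σ' (σ' y) = y := fun y => by
      show e (σ (e.symm (e (σ (e.symm y))))) = y
      rw [e.symm_apply_apply]
      refine (congrArg e ?_).trans (e.apply_symm_apply y)
      exact Subtype.ext (show α (α _) = _ by rw [← MulAut.mul_apply, hα, MulAut.one_apply])
    set r := e ⟨x, hAM hxA⟩ with hr
    have hσr : σ' r = r := by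
      show e (σ (e.symm (e ⟨x, hAM hxA⟩))) = _
      rw [e.symm_apply_apply]
      exact congrArg e (Subtype.ext (mem_fixedGroup.1 hxA))
    have hr3 : r * r * r = 1 := by
      have : r ^ 3 = 1 := by
        rw [show (3 : ℕ) = orderOf r by rw [hr, MulEquiv.orderOf_eq, Subgroup.orderOf_mk, hx]]
        exact pow_orderOf_eq_one r
      simpa [pow_succ] using this
    have hr1 : r ≠ 1 := fun e0 => by
      have : orderOf r = 3 := by rw [hr, MulEquiv.orderOf_eq, Subgroup.orderOf_mk, hx]
      rw [e0, orderOf_one] at this; omega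
    have hev : ∀ z, Equiv.Perm.sign z = 1 → Equiv.Perm.sign (σ' z) = 1 := by
      intro z hz
      obtain ⟨y, rfl⟩ := four_sq z hz
      rw [map_mul σ', map_mul]
      exact Int.units_mul_self _
    have key : ∀ z : Equiv.Perm (Fin 4), z * z = 1 → z ≠ 1 → Equiv.Perm.sign z = 1 → σ' z = z := by
      intro z hz hz1 hzs
      obtain ⟨hnc, hcases⟩ := four_cycle r z hr3 hr1 hz hz1 hzs
      rcases hcases (σ' z) (by rw [← map_mul, hz, map_one])
        (fun e0 => hz1 (σ'.injective (e0.trans (map_one σ').symm))) (hev z hzs) with h | h | h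
      · exact h
      · exfalso
        have h' := congrArg σ' h
        rw [hσ2, map_mul, map_mul, map_inv, hσr, h] at h'
        refine hnc (mul_inv_eq_iff_eq_mul.1 ?_)
        calc r * r * z * (r * r)⁻¹ = r * (r * z * r⁻¹) * r⁻¹ := by group
          _ = z := h'.symm
      · exfalso
        have h' := congrArg σ' h
        rw [hσ2, map_mul, map_mul, map_inv, hσr, h] at h'
        refine hnc (mul_inv_eq_iff_eq_mul.1 ?_)
        calc r * r * z * (r * r)⁻¹ = r * r * (r⁻¹ * (r⁻¹ * z * r) * r) * (r * r)⁻¹ := by rw [← h']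
          _ = z := by group
    have hfix : ∀ z, σ' z = z → α (e.symm z : M) = (e.symm z : M) := fun z hz => by
      have h' : e (σ (e.symm z)) = z := hz
      exact congrArg Subtype.val (e.eq_symm_apply.2 h' : σ (e.symm z) = e.symm z)
    set u : Equiv.Perm (Fin 4) := Equiv.swap 0 1 * Equiv.swap 2 3
    set v : Equiv.Perm (Fin 4) := Equiv.swap 0 2 * Equiv.swap 1 3
    have hinj : Function.Injective (fun w => ((e.symm w : M) : PSL2)) :=
      Subtype.val_injective.comp e.symm.injective
    refine hno (e.symm u : M) (e.symm v : M) ?_ ?_ ?_ ?_ ?_ ?_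
      (hfix _ (key u (by decide +kernel) (by decide +kernel) (by decide +kernel)))
      (hfix _ (key v (by decide +kernel) (by decide +kernel) (by decide +kernel)))
    · rw [← Subgroup.coe_mul, ← map_mul, show u * u = 1 by decide +kernel, map_one, Subgroup.coe_one]
    · intro e'
      exact absurd (hinj (a₁ := u) (a₂ := 1) (by simpa using e')) (by decide +kernel)
    · rw [← Subgroup.coe_mul, ← map_mul, show v * v = 1 by decide +kernel, map_one, Subgroup.coe_one]
    · intro e'
      exact absurd (hinj (a₁ := v) (a₂ := 1) (by simpa using e')) (by decide +kernel)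
    · intro e'
      exact absurd (hinj e') (by decide +kernel)
    · rw [← Subgroup.coe_mul, ← map_mul, show u * v = v * u by decide +kernel, map_mul, Subgroup.coe_mul]

end PSL

/-- Involutory automorphisms of `A₇` fix a four-group. -/
theorem seven_fix (p : Equiv.Perm (Fin 7)) (hp : p * p = 1) :
    ∃ x y : Equiv.Perm (Fin 7), x ∈ alternatingGroup (Fin 7) ∧ y ∈ alternatingGroup (Fin 7) ∧
      x * x = 1 ∧ x ≠ 1 ∧ y * y = 1 ∧ y ≠ 1 ∧ x ≠ y ∧ x * y = y * x ∧ p * x = x * p ∧ p * y = y * p := by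
  classical
  set x0 : Equiv.Perm (Fin 7) := Equiv.swap 0 1 * Equiv.swap 2 3
  set y0 : Equiv.Perm (Fin 7) := Equiv.swap 0 1 * Equiv.swap 4 5
  obtain ⟨g, q, hq, hxq, hyq⟩ : ∃ g q, g * q * g⁻¹ = p ∧ q * x0 = x0 * q ∧ q * y0 = y0 * q := by
    by_cases hp1 : p = 1
    · exact ⟨1, 1, by simp [hp1], by simp, by simp⟩
    have hpo : orderOf p = 2 := orderOf_eq_prime (by rw [pow_two, hp]) hp1
    obtain ⟨k, hk⟩ := Equiv.Perm.cycleType_prime_order (σ := p) (hpo.symm ▸ Nat.prime_two)
    rw [hpo] at hk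
    have hle : p.cycleType.sum ≤ 7 := by
      rw [Equiv.Perm.sum_cycleType]
      exact (Finset.card_le_univ _).trans_eq (Fintype.card_fin 7)
    rw [hk, Multiset.sum_replicate, smul_eq_mul] at hle
    have : k ≤ 2 := by omega
    interval_cases k
    · obtain ⟨g, hg⟩ := isConj_iff.1 (show IsConj (Equiv.swap (0 : Fin 7) 1) p from
        Equiv.Perm.isConj_iff_cycleType_eq.2 (by rw [hk]; decide +kernel))
      exact ⟨g, _, hg, by decide +kernel, by decide +kernel⟩
    · obtain ⟨g, hg⟩ := isConj_iff.1 (show IsConj x0 p from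
        Equiv.Perm.isConj_iff_cycleType_eq.2 (by rw [hk]; decide +kernel))
      exact ⟨g, _, hg, by decide +kernel, by decide +kernel⟩
    · obtain ⟨g, hg⟩ := isConj_iff.1 (show IsConj
        (Equiv.swap (0 : Fin 7) 1 * Equiv.swap 2 3 * Equiv.swap 4 5) p from
        Equiv.Perm.isConj_iff_cycleType_eq.2 (by rw [hk]; decide +kernel))
      exact ⟨g, _, hg, by decide +kernel, by decide +kernel⟩
  subst hq
  have hmem : ∀ z, Equiv.Perm.sign z = 1 → g * z * g⁻¹ ∈ alternatingGroup (Fin 7) := fun z hz =>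
    Equiv.Perm.mem_alternatingGroup.2 (by simp [hz])
  have hsq : ∀ z, z * z = 1 → g * z * g⁻¹ * (g * z * g⁻¹) = 1 := fun z hz => by
    rw [show g * z * g⁻¹ * (g * z * g⁻¹) = g * (z * z) * g⁻¹ by group, hz, mul_one, mul_inv_cancel]
  have hcm : ∀ z w, z * w = w * z → g * z * g⁻¹ * (g * w * g⁻¹) = g * w * g⁻¹ * (g * z * g⁻¹) := fun z w hzw => by
    rw [show g * z * g⁻¹ * (g * w * g⁻¹) = g * (z * w) * g⁻¹ by group, hzw]; group
  refine ⟨g * x0 * g⁻¹, g * y0 * g⁻¹, hmem _ (by decide +kernel), hmem _ (by decide +kernel),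
    hsq _ (by decide +kernel), fun e => absurd (conj_eq_one_iff.1 e) (by decide +kernel),
    hsq _ (by decide +kernel), fun e => absurd (conj_eq_one_iff.1 e) (by decide +kernel),
    fun e => absurd (mul_left_cancel (mul_right_cancel e)) (by decide +kernel),
    hcm _ _ (by decide +kernel), hcm _ _ hxq, hcm _ _ hyq⟩

/-- Row S1916 from the simple case. -/
theorem s1916 (hG : SimpleDihedral.{u}) {G : Type u} [Group G] [Finite G] (L : Subgroup G)
    (hL : IsSimpleGroup L) (hLn : ¬ IsMulCommutative L)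
    (hD : ∀ P : Sylow 2 L, ∃ n : ℕ, Nonempty (↥(P : Subgroup L) ≃* DihedralGroup n))
    (a b : G) (ha : orderOf a = 2) (hb : orderOf b = 2) (_hab : a ≠ b) (hc : a * b = b * a)
    (haL : a ∈ Subgroup.normalizer (L : Set G)) (hbL : b ∈ Subgroup.normalizer (L : Set G))
    (hCa : ∀ R : Sylow 2 ↥(L ⊓ Subgroup.centralizer ({a} : Set G)), IsCyclic R)
    (hCb : ∀ R : Sylow 2 ↥(L ⊓ Subgroup.centralizer ({b} : Set G)), IsCyclic R)
    (hgen : ¬ L ≤ Subgroup.closure ({a, b} : Set G) ⊔ (L ⊓ Subgroup.centralizer ({a} : Set G)) ⊔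
      (L ⊓ Subgroup.centralizer ({b} : Set G))) :
    a * b ∈ Subgroup.centralizer (L : Set G) := by
  classical
  haveI : Fact (Nat.Prime 2) := ⟨Nat.prime_two⟩
  haveI := hL
  -- no four-group of `L` is centralised by `a` or by `b`
  have hfour : ∀ c : G, (∀ R : Sylow 2 ↥(L ⊓ Subgroup.centralizer ({c} : Set G)), IsCyclic R) →
      ∀ x y : L, x * x = 1 → x ≠ 1 → y * y = 1 → y ≠ 1 → x ≠ y → x * y = y * x →
        c * x * c⁻¹ = x → c * y * c⁻¹ = y → False := by
    intro c hcR x y hx hx1 hy hy1 hxy hxyc hcx hcy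
    set C := L ⊓ Subgroup.centralizer ({c} : Set G)
    let xc : C := ⟨x, x.2, Subgroup.mem_centralizer_singleton_iff.2 (mul_inv_eq_iff_eq_mul.1 hcx).symm⟩
    let yc : C := ⟨y, y.2, Subgroup.mem_centralizer_singleton_iff.2 (mul_inv_eq_iff_eq_mul.1 hcy).symm⟩
    have hxo : orderOf xc = 2 := Invol.order_two_of_sq (Subtype.ext (congrArg Subtype.val hx :))
      (fun e => hx1 (Subtype.ext (congrArg (fun t : C => (t : G)) e)))
    have hyo : orderOf yc = 2 := Invol.order_two_of_sq (Subtype.ext (congrArg Subtype.val hy :))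
      (fun e => hy1 (Subtype.ext (congrArg (fun t : C => (t : G)) e)))
    obtain ⟨E, hE, -⟩ := BrauerSuzuki.exists_klein hxo hyo
      (Subtype.ext (congrArg Subtype.val hxyc :))
      (fun e => hxy (Subtype.ext (congrArg (fun t : C => (t : G)) e)))
    obtain ⟨R, hR⟩ := (IsPGroup.of_card (p := 2) (n := 2) hE.card_four).exists_le_sylow
    haveI := hcR R
    haveI := Subgroup.isCyclic_of_le hR
    haveI := hE
    exact IsKleinFour.not_isCyclic (G := E) inferInstance
  -- the target
  haveI hperf : Group.IsPerfect L := by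
    refine ⟨?_⟩
    rcases (inferInstance : (commutator L).Normal).eq_bot_or_eq_top with h | h
    · exfalso
      rw [commutator_def, Subgroup.commutator_eq_bot_iff_le_centralizer] at h
      exact hLn ⟨⟨fun p q => Subgroup.mem_centralizer_iff.1 (h (Subgroup.mem_top q)) p trivial⟩⟩
    · exact h
  obtain ⟨P⟩ : Nonempty (Sylow 2 L) := inferInstance
  obtain ⟨n, ⟨eP⟩⟩ := hD P
  have hdih : DihSylow L := by
    refine ⟨P, n, ?_, ⟨eP⟩⟩
    have hcard : Nat.card (P : Subgroup L) = 2 * n := by
      rw [Nat.card_congr eP.toEquiv, DihedralGroup.nat_card]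
    have h0 : 0 < Nat.card (P : Subgroup L) := Nat.card_pos
    by_contra hlt
    have h2 : Nat.card (P : Subgroup L) = 2 := by omega
    refine perfect_not_cyclic_sylow ?_ P (isCyclic_of_prime_card (p := 2) h2)
    exact h2 ▸ Subgroup.card_subgroup_dvd_card (P : Subgroup L)
  have ht := knownBelow_target (knownBelow_of_simple hG (Nat.card L + 1)) hdih (Nat.lt_succ_self _)
  set φ := L.normalizerMonoidHom
  set A : MulAut L := φ ⟨a, haL⟩
  set B : MulAut L := φ ⟨b, hbL⟩
  have hAapp : ∀ x : L, ((A x : L) : G) = a * x * a⁻¹ := fun x => rfl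
  have hBapp : ∀ x : L, ((B x : L) : G) = b * x * b⁻¹ := fun x => rfl
  have e2 : ∀ v : G, orderOf v = 2 → v * v = 1 := fun v hv => by
    rw [← pow_two, ← hv, pow_orderOf_eq_one]
  have hA2 : A * A = 1 := by
    rw [← map_mul, show (⟨a, haL⟩ : Subgroup.normalizer (L : Set G)) * ⟨a, haL⟩ = 1 from
      Subtype.ext (e2 a ha), map_one]
  have hB2 : B * B = 1 := by
    rw [← map_mul, show (⟨b, hbL⟩ : Subgroup.normalizer (L : Set G)) * ⟨b, hbL⟩ = 1 from
      Subtype.ext (e2 b hb), map_one]
  have hAB : A * B = B * A := by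
    rw [← map_mul, ← map_mul, show (⟨a, haL⟩ : Subgroup.normalizer (L : Set G)) * ⟨b, hbL⟩ =
      ⟨b, hbL⟩ * ⟨a, haL⟩ from Subtype.ext hc]
  by_contra hno
  have hne : A ≠ B := by
    intro e
    have hb' : b⁻¹ = b := inv_eq_of_mul_eq_one_right (e2 b hb)
    refine hno (Subgroup.mem_centralizer_iff.2 fun x hx => ?_)
    have h1 : a * x * a⁻¹ = b * x * b⁻¹ := by rw [← hAapp ⟨x, hx⟩, e, hBapp]
    symm
    refine mul_inv_eq_iff_eq_mul.1 ?_
    calc a * b * x * (a * b)⁻¹ = b * a * x * (b * a)⁻¹ := by rw [hc]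
      _ = b * (a * x * a⁻¹) * b⁻¹ := by group
      _ = b * (b * x * b⁻¹) * b⁻¹ := by rw [h1]
      _ = b * b * x * (b * b)⁻¹ := by group
      _ = x := by rw [e2 b hb, one_mul, inv_one, mul_one]
  rcases ht with ⟨F, i1, i2, hodd, h3, ⟨e⟩⟩ | ⟨⟨e⟩⟩
  · haveI : IsSimpleGroup (ProjectiveSpecialLinearGroup (Fin 2) F) :=
      Matrix.ProjectiveSpecialLinearGroup.rank_two_simple (by rw [Nat.card_eq_fintype_card]; omega)
    have hncP : ¬ IsMulCommutative (ProjectiveSpecialLinearGroup (Fin 2) F) := fun h =>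
      hLn ⟨⟨fun p q => e.injective (by rw [map_mul, map_mul, h.is_comm.comm])⟩⟩
    have h2 := two_ne_zero_of_odd hodd
    set α := autCongr e A with hα
    set β := autCongr e B with hβ
    have hα2 : α * α = 1 := by rw [hα, ← map_mul, hA2, map_one]
    have hβ2 : β * β = 1 := by rw [hβ, ← map_mul, hB2, map_one]
    have hαβ : α * β = β * α := by rw [hα, hβ, ← map_mul (autCongr e), ← map_mul (autCongr e), hAB]
    have hα' : ∀ x, α x = e (A (e.symm x)) := fun x => rfl
    have hβ' : ∀ x, β x = e (B (e.symm x)) := fun x => rfl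
    have hfour' : ∀ (c : G) (C : MulAut L), (∀ x : L, ((C x : L) : G) = c * x * c⁻¹) →
        (∀ R : Sylow 2 ↥(L ⊓ Subgroup.centralizer ({c} : Set G)), IsCyclic R) →
        ∀ x y, x * x = 1 → x ≠ 1 → y * y = 1 → y ≠ 1 → x ≠ y → x * y = y * x →
          autCongr e C x = x → autCongr e C y = y → False := by
      intro c C hCapp hcR x y hx hx1 hy hy1 hxy hxyc hCx hCy
      have h' : ∀ z, autCongr e C z = z → c * (e.symm z : L) * c⁻¹ = (e.symm z : L) := fun z hz => by
        have h1 : e (C (e.symm z)) = z := hz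
        rw [← hCapp, e.eq_symm_apply.2 h1]
      refine hfour c hcR (e.symm x) (e.symm y) (by rw [← map_mul, hx, map_one])
        (fun e0 => hx1 (e.symm.injective (e0.trans (map_one _).symm))) (by rw [← map_mul, hy, map_one])
        (fun e0 => hy1 (e.symm.injective (e0.trans (map_one _).symm)))
        (fun e0 => hxy (e.symm.injective e0)) (by rw [← map_mul, hxyc, map_mul]) (h' x hCx) (h' y hCy)
    -- both act as outer diagonal automorphisms
    have key : ∀ (γ : MulAut (ProjectiveSpecialLinearGroup (Fin 2) F)), γ * γ = 1 →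
        (∀ x y, x * x = 1 → x ≠ 1 → y * y = 1 → y ≠ 1 → x ≠ y → x * y = y * x →
          γ x = x → γ y = y → False) →
        γ ∈ Cfsg.inndiagPSL 2 F ∧ γ ∉ Cfsg.Inn (ProjectiveSpecialLinearGroup (Fin 2) F) := by
      intro γ hγ hnofix
      constructor
      · rw [mem_inndiag_iff_fld]
        by_contra hf
        obtain ⟨x, y, hx, hx1, hy, hy1, hxy, hxyc, hfx, hfy⟩ := field_fix_four hodd hγ hf
        exact hnofix x y hx hx1 hy hy1 hxy hxyc hfx hfy
      · rintro ⟨w, rfl⟩
        rw [← map_mul, ← map_one (MulAut.conj : _ →* MulAut (ProjectiveSpecialLinearGroup (Fin 2) F))] at hγ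
        have hw2 : w * w = 1 := conj_injective hncP hγ
        by_cases hw : w = 1
        · obtain ⟨j, hj⟩ := PSL2Inv.exists_anti (F := F) h2
          obtain ⟨E, hE⟩ := S0204.result (G := ProjectiveSpecialLinearGroup (Fin 2) F)
            fun hcyc => hncP hcyc.isMulCommutative
          haveI := hE
          obtain ⟨⟨x, hxE⟩, hx1⟩ := Subgroup.ne_bot_iff_exists_ne_one.1 (show E ≠ ⊥ from fun e0 => by
            have := hE.card_four
            rw [e0, Subgroup.card_bot] at this; omega)
          have hx2 : x * x = 1 := congrArg Subtype.val (IsKleinFour.mul_self (⟨x, hxE⟩ : E))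
          have hx1' : x ≠ 1 := fun e0 => hx1 (Subtype.ext e0)
          obtain ⟨y, hy, hy1, hyx, hxy⟩ := inner_fix_four h2 hx2 hx1'
          subst hw
          exact hnofix x y hx2 hx1' hy hy1 hyx.symm hxy (by simp) (by simp)
        · obtain ⟨y, hy, hy1, hyx, hwy⟩ := inner_fix_four h2 hw2 hw
          refine hnofix w y hw2 hw hy hy1 hyx.symm hwy (by simp [mul_assoc]) ?_
          show w * y * w⁻¹ = y
          rw [hwy, mul_inv_cancel_right]
    obtain ⟨hαd, hαi⟩ := key α hα2 (hfour' a A hAapp hCa)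
    obtain ⟨hβd, hβi⟩ := key β hβ2 (hfour' b B hBapp hCb)
    obtain ⟨g, h, d, hg', hh', hg, hh, hgh⟩ := outer_pair hodd hαd hβd hαi hβi hα2 hβ2
      (fun e0 => hne ((autCongr e).injective e0)) hαβ
    have htop := outer_gen hodd h3 hg hh hgh (by rw [← hg', hα2]) (by rw [← hg', ← hh', hαβ])
      (by rw [← hg']; exact hfour' a A hAapp hCa)
    refine hgen fun x hx => ?_
    set T := Subgroup.closure ({a, b} : Set G) ⊔ (L ⊓ Subgroup.centralizer ({a} : Set G)) ⊔
      (L ⊓ Subgroup.centralizer ({b} : Set G))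
    have hsub : (⊤ : Subgroup (ProjectiveSpecialLinearGroup (Fin 2) F)) ≤
        T.comap (L.subtype.comp e.symm.toMonoidHom) := by
      rw [← htop, ← hg', ← hh']
      refine sup_le (fun z hz => ?_) (fun z hz => ?_)
      · refine Subgroup.mem_sup_left (Subgroup.mem_sup_right ⟨(e.symm z : L).2, ?_⟩)
        refine Subgroup.mem_centralizer_singleton_iff.2 (mul_inv_eq_iff_eq_mul.1 ?_).symm
        have h1 : e (A (e.symm z)) = z := hz
        show a * ((e.symm z : L) : G) * a⁻¹ = ((e.symm z : L) : G)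
        rw [← hAapp, e.eq_symm_apply.2 h1]
      · refine Subgroup.mem_sup_right ⟨(e.symm z : L).2, ?_⟩
        refine Subgroup.mem_centralizer_singleton_iff.2 (mul_inv_eq_iff_eq_mul.1 ?_).symm
        have h1 : e (B (e.symm z)) = z := hz
        show b * ((e.symm z : L) : G) * b⁻¹ = ((e.symm z : L) : G)
        rw [← hBapp, e.eq_symm_apply.2 h1]
    have := hsub (Subgroup.mem_top (e ⟨x, hx⟩))
    simpa using this
  · obtain ⟨p, hp⟩ := (AutAlt.bijective_conjNormal (n := 7) (by norm_num) (by norm_num)).2 (autCongr e A)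
    have hp2 : p * p = 1 := (AutAlt.bijective_conjNormal (n := 7) (by norm_num) (by norm_num)).1 (by
      rw [map_mul, hp, map_one, ← map_mul, hA2, map_one])
    obtain ⟨x, y, hxA, hyA, hx, hx1, hy, hy1, hxy, hxyc, hpx, hpy⟩ := seven_fix p hp2
    have hfix : ∀ (z : Equiv.Perm (Fin 7)) (hz : z ∈ alternatingGroup (Fin 7)), p * z = z * p →
        a * (e.symm ⟨z, hz⟩ : L) * a⁻¹ = (e.symm ⟨z, hz⟩ : L) := by
      intro z hz hpz
      have h1 : autCongr e A ⟨z, hz⟩ = ⟨z, hz⟩ := by
        rw [← hp]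
        exact Subtype.ext (by rw [MulAut.conjNormal_apply, hpz, mul_inv_cancel_right])
      have h2 : e (A (e.symm ⟨z, hz⟩)) = ⟨z, hz⟩ := h1
      rw [← hAapp, e.eq_symm_apply.2 h2]
    refine hfour a hCa (e.symm ⟨x, hxA⟩) (e.symm ⟨y, hyA⟩) ?_ ?_ ?_ ?_ ?_ ?_ (hfix x hxA hpx) (hfix y hyA hpy)
    · rw [← map_mul, show (⟨x, hxA⟩ : alternatingGroup (Fin 7)) * ⟨x, hxA⟩ = 1 from Subtype.ext hx, map_one]
    · exact fun e0 => hx1 (congrArg Subtype.val (e.symm.injective (e0.trans (map_one _).symm)) :)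
    · rw [← map_mul, show (⟨y, hyA⟩ : alternatingGroup (Fin 7)) * ⟨y, hyA⟩ = 1 from Subtype.ext hy, map_one]
    · exact fun e0 => hy1 (congrArg Subtype.val (e.symm.injective (e0.trans (map_one _).symm)) :)
    · exact fun e0 => hxy (congrArg Subtype.val (e.symm.injective e0) :)
    · rw [← map_mul, ← map_mul, show (⟨x, hxA⟩ : alternatingGroup (Fin 7)) * ⟨y, hyA⟩ =
        ⟨y, hyA⟩ * ⟨x, hxA⟩ from Subtype.ext hxyc]

end Cfsg.Agent.GW
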