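import Cfsg.Agent.Lib.GW.AlmostTarget
import Cfsg.Agent.Lib.Classical.PSL2Involutions
import Mathlib.FieldTheory.IsAlgClosed.AlgebraicClosure
import Mathlib.RingTheory.IntegralDomain

/-!
Centralisers of inner involutions in the automorphism group of `PSL₂(q)`, `q` odd.
-/

set_option autoImplicit false

namespace Cfsg.Agent.GW

open Matrix Cfsg.Agent.AutPSL

variable {F : Type} [Field F] [Fintype F]

local notation "GL2" => GL (Fin 2) F
local notation "PSL2" => Matrix.ProjectiveSpecialLinearGroup (Fin 2) F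

/-- The standard involution. -/
def wGL : GL2 := Matrix.SpecialLinearGroup.toGL (SL2Inv.w : SpecialLinearGroup (Fin 2) F)

theorem wGL_coe : (wGL : GL2).1 = !![0, -1; 1, 0] := rfl

/-- The centraliser of `wGL`. -/
def torus : Subgroup GL2 := Subgroup.centralizer {wGL}

theorem mem_torus {g : GL2} : g ∈ (torus : Subgroup GL2) ↔
    g.1 1 1 = g.1 0 0 ∧ g.1 0 1 = -g.1 1 0 := by
  rw [torus, Subgroup.mem_centralizer_singleton_iff, Units.ext_iff, Units.val_mul, Units.val_mul,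
    wGL_coe, ← Matrix.ext_iff]
  simp only [Fin.forall_fin_two, Matrix.mul_apply, Fin.sum_univ_two, Matrix.of_apply,
    Matrix.cons_val', Matrix.cons_val_zero, Matrix.cons_val_one, Matrix.empty_val',
    Matrix.cons_val_fin_one, mul_zero, zero_mul, mul_one, one_mul, mul_neg, neg_mul, zero_add, add_zero]
  constructor
  · rintro ⟨⟨h1, h2⟩, h3, h4⟩
    exact ⟨by linear_combination h3, h1⟩
  · rintro ⟨h1, h2⟩
    refine ⟨⟨h2, ?_⟩, ?_, ?_⟩
    · linear_combination h1
    · linear_combination h1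
    · linear_combination -h2

local notation "K" => AlgebraicClosure F

theorem exists_sqrt_neg_one : ∃ i : K, i * i = -1 := by
  obtain ⟨i, hi⟩ := IsAlgClosed.exists_eq_mul_self (-1 : K)
  exact ⟨i, hi.symm⟩

/-- The ratio map of the torus. -/
theorem torus_char (i : K) (hi : i * i = -1) (g : torus (F := F)) :
    algebraMap F K (g.1.1 0 0) + algebraMap F K (g.1.1 1 0) * i ≠ 0 ∧
      algebraMap F K (g.1.1 0 0) - algebraMap F K (g.1.1 1 0) * i ≠ 0 := by
  obtain ⟨h1, h2⟩ := mem_torus.1 g.2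
  have hd : algebraMap F K (g.1.1.det) ≠ 0 := by
    rw [ne_eq, map_eq_zero]
    exact ((Matrix.isUnit_iff_isUnit_det _).1 g.1.isUnit).ne_zero
  rw [Matrix.det_fin_two, h1, h2] at hd
  have h3 : algebraMap F K (g.1.1 0 0 * g.1.1 0 0 - -g.1.1 1 0 * g.1.1 1 0) =
      (algebraMap F K (g.1.1 0 0) + algebraMap F K (g.1.1 1 0) * i) *
      (algebraMap F K (g.1.1 0 0) - algebraMap F K (g.1.1 1 0) * i) := by
    simp only [map_sub, map_mul, map_neg]
    linear_combination (algebraMap F K (g.1.1 1 0)) ^ 2 * hi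
  rw [h3] at hd
  exact mul_ne_zero_iff.1 hd

/-- The image of the torus in `Aut PSL₂`. -/
noncomputable def torusAut : Subgroup (MulAut PSL2) := torus.map AutPSL.conjHom

theorem isCyclic_torusAut (h2 : (2 : F) ≠ 0) : IsCyclic (torusAut : Subgroup (MulAut PSL2)) := by
  classical
  obtain ⟨i, hi⟩ := exists_sqrt_neg_one (F := F)
  let φ : torus (F := F) → Kˣ := fun g =>
    Units.mk0 _ (torus_char i hi g).1 / Units.mk0 _ (torus_char i hi g).2
  have hmul : ∀ g h, φ (g * h) = φ g * φ h := by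
    intro g h
    obtain ⟨h1, h2'⟩ := mem_torus.1 g.2
    obtain ⟨h3, h4⟩ := mem_torus.1 h.2
    simp only [φ, div_mul_div_comm]
    congr 1 <;>
    · refine Units.ext ?_
      simp only [Units.val_mk0, Units.val_mul, Subgroup.coe_mul, Matrix.mul_apply, Fin.sum_univ_two,
        h1, h2', h3, h4, map_add, map_mul, map_neg]
      linear_combination -((algebraMap F K) (g.1.1 1 0) * (algebraMap F K) (h.1.1 1 0)) * hi
  let Φ := MonoidHom.mk' φ hmul
  let Ψ : torus (F := F) →* MulAut PSL2 := AutPSL.conjHom.comp torus.subtype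
  have hker : Φ.ker = Ψ.ker := by
    ext g
    obtain ⟨h1, h3⟩ := mem_torus.1 g.2
    simp only [MonoidHom.mem_ker, Φ, Ψ, MonoidHom.mk'_apply, φ, div_eq_one, Units.ext_iff, Units.val_mk0,
      MonoidHom.comp_apply, Subgroup.coe_subtype]
    rw [AutPSL.conjHom_apply, semi_eq_one_iff le_rfl]
    have hiff : (∃ c : Fˣ, g.1 = GeneralLinearGroup.scalar (Fin 2) c) ↔ g.1.1 1 0 = 0 := by
      constructor
      · rintro ⟨c, hc⟩
        rw [hc]; simp
      · intro hb
        have ha : g.1.1 0 0 ≠ 0 := fun e => (torus_char i hi g).1 (by rw [e, hb]; simp)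
        refine ⟨Units.mk0 _ ha, Units.ext (Matrix.ext fun a b => ?_)⟩
        fin_cases a <;> fin_cases b <;> simp [h1, h3, hb]
    rw [hiff]
    constructor
    · intro e
      refine ⟨rfl, (map_eq_zero (algebraMap F K)).1 ?_⟩
      have hi0 : i ≠ 0 := fun e0 => by rw [e0, mul_zero] at hi; exact one_ne_zero (neg_eq_zero.1 hi.symm)
      have h2K : (2 : K) ≠ 0 := by
        rw [← map_ofNat (algebraMap F K) 2, ne_eq, map_eq_zero]; exact h2
      have : algebraMap F K (g.1.1 1 0) * (2 * i) = 0 := by linear_combination e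
      exact (mul_eq_zero.1 this).resolve_right (mul_ne_zero h2K hi0)
    · rintro ⟨-, hb⟩
      simp [hb]
  have hrange : Ψ.range = torusAut := by
    rw [torusAut, MonoidHom.range_comp, Subgroup.range_subtype]
  rw [← hrange]
  haveI : Finite Φ.range := Finite.of_surjective _ Φ.rangeRestrict_surjective
  haveI : IsCyclic Φ.range := inferInstance
  exact isCyclic_of_surjective
    (((QuotientGroup.quotientKerEquivRange Φ).symm.trans
      ((QuotientGroup.quotientMulEquivOfEq hker).trans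
        (QuotientGroup.quotientKerEquivRange Ψ))).toMonoidHom) (MulEquiv.surjective _)

theorem conj_injective [IsSimpleGroup PSL2] (hnc : ¬ IsMulCommutative PSL2) :
    Function.Injective (MulAut.conj : PSL2 →* MulAut PSL2) := by
  refine (injective_iff_map_eq_one _).2 fun x hx => ?_
  have hc : x ∈ Subgroup.center PSL2 := by
    rw [Subgroup.mem_center_iff]
    intro y
    have h1 : x * y * x⁻¹ = y := by
      have := congrArg (fun u : MulAut PSL2 => u y) hx
      simpa using this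
    exact (mul_inv_eq_iff_eq_mul.1 h1).symm
  rcases IsSimpleGroup.eq_bot_or_eq_top_of_normal (Subgroup.center PSL2) inferInstance with hb | ht
  · rwa [hb, Subgroup.mem_bot] at hc
  · exact absurd ⟨⟨fun a b => (Subgroup.mem_center_iff.1 (ht ▸ Subgroup.mem_top b) a)⟩⟩ hnc

theorem conj_aut (β : MulAut PSL2) (x : PSL2) : β * MulAut.conj x * β⁻¹ = MulAut.conj (β x) := by
  ext y
  simp [map_mul, map_inv]

/-- The two-sided condition for commuting with the standard inner involution. -/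
theorem commute_pr_w_iff [IsSimpleGroup PSL2] (hnc : ¬ IsMulCommutative PSL2) (g : GL2)
    (σ : F ≃+* F) :
    (semi g σ : MulAut PSL2) * MulAut.conj (PSL2Inv.pr SL2Inv.w) =
        MulAut.conj (PSL2Inv.pr SL2Inv.w) * semi g σ ↔
      g * wGL = wGL * g ∨ g.1 * wGL.1 = -(wGL.1 * g.1) := by
  rw [← mul_inv_eq_iff_eq_mul, conj_aut, (conj_injective hnc).eq_iff]
  have hmap : (SL2Inv.w : SpecialLinearGroup (Fin 2) F).1.map σ = wGL.1 := by
    rw [wGL_coe]
    ext a b
    fin_cases a <;> fin_cases b <;> simp [SL2Inv.w]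
  show PSL2Inv.pr (slSemi g σ SL2Inv.w) = PSL2Inv.pr SL2Inv.w ↔ _
  rw [PSL2Inv.pr_eq_iff, Units.ext_iff, Units.val_mul, Units.val_mul]
  have hval : ∀ a b : SpecialLinearGroup (Fin 2) F, a = b ↔ a.1 = b.1 :=
    fun a b => ⟨congrArg Subtype.val, Subtype.ext⟩
  refine or_congr ?_ ?_
  · rw [hval, slSemi_coe, hmap, eq_comm]
    show g.1 * wGL.1 * g⁻¹.1 = wGL.1 ↔ _
    rw [Units.mul_inv_eq_iff_eq_mul]
  · rw [hval]
    show _ = SL2Inv.negOne.1 * (slSemi g σ SL2Inv.w).1 ↔ _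
    rw [slSemi_coe, hmap, SL2Inv.coe_negOne, neg_one_mul]
    show wGL.1 = -(g.1 * wGL.1 * g⁻¹.1) ↔ _
    rw [eq_neg_iff_add_eq_zero, add_comm, ← eq_neg_iff_add_eq_zero, Units.mul_inv_eq_iff_eq_mul,
      neg_mul]

/-- The centraliser of the standard inner involution. -/
theorem centralizer_pr_w [IsSimpleGroup PSL2] (hnc : ¬ IsMulCommutative PSL2) (h2 : (2 : F) ≠ 0) :
    ∃ (A : Subgroup (MulAut PSL2)) (s : MulAut PSL2),
      A ≤ Cfsg.inndiagPSL 2 F ∧ IsCyclic A ∧ MulAut.conj (PSL2Inv.pr SL2Inv.w) ∈ A ∧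
      s ∈ Cfsg.Inn PSL2 ∧ s * s = 1 ∧ s ∉ A ∧
      (∀ a ∈ A, s * a * s⁻¹ = a⁻¹) ∧
      (∀ a ∈ A, a * MulAut.conj (PSL2Inv.pr SL2Inv.w) = MulAut.conj (PSL2Inv.pr SL2Inv.w) * a) ∧
      s * MulAut.conj (PSL2Inv.pr SL2Inv.w) = MulAut.conj (PSL2Inv.pr SL2Inv.w) * s ∧
      ∀ β : MulAut PSL2,
        β * MulAut.conj (PSL2Inv.pr SL2Inv.w) = MulAut.conj (PSL2Inv.pr SL2Inv.w) * β →
        (β ∈ Cfsg.inndiagPSL 2 F → β ∈ A ∨ β * s ∈ A) ∧ ∀ a ∈ A, β * a * β⁻¹ ∈ A := by
  obtain ⟨j, hj⟩ := PSL2Inv.exists_anti (F := F) h2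
  have hne : ((-1 : F)) ≠ 1 := fun e => h2 (by linear_combination -e)
  set t : MulAut PSL2 := MulAut.conj (PSL2Inv.pr SL2Inv.w) with ht
  set jG : GL2 := Matrix.SpecialLinearGroup.toGL j with hjG
  have hjw : jG.1 * wGL.1 = -(wGL.1 * jG.1) := by
    have := congrArg Subtype.val hj.2
    change j.1 * SL2Inv.w.1 = (-1) * (SL2Inv.w.1 * j.1) at this
    rwa [neg_one_mul] at this
  have hws : MulAut.conj (PSL2Inv.pr j) = (semi jG 1 : MulAut PSL2) := inner_eq_semi j
  have hwT : t = (semi wGL 1 : MulAut PSL2) := inner_eq_semi _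
  have hwmem : wGL ∈ (torus : Subgroup GL2) :=
    Subgroup.mem_centralizer_singleton_iff.2 rfl
  have hanti : ∀ g : GL2, g.1 * wGL.1 = -(wGL.1 * g.1) → g ∉ (torus : Subgroup GL2) := by
    intro g hg hgt
    have he := congrArg Units.val (Subgroup.mem_centralizer_singleton_iff.1 hgt)
    rw [Units.val_mul, Units.val_mul] at he
    rw [← he] at hg
    have h0 : (2 : F) • (g.1 * wGL.1) = 0 := by rw [two_smul]; exact eq_neg_iff_add_eq_zero.1 hg
    rw [smul_eq_zero] at h0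
    rcases h0 with h0 | h0
    · exact h2 h0
    · exact (g * wGL).isUnit.ne_zero h0
  refine ⟨torusAut, MulAut.conj (PSL2Inv.pr j), ?_, isCyclic_torusAut h2, ?_, ⟨_, rfl⟩, ?_, ?_, ?_,
    ?_, ?_, ?_⟩
  · rintro _ ⟨g, -, rfl⟩
    exact mem_inndiag.2 ⟨g, AutPSL.conjHom_apply g⟩
  · exact ⟨wGL, hwmem, by rw [AutPSL.conjHom_apply, hwT]⟩
  · rw [← map_mul, PSL2Inv.pr_mul_self hj.1, map_one]
  · rintro ⟨g, hg, he⟩
    rw [hws, AutPSL.conjHom_apply, semi_eq_semi le_rfl] at he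
    obtain ⟨-, c, hc⟩ := he
    refine hanti jG hjw ?_
    have : jG = (GeneralLinearGroup.scalar (Fin 2) c)⁻¹ * g := by rw [hc, inv_mul_cancel_left]
    rw [this]
    refine mul_mem (inv_mem (Subgroup.mem_centralizer_singleton_iff.2 ?_)) hg
    exact (scalar_comm _ _)
  · rintro _ ⟨g, hg, rfl⟩
    rw [hws, AutPSL.conjHom_apply, semi_left, semi_left, semi_mul', semi_mul', one_mul, one_mul, mapGL_one, mapGL_one, semi_eq_semi le_rfl]
    refine ⟨rfl, ?_⟩
    obtain ⟨h1, h3⟩ := mem_torus.1 hg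
    have hd : g.1.det ≠ 0 := ((Matrix.isUnit_iff_isUnit_det _).1 g.isUnit).ne_zero
    refine ⟨Units.mk0 _ hd, ?_⟩
    rw [eq_mul_inv_iff_mul_eq, mul_assoc, mul_assoc,
      show jG⁻¹ = SpecialLinearGroup.toGL j⁻¹ from (map_inv _ _).symm]
    refine Units.ext ?_
    have he := (PSL2Inv.Anti.entries hj)
    obtain ⟨e1, e2⟩ := he
    have hjd := j.2
    rw [Matrix.det_fin_two] at hjd
    have hji : (SpecialLinearGroup.toGL j⁻¹ : GL2).1 =
        !![-j.1 0 0, -j.1 1 0; -j.1 1 0, j.1 0 0] := by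
      show j.1.adjugate = _
      rw [adjugate_fin_two, e1, e2]
    rw [Units.val_mul, Units.val_mul, Units.val_mul, hji]
    rw [e1, e2] at hjd
    ext a b
    fin_cases a <;> fin_cases b <;>
      simp [hjG, Matrix.mul_apply, Fin.sum_univ_two, h1, h3, e1, e2, Matrix.det_fin_two, Matrix.vecMul, dotProduct] <;> grind
  · rintro _ ⟨g, hg, rfl⟩
    rw [AutPSL.conjHom_apply]
    exact (commute_pr_w_iff hnc g 1).2 (Or.inl (Subgroup.mem_centralizer_singleton_iff.1 hg))
  · rw [hws]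
    exact (commute_pr_w_iff hnc jG 1).2 (Or.inr hjw)
  · intro β hβ
    obtain ⟨g, σ, rfl⟩ := exists_semi β
    have hg := (commute_pr_w_iff hnc g σ).1 hβ
    refine ⟨fun hin => ?_, ?_⟩
    · rw [mem_inndiag_iff_fld, fldHom_semi] at hin
      subst hin
      rcases hg with hg | hg
      · exact Or.inl ⟨g, Subgroup.mem_centralizer_singleton_iff.2 hg, AutPSL.conjHom_apply g⟩
      · refine Or.inr ⟨g * jG, Subgroup.mem_centralizer_singleton_iff.2 (Units.ext ?_), ?_⟩
        · rw [Units.val_mul, Units.val_mul, mul_assoc, hjw, mul_neg, ← mul_assoc, hg, neg_mul,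
            neg_neg]
          simp only [Units.val_mul, mul_assoc]
        · rw [AutPSL.conjHom_apply, hws, semi_mul', mapGL_one, one_mul]
    · rintro _ ⟨h, hh, rfl⟩
      refine ⟨g * mapGL σ h * g⁻¹, ?_, ?_⟩
      · have hσh : mapGL σ h * wGL = wGL * mapGL σ h := by
          have := congrArg (mapGL σ) (Subgroup.mem_centralizer_singleton_iff.1 hh)
          have hfix : mapGL σ (wGL : GL2) = wGL := by
            refine Units.ext ?_
            rw [mapGL_coe, wGL_coe]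
            ext a b
            fin_cases a <;> fin_cases b <;> simp
          rwa [map_mul, map_mul, hfix] at this
        refine Subgroup.mem_centralizer_singleton_iff.2 (Units.ext ?_)
        have hσ' := congrArg Units.val hσh
        simp only [Units.val_mul] at hσ' ⊢
        rcases hg with hg | hg
        · have hg' := congrArg Units.val hg
          simp only [Units.val_mul] at hg'
          have hgi : g⁻¹.1 * wGL.1 = wGL.1 * g⁻¹.1 :=
            congrArg Units.val (show g⁻¹ * wGL = wGL * g⁻¹ from (Commute.inv_left hg).eq)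
          calc g.1 * (mapGL σ h).1 * g⁻¹.1 * wGL.1 = g.1 * ((mapGL σ h).1 * wGL.1) * g⁻¹.1 := by
                rw [mul_assoc _ g⁻¹.1, hgi]; simp only [mul_assoc]
            _ = g.1 * wGL.1 * (mapGL σ h).1 * g⁻¹.1 := by rw [hσ']; simp only [mul_assoc]
            _ = wGL.1 * (g.1 * (mapGL σ h).1 * g⁻¹.1) := by rw [hg']; simp only [mul_assoc]
        · have hgi : g⁻¹.1 * wGL.1 = -(wGL.1 * g⁻¹.1) := by
            have := congrArg (fun m => g⁻¹.1 * m * g⁻¹.1) hg
            simp only [mul_neg, neg_mul, ← mul_assoc, Units.inv_mul, one_mul] at this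
            rw [mul_assoc (g⁻¹.1 * wGL.1) g.1, Units.mul_inv, mul_one] at this
            rw [this, neg_neg]
          calc g.1 * (mapGL σ h).1 * g⁻¹.1 * wGL.1 = -(g.1 * ((mapGL σ h).1 * wGL.1) * g⁻¹.1) := by
                rw [mul_assoc _ g⁻¹.1, hgi]; simp only [mul_assoc, mul_neg]
            _ = -(g.1 * wGL.1 * (mapGL σ h).1 * g⁻¹.1) := by rw [hσ']; simp only [mul_assoc]
            _ = wGL.1 * (g.1 * (mapGL σ h).1 * g⁻¹.1) := by
              rw [hg]; simp only [mul_assoc, neg_mul, neg_neg]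
      · rw [AutPSL.conjHom_apply, AutPSL.conjHom_apply, eq_mul_inv_iff_mul_eq, semi_mul', semi_mul', mapGL_one,
          one_mul, mul_one, inv_mul_cancel_right]

/-- The centraliser of an involution of the socle, pulled back to a group over `PSL₂(q)`. -/
theorem psl_centralizer {X : Type*} [Group X] [Finite X] [IsSimpleGroup PSL2]
    (hnc : ¬ IsMulCommutative PSL2) (hodd : Odd (Fintype.card F)) (L : Subgroup X)
    (ι : X →* MulAut PSL2) (hι : Function.Injective ι) (hL : L.map ι = Cfsg.Inn PSL2)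
    (hfld : ∀ x : X, Odd (orderOf (fldHom (ι x)))) {t : X} (htL : t ∈ L) (ht : orderOf t = 2) :
    ∃ (Kd : Subgroup X) (_ : Kd.Normal), L ≤ Kd ∧ Odd Kd.index ∧ IsCyclic (X ⧸ Kd) ∧
      ∃ (A : Subgroup X) (s : X), A ≤ Kd ⊓ Subgroup.centralizer ({t} : Set X) ∧ IsCyclic A ∧ t ∈ A ∧
        s ∈ L ∧ s * t = t * s ∧ s * s = 1 ∧ s ∉ A ∧ (∀ a ∈ A, s * a * s⁻¹ = a⁻¹) ∧
        (∀ g : X, g * t = t * g → ∀ a ∈ A, g * a * g⁻¹ ∈ A) ∧
        ∀ g ∈ Kd, g * t = t * g → g ∈ A ∨ g * s ∈ A := by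
  classical
  have h2 : (2 : F) ≠ 0 := fun e => by
    have hc : CharP F 2 := CharP.ringChar_of_prime_eq_zero Nat.prime_two (by exact_mod_cast e) ▸
      ringChar.charP F
    obtain ⟨n, -, hn⟩ := FiniteField.card F 2
    rw [hn] at hodd
    exact Nat.not_odd_iff_even.2 (Even.pow_of_ne_zero (by norm_num) n.2.ne') hodd
  obtain ⟨Kd, hKdef⟩ : ∃ Kd, Kd = (Cfsg.inndiagPSL 2 F).comap ι := ⟨_, rfl⟩
  have hKker : Kd = (fldHom.comp ι).ker := by
    ext g
    rw [hKdef, Subgroup.mem_comap, mem_inndiag_iff_fld]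
    rfl
  haveI hKn : Kd.Normal := hKker ▸ MonoidHom.normal_ker _
  have hcyc : IsCyclic (X ⧸ Kd) := by
    obtain ⟨n, hp, hn⟩ := FiniteField.card F (ringChar F)
    haveI := Fact.mk hp
    obtain ⟨E⟩ := exists_ringAut_equiv (F := F) (ringChar F) n hn
    haveI : IsCyclic (F ≃+* F) := isCyclic_of_surjective E.symm.toMonoidHom (MulEquiv.surjective _)
    refine isCyclic_of_injective (QuotientGroup.lift Kd (fldHom.comp ι) hKker.le)
      ((injective_iff_map_eq_one _).2 fun q hq => ?_)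
    induction q using QuotientGroup.induction_on with
    | _ g =>
      rw [QuotientGroup.lift_mk] at hq
      rw [QuotientGroup.eq_one_iff, hKker]
      exact MonoidHom.mem_ker.2 hq
  have hLK : L ≤ Kd := by
    intro l hl
    rw [hKdef, Subgroup.mem_comap, mem_inndiag_iff_fld]
    exact fldHom_inn (hL ▸ Subgroup.mem_map_of_mem ι hl)
  have hKidx : Odd Kd.index := by
    rw [← Nat.not_even_iff_odd, even_iff_two_dvd, Subgroup.index_eq_card]
    intro hd
    haveI := Fact.mk Nat.prime_two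
    obtain ⟨q, hq⟩ := exists_prime_orderOf_dvd_card' 2 hd
    induction q using QuotientGroup.induction_on with
    | _ g =>
    have h1 := hfld g
    have h3 : (g ^ orderOf (fldHom (ι g)) : X) ∈ Kd := by
      rw [hKdef, Subgroup.mem_comap, mem_inndiag_iff_fld, map_pow, map_pow, pow_orderOf_eq_one]
    have h4 : (QuotientGroup.mk g : X ⧸ Kd) ^ orderOf (fldHom (ι g)) = 1 := by
      rw [← QuotientGroup.mk_pow, QuotientGroup.eq_one_iff]; exact h3
    have h5 := orderOf_dvd_of_pow_eq_one h4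
    rw [hq] at h5
    exact Nat.not_even_iff_odd.2 h1 (even_iff_two_dvd.2 h5)
  have hpre : ∀ {β : MulAut PSL2}, β ∈ Cfsg.Inn PSL2 → ∃ l ∈ L, ι l = β := fun hβ =>
    Subgroup.mem_map.1 (hL.symm ▸ hβ)
  obtain ⟨x, hx⟩ : ι t ∈ Cfsg.Inn PSL2 := hL ▸ Subgroup.mem_map_of_mem ι htL
  have hxo : orderOf x = 2 := by
    rw [← orderOf_injective _ (conj_injective hnc), hx, orderOf_injective _ hι, ht]
  have hxx : x * x = 1 := by
    have := pow_orderOf_eq_one x
    rwa [hxo, pow_two] at this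
  have hx1 : x ≠ 1 := fun e => by rw [e, orderOf_one] at hxo; omega
  obtain ⟨c, hc⟩ := isConj_iff.1 (PSL2Inv.isConj_pr_w h2 hxx hx1)
  obtain ⟨A, s, hAK, hAc, hwA, hsI, hss, hsA, hinv, hAcom, hsw, hall⟩ :=
    centralizer_pr_w (F := F) hnc h2
  set γ : MulAut PSL2 := MulAut.conj c with hγ
  set w' : MulAut PSL2 := MulAut.conj (PSL2Inv.pr SL2Inv.w) with hw'
  have hιt : ι t = γ * w' * γ⁻¹ := by
    rw [← hx, ← hc, hγ, hw', ← map_inv, ← map_mul, ← map_mul]
  have hγKd : γ ∈ Cfsg.inndiagPSL 2 F := by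
    rw [mem_inndiag_iff_fld]; exact fldHom_inn ⟨c, rfl⟩
  obtain ⟨c', hc'L, hc'⟩ := hpre (show γ ∈ Cfsg.Inn PSL2 from ⟨c, rfl⟩)
  obtain ⟨s', hs'L, hs'⟩ := hpre hsI
  have hback : ∀ g : X, ι (c'⁻¹ * g * c') = γ⁻¹ * ι g * γ := fun g => by
    rw [map_mul, map_mul, map_inv, hc']
  have hcomm : ∀ g : X, g * t = t * g → ι (c'⁻¹ * g * c') * w' = w' * ι (c'⁻¹ * g * c') := by
    intro g hg
    have h1 := congrArg ι hg
    rw [map_mul, map_mul, hιt] at h1
    rw [hback]
    calc γ⁻¹ * ι g * γ * w' = γ⁻¹ * (ι g * (γ * w' * γ⁻¹)) * γ := by group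
      _ = γ⁻¹ * (γ * w' * γ⁻¹ * ι g) * γ := by rw [h1]
      _ = w' * (γ⁻¹ * ι g * γ) := by group
  let A' : Subgroup X := (A.comap ι).comap (MulAut.conj c'⁻¹).toMonoidHom
  have hA' : ∀ g : X, g ∈ A' ↔ ι (c'⁻¹ * g * c') ∈ A := fun g => by
    show ι (c'⁻¹ * g * c'⁻¹⁻¹) ∈ A ↔ _
    rw [inv_inv]
  have hA'Kd : ∀ g ∈ A', g ∈ Kd := by
    intro g hg
    have := hAK ((hA' g).1 hg)
    rw [hback, Subgroup.mul_mem_cancel_right _ hγKd,
      Subgroup.mul_mem_cancel_left _ (inv_mem hγKd)] at this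
    rw [hKdef, Subgroup.mem_comap]
    exact this
  have hA't : ∀ g ∈ A', g * t = t * g := by
    intro g hg
    refine hι ?_
    have h1 := hAcom _ ((hA' g).1 hg)
    rw [hback] at h1
    rw [map_mul, map_mul, hιt]
    calc ι g * (γ * w' * γ⁻¹) = γ * (γ⁻¹ * ι g * γ * w') * γ⁻¹ := by group
      _ = γ * (w' * (γ⁻¹ * ι g * γ)) * γ⁻¹ := by rw [h1]
      _ = γ * w' * γ⁻¹ * ι g := by group
  have hA'cyc : IsCyclic A' := by
    haveI := hAc
    refine isCyclic_of_injective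
      (((ι.comp (MulAut.conj c'⁻¹).toMonoidHom).comp A'.subtype).codRestrict A fun g => g.2) ?_
    intro g g' e
    exact Subtype.ext ((MulAut.conj c'⁻¹).injective (hι (congrArg Subtype.val e :)))
  refine ⟨Kd, hKn, hLK, hKidx, hcyc, A', c' * s' * c'⁻¹,
    fun g hg => ⟨hA'Kd g hg, Subgroup.mem_centralizer_singleton_iff.2 (hA't g hg)⟩, hA'cyc, ?_, ?_,
    hι ?_, ?_, ?_, ?_, ?_, ?_⟩
  · rw [hA', hback, hιt, show γ⁻¹ * (γ * w' * γ⁻¹) * γ = w' by group]
    exact hwA
  · exact mul_mem (mul_mem hc'L hs'L) (inv_mem hc'L)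
  · simp only [map_mul, map_inv, hc', hs', hιt]
    calc γ * s * γ⁻¹ * (γ * w' * γ⁻¹) = γ * (s * w') * γ⁻¹ := by group
      _ = γ * (w' * s) * γ⁻¹ := by rw [hsw]
      _ = γ * w' * γ⁻¹ * (γ * s * γ⁻¹) := by group
  · refine hι ?_
    rw [map_mul, map_mul, map_mul, map_inv, map_one, hc', hs',
      show γ * s * γ⁻¹ * (γ * s * γ⁻¹) = γ * (s * s) * γ⁻¹ by group, hss, mul_one, mul_inv_cancel]
  · rw [hA', show c'⁻¹ * (c' * s' * c'⁻¹) * c' = s' by group, hs']
    exact hsA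
  · intro a ha
    refine hι ?_
    have h1 := hinv _ ((hA' a).1 ha)
    rw [hback] at h1
    simp only [map_mul, map_inv, hc', hs']
    calc γ * s * γ⁻¹ * ι a * (γ * s * γ⁻¹)⁻¹ = γ * (s * (γ⁻¹ * ι a * γ) * s⁻¹) * γ⁻¹ := by group
      _ = γ * (γ⁻¹ * ι a * γ)⁻¹ * γ⁻¹ := by rw [h1]
      _ = (ι a)⁻¹ := by group
  · intro g hg a ha
    rw [hA', show c'⁻¹ * (g * a * g⁻¹) * c' = c'⁻¹ * g * c' * (c'⁻¹ * a * c') * (c'⁻¹ * g * c')⁻¹ by
      group, map_mul, map_mul, map_inv]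
    exact (hall _ (hcomm g hg)).2 _ ((hA' a).1 ha)
  · intro g hgK hg
    have hin : ι (c'⁻¹ * g * c') ∈ Cfsg.inndiagPSL 2 F := by
      rw [hback]
      rw [hKdef, Subgroup.mem_comap] at hgK
      exact mul_mem (mul_mem (inv_mem hγKd) hgK) hγKd
    rcases (hall _ (hcomm g hg)).1 hin with h1 | h1
    · exact Or.inl ((hA' g).2 h1)
    · refine Or.inr ((hA' _).2 ?_)
      rwa [show c'⁻¹ * (g * (c' * s' * c'⁻¹)) * c' = c'⁻¹ * g * c' * s' by group, map_mul, hs']

end Cfsg.Agent.GW
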