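import Cfsg.Agent.Lib.GW.Consequences
import Cfsg.Agent.Lib.GW.InvCentraliser
import Cfsg.Agent.Lib.Components.FStar
import Cfsg.Agent.S0811
import Cfsg.Agent.S0812
import Cfsg.Agent.S0253
import Cfsg.Agent.S0255

/-!
Involution centralisers lying properly in a subgroup without components.
-/

set_option autoImplicit false

namespace Cfsg.Agent.GW

open Matrix

universe u

variable {F : Type} [Field F] [Fintype F]

local notation "PSL2" => Matrix.ProjectiveSpecialLinearGroup (Fin 2) F

/-- Involution centralisers of `PSL(2, q)` are maximal, apart from three small fields. -/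
theorem centralizer_isCoatom [IsSimpleGroup PSL2] (hnc : ¬ IsMulCommutative PSL2)
    (hodd : Odd (Fintype.card F)) (h3 : 3 < Fintype.card F) (h5 : Fintype.card F ≠ 5)
    (h7 : Fintype.card F ≠ 7) (h9 : Fintype.card F ≠ 9) {t : PSL2} (ht : orderOf t = 2) :
    IsCoatom (Subgroup.centralizer ({t} : Set PSL2)) := by
  classical
  have h2 : (2 : F) ≠ 0 := fun e => by
    have hc : CharP F 2 := CharP.ringChar_of_prime_eq_zero Nat.prime_two (by exact_mod_cast e) ▸
      ringChar.charP F
    obtain ⟨n, -, hn⟩ := FiniteField.card F 2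
    rw [hn] at hodd
    exact Nat.not_odd_iff_even.2 (Even.pow_of_ne_zero (by norm_num) n.2.ne') hodd
  set q := Fintype.card F with hq
  obtain ⟨k, hk2, H, hH, ⟨e⟩⟩ : ∃ k, 2 ∣ k ∧ ∃ H : Subgroup PSL2, IsCoatom H ∧
      Nonempty (H ≃* DihedralGroup k) := by
    obtain ⟨r, hr⟩ := hodd
    have hg : Nat.gcd 2 (q - 1) = 2 := by rw [hr]; simp
    rcases Nat.even_or_odd r with ⟨l, hl⟩ | ⟨l, hl⟩
    · refine ⟨(q - 1) / Nat.gcd 2 (q - 1), ?_, S0812.result rfl ?_⟩
      · rw [hg]; omega
      · simp only [Finset.mem_insert, Finset.mem_singleton, not_or]; omega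
    · refine ⟨(q + 1) / Nat.gcd 2 (q - 1), ?_, S0811.result rfl ?_⟩
      · rw [hg]; omega
      · simp only [Finset.mem_insert, Finset.mem_singleton, not_or]; omega
  haveI : NeZero k := ⟨fun e0 => by
    subst e0
    haveI : Finite (DihedralGroup 0) := Finite.of_equiv H e.toEquiv
    exact not_finite (DihedralGroup 0)⟩
  obtain ⟨l, rfl⟩ := hk2
  set c : DihedralGroup (2 * l) := DihedralGroup.r (l : ZMod (2 * l)) with hc
  have hl : l ≠ 0 := fun e0 => NeZero.ne (2 * l) (by rw [e0, Nat.mul_zero])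
  have hcc : ∀ x, x * c = c * x := by
    intro x
    have hneg : (l : ZMod (2 * l)) + (l : ZMod (2 * l)) = 0 := by
      rw [← Nat.cast_add, ← two_mul, ZMod.natCast_self]
    rcases x with i | i
    · rw [hc, DihedralGroup.r_mul_r, DihedralGroup.r_mul_r, add_comm]
    · rw [hc, DihedralGroup.sr_mul_r, DihedralGroup.r_mul_sr]
      congr 1
      linear_combination hneg
  have hco : orderOf c = 2 := by
    rw [hc, DihedralGroup.orderOf_r, ZMod.val_natCast, Nat.mod_eq_of_lt (by omega),
      Nat.gcd_eq_right (dvd_mul_left l 2), Nat.mul_div_cancel _ (by omega)]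
  set s : PSL2 := ((e.symm c : H) : PSL2) with hs
  have hso : orderOf s = 2 := by rw [hs, Subgroup.orderOf_coe, MulEquiv.orderOf_eq, hco]
  have hHC : H ≤ Subgroup.centralizer ({s} : Set PSL2) := fun x hx => by
    rw [Subgroup.mem_centralizer_singleton_iff]
    exact congrArg Subtype.val (e.injective (by
      rw [map_mul, map_mul, MulEquiv.apply_symm_apply]; exact hcc _) :
      (⟨x, hx⟩ : H) * e.symm c = e.symm c * ⟨x, hx⟩)
  have hCs : Subgroup.centralizer ({s} : Set PSL2) = H := by
    rcases hH.le_iff.1 hHC with h | h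
    · exfalso
      have hsc : s ∈ Subgroup.center PSL2 := Subgroup.mem_center_iff.2 fun g =>
        Subgroup.mem_centralizer_singleton_iff.1 (h ▸ Subgroup.mem_top g)
      rcases (inferInstance : (Subgroup.center PSL2).Normal).eq_bot_or_eq_top with hb | hb
      · rw [hb, Subgroup.mem_bot] at hsc
        rw [hsc, orderOf_one] at hso; omega
      · exact hnc ⟨⟨fun a b => (Subgroup.mem_center_iff.1 (hb ▸ Subgroup.mem_top b) a)⟩⟩
    · exact h
  have hsq : ∀ x : PSL2, orderOf x = 2 → x * x = 1 ∧ x ≠ 1 := fun x hx =>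
    ⟨(pow_two x).symm.trans (orderOf_dvd_iff_pow_eq_one.1 (dvd_of_eq hx)),
      fun e0 => by rw [e0, orderOf_one] at hx; omega⟩
  obtain ⟨g, hg⟩ := isConj_iff.1 ((PSL2Inv.isConj_pr_w h2 (hsq s hso).1 (hsq s hso).2).symm.trans
    (PSL2Inv.isConj_pr_w h2 (hsq t ht).1 (hsq t ht).2))
  have hmap : Subgroup.centralizer ({t} : Set PSL2) =
      H.map (MulAut.conj g).toMonoidHom := by
    rw [← hCs]
    ext x
    rw [Subgroup.mem_centralizer_singleton_iff, Subgroup.mem_map]
    constructor
    · intro hx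
      refine ⟨g⁻¹ * x * g, Subgroup.mem_centralizer_singleton_iff.2 ?_, by simp [mul_assoc]⟩
      calc g⁻¹ * x * g * s = g⁻¹ * (x * (g * s * g⁻¹)) * g := by group
        _ = g⁻¹ * (g * s * g⁻¹ * x) * g := by rw [hg, hx]
        _ = s * (g⁻¹ * x * g) := by group
    · rintro ⟨y, hy, rfl⟩
      rw [Subgroup.mem_centralizer_singleton_iff] at hy
      show g * y * g⁻¹ * t = t * (g * y * g⁻¹)
      rw [← hg]
      calc g * y * g⁻¹ * (g * s * g⁻¹) = g * (y * s) * g⁻¹ := by group
        _ = g * (s * y) * g⁻¹ := by rw [hy]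
        _ = g * s * g⁻¹ * (g * y * g⁻¹) := by group
  rw [hmap]
  exact (OrderIso.isCoatom_iff ((MulAut.conj g).mapSubgroup) H).2 hH

/-- A non-abelian simple group has a component. -/
theorem simple_fstar_ne {K : Type u} [Group K] [Finite K] [IsSimpleGroup K]
    (hnc : ¬ IsMulCommutative K) :
    Cfsg.generalizedFittingSubgroup K ≠ Cfsg.fittingSubgroup K := by
  intro he
  have hb : Cfsg.fittingSubgroup K = ⊥ := by
    rcases (FittingCores.fitting_normal (G := K)).eq_bot_or_eq_top with h | h
    · exact h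
    · exfalso
      haveI := FittingCores.fitting_nilpotent (G := K)
      haveI : Group.IsNilpotent (⊤ : Subgroup K) := h ▸ this
      haveI : Group.IsNilpotent K := Group.nilpotent_of_surjective
        (Subgroup.topEquiv : (⊤ : Subgroup K) ≃* K).toMonoidHom Subgroup.topEquiv.surjective
      exact hnc ⟨⟨IsSimpleGroup.comm_iff_isSolvable.2 inferInstance⟩⟩
  have hle := Components.centralizer_generalizedFitting_le (G := K)
  rw [he, hb] at hle
  have htop : (⊤ : Subgroup K) ≤ ⊥ := le_trans (fun x _ => Subgroup.mem_centralizer_iff.2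
    fun y hy => by rw [Subgroup.mem_bot.1 hy, mul_one, one_mul]) hle
  exact top_ne_bot (le_bot_iff.1 htop)

/-- Row S3287 from the simple case. -/
theorem s3287 (hG : SimpleDihedral.{u}) {G : Type u} [Group G] [Finite G] [IsSimpleGroup G]
    (S : Sylow 2 G) (m : ℕ) (eS : ↥(S : Subgroup G) ≃* DihedralGroup m)
    (t : G) (ht : orderOf t = 2) (K : Subgroup G) (hlt : Subgroup.centralizer ({t} : Set G) < K)
    (hK : Cfsg.generalizedFittingSubgroup ↥K = Cfsg.fittingSubgroup ↥K) :
    Nonempty (G ≃* ↥(alternatingGroup (Fin 5))) ∨ Nonempty (G ≃* ↥(alternatingGroup (Fin 7))) ∨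
      (∃ (F : Type) (_ : Field F) (_ : Fintype F), Fintype.card F = 2 ∧
        Nonempty (G ≃* Matrix.ProjectiveSpecialLinearGroup (Fin 3) F)) ∨
      (∃ (F : Type) (_ : Field F) (_ : Fintype F), Fintype.card F = 9 ∧
        Nonempty (G ≃* Matrix.ProjectiveSpecialLinearGroup (Fin 2) F)) := by
  haveI : Fact (Nat.Prime 2) := ⟨Nat.prime_two⟩
  have hnc : ¬ IsMulCommutative G := by
    intro hc
    refine hlt.ne (le_antisymm hlt.le fun x _ => Subgroup.mem_centralizer_singleton_iff.2 ?_)
    exact hc.is_comm.comm x t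
  have hm : 2 ≤ m := by
    by_contra hlt2
    have hcard : Nat.card (S : Subgroup G) = 2 * m := by
      rw [Nat.card_congr eS.toEquiv, DihedralGroup.nat_card]
    have : 0 < Nat.card (S : Subgroup G) := Nat.card_pos
    have hm1 : m = 1 := by omega
    rw [hm1] at hcard
    have h2G : 2 ∣ Nat.card G := ht ▸ orderOf_dvd_natCard t
    have hc : IsCyclic (S : Subgroup G) := isCyclic_of_prime_card (p := 2) hcard
    have hmin : (Nat.card G).minFac = 2 := (Nat.minFac_eq_two_iff _).2 h2G
    have hcompl := IsCyclic.isComplement' (P := S) hmin hc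
    rcases (MonoidHom.normal_ker (MonoidHom.transferSylow S (hc.normalizer_le_centralizer hmin))).eq_bot_or_eq_top
      with hb | hb
    · rw [hb, Subgroup.isComplement'_bot_left] at hcompl
      haveI : IsCyclic G := by
        haveI := hc
        rw [hcompl] at hc
        exact Subgroup.topEquiv.isCyclic.1 hc
      exact hnc IsCyclic.isMulCommutative
    · rw [hb, Subgroup.isComplement'_top_left] at hcompl
      exact S.ne_bot_of_dvd_card h2G hcompl
  rcases hG G S m hm ⟨eS⟩ with ⟨F, i1, i2, hodd, h3, ⟨e⟩⟩ | h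
  · haveI : IsSimpleGroup (ProjectiveSpecialLinearGroup (Fin 2) F) :=
      Matrix.ProjectiveSpecialLinearGroup.rank_two_simple (by rw [Nat.card_eq_fintype_card]; omega)
    have hncP : ¬ IsMulCommutative (ProjectiveSpecialLinearGroup (Fin 2) F) := fun hc =>
      hnc ⟨⟨fun a b => e.injective (by rw [map_mul, map_mul, hc.is_comm.comm])⟩⟩
    rcases eq_or_ne (Fintype.card F) 5 with h5 | h5
    · obtain ⟨e5⟩ := S0253.result h5
      exact Or.inl ⟨e.trans e5⟩
    rcases eq_or_ne (Fintype.card F) 7 with h7 | h7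
    · haveI : Fact (Nat.Prime 2) := ⟨Nat.prime_two⟩
      obtain ⟨e7⟩ := S0255.result (K := ZMod 2) h7 (ZMod.card 2)
      exact Or.inr (Or.inr (Or.inl ⟨ZMod 2, inferInstance, inferInstance, ZMod.card 2, ⟨e.trans e7⟩⟩))
    rcases eq_or_ne (Fintype.card F) 9 with h9 | h9
    · exact Or.inr (Or.inr (Or.inr ⟨F, i1, i2, h9, ⟨e⟩⟩))
    exfalso
    have hmax := centralizer_isCoatom hncP hodd h3 h5 h7 h9
      (t := e t) (by rw [MulEquiv.orderOf_eq, ht])
    have himg : (Subgroup.centralizer ({t} : Set G)).map e.toMonoidHom =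
        Subgroup.centralizer ({e t} : Set _) := by
      ext x
      rw [Subgroup.mem_map_equiv, Subgroup.mem_centralizer_singleton_iff,
        Subgroup.mem_centralizer_singleton_iff]
      constructor
      · intro hx
        simpa using congrArg e hx
      · intro hx
        refine e.injective ?_
        simpa using hx
    rw [← himg] at hmax
    have hKtop : K = ⊤ := ((OrderIso.isCoatom_iff e.mapSubgroup _).1 hmax).2 K hlt
    subst hKtop
    haveI : IsSimpleGroup (⊤ : Subgroup G) :=
      (Subgroup.topEquiv (G := G)).isSimpleGroup_congr.2 inferInstance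
    refine simple_fstar_ne (K := (⊤ : Subgroup G)) (fun hc => hnc ⟨⟨fun a b => ?_⟩⟩) hK
    exact congrArg Subtype.val
      (hc.is_comm.comm (⟨a, trivial⟩ : (⊤ : Subgroup G)) ⟨b, trivial⟩)
  · exact Or.inr (Or.inl h)

end Cfsg.Agent.GW
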