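import Cfsg.Agent.Lib.GW.Setup
import Cfsg.Agent.S0514

/-!
The standing situation exists in a simple group with dihedral Sylow 2-subgroups.
-/

set_option autoImplicit false

namespace Cfsg.Agent.GW

open Cfsg.Agent.TwoFus

universe u

theorem exists_core {G : Type u} [Group G] [Finite G] [IsSimpleGroup G] (P : Sylow 2 G) (n : ℕ)
    (hn : 2 ≤ n) (hP : Nonempty ((P : Subgroup G) ≃* DihedralGroup n))
    (hK : KnownBelow.{u} (Nat.card G)) : Nonempty (Core G) := by
  classical
  haveI : Fact (Nat.Prime 2) := ⟨Nat.prime_two⟩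
  obtain ⟨e⟩ := hP
  obtain ⟨d, -⟩ := exists_dih P hn e
  have hnc : ¬ IsMulCommutative G := by
    intro h
    letI : CommGroup G := { (inferInstance : Group G) with mul_comm := fun a b => h.is_comm.comm a b }
    have hp : (Nat.card G).Prime := IsSimpleGroup.prime_card
    have h2 : 2 * d.m ∣ Nat.card G := by
      rw [← d.card]; exact Subgroup.card_subgroup_dvd_card _
    have := d.two_le
    rcases hp.eq_one_or_self_of_dvd 2 ((dvd_mul_right 2 d.m).trans h2) with e2 | e2
    · omega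
    · have := Nat.le_of_dvd (by omega) h2
      omega
  have hz2 : orderOf d.z = 2 := orderOf_eq_prime (by rw [pow_two, d.zz]) d.z_ne
  obtain ⟨N, hN, hodd, k, hk⟩ := S0514.result P n hn ⟨e⟩ d.z hz2
  have hPC : (P : Subgroup G) ≤ Subgroup.centralizer ({d.z} : Set G) := fun s hs =>
    Subgroup.mem_centralizer_singleton_iff.2 (d.z_comm hs)
  haveI := hN
  let Q : Sylow 2 (_ ⧸ N) := (P.subtype hPC).mapSurjective (QuotientGroup.mk'_surjective N)
  have htop : (Q : Subgroup (_ ⧸ N)) = ⊤ := by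
    have h2 : IsPGroup 2 (_ ⧸ N) := IsPGroup.of_card (n := k) (by rw [← Subgroup.index_eq_card, hk])
    exact (Q.3 (h2.to_subgroup ⊤) le_top).symm
  refine ⟨{
    simple := inferInstance
    noncomm := hnc
    dih := ⟨P, n, hn, ⟨e⟩⟩
    known := hK
    P := P
    d := d
    U := N.map (Subgroup.centralizer ({d.z} : Set G)).subtype
    U_le := Subgroup.map_subtype_le _
    U_odd := by rw [Subgroup.card_map_of_injective (Subgroup.subtype_injective _)]; exact hodd
    U_conj := ?_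
    U_sup := ?_ }⟩
  · rintro g hg _ ⟨u, hu, rfl⟩
    exact ⟨⟨g, hg⟩ * u * ⟨g, hg⟩⁻¹, hN.conj_mem u hu _, rfl⟩
  · intro g hg
    have hq : (QuotientGroup.mk' N ⟨g, hg⟩) ∈ (Q : Subgroup (_ ⧸ N)) := htop ▸ Subgroup.mem_top _
    obtain ⟨s, hs, es⟩ := hq
    refine ⟨g * (s : G)⁻¹, ⟨⟨g, hg⟩ * s⁻¹, ?_, rfl⟩, (s : G), hs, by group⟩
    refine (QuotientGroup.eq_one_iff _).1 ?_
    rw [QuotientGroup.mk_mul, QuotientGroup.mk_inv, mul_inv_eq_one]
    exact es.symm

end Cfsg.Agent.GW
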