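import Cfsg.Agent.Lib.TwoGroups.FusionData
import Cfsg.Agent.Lib.FGStruct.PByCyclic
import Cfsg.Agent.Lib.Transfer.Basic
import Cfsg.Agent.Lib.Components.PComponent
import Cfsg.Agent.S0204

/-!
Groups with dihedral Sylow 2-subgroups: abelian 2-subgroups and normal subgroups.
-/

set_option autoImplicit false

namespace Cfsg.Agent.GW

open Cfsg.Agent.TwoFus

universe u

variable {G : Type u} [Group G]

theorem dih_comm_subgroup {S A : Subgroup G} [Finite G] (d : Dih S) (hA : A ≤ S)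
    (hc : IsMulCommutative A) : IsCyclic A ∨ Nat.card A ≤ 4 := by
  classical
  by_cases hall : A ≤ Subgroup.zpowers d.x
  · exact Or.inl (Subgroup.isCyclic_of_le hall)
  right
  obtain ⟨a, ha, hax⟩ := SetLike.not_le_iff_exists.1 hall
  have hsq : ∀ b ∈ A, b ∈ Subgroup.zpowers d.x → b * b = 1 := by
    intro b hb hbx
    have h1 : a * b = b * a :=
      congrArg Subtype.val (hc.is_comm.comm (⟨a, ha⟩ : A) ⟨b, hb⟩)
    have h2 : a * b * a⁻¹ = b := by rw [h1, mul_inv_cancel_right]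
    obtain ⟨i, rfl⟩ := hbx
    rcases d.cases a (hA ha) with ⟨j, rfl⟩ | ⟨j, rfl⟩
    · exact absurd (zpow_mem (Subgroup.mem_zpowers _) j) hax
    change d.x ^ j * d.y * d.x ^ i * (d.x ^ j * d.y)⁻¹ = d.x ^ i at h2
    rw [mul_assoc (d.x ^ j), d.swap, ← mul_assoc, ← zpow_add, mul_inv_rev, ← mul_assoc,
      mul_inv_cancel_right, ← zpow_neg, ← zpow_add] at h2
    show d.x ^ i * d.x ^ i = 1
    nth_rewrite 1 [← h2]
    rw [← zpow_add]
    simp
  have hmem : ∀ b ∈ A, b ∈ ({1, d.z, a, a * d.z} : Finset G) := by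
    intro b hb
    simp only [Finset.mem_insert, Finset.mem_singleton]
    by_cases hbx : b ∈ Subgroup.zpowers d.x
    · rcases d.sq_cases hbx (hsq b hb hbx) with e | e <;> simp [e]
    · have hm := d.idx a (hA ha) b (hA hb) hax hbx
      have hab : a⁻¹ * b ∈ A := mul_mem (inv_mem ha) hb
      rcases d.sq_cases hm (hsq _ hab hm) with e | e
      · rw [inv_mul_eq_one] at e; simp [e]
      · rw [inv_mul_eq_iff_eq_mul] at e; simp [e]
  calc Nat.card A ≤ Nat.card ({1, d.z, a, a * d.z} : Finset G) :=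
        Nat.card_le_card_of_injective (fun b : A => ⟨(b : G), hmem b b.2⟩)
          fun b c e => Subtype.ext (congrArg Subtype.val e :)
    _ ≤ 4 := by rw [Nat.card_eq_fintype_card, Fintype.card_coe]; exact Finset.card_le_four

/-- A Sylow 2-subgroup is dihedral (four-groups included). -/
def DihSylow (G : Type u) [Group G] : Prop :=
  ∃ (P : Sylow 2 G) (n : ℕ), 2 ≤ n ∧ Nonempty ((P : Subgroup G) ≃* DihedralGroup n)

variable [Finite G]

theorem DihSylow.all (h : DihSylow G) (Q : Sylow 2 G) :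
    ∃ n : ℕ, 2 ≤ n ∧ Nonempty ((Q : Subgroup G) ≃* DihedralGroup n) := by
  haveI : Fact (Nat.Prime 2) := ⟨Nat.prime_two⟩
  obtain ⟨P, n, hn, ⟨e⟩⟩ := h
  exact ⟨n, hn, ⟨(Q.equiv P).trans e⟩⟩

theorem DihSylow.two_pow (h : DihSylow G) (Q : Sylow 2 G) :
    ∃ k : ℕ, 1 ≤ k ∧ Nonempty ((Q : Subgroup G) ≃* DihedralGroup (2 ^ k)) := by
  haveI : Fact (Nat.Prime 2) := ⟨Nat.prime_two⟩
  obtain ⟨n, hn, ⟨e⟩⟩ := h.all Q
  obtain ⟨k, hk⟩ := IsPGroup.iff_card.mp Q.isPGroup'
  rw [Nat.card_congr e.toEquiv, DihedralGroup.nat_card] at hk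
  cases k with
  | zero => omega
  | succ k =>
    rw [pow_succ'] at hk
    have : n = 2 ^ k := by omega
    subst this
    refine ⟨k, ?_, ⟨e⟩⟩
    rcases k with _ | k
    · simp at hn
    · omega

/-- A commutative 2-subgroup is cyclic or of order at most four. -/
theorem DihSylow.comm_subgroup (h : DihSylow G) {A : Subgroup G} (hA : IsPGroup 2 A)
    (hc : IsMulCommutative A) : IsCyclic A ∨ Nat.card A ≤ 4 := by
  haveI : Fact (Nat.Prime 2) := ⟨Nat.prime_two⟩
  obtain ⟨Q, hQ⟩ := hA.exists_le_sylow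
  obtain ⟨n, hn, ⟨e⟩⟩ := h.all Q
  obtain ⟨d, -⟩ := exists_dih Q hn e
  exact dih_comm_subgroup d hQ hc

/-- The 2-rank is at most two. -/
theorem DihSylow.elementary (h : DihSylow G) {A : Subgroup G} (hc : IsMulCommutative A)
    (hsq : ∀ a ∈ A, a * a = 1) : Nat.card A ≤ 4 := by
  haveI : Fact (Nat.Prime 2) := ⟨Nat.prime_two⟩
  have hA : IsPGroup 2 A := fun a => ⟨1, Subtype.ext (by
    rw [pow_one, pow_two]; exact hsq a a.2)⟩
  rcases h.comm_subgroup hA hc with hcyc | hle
  · obtain ⟨g, hg⟩ := IsCyclic.exists_generator (α := A)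
    have ho : Nat.card A ≤ 2 := by
      rw [← orderOf_eq_card_of_forall_mem_zpowers hg]
      refine orderOf_le_of_pow_eq_one two_pos (Subtype.ext ?_)
      show ((g ^ 2 : A) : G) = 1
      rw [SubmonoidClass.coe_pow, pow_two]
      exact hsq g g.2
    omega
  · exact hle

theorem DihSylow.two_dvd (h : DihSylow G) : 2 ∣ Nat.card G := by
  haveI : Fact (Nat.Prime 2) := ⟨Nat.prime_two⟩
  obtain ⟨P, n, hn, ⟨e⟩⟩ := h
  refine dvd_trans ?_ (Subgroup.card_subgroup_dvd_card (P : Subgroup G))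
  rw [Nat.card_congr e.toEquiv, DihedralGroup.nat_card]
  exact dvd_mul_right 2 n

/-- A normal non-abelian simple subgroup again has dihedral Sylow 2-subgroups. -/
theorem DihSylow.of_normal (h : DihSylow G) (L : Subgroup G) [L.Normal] (hL : IsSimpleGroup L)
    (hnc : ¬ IsMulCommutative L) : DihSylow L := by
  haveI : Fact (Nat.Prime 2) := ⟨Nat.prime_two⟩
  obtain ⟨R⟩ : Nonempty (Sylow 2 L) := inferInstance
  obtain ⟨Q, hQ⟩ := (R.isPGroup'.map L.subtype).exists_le_sylow
  obtain ⟨k, hk, ⟨e⟩⟩ := h.two_pow Q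
  let f : (R : Subgroup L) →* DihedralGroup (2 ^ k) :=
    e.toMonoidHom.comp ((Subgroup.inclusion hQ).comp
      ((R : Subgroup L).equivMapOfInjective L.subtype L.subtype_injective).toMonoidHom)
  have hf : Function.Injective f := e.injective.comp ((Subgroup.inclusion_injective hQ).comp
    (MulEquiv.injective _))
  rcases PByCyclic.dihedral_two_subgroup f.range with hc | ⟨j, hj, ⟨e'⟩⟩
  · exfalso
    haveI := hL
    have hncyc : ¬ IsCyclic L := fun hcyc => hnc (hcyc.isMulCommutative)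
    obtain ⟨E, hE⟩ := S0204.result hncyc
    have hcR : IsCyclic (R : Subgroup L) :=
      isCyclic_of_surjective (MonoidHom.ofInjective hf).symm.toMonoidHom
        (MulEquiv.surjective _)
    haveI : IsKleinFour E := hE
    have hE2 : IsPGroup 2 E := IsPGroup.of_card (n := 2) hE.card_four
    obtain ⟨R', hR'⟩ := hE2.exists_le_sylow
    haveI : IsCyclic (R' : Subgroup L) :=
      isCyclic_of_surjective (R.equiv R').toMonoidHom (MulEquiv.surjective _)
    exact IsKleinFour.not_isCyclic (Subgroup.isCyclic_of_le hR' : IsCyclic E)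
  · exact ⟨R, 2 ^ j, by
      calc 2 = 2 ^ 1 := rfl
        _ ≤ 2 ^ j := Nat.pow_le_pow_right two_pos hj, ⟨(MonoidHom.ofInjective hf).trans e'⟩⟩

end Cfsg.Agent.GW
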