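import Cfsg.Agent.Lib.GW.Inverted

/-!
A rotation of the four-group of a reflection centralising a given subgroup of `W`, when a rotation
normalises that subgroup and the Sylow subgroup centralises it.
-/

set_option autoImplicit false
set_option linter.unusedSectionVars false
set_option linter.style.haveILetI false

namespace Cfsg.Agent.GW

open Cfsg.Agent.TwoFus

universe u

/-- Two involutions with a product of odd order are conjugate by a power of the product. -/
theorem lift_invol {X : Type u} [Group X] {v w : X} (hv : v * v = 1) (hw : w * w = 1)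
    (ho : Odd (orderOf (v * w))) : ∃ r ∈ Subgroup.zpowers (v * w), r * w * r⁻¹ = v := by
  obtain ⟨r, hr, hrr⟩ := exists_sqrt ho
  refine ⟨r, hr, ?_⟩
  have hd : w * (v * w) * w⁻¹ = (v * w)⁻¹ := by
    calc w * (v * w) * w⁻¹ = w * v := by group
      _ = w⁻¹ * v⁻¹ := by rw [inv_eq_of_mul_eq_one_right hw, inv_eq_of_mul_eq_one_right hv]
      _ = (v * w)⁻¹ := (mul_inv_rev v w).symm
  have hi : w * r * w⁻¹ = r⁻¹ := by
    obtain ⟨i, rfl⟩ := hr
    simp only
    rw [← conj_zpow, hd, inv_zpow]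
  have e : w * r⁻¹ = r * w := by
    calc w * r⁻¹ = w * (w * r * w⁻¹) := by rw [hi]
      _ = w * w * r * w⁻¹ := by group
      _ = r * w := by rw [hw, one_mul, inv_eq_of_mul_eq_one_right hw]
  calc r * w * r⁻¹ = r * (w * r⁻¹) := mul_assoc _ _ _
    _ = r * r * w := by rw [e, mul_assoc]
    _ = v := by rw [hrr, mul_assoc, hw, mul_one]

theorem conj_ne_one {X : Type u} [Group X] {v : X} (hv : v ≠ 1) (g : X) : g * v * g⁻¹ ≠ 1 :=
  fun e => hv (conj_eq_one_iff.1 e)

/-- Distinct commuting involutions stay distinct modulo the odd core. -/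
theorem mo_ne {X : Type u} [Group X] [Finite X] {u v : X} (hu : orderOf u = 2) (hv : orderOf v = 2)
    (hne : u ≠ v) (hc : u * v = v * u) : mo X u ≠ mo X v := by
  intro e
  have hm : u * v⁻¹ ∈ Cfsg.oddCore X := (mo_ker _).1 (by rw [map_mul, map_inv, e, mul_inv_cancel])
  refine hne (mul_inv_eq_one.1 (eq_one_of_sq_odd ?_ (odd_of_mem_core hm)))
  rw [inv_eq_of_mul_eq_one_right (sq_one hv), mul_assoc, ← mul_assoc v u v, ← hc, mul_assoc u v v,
    sq_one hv, mul_one, sq_one hu]

namespace Core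

variable {G : Type u} [Group G] [Finite G] {c : Core G} {a : G}

theorem Refl.conj_x (ha : c.Refl a) : a * c.d.x⁻¹ * a⁻¹ = c.d.x := by
  obtain ⟨i, hi⟩ : ∃ i : ℤ, a = c.d.x ^ i * c.d.y := by
    rcases c.d.cases a ha.1 with ⟨i, hi⟩ | hi
    · exact absurd (hi ▸ zpow_mem (Subgroup.mem_zpowers _) i) ha.2
    · exact hi
  calc a * c.d.x⁻¹ * a⁻¹ = c.d.x ^ i * (c.d.y * c.d.x * c.d.y⁻¹)⁻¹ * (c.d.x ^ i)⁻¹ := by rw [hi]; group
    _ = c.d.x := by rw [c.d.inv]; group

/-- Conjugation by the rotations. -/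
theorem Refl.x_conj (ha : c.Refl a) : c.d.x * a * c.d.x⁻¹ * a⁻¹ = c.d.x * c.d.x := by
  calc c.d.x * a * c.d.x⁻¹ * a⁻¹ = c.d.x * (a * c.d.x⁻¹ * a⁻¹) := by group
    _ = c.d.x * c.d.x := by rw [ha.conj_x]

theorem x_sq_ne (hm : c.d.m ≠ 2) : c.d.x * c.d.x ≠ 1 := fun e => hm (by
  have h1 := orderOf_dvd_of_pow_eq_one (x := c.d.x) (n := 2) (by rw [pow_two, e])
  rw [c.d.hm] at h1
  exact Nat.le_antisymm (Nat.le_of_dvd two_pos h1) c.d.two_le)

/-- An element of `P` of odd order is trivial. -/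
theorem eq_one_of_odd (c : Core G) {s : G} (hs : s ∈ (c.P : Subgroup G)) (ho : Odd (orderOf s)) :
    s = 1 := by
  obtain ⟨k, hk⟩ := IsPGroup.iff_orderOf.1 c.P.isPGroup' ⟨s, hs⟩
  rw [Subgroup.orderOf_mk] at hk
  exact orderOf_eq_one_iff.1 (Nat.eq_one_of_dvd_coprimes
    (Nat.Coprime.pow_right k (Nat.coprime_two_right.2 ho)) dvd_rfl (dvd_of_eq hk))

/-- In a section a lift of an element moving `z` to `a`. -/
theorem Refl.lift_mover (ha : c.Refl a) {K : Subgroup G} (hz : c.d.z ∈ K) (haK : a ∈ K) {h : K}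
    (h1 : mo K (h * ⟨c.d.z, hz⟩ * h⁻¹) = mo K ⟨a, haK⟩)
    (h2 : mo K h ∈ Subgroup.normalizer
      ((Subgroup.closure {mo K ⟨c.d.z, hz⟩, mo K ⟨a, haK⟩} : Subgroup _) : Set _)) :
    ∃ k ∈ K, k * c.d.z * k⁻¹ = a ∧ (k * a * k⁻¹ = c.d.z ∨ k * a * k⁻¹ = c.d.z * a) := by
  set zK : K := ⟨c.d.z, hz⟩
  set aK : K := ⟨a, haK⟩
  have hzo : orderOf zK = 2 := by rw [← Subgroup.orderOf_coe]; exact c.z_order
  have hao : orderOf aK = 2 := by rw [← Subgroup.orderOf_coe]; exact ha.order
  have hne : zK ≠ aK := fun e => ha.ne_z (congrArg Subtype.val e).symm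
  have hza : zK * aK = aK * zK := Subtype.ext ha.comm.symm
  have hconj : ∀ {v : K}, v * v = 1 → ∀ g : K, g * v * g⁻¹ * (g * v * g⁻¹) = 1 := fun {v} hv g => by
    rw [show g * v * g⁻¹ * (g * v * g⁻¹) = g * (v * v) * g⁻¹ by group, hv, mul_one, mul_inv_cancel]
  -- first step
  have hm1 : aK * (h * zK * h⁻¹) ∈ Cfsg.oddCore K :=
    (mo_ker _).1 (by rw [map_mul, h1, ← map_mul, sq_one hao, map_one])
  obtain ⟨r1, hr1, e1⟩ :=
    lift_invol (sq_one hao) (hconj (sq_one hzo) h) (odd_of_mem_core hm1)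
  have hr1O : mo K r1 = 1 := (mo_ker _).2 ((Subgroup.zpowers_le.2 hm1) hr1)
  set k1 : K := r1 * h with hk1
  have hk1z : k1 * zK * k1⁻¹ = aK := by rw [← e1, hk1]; group
  have hmk1 : mo K k1 = mo K h := by rw [hk1, map_mul, hr1O, one_mul]
  -- second step
  set w : K := k1 * aK * k1⁻¹ with hw
  have hwa : Commute w aK := by
    show _ = _
    conv_lhs => rw [← hk1z, hw]
    conv_rhs => rw [← hk1z, hw]
    rw [show k1 * aK * k1⁻¹ * (k1 * zK * k1⁻¹) = k1 * (aK * zK) * k1⁻¹ by group, ← hza]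
    group
  have hV := klein_closure (invol_mo hzo) (invol_mo hao) (mo_ne hzo hao hne hza)
    (by rw [← map_mul, ← map_mul, hza] : mo K zK * mo K aK = mo K aK * mo K zK)
  have hmem : mo K w ∈ (Subgroup.closure {mo K zK, mo K aK} : Subgroup _) := by
    rw [hw, map_mul, map_mul, map_inv, hmk1]
    exact (Subgroup.mem_normalizer_iff.1 h2 _).1 (Subgroup.subset_closure (by simp))
  have hw1 : mo K w ≠ 1 := by
    rw [hw, map_mul, map_mul, map_inv]
    exact conj_ne_one (fun e => by have := invol_mo hao; rw [e, orderOf_one] at this; omega) _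
  have hwne : mo K w ≠ mo K aK := by
    intro e
    rw [← hk1z, hw] at e
    simp only [map_mul, map_inv, mul_left_inj, mul_right_inj] at e
    exact mo_ne hzo hao hne hza e.symm
  have hz1 : mo K zK ≠ 1 := fun e => by have := invol_mo hzo; rw [e, orderOf_one] at this; omega
  have ha1 : mo K aK ≠ 1 := fun e => by have := invol_mo hao; rw [e, orderOf_one] at this; omega
  obtain ⟨v, hv, hvv, hva, hvm⟩ : ∃ v : K, (v = zK ∨ v = zK * aK) ∧ v * v = 1 ∧ Commute v aK ∧
      mo K w = mo K v := by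
    rcases klein_cases hV (Subgroup.subset_closure (by simp)) (Subgroup.subset_closure (by simp)) hz1
      ha1 (mo_ne hzo hao hne hza) hmem with e | e | e | e
    · exact absurd e hw1
    · exact ⟨zK, Or.inl rfl, sq_one hzo, hza, e⟩
    · exact absurd e hwne
    · exact ⟨zK * aK, Or.inr rfl, Subtype.ext ha.mul_z.sq,
        (show Commute zK aK from hza).mul_left (Commute.refl aK), by rw [map_mul]; exact e⟩
  have hm2 : v * w ∈ Cfsg.oddCore K :=
    (mo_ker _).1 (by rw [map_mul, hvm, ← map_mul, hvv, map_one])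
  obtain ⟨r2, hr2, e2⟩ := lift_invol hvv (hconj (sq_one hao) k1) (odd_of_mem_core hm2)
  have hr2a : Commute r2 aK := by
    obtain ⟨i, rfl⟩ := hr2
    exact (hva.mul_left hwa).zpow_left i
  refine ⟨((r2 * k1 : K) : G), (r2 * k1).2, ?_, ?_⟩
  · have : r2 * k1 * zK * (r2 * k1)⁻¹ = aK := by
      rw [show r2 * k1 * zK * (r2 * k1)⁻¹ = r2 * (k1 * zK * k1⁻¹) * r2⁻¹ by group, hk1z, hr2a.eq,
        mul_inv_cancel_right]
    exact congrArg Subtype.val this
  · have : r2 * k1 * aK * (r2 * k1)⁻¹ = v := by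
      rw [show r2 * k1 * aK * (r2 * k1)⁻¹ = r2 * w * r2⁻¹ by rw [hw]; group, e2]
    rcases hv with rfl | rfl
    · exact Or.inl (congrArg Subtype.val this)
    · exact Or.inr (congrArg Subtype.val this)

theorem Refl.exists_mover (ha : c.Refl a) (hm : c.d.m ≠ 2) {R : Subgroup G} (hR : R ≠ ⊥)
    (hP : (c.P : Subgroup G) ≤ Subgroup.centralizer (R : Set G)) {g : G}
    (hg : g ∈ Subgroup.normalizer (R : Set G)) (gz : g * c.d.z * g⁻¹ = a)
    (ga : g * a * g⁻¹ = c.d.z * a) (gza : g * (c.d.z * a) * g⁻¹ = c.d.z) :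
    ∃ k ∈ Subgroup.centralizer (R : Set G), k * c.d.z * k⁻¹ = a ∧
      (k * a * k⁻¹ = c.d.z ∨ k * a * k⁻¹ = c.d.z * a) := by
  classical
  haveI := c.simple
  haveI : Fact (Nat.Prime 2) := ⟨Nat.prime_two⟩
  set K := Subgroup.centralizer (R : Set G) with hK
  have hKt : K ≠ ⊤ := by
    intro e
    have hle : R ≤ Subgroup.center G := fun r hr => Subgroup.mem_center_iff.2 fun y =>
      (Subgroup.mem_centralizer_iff.1 (show y ∈ K from e ▸ Subgroup.mem_top y) r hr).symm
    rcases (Subgroup.center G).normal_of_characteristic.eq_bot_or_eq_top with h | h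
    · exact hR (le_bot_iff.1 (h ▸ hle))
    · exact c.noncomm (Subgroup.center_eq_top_iff.1 h)
  have hz : c.d.z ∈ K := hP c.z_mem
  have haK : a ∈ K := hP ha.1
  have hgK : g ∈ Subgroup.normalizer (K : Set G) :=
    (Cfsg.Agent.Components.normalizer_le_normalizer_centralizer _) hg
  let φ : K ≃* K :=
    { toFun := fun y => ⟨g * (y : G) * g⁻¹, (Subgroup.mem_normalizer_iff.1 hgK (y : G)).1 y.2⟩
      invFun := fun y => ⟨g⁻¹ * (y : G) * g, by
        have := (Subgroup.mem_normalizer_iff.1 (inv_mem hgK) (y : G)).1 y.2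
        rwa [inv_inv] at this⟩
      left_inv := fun y => Subtype.ext (by simp [mul_assoc])
      right_inv := fun y => Subtype.ext (by simp [mul_assoc])
      map_mul' := fun y y' => Subtype.ext (by simp [mul_assoc]) }
  set zK : K := ⟨c.d.z, hz⟩
  set aK : K := ⟨a, haK⟩
  set xK : K := ⟨c.d.x, hP c.d.hx⟩
  have hzo : orderOf zK = 2 := by rw [← Subgroup.orderOf_coe]; exact c.z_order
  have hao : orderOf aK = 2 := by rw [← Subgroup.orderOf_coe]; exact ha.order
  have hne : zK ≠ aK := fun e => ha.ne_z (congrArg Subtype.val e).symm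
  have hza : zK * aK = aK * zK := Subtype.ext ha.comm.symm
  have e1 : φ zK = aK := Subtype.ext gz
  have e2 : φ aK = zK * aK := Subtype.ext ga
  have e3 : φ (zK * aK) = zK := Subtype.ext gza
  have hxa : xK * aK * xK⁻¹ * aK⁻¹ = xK * xK := Subtype.ext ha.x_conj
  -- `z` is not central modulo the odd core
  have hncent : ∃ y : K, mo K (y * zK * y⁻¹) ≠ mo K zK := by
    by_contra hcon
    push Not at hcon
    have h1 : φ.symm xK * zK * (φ.symm xK)⁻¹ * zK⁻¹ ∈ Cfsg.oddCore K :=
      (mo_ker _).1 (by rw [map_mul, hcon, map_inv, mul_inv_cancel])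
    have h2 := map_oddCore_le φ ⟨_, h1, rfl⟩
    simp only [MulEquiv.coe_toMonoidHom, map_mul, map_inv, MulEquiv.apply_symm_apply, e1] at h2
    rw [hxa] at h2
    refine c.x_sq_ne hm (c.eq_one_of_odd (mul_mem c.d.hx c.d.hx) ?_)
    have h3 := odd_of_mem_core h2
    rwa [← Subgroup.orderOf_coe] at h3
  have hd := ha.dihSylow K hz haK
  let Q : Sylow 2 (K ⧸ Cfsg.oddCore K) :=
    (c.P.subtype hP).mapSurjective (QuotientGroup.mk'_surjective (Cfsg.oddCore K))
  have hQmem : ∀ q ∈ (Q : Subgroup (K ⧸ Cfsg.oddCore K)), ∃ s : K, (s : G) ∈ (c.P : Subgroup G) ∧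
      mo K s = q := by
    rintro q ⟨s, hs, rfl⟩
    exact ⟨s, hs, rfl⟩
  have hQz : ∀ q ∈ (Q : Subgroup (K ⧸ Cfsg.oddCore K)), mo K zK * q = q * mo K zK := by
    intro q hq
    obtain ⟨s, hs, rfl⟩ := hQmem q hq
    rw [← map_mul, ← map_mul]
    exact congrArg _ (Subtype.ext (c.d.z_comm hs).symm)
  rcases ha.shape K hKt hz haK with h2 | ⟨V, hVn, hV, hVc, -⟩ | ⟨L, h1, h2, h3, h4, h5⟩
  · -- a 2-group
    exfalso
    obtain ⟨y, hy⟩ := hncent
    have htop : (Q : Subgroup (K ⧸ Cfsg.oddCore K)) = ⊤ :=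
      (Q.3 ((h2.to_subgroup ⊤)) le_top).symm
    refine hy ?_
    rw [map_mul, map_mul, map_inv, ← hQz _ (htop ▸ Subgroup.mem_top _), mul_inv_cancel_right]
  · -- a normal four-group
    haveI := hVn
    haveI hOn := oddCore_normal (X := K)
    have hmapO : (Cfsg.oddCore K).map φ.toMonoidHom = Cfsg.oddCore K :=
      Subgroup.eq_of_le_of_card_ge (map_oddCore_le φ)
        (by rw [Subgroup.card_map_of_injective φ.injective])
    let φb : (K ⧸ Cfsg.oddCore K) ≃* (K ⧸ Cfsg.oddCore K) :=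
      QuotientGroup.congr (Cfsg.oddCore K) (Cfsg.oddCore K) φ hmapO
    have hφb : ∀ y : K, φb (mo K y) = mo K (φ y) := fun y => rfl
    set V' := V.map φb.toMonoidHom with hV'
    haveI hV'n : V'.Normal := Subgroup.Normal.map hVn _ φb.surjective
    have hV4 := hV.card_four
    have hV'4 : Nat.card V' = 4 := by
      exact (Nat.card_congr (V.equivMapOfInjective φb.toMonoidHom φb.injective).toEquiv).symm.trans hV4
    have hV2 : IsPGroup 2 V' := IsPGroup.of_card (n := 2) hV'4
    have hVQ : V' ≤ (Q : Subgroup (K ⧸ Cfsg.oddCore K)) :=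
      le_sup_left.trans (Q.3 (hV2.to_sup_of_normal_left Q.isPGroup') le_sup_right).le
    have hVQ0 : V ≤ (Q : Subgroup (K ⧸ Cfsg.oddCore K)) :=
      le_sup_left.trans (Q.3 ((IsPGroup.of_card (n := 2) hV4).to_sup_of_normal_left Q.isPGroup')
        le_sup_right).le
    have hzV : mo K zK ∈ V := hVc ▸ Subgroup.mem_centralizer_iff.2 fun v hv => (hQz v (hVQ0 hv)).symm
    have hzV' : mo K zK ∈ V' := by
      refine ⟨φb.symm (mo K zK), ?_, φb.apply_symm_apply _⟩
      rw [← hVc]
      refine Subgroup.mem_centralizer_iff.2 fun v hv => φb.injective ?_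
      rw [map_mul, map_mul, φb.apply_symm_apply]
      exact (hQz _ (hVQ ⟨v, hv, rfl⟩)).symm
    have haV' : mo K aK ∈ V' := ⟨mo K zK, hzV, by rw [← e1]; exact hφb zK⟩
    have hcl : (Subgroup.closure {mo K zK, mo K aK} : Subgroup _) = V' := by
      refine Subgroup.eq_of_le_of_card_ge ((Subgroup.closure_le _).2 ?_) ?_
      · rintro _ (rfl | rfl)
        · exact hzV'
        · exact haV'
      · rw [(klein_closure (invol_mo hzo) (invol_mo hao) (mo_ne hzo hao hne hza)
          (by rw [← map_mul, ← map_mul, hza])).card_four, hV'4]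
    have hz1 : mo K zK ≠ 1 := fun e => by have := invol_mo hzo; rw [e, orderOf_one] at this; omega
    have ha1 : mo K aK ≠ 1 := fun e => by have := invol_mo hao; rw [e, orderOf_one] at this; omega
    have hVk : IsKleinFour (Subgroup.closure {mo K zK, mo K aK} : Subgroup _) :=
      klein_closure (invol_mo hzo) (invol_mo hao) (mo_ne hzo hao hne hza)
        (by rw [← map_mul, ← map_mul, hza])
    rw [hcl] at hVk
    haveI := hVk
    -- the rotations fix the four-group
    have hxx : c.d.x * c.d.x = c.d.z := by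
      have hm1 : mo K (xK * xK) ∈ V' := by
        rw [← hxa, map_mul, map_mul, map_mul, map_inv, map_inv]
        exact mul_mem (hV'n.conj_mem _ haV' _) (inv_mem haV')
      have hm2 : mo K (xK * xK) * mo K (xK * xK) = 1 :=
        congrArg Subtype.val (IsKleinFour.mul_self (⟨_, hm1⟩ : V'))
      rw [← map_mul] at hm2
      have h3 : c.d.x * c.d.x * (c.d.x * c.d.x) = 1 :=
        c.eq_one_of_odd (mul_mem (mul_mem c.d.hx c.d.hx) (mul_mem c.d.hx c.d.hx)) (by
          have h4 := odd_of_mem_core ((mo_ker _).1 hm2)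
          rwa [← Subgroup.orderOf_coe] at h4)
      exact (c.d.sq_cases (mul_mem (Subgroup.mem_zpowers _) (Subgroup.mem_zpowers _)) h3).resolve_left
        (c.x_sq_ne hm)
    obtain ⟨y, hy⟩ := hncent
    have hyV : mo K (y * zK * y⁻¹) ∈ V' := by
      rw [map_mul, map_mul, map_inv]
      exact hV'n.conj_mem _ hzV' _
    have hnorm : ∀ h : K, mo K h ∈ Subgroup.normalizer
        ((Subgroup.closure {mo K zK, mo K aK} : Subgroup _) : Set _) := fun h => by
      rw [hcl, Subgroup.normalizer_eq_top_iff.2 hV'n]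
      exact Subgroup.mem_top _
    rcases klein_cases hVk hzV' haV' hz1 ha1 (mo_ne hzo hao hne hza) hyV with e | e | e | e
    · rw [map_mul, map_mul, map_inv] at e
      exact absurd e (conj_ne_one hz1 _)
    · exact absurd e hy
    · exact ha.lift_mover hz haK e (hnorm y)
    · refine ha.lift_mover hz haK (h := xK * y) ?_ (hnorm _)
      have hx2 : xK * aK * xK⁻¹ = zK * aK := by
        rw [← mul_inv_eq_iff_eq_mul, hxa]
        exact Subtype.ext hxx
      calc mo K (xK * y * zK * (xK * y)⁻¹) = mo K xK * mo K (y * zK * y⁻¹) * (mo K xK)⁻¹ := by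
            simp only [map_mul, map_inv]; group
        _ = mo K (xK * (zK * aK) * xK⁻¹) := by rw [e]; simp only [map_mul, map_inv]
        _ = mo K aK := congrArg _ (by
          rw [show xK * (zK * aK) * xK⁻¹ = xK * zK * xK⁻¹ * (xK * aK * xK⁻¹) by group, hx2,
            show xK * zK * xK⁻¹ = zK from
              mul_inv_eq_iff_eq_mul.2 (Subtype.ext (c.d.z_comm c.d.hx)),
            ← mul_assoc, sq_one hzo, one_mul])
  · -- a socle
    let S : Sock K := ⟨L, h1, h2, h3, h4, h5⟩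
    have hz2 : zK * zK = 1 := sq_one hzo
    have ha2 : aK * aK = 1 := sq_one hao
    have hza2 : zK * aK * (zK * aK) = 1 := Subtype.ext ha.mul_z.sq
    have step : ∀ y : K, y * y = 1 → y ∈ socPre K → φ y ∈ socPre K := fun y hy h =>
      socPre_mono φ.toMonoidHom hy h
    have hboth : zK ∈ socPre K ∧ aK ∈ socPre K := by
      rcases S.exists_inner hd hzo hao hne hza with h | h | h
      · exact ⟨h, (congrArg (· ∈ socPre K) e1).mp (step _ hz2 h)⟩
      · exact ⟨e3 ▸ step _ hza2 (e2 ▸ step _ ha2 h), h⟩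
      · have h' := e3 ▸ step _ hza2 h
        exact ⟨h', (congrArg (· ∈ socPre K) e1).mp (step _ hz2 h')⟩
    obtain ⟨h, -, -, hh, hn⟩ := S.exists_move hd hzo hao hne hza hboth.1 hboth.2
    exact ha.lift_mover hz haK hh hn

end Core

end Cfsg.Agent.GW
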