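import Cfsg.Agent.Lib.GW.LinearKill
import Cfsg.Agent.Lib.Char.Orbit
import Cfsg.Agent.Lib.Char.CyclicTI.Basic

/-!
A character of degree less than twenty with constant values on the section of an involution over an
inverted abelian group: an odd group without a quotient of order three fixes all constituents.
-/

set_option linter.unusedSectionVars false
set_option linter.style.haveILetI false

namespace Cfsg.Agent.GW

open Cfsg Cfsg.Agent.Char Cfsg.Agent.Blocks Cfsg.Agent.TwoFus Cfsg.Agent.Star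
open scoped ComplexConjugate

universe u

/-- A subgroup of odd order without a linear character of order three has no subgroup of index
three. -/
theorem index_ne_three {W : Type u} [Group W] [Finite W] (hodd : Odd (Nat.card W))
    (h3 : ∀ l : W →* ℂˣ, (∀ w, l w ^ 3 = 1) → l = 1) (S : Subgroup W) : S.index ≠ 3 := by
  intro hS
  have h3W : 3 ∣ Nat.card W := hS ▸ S.index_dvd_card
  have hmin : (Nat.card W).minFac = 3 := by
    have hne : Nat.card W ≠ 1 := fun e => by rw [e] at h3W; norm_num at h3W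
    have hp := Nat.minFac_prime hne
    have h1 := Nat.minFac_le_of_dvd (by norm_num) h3W
    have h2 : (Nat.card W).minFac ≠ 2 := fun e => hodd.not_two_dvd_nat (e ▸ Nat.minFac_dvd _)
    have := hp.two_le
    omega
  haveI : S.Normal := Subgroup.normal_of_index_eq_minFac_card (hS.trans hmin.symm)
  have hq : Nat.card (W ⧸ S) = 3 := by rw [← Subgroup.index_eq_card, hS]
  haveI : Fact (Nat.Prime 3) := ⟨by norm_num⟩
  haveI := isCyclic_of_prime_card hq
  haveI : IsMulCommutative (W ⧸ S) := IsCyclic.isMulCommutative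
  obtain ⟨w, hw⟩ : ∃ w : W ⧸ S, w ≠ 1 := by
    haveI : Finite (W ⧸ S) := inferInstance
    by_contra h
    push Not at h
    haveI : Subsingleton (W ⧸ S) := ⟨fun a b => by rw [h a, h b]⟩
    rw [Nat.card_unique] at hq
    norm_num at hq
  obtain ⟨f, hf⟩ := CyclicTI.exists_hom_ne_one hw
  have h := h3 (f.comp (QuotientGroup.mk' S)) fun a => by
    rw [MonoidHom.comp_apply, ← map_pow, ← hq, pow_card_eq_one', map_one]
  obtain ⟨a, rfl⟩ := QuotientGroup.mk_surjective w
  exact hf (DFunLike.congr_fun h a)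

variable {G : Type u} [Group G] [Fintype G]

set_option maxHeartbeats 600000 in
/-- The commutators of the odd group with the inverted group are in the kernel. -/
theorem orbit_kill (χ : IrrCharacter G) {F W : Subgroup G} {z y : G} (hzz : z * z = 1)
    (hab : ∀ a ∈ F, ∀ b ∈ F, a * b = b * a) (hFodd : Odd (Nat.card F)) (hWodd : Odd (Nat.card W))
    (hnorm : ∀ w ∈ W, ∀ f ∈ F, w * f * w⁻¹ ∈ F) (hinv : ∀ f ∈ F, y * f * y⁻¹ = f⁻¹)
    (hFz : ∀ f ∈ F, Commute f z) (hval : ∀ f ∈ F, (χ : G → ℂ) (z * f) = (χ : G → ℂ) z)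
    (hdeg : charDegree (χ : G → ℂ) < 20) (h3 : ∀ l : W →* ℂˣ, (∀ w, l w ^ 3 = 1) → l = 1) :
    ∀ f ∈ F, ∀ w ∈ W, (χ : G → ℂ) (w * f * w⁻¹ * f⁻¹) = (χ : G → ℂ) 1 := by
  classical
  haveI : Fintype F := Fintype.ofFinite F
  haveI : Fintype W := Fintype.ofFinite W
  set r : F → ℂ := fun f => (χ : G → ℂ) f with hr
  have hrc : IsCharacter F r := IsCharacter.restrict (irr_isCharacter χ) F
  have hone : ∀ ψ : IrrCharacter F, (ψ : F → ℂ) 1 = 1 := fun ψ =>
    degree_one_of_comm (fun a b => Subtype.ext (hab a a.2 b b.2)) ψ.2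
  have hlin : ∀ ψ : IrrCharacter F, ∃ μ : F →* ℂˣ, (ψ : F → ℂ) = fun f => (μ f : ℂ) := fun ψ =>
    exists_hom_of_degree_one (IsIrrCharacter.isCharacter ψ.2) (hone ψ)
  choose m hm using fun ψ : IrrCharacter F =>
    IsCharacter.exists_classInner_nat hrc (IsIrrCharacter.isCharacter ψ.2)
  have hexp : ∀ f : F, r f = ∑ ψ : IrrCharacter F, (m ψ : ℂ) * (ψ : F → ℂ) f := fun f => by
    have h := congrFun (classFunction_eq_sum (IsCharacter.isClassFunction hrc)) f
    rw [h, Finset.sum_apply]
    exact Finset.sum_congr rfl fun ψ _ => by rw [Pi.smul_apply, smul_eq_mul, hm]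
  have htot : ∑ ψ : IrrCharacter F, m ψ = charDegree (χ : G → ℂ) := by
    have h := hexp 1
    simp only [hone, mul_one, hr, OneMemClass.coe_one, irr_one_eq_charDegree] at h
    exact_mod_cast h.symm
  let irr : (F →* ℂˣ) → IrrCharacter F := fun μ => ⟨fun f => (μ f : ℂ), isIrrCharacter_linear μ⟩
  have hirr : Function.Injective irr := fun μ ν e => MonoidHom.ext fun f => Units.ext
    (congrFun (congrArg Subtype.val e) f)
  -- the claim
  suffices key : ∀ μ : F →* ℂˣ, m (irr μ) ≠ 0 → ∀ (w : W) (f : F),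
      μ ⟨(w : G) * f * (w : G)⁻¹, hnorm w w.2 f f.2⟩ = μ f by
    intro f hf w hw
    have hc : w * f * w⁻¹ * f⁻¹ ∈ F := mul_mem (hnorm w hw f hf) (inv_mem hf)
    have h := hexp ⟨_, hc⟩
    rw [show r ⟨_, hc⟩ = (χ : G → ℂ) (w * f * w⁻¹ * f⁻¹) from rfl] at h
    rw [h, show (χ : G → ℂ) 1 = r 1 from rfl, hexp 1]
    refine Finset.sum_congr rfl fun ψ _ => ?_
    by_cases h0 : m ψ = 0
    · rw [h0, Nat.cast_zero, zero_mul, zero_mul]
    congr 1
    obtain ⟨μ, hμ⟩ := hlin ψ
    have hψ : irr μ = ψ := Subtype.ext hμ.symm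
    have h' := key μ (by rwa [hψ]) ⟨w, hw⟩ ⟨f, hf⟩
    rw [hone, hμ]
    show (μ ⟨_, hc⟩ : ℂ) = 1
    rw [show (⟨_, hc⟩ : F) = ⟨w * f * w⁻¹, hnorm w hw f hf⟩ * ⟨f, hf⟩⁻¹ from rfl, map_mul, map_inv,
      h', mul_inv_cancel, Units.val_one]
  intro μ hμ0
  by_cases hμ1 : μ = 1
  · intro w f; rw [hμ1]; rfl
  -- the multiplicity is even
  have hsum0 : ∑ f : F, conj ((μ f : ℂ)) = 0 := by
    obtain ⟨a, ha⟩ : ∃ a, μ a ≠ 1 := by
      by_contra h; push Not at h; exact hμ1 (MonoidHom.ext h)
    have h1 : ∑ f : F, (μ f : ℂ) = (μ a : ℂ) * ∑ f : F, (μ f : ℂ) := by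
      rw [Finset.mul_sum]
      refine Eq.trans (Fintype.sum_equiv (Equiv.mulLeft a) _ _ fun f => rfl).symm
        (Finset.sum_congr rfl fun f _ => ?_)
      simp only [Equiv.coe_mulLeft, map_mul, Units.val_mul]
    have h2 : ∑ f : F, (μ f : ℂ) = 0 := by
      by_contra h0
      exact ha (Units.ext ((mul_eq_right₀ h0).1 h1.symm))
    rw [← map_sum, h2, map_zero]
  have htwo : 2 ≤ m (irr μ) := by
    have hβ := exists_eigenChar (H := F) (irr_isCharacter χ) hzz (fun f => hFz f f.2) (e := 1)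
      (Or.inl rfl)
    obtain ⟨n, hn⟩ := IsCharacter.exists_classInner_nat hβ
      (IsIrrCharacter.isCharacter (irr μ).2)
    have h1 := hm (irr μ)
    simp only [classInner] at h1 hn
    rw [Finset.sum_congr rfl (g := fun f : F =>
      (2 : ℂ)⁻¹ * (r f * conj ((irr μ : F → ℂ) f)) + (χ : G → ℂ) z / 2 * conj ((μ f : ℂ)))
      fun f _ => by
        rw [hval f f.2, hr]
        show _ = _ + _ * conj ((irr μ : F → ℂ) f)
        push_cast
        ring,
      Finset.sum_add_distrib, ← Finset.mul_sum, ← Finset.mul_sum, hsum0, mul_zero, add_zero,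
      mul_left_comm, h1] at hn
    have h2 : (m (irr μ) : ℂ) = ((2 * n : ℕ) : ℂ) := by push_cast; rw [← hn]; ring
    have h3 : m (irr μ) = 2 * n := by exact_mod_cast h2
    omega
  -- conjugates have the same multiplicity
  have hconj : ∀ (g : G) (hg : ∀ f ∈ F, g * f * g⁻¹ ∈ F) (ν : F →* ℂˣ),
      (∀ f : F, ν f = μ ⟨g * f * g⁻¹, hg f f.2⟩) → m (irr ν) = m (irr μ) := by
    intro g hg ν hν
    let φ : F → F := fun f => ⟨g * f * g⁻¹, hg f f.2⟩
    have hφ : Function.Bijective φ := Finite.injective_iff_bijective.1 fun a b e =>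
      Subtype.ext (mul_left_cancel (mul_right_cancel (congrArg Subtype.val e)))
    have h1 := hm (irr ν)
    have h2 := hm (irr μ)
    simp only [classInner] at h1 h2
    have h3 : (m (irr ν) : ℂ) = (m (irr μ) : ℂ) := by
      rw [← h1, ← h2]
      congr 1
      refine Fintype.sum_bijective φ hφ _ _ fun f => ?_
      show r f * conj ((ν f : ℂ)) = r (φ f) * conj ((μ (φ f) : ℂ))
      rw [hν f]
      congr 1
      exact (irr_conj_invariant χ _ _).symm
    exact_mod_cast h3
  let cw : W → (F →* ℂˣ) := fun w =>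
    { toFun := fun f => μ ⟨(w : G) * f * (w : G)⁻¹, hnorm w w.2 f f.2⟩
      map_one' := by rw [← map_one μ]; exact congrArg μ (Subtype.ext (by simp))
      map_mul' := fun a b => by
        rw [← map_mul]; exact congrArg μ (Subtype.ext (by simp only [Subgroup.coe_mul]; group)) }
  set O := Finset.univ.image cw with hO
  have hdisj : ∀ a b : W, cw a ≠ (cw b)⁻¹ := by
    intro a b e
    set c : W := a * b⁻¹ with hc
    have hcinv : ∀ f : F, μ ⟨(c : G) * f * (c : G)⁻¹, hnorm c c.2 f f.2⟩ = (μ f)⁻¹ := fun f => by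
      have h := DFunLike.congr_fun e ⟨(b : G)⁻¹ * f * (b : G), by
        simpa using hnorm (b : G)⁻¹ (inv_mem b.2) f f.2⟩
      rw [MonoidHom.inv_apply] at h
      refine (congrArg μ (Subtype.ext ?_)).trans (h.trans (congrArg (fun t => (μ t)⁻¹) (Subtype.ext ?_)))
      · show (c : G) * f * (c : G)⁻¹ = (a : G) * ((b : G)⁻¹ * f * (b : G)) * (a : G)⁻¹
        rw [hc, Subgroup.coe_mul, Subgroup.coe_inv]; group
      · show (b : G) * ((b : G)⁻¹ * f * (b : G)) * (b : G)⁻¹ = (f : G)
        group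
    have hpow : ∀ (n : ℕ) (f : F), μ ⟨((c ^ (2 * n) : W) : G) * f * ((c ^ (2 * n) : W) : G)⁻¹,
        hnorm _ (c ^ (2 * n)).2 f f.2⟩ = μ f := by
      intro n
      induction n with
      | zero => intro f; exact congrArg μ (Subtype.ext (by simp))
      | succ n ih =>
        intro f
        have e1 := hcinv f
        have e2 := hcinv ⟨(c : G) * f * (c : G)⁻¹, hnorm c c.2 f f.2⟩
        rw [e1, inv_inv] at e2
        have e3 := ih ⟨(c : G) * ((c : G) * f * (c : G)⁻¹) * (c : G)⁻¹,
          hnorm c c.2 _ (hnorm c c.2 f f.2)⟩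
        rw [e2] at e3
        refine Eq.trans (congrArg μ (Subtype.ext ?_)) e3
        simp only [mul_add, mul_one, pow_add, pow_two, Subgroup.coe_mul]
        group
    refine hμ1 (MonoidHom.ext fun f => ?_)
    have hsame : μ f = (μ f)⁻¹ := by
      obtain ⟨k, hk⟩ := hWodd
      rw [← hcinv f]
      conv_lhs => rw [← hpow (k + 1) f]
      refine congrArg μ (Subtype.ext ?_)
      simp only [show 2 * (k + 1) = Nat.card W + 1 by omega, pow_succ, pow_card_eq_one', one_mul]
    have h2 : μ f ^ 2 = 1 := by rw [pow_two]; nth_rewrite 1 [hsame]; exact inv_mul_cancel _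
    exact orderOf_eq_one_iff.1 (Nat.eq_one_of_dvd_coprimes (Nat.coprime_two_left.2 hFodd)
      (orderOf_dvd_of_pow_eq_one h2) (orderOf_dvd_of_pow_eq_one (n := Nat.card F) (by
        rw [← map_pow, pow_card_eq_one', map_one])))
  have hmO : ∀ ν ∈ O ∪ O.image (fun ν => ν⁻¹), m (irr ν) = m (irr μ) := by
    intro ν hν
    rcases Finset.mem_union.1 hν with h | h
    · obtain ⟨w, -, rfl⟩ := Finset.mem_image.1 h
      exact hconj (w : G) (hnorm w w.2) _ fun f => rfl
    · obtain ⟨ν', hν', rfl⟩ := Finset.mem_image.1 h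
      obtain ⟨w, -, rfl⟩ := Finset.mem_image.1 hν'
      have hg : ∀ f ∈ F, (w : G) * y * f * ((w : G) * y)⁻¹ ∈ F := fun f hf => by
        rw [show (w : G) * y * f * ((w : G) * y)⁻¹ = (w : G) * (y * f * y⁻¹) * (w : G)⁻¹ by group,
          hinv f hf]
        exact hnorm w w.2 _ (inv_mem hf)
      refine hconj ((w : G) * y) hg _ fun f => ?_
      show (μ ⟨_, _⟩)⁻¹ = _
      rw [← map_inv]
      refine congrArg μ (Subtype.ext ?_)
      show ((w : G) * f * (w : G)⁻¹)⁻¹ = (w : G) * y * f * ((w : G) * y)⁻¹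
      rw [show (w : G) * y * f * ((w : G) * y)⁻¹ = (w : G) * (y * f * y⁻¹) * (w : G)⁻¹ by group,
        hinv f f.2]
      group
  have hcardO : O.card ≤ 4 := by
    have hd : Disjoint O (O.image fun ν => ν⁻¹) := by
      rw [Finset.disjoint_left]
      intro ν h h'
      obtain ⟨a, -, rfl⟩ := Finset.mem_image.1 h
      obtain ⟨ν', hν', e⟩ := Finset.mem_image.1 h'
      obtain ⟨b, -, rfl⟩ := Finset.mem_image.1 hν'
      exact hdisj a b e.symm
    have h1 : ∑ ψ ∈ (O ∪ O.image fun ν => ν⁻¹).image irr, m ψ ≤ ∑ ψ : IrrCharacter F, m ψ :=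
      Finset.sum_le_sum_of_subset (Finset.subset_univ _)
    rw [Finset.sum_image hirr.injOn, Finset.sum_congr rfl hmO, Finset.sum_const, smul_eq_mul,
      Finset.card_union_of_disjoint hd, Finset.card_image_of_injective O (show Function.Injective fun ν : F →* ℂˣ => ν⁻¹ from fun a b e => inv_inj.1 e),
      htot] at h1
    have h2 := (Nat.mul_le_mul_left (O.card + O.card) htwo).trans h1
    omega
  let S : Subgroup W :=
    { carrier := {w | cw w = μ}
      one_mem' := MonoidHom.ext fun f => congrArg μ (Subtype.ext (by simp))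
      mul_mem' := fun {a b} ha hb => MonoidHom.ext fun f => by
        have h1 := DFunLike.congr_fun (show cw a = μ from ha)
          ⟨(b : G) * f * (b : G)⁻¹, hnorm b b.2 f f.2⟩
        have h2 := DFunLike.congr_fun (show cw b = μ from hb) f
        refine Eq.trans ?_ (h1.trans h2)
        exact congrArg μ (Subtype.ext (by simp only [Subgroup.coe_mul]; group))
      inv_mem' := fun {a} ha => MonoidHom.ext fun f => by
        have h1 := DFunLike.congr_fun (show cw a = μ from ha)
          ⟨(a : G)⁻¹ * f * (a : G), by simpa using hnorm (a : G)⁻¹ (inv_mem a.2) f f.2⟩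
        refine Eq.trans ?_ (h1.symm.trans ?_)
        · exact congrArg μ (Subtype.ext (by simp only [Subgroup.coe_inv]; group))
        · exact congrArg μ (Subtype.ext (by group)) }
  have hidx : S.index ≤ 4 := by
    have hfib : Fintype.card W ≤ Nat.card S * O.card := by
      rw [← Finset.card_univ]
      refine Finset.card_le_mul_card_image_of_maps_to (f := cw)
        (fun w _ => Finset.mem_image_of_mem _ (Finset.mem_univ w)) _ fun ν hν => ?_
      obtain ⟨w₀, -, rfl⟩ := Finset.mem_image.1 hν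
      rw [Nat.card_eq_fintype_card, Fintype.card_subtype]
      refine Finset.card_le_card_of_injOn (fun w => w * w₀⁻¹) (fun w hw => ?_) fun a _ b _ e =>
        mul_right_cancel e
      refine Finset.mem_coe.2 (Finset.mem_filter.2 ⟨Finset.mem_univ _, MonoidHom.ext fun f => ?_⟩)
      have h1 := DFunLike.congr_fun (Finset.mem_filter.1 hw).2
        ⟨(w₀ : G)⁻¹ * f * (w₀ : G), by simpa using hnorm (w₀ : G)⁻¹ (inv_mem w₀.2) f f.2⟩
      refine Eq.trans ?_ (h1.trans ?_)
      · exact congrArg μ (Subtype.ext (by simp only [Subgroup.coe_mul, Subgroup.coe_inv]; group))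
      · exact congrArg μ (Subtype.ext (by group))
    rw [← Nat.card_eq_fintype_card, ← S.index_mul_card, mul_comm (Nat.card S)] at hfib
    exact (Nat.le_of_mul_le_mul_right hfib Nat.card_pos).trans hcardO
  have hS : S = ⊤ := by
    rw [← Subgroup.index_eq_one]
    have hne := index_ne_three hWodd h3 S
    obtain ⟨k, hk⟩ := hWodd.of_dvd_nat S.index_dvd_card
    omega
  intro w f
  exact DFunLike.congr_fun (show cw w = μ from (hS ▸ Subgroup.mem_top w : w ∈ S)) f

end Cfsg.Agent.GW
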