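import Cfsg.Agent.Lib.GW.LinearBlock

/-!
The section of the central involution on a block of the centraliser given by a linear character
without coherence: the blocks inducing the same block are the rotated linear characters.
-/

set_option linter.unusedSectionVars false
set_option linter.style.haveILetI false

namespace Cfsg.Agent.GW

open Cfsg MonoidAlgebra Cfsg.Agent.Blocks Cfsg.Agent.BrauerPairs Cfsg.Agent.Char Cfsg.Agent.Star
open Cfsg.Agent.TwoFus
open scoped ComplexConjugate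

universe u

variable {G : Type u} [Group G] [Fintype G] {P : Sylow 2 G} {d : Dih (P : Subgroup G)}

namespace LinBase

variable (c : LinBase P d) {M : Ideal AlgInt} [M.IsPrime]

/-- Rotating a linear character rotates its idempotent at the four group. -/
theorem cj_eLin_rot (l : LinBase P d) (hU : l.U = c.U) {v k : G}
    (hk : k ∈ Subgroup.normalizer (Subgroup.closure ({d.z, v} : Set G) : Set G))
    (h : ∀ w ∈ c.U, Commute w v → k * w * k⁻¹ ∈ c.U → c.lamF (k * w * k⁻¹) = l.lamF w) :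
    cj k (l.eLin M (Subgroup.closure {d.z, v})) = c.eLin M (Subgroup.closure {d.z, v}) := by
  classical
  set V := Subgroup.closure ({d.z, v} : Set G) with hV
  set W := Subgroup.centralizer (V : Set G) with hW
  have hzV : d.z ∈ V := Subgroup.subset_closure (Set.mem_insert _ _)
  have hvV : v ∈ V := Subgroup.subset_closure (Set.mem_insert_of_mem _ rfl)
  have hWC : W ≤ secC d.z := fun g hg => inf_centralizer_le hzV ⟨Subgroup.mem_top g, hg⟩
  have hWk : cjS k W = W := by rw [hW, cjS_centralizer, cjS_eq_of_mem_normalizer hk]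
  have hmem : ∀ g, k⁻¹ * g * k ∈ W ↔ g ∈ W := fun g => by rw [← mem_cjS, hWk]
  have hord : ∀ g, orderOf (k⁻¹ * g * k) = orderOf g := fun g => by
    simpa using (MulAut.conj k⁻¹).orderOf_eq g
  refine gaExt fun g => ?_
  rw [coeff_cj, coeff_eLin, coeff_eLin]
  by_cases hg : g ∈ W
  · have hgk := (hmem g).2 hg
    have hUiff : k⁻¹ * g * k ∈ c.U ↔ g ∈ c.U := by
      rw [c.mem_U_iff (hWC hgk), c.mem_U_iff (hWC hg), hord]
    refine ite_congr (propext ⟨fun hh => ⟨hUiff.1 (hU ▸ hh.1), hg⟩,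
      fun hh => ⟨hU.symm ▸ hUiff.2 hh.1, hgk⟩⟩)
      (fun hh => congrArg _ (Subtype.ext ?_)) (fun _ => rfl)
    show l.lamF (k⁻¹ * g * k)⁻¹ = c.lamF g⁻¹
    have hgU : g ∈ c.U := hh.1
    rw [← h _ (inv_mem (hUiff.2 hgU))
      (Subgroup.mem_centralizer_iff.1 (inv_mem hgk) v hvV).symm
      (by rw [show k * (k⁻¹ * g * k)⁻¹ * k⁻¹ = g⁻¹ by group]; exact inv_mem hgU),
      show k * (k⁻¹ * g * k)⁻¹ * k⁻¹ = g⁻¹ by group]
  · rw [if_neg fun hh => hg ((hmem g).1 hh.2), if_neg fun hh => hg hh.2]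

variable (hM : IsPModular 2 M)

include hM in
/-- The pair of the central involution below the pair at a four group. -/
theorem subLE_closure {v : G} (hv : v ∈ (P : Subgroup G)) :
    haveI : Fact (Nat.Prime 2) := ⟨Nat.prime_two⟩
    SubLE 2 ⊤ (Subgroup.zpowers d.z, c.eLin M (Subgroup.zpowers d.z))
        (Subgroup.closure {d.z, v}, c.eLin M (Subgroup.closure {d.z, v})) ∧
      SubLE 2 ⊤ (Subgroup.closure {d.z, v}, c.eLin M (Subgroup.closure {d.z, v}))
        ((P : Subgroup G), c.eLin M (P : Subgroup G)) := by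
  classical
  haveI : Fact (Nat.Prime 2) := ⟨Nat.prime_two⟩
  haveI : CharP (resField M) 2 := resField_charP hM
  have hN := c.nsub_top hM
  have ha : IsPair 2 ⊤ ((P : Subgroup G), c.eLin M (P : Subgroup G)) := hN.right
  set V := Subgroup.closure ({d.z, v} : Set G) with hVdef
  have hzV : d.z ∈ V := Subgroup.subset_closure (Set.mem_insert _ _)
  have hVP : V ≤ (P : Subgroup G) := (Subgroup.closure_le _).2 (by
    rintro w (rfl | rfl)
    · exact dz_mem
    · exact hv)
  obtain ⟨h, hh, -⟩ := existsUnique_below ha hVP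
  have hzh : SubLE 2 ⊤ (Subgroup.zpowers d.z, c.eLin M (Subgroup.zpowers d.z)) (V, h) :=
    SubLE.of_le ha hh (Relation.ReflTransGen.single hN) (Subgroup.zpowers_le.2 hzV)
  have hzN := hzh.nsub (hh.left ha) ((hVP.trans P_le).trans
    (inf_le_right.trans (Subgroup.centralizer_le_normalizer _)))
  have hocc := hzN.occ
  change brTrunc V (c.eLin M (Subgroup.zpowers d.z)) * h = h at hocc
  rw [c.brTrunc_eLin (Subgroup.zpowers_le.2 hzV)] at hocc
  have hhb := hzN.right.blk
  obtain rfl : c.eLin M V = h := (c.isBlk_eLin hM hzV).eq_of_mul_ne_zero hhb (by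
    rw [hocc]; exact hhb.ne_zero)
  exact ⟨hzh, hh⟩

variable (c₁ c₂ : LinBase P d) (hU₁ : c₁.U = c.U) (hU₂ : c₂.U = c.U)
  (hrot : ∀ v ∈ (P : Subgroup G), v * v = 1 → v ≠ 1 → v ≠ d.z →
    ∃ (k : G) (l : LinBase P d), (l = c₁ ∨ l = c₂) ∧ k * d.z * k⁻¹ = v ∧
      k ∈ Subgroup.normalizer (Subgroup.closure ({d.z, v} : Set G) : Set G) ∧
      ∀ w ∈ c.U, Commute w v → k * w * k⁻¹ ∈ c.U → c.lamF (k * w * k⁻¹) = l.lamF w)

include hU₁ hU₂ hrot hM

/-- The blocks of the centraliser inducing the block of the linear character. -/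
theorem eq_eLin_rot {B : Set (IrrCharacter G)}
    (hpair : IsPairOf 2 ⊤ (Ek M B) (Subgroup.zpowers d.z, c.eLin M (Subgroup.zpowers d.z)))
    {f : MonoidAlgebra (resField M) G}
    (hf : IsPairOf 2 ⊤ (Ek M B) (Subgroup.zpowers d.z, f)) :
    f = c.eLin M (Subgroup.zpowers d.z) ∨ f = c₁.eLin M (Subgroup.zpowers d.z) ∨
      f = c₂.eLin M (Subgroup.zpowers d.z) := by
  classical
  haveI : Fact (Nat.Prime 2) := ⟨Nat.prime_two⟩
  haveI : CharP (resField M) 2 := resField_charP hM
  have hmax := c.isMax hM hpair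
  have hN := c.nsub_top hM
  have ha : IsPair 2 ⊤ ((P : Subgroup G), c.eLin M (P : Subgroup G)) := hN.right
  have hf' : IsBlk (secC d.z) f := hf.pair.blk
  obtain ⟨g, hg⟩ := exists_subLE_of_pairOf hmax hf
  have hgz : cjS g (Subgroup.zpowers d.z) = Subgroup.zpowers (g * d.z * g⁻¹) := cjS_zpowers g d.z
  have hvP : g * d.z * g⁻¹ ∈ (P : Subgroup G) := hg.le (mem_cjS_of_eq (Subgroup.mem_zpowers _))
  set v := g * d.z * g⁻¹ with hv
  have hle : Subgroup.zpowers v ≤ (P : Subgroup G) := Subgroup.zpowers_le.2 hvP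
  have hgf : SubLE 2 ⊤ (Subgroup.zpowers v, cj g f)
      ((P : Subgroup G), c.eLin M (P : Subgroup G)) := by
    simpa only [cjP, hgz] using hg
  by_cases hvz : v = d.z
  · refine Or.inl ?_
    have h1 : cj g f = c.eLin M (Subgroup.zpowers d.z) := (existsUnique_below ha hle).unique hgf
      (by rw [hvz]; exact Relation.ReflTransGen.single hN)
    have hgC : g ∈ secC d.z := mem_secC.2 (mul_inv_eq_iff_eq_mul.1 hvz)
    rwa [cj_eq_of_inZ hf'.inZ hgC] at h1
  · have hv1 : v ≠ 1 := fun e => d.z_ne (by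
      rw [hv, mul_inv_eq_one, mul_eq_left] at e; exact e)
    have hvv : v * v = 1 := by
      rw [hv, show g * d.z * g⁻¹ * (g * d.z * g⁻¹) = g * (d.z * d.z) * g⁻¹ by group, d.zz,
        mul_one, mul_inv_cancel]
    obtain ⟨k, l, hl, hkz, hkN, hkrot⟩ := hrot v hvP hvv hv1 hvz
    have hlU : l.U = c.U := by
      rcases hl with e | e
      · rw [e]; exact hU₁
      · rw [e]; exact hU₂
    set V := Subgroup.closure ({d.z, v} : Set G) with hVdef
    set eb := l.eLin M (Subgroup.zpowers d.z) with heb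
    have heb' : IsBlk (secC d.z) eb := l.isBlk_eLin hM (Subgroup.mem_zpowers d.z)
    have hzh := (l.subLE_closure hM hvP).1
    have hh := (c.subLE_closure hM hvP).2
    have hkf : SubLE 2 ⊤ (Subgroup.zpowers v, cj k eb)
        ((P : Subgroup G), c.eLin M (P : Subgroup G)) := by
      have h1 := hzh.cjT k
      have e1 : cjP k ((V, l.eLin M V) : Pr (resField M) G) = (V, c.eLin M V) :=
        Prod.ext (cjS_eq_of_mem_normalizer hkN) (c.cj_eLin_rot l hlU hkN hkrot)
      rw [e1] at h1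
      simp only [cjP, cjS_zpowers, hkz] at h1
      exact h1.trans hh
    have e : cj g f = cj k eb := (existsUnique_below ha hle).unique hgf hkf
    have e2 := congrArg (cj g⁻¹) e
    rw [cj_inv_cj, cj_cj] at e2
    have e3 : f = eb := by
      rw [e2]
      refine cj_eq_of_inZ heb'.inZ (mem_secC.2 ?_)
      calc g⁻¹ * k * d.z = g⁻¹ * (k * d.z * k⁻¹) * k := by group
        _ = g⁻¹ * v * k := by rw [hkz]
        _ = d.z * (g⁻¹ * k) := by rw [hv]; group
    rcases hl with el | el
    · exact Or.inr (Or.inl (by rw [e3, heb, el]))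
    · exact Or.inr (Or.inr (by rw [e3, heb, el]))

omit hU₁ hU₂ hrot in
/-- The part of a class function of the centraliser in the block of a linear character. -/
theorem blockPart_bLin (l : LinBase P d) (f : secC d.z → ℂ) :
    ∃ A : ℂ, ∀ (u : G) (hu : u ∈ l.U),
      blockPart (l.bLin M (inf_centralizer_le (Subgroup.mem_zpowers d.z))) f ⟨u, l.le hu⟩ =
        A * l.lamF u := by
  classical
  haveI := l.normal
  set b := l.bLin M (inf_centralizer_le (Subgroup.mem_zpowers d.z)) with hb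
  refine ⟨∑ θ ∈ Finset.univ.filter (· ∈ b),
    classInner f (θ : secC d.z → ℂ) * (θ : secC d.z → ℂ) 1, fun u hu => ?_⟩
  have hincl : l.lin.comp (Subgroup.inclusion (inf_centralizer_le (Subgroup.mem_zpowers d.z))) =
      l.lin := MonoidHom.ext fun s => rfl
  have hmem : ∀ θ : IrrCharacter (secC d.z), θ ∈ b ↔ ∀ n ∈ l.U.subgroupOf (secC d.z),
      (θ : secC d.z → ℂ) n = (θ : secC d.z → ℂ) 1 * (l.lin n : ℂ) := fun θ => by
    rw [hb, bLin, hincl]
    exact mem_linBlock hM _ (l.oddK _) l.index_eq l.lin θ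
  rw [blockPart_eq_sum, Finset.sum_mul]
  refine Finset.sum_congr rfl fun θ hθ => ?_
  rw [(hmem θ).1 (Finset.mem_filter.1 hθ).2 _ (Subgroup.mem_subgroupOf.2 hu), l.lamF_mem (l.le hu),
    mul_assoc]

/-- The values on the section of the central involution. -/
theorem section_value_rot (χ : IrrCharacter G)
    (hne : ∑ u : c.U, (χ : G → ℂ) (d.z * (u : G)) * conj (c.lamF u) ≠ 0) :
    ∃ A₀ A₁ A₂ : ℂ, ∀ u ∈ c.U,
      (χ : G → ℂ) (d.z * u) = A₀ * c.lamF u + A₁ * c₁.lamF u + A₂ * c₂.lamF u := by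
  classical
  haveI : Fact (Nat.Prime 2) := ⟨Nat.prime_two⟩
  haveI : CharP (resField M) 2 := resField_charP hM
  haveI := c.normal
  have hord : ∃ k, orderOf d.z = 2 ^ k :=
    ⟨1, by rw [pow_one]; exact orderOf_eq_prime (by rw [pow_two]; exact d.zz) d.z_ne⟩
  set C := secC d.z with hC
  set hi := inf_centralizer_le (d := d) (Subgroup.mem_zpowers d.z) with hhi
  set f := secFun d.z C (χ : G → ℂ) with hfdef
  have hf : IsClassFunction C f :=
    isClassFunction_secFun (secC_eq _) (IsCharacter.isClassFunction (irr_isCharacter χ))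
  set b := c.bLin M hi with hb
  have hbB : ∀ l : LinBase P d, IsPBlock M (l.bLin M hi) := fun l => isPBlock_linBlock _
  have hzB : ∀ l : LinBase P d, zB M C (l.bLin M hi) = l.eLin M (Subgroup.zpowers d.z) :=
    fun l => l.zB_bLin hM (Subgroup.mem_zpowers d.z)
  have hreg : ∀ s : C, ¬ 2 ∣ orderOf s ↔ (s : G) ∈ c.U := fun s => by
    rw [c.mem_U_iff s.2, Subgroup.orderOf_coe]
  set B := blockOf M (χ : G → ℂ) with hBdef
  have hB : IsPBlock M B := isPBlock_blockOf χ
  have hχ : χ ∈ B := self_mem_blockOf χ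
  have hind : IsInducedBlock M C b B := by
    by_contra hnot
    refine hne ?_
    have hconv : ∀ F : C → ℂ, ∑ s ∈ Finset.univ.filter (fun s : C => ¬ 2 ∣ orderOf s), F s =
        ∑ u : c.U, F ⟨u, c.le u.2⟩ := fun F => by
      refine Finset.sum_bij' (fun s hs => (⟨s, (hreg s).1 (Finset.mem_filter.1 hs).2⟩ : c.U))
        (fun u _ => ⟨u, c.le u.2⟩) (fun _ _ => Finset.mem_univ _)
        (fun u _ => Finset.mem_filter.2 ⟨Finset.mem_univ _, (hreg _).2 u.2⟩)
        (fun _ _ => rfl) (fun _ _ => rfl) (fun _ _ => rfl)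
    have hincl : c.lin.comp (Subgroup.inclusion hi) = c.lin := MonoidHom.ext fun s => rfl
    have hlam : ∀ s : C, blockPart b (linIrr c.lin : C → ℂ) s = (c.lin s : ℂ) := fun s => by
      have hl : linIrr c.lin ∈ b := by rw [hb, bLin, hincl]; exact self_mem_blockOf _
      rw [blockPart_eq_sum, Finset.sum_eq_single (linIrr c.lin)]
      · rw [classInner_self_irr (linIrr c.lin).2, one_mul]; rfl
      · intro θ _ hne'
        rw [classInner_irr_of_ne (linIrr c.lin).2 θ.2 fun e => hne' (Subtype.ext e.symm), zero_mul]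
      · exact fun h => absurd (Finset.mem_filter.2 ⟨Finset.mem_univ _, hl⟩) h
    rw [← hconv (fun s => (χ : G → ℂ) (d.z * (s : G)) * conj (c.lamF (s : G)))]
    rw [Finset.sum_congr rfl fun s hs => show _ =
        ∑ b' ∈ blocks M C, blockPart b' f s * conj (blockPart b (linIrr c.lin : C → ℂ) s) by
      rw [hlam, ← Finset.sum_mul, sum_blockPart hf, c.lamF_mem s.2]; rfl, Finset.sum_comm]
    refine Finset.sum_eq_zero fun b' hb' => ?_
    by_cases he : b' = b
    · refine Finset.sum_eq_zero fun s hs => ?_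
      rw [he, hfdef, blockPart_secFun_eq_zero hM hord (secC_eq _) hB hχ (hbB c) hnot
        (Finset.mem_filter.1 hs).2, zero_mul]
    · exact blockPart_regular_orth hM (mem_blocks.1 hb') (hbB c) he _ _
  have hpair := (induced_iff_pairOf hM hB hord (secC_eq _) (hbB c)).1 hind
  rw [hzB] at hpair
  -- the parts
  let Q : (C → ℂ) → Prop := fun F => ∃ A₀ A₁ A₂ : ℂ, ∀ (u : G) (hu : u ∈ c.U),
    F ⟨u, c.le hu⟩ = A₀ * c.lamF u + A₁ * c₁.lamF u + A₂ * c₂.lamF u
  have hQ : ∀ b' ∈ ({b, c₁.bLin M hi, c₂.bLin M hi} : Finset (Set (IrrCharacter C))),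
      Q (blockPart b' f) := fun b' hb' => by
    simp only [Finset.mem_insert, Finset.mem_singleton] at hb'
    rcases hb' with rfl | rfl | rfl
    · obtain ⟨A, hA⟩ := blockPart_bLin hM c f
      exact ⟨A, 0, 0, fun u hu => by rw [hA u hu]; ring⟩
    · obtain ⟨A, hA⟩ := blockPart_bLin hM c₁ f
      exact ⟨0, A, 0, fun u hu => by rw [hA u (hU₁.symm ▸ hu)]; ring⟩
    · obtain ⟨A, hA⟩ := blockPart_bLin hM c₂ f
      exact ⟨0, 0, A, fun u hu => by rw [hA u (hU₂.symm ▸ hu)]; ring⟩
  obtain ⟨A₀, A₁, A₂, hA⟩ := Finset.sum_induction (fun b' => blockPart b' f) Q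
    (fun F F' ⟨a, a₁, a₂, hF⟩ ⟨a', a₁', a₂', hF'⟩ => ⟨a + a', a₁ + a₁', a₂ + a₂', fun u hu => by
      rw [Pi.add_apply, hF u hu, hF' u hu]; ring⟩)
    ⟨0, 0, 0, fun u hu => by simp⟩ hQ
  refine ⟨A₀, A₁, A₂, fun u hu => ?_⟩
  set s : C := ⟨u, c.le hu⟩ with hs
  show f s = _
  rw [← hA u hu, Finset.sum_apply, ← sum_blockPart (M := M) hf s]
  refine (Finset.sum_subset (fun b' hb' => ?_) fun b' hb' hnot => ?_).symm
  · simp only [Finset.mem_insert, Finset.mem_singleton] at hb'
    rcases hb' with rfl | rfl | rfl <;> exact mem_blocks.2 (hbB _)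
  · refine blockPart_secFun_eq_zero hM hord (secC_eq _) hB hχ (mem_blocks.1 hb') (fun hi' => hnot ?_)
      ((hreg s).2 hu)
    have h1 := c.eq_eLin_rot hM c₁ c₂ hU₁ hU₂ hrot hpair
      ((induced_iff_pairOf hM hB hord (secC_eq _) (mem_blocks.1 hb')).1 hi')
    simp only [Finset.mem_insert, Finset.mem_singleton]
    rcases h1 with e | e | e
    · exact Or.inl (zB_injective C (mem_blocks.1 hb') (hbB c) (e.trans (hzB c).symm))
    · exact Or.inr (Or.inl (zB_injective C (mem_blocks.1 hb') (hbB c₁) (e.trans (hzB c₁).symm)))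
    · exact Or.inr (Or.inr (zB_injective C (mem_blocks.1 hb') (hbB c₂) (e.trans (hzB c₂).symm)))

end LinBase

end Cfsg.Agent.GW
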