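import Cfsg.Agent.Lib.GW.LinearKill
import Cfsg.Agent.Lib.GW.KleinSection

/-!
Projections of the characters on linear characters in the section of the central involution of a
four group: integrality, orthogonality, and the class identity.
-/

set_option linter.unusedSectionVars false
set_option linter.style.haveILetI false

namespace Cfsg.Agent.GW

open Cfsg Cfsg.Agent.Blocks Cfsg.Agent.Char Cfsg.Agent.Star Cfsg.Agent.TwoFus MonoidAlgebra
open scoped ComplexConjugate

universe u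

variable {G : Type u} [Group G] [Fintype G] {P : Sylow 2 G} {d : Dih (P : Subgroup G)}

namespace LinBase

variable (c l : LinBase P d)

/-- The projection on the linear character in the section of the central involution. -/
noncomputable def proj (χ : IrrCharacter G) : ℂ :=
  (Nat.card c.U : ℂ)⁻¹ * ∑ u : c.U, (χ : G → ℂ) (d.z * (u : G)) * conj (c.lamF u)

theorem lamF_mul {a b : G} (ha : a ∈ secC d.z) (hb : b ∈ secC d.z) :
    c.lamF (a * b) = c.lamF a * c.lamF b := by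
  rw [c.lamF_mem (mul_mem ha hb), c.lamF_mem ha, c.lamF_mem hb, ← Units.val_mul, ← map_mul]
  rfl

theorem lamF_conj' {a g : G} (ha : a ∈ secC d.z) (hg : g ∈ secC d.z) :
    c.lamF (a * g * a⁻¹) = c.lamF g := by
  rw [c.lamF_mem hg, c.lamF_mem (mul_mem (mul_mem ha hg) (inv_mem ha)),
    show (⟨a * g * a⁻¹, mul_mem (mul_mem ha hg) (inv_mem ha)⟩ : secC d.z) =
      ⟨a, ha⟩ * ⟨g, hg⟩ * ⟨a, ha⟩⁻¹ from rfl, map_mul, map_mul, map_inv, mul_comm (c.lin ⟨a, ha⟩),
    mul_inv_cancel_right]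

theorem conj_lamF' {g : G} (hg : g ∈ secC d.z) : conj (c.lamF g) = c.lamF g⁻¹ := by
  rw [c.lamF_mem hg, c.lamF_mem (inv_mem hg), Cfsg.Agent.BrauerPairs.conj_linear,
    show (⟨g⁻¹, inv_mem hg⟩ : secC d.z) = ⟨g, hg⟩⁻¹ from rfl, map_inv, Units.val_inv_eq_inv_val]

theorem lamF_norm {g : G} (hg : g ∈ secC d.z) : c.lamF g * conj (c.lamF g) = 1 := by
  rw [c.conj_lamF' hg, ← c.lamF_mul hg (inv_mem hg), mul_inv_cancel, c.lamF_mem (one_mem _),
    show (⟨1, one_mem (secC d.z)⟩ : secC d.z) = 1 from rfl, map_one, Units.val_one]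

/-- An element inverted in the centraliser is in the kernel. -/
theorem lamF_eq_one_of_inv {a u : G} (ha : a ∈ secC d.z) (hu : u ∈ c.U)
    (h : a * u * a⁻¹ = u⁻¹) : c.lamF u = 1 := by
  have h1 : c.lamF u * c.lamF u = 1 := by
    have h2 := c.lamF_conj' ha (c.le hu)
    rw [h] at h2
    have h3 := c.lamF_norm (c.le hu)
    rwa [c.conj_lamF' (c.le hu), h2] at h3
  rw [c.lamF_mem (c.le hu)] at h1 ⊢
  have hu1 : c.lin ⟨u, c.le hu⟩ ^ 2 = 1 := Units.ext (by
    rw [Units.val_pow_eq_pow_val, pow_two, h1, Units.val_one])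
  have hcard : c.lin ⟨u, c.le hu⟩ ^ Nat.card c.U = 1 := by
    rw [← map_pow, show (⟨u, c.le hu⟩ : secC d.z) ^ Nat.card c.U = 1 from Subtype.ext (by
      push_cast
      rw [← show (((⟨u, hu⟩ : c.U) ^ Nat.card c.U : c.U) : G) = u ^ Nat.card c.U from rfl,
        pow_card_eq_one', OneMemClass.coe_one]), map_one]
  rw [orderOf_eq_one_iff.1 (Nat.eq_one_of_dvd_coprimes (Nat.coprime_two_left.2 c.odd)
    (orderOf_dvd_of_pow_eq_one hu1) (orderOf_dvd_of_pow_eq_one hcard)), Units.val_one]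

/-- The projection is an integer. -/
theorem proj_int (χ : IrrCharacter G) : ∃ n : ℤ, c.proj χ = n := by
  classical
  have hc' : ∀ u : c.U, Commute (u : G) d.z := fun u => mem_secC.1 (c.le u.2)
  have hp := exists_eigenChar (H := c.U) (irr_isCharacter χ) d.zz hc' (e := 1) (Or.inl rfl)
  have hm := exists_eigenChar (H := c.U) (irr_isCharacter χ) d.zz hc' (e := -1) (Or.inr rfl)
  let l₀ : c.U →* ℂˣ := c.lin.comp (Subgroup.inclusion c.le)
  obtain ⟨n₁, hn₁⟩ := IsCharacter.exists_classInner_nat hp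
    (IsIrrCharacter.isCharacter (isIrrCharacter_linear l₀))
  obtain ⟨n₂, hn₂⟩ := IsCharacter.exists_classInner_nat hm
    (IsIrrCharacter.isCharacter (isIrrCharacter_linear l₀))
  refine ⟨(n₁ : ℤ) - n₂, ?_⟩
  push_cast
  rw [← hn₁, ← hn₂]
  simp only [classInner, proj, ← mul_sub, ← Finset.sum_sub_distrib, ← Nat.card_eq_fintype_card]
  congr 1
  refine Finset.sum_congr rfl fun u _ => ?_
  rw [c.lamF_mem (c.le u.2), show (l₀ u : ℂ) = (c.lin ⟨u, c.le u.2⟩ : ℂ) from rfl]
  push_cast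
  ring

/-- The projection as an integer. -/
noncomputable def pr (χ : IrrCharacter G) : ℤ := (c.proj_int χ).choose

theorem proj_eq (χ : IrrCharacter G) : c.proj χ = (c.pr χ : ℂ) := (c.proj_int χ).choose_spec

/-- Linear characters of the core are orthogonal. -/
theorem sum_lamF_mul_conj (hU : l.U = c.U) (hne : ∃ u ∈ c.U, c.lamF u ≠ l.lamF u) :
    ∑ u : c.U, c.lamF (u : G) * conj (l.lamF (u : G)) = 0 := by
  obtain ⟨a, ha, hab⟩ := hne
  have haC := c.le ha
  set S := ∑ u : c.U, c.lamF (u : G) * conj (l.lamF (u : G)) with hS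
  have h1 : S = c.lamF a * conj (l.lamF a) * S := by
    rw [hS, Finset.mul_sum]
    refine Eq.trans (Fintype.sum_equiv (Equiv.mulLeft (⟨a, ha⟩ : c.U)) _ _ fun u => rfl).symm
      (Finset.sum_congr rfl fun u _ => ?_)
    simp only [Equiv.coe_mulLeft, Subgroup.coe_mul]
    rw [c.lamF_mul haC (c.le u.2), l.lamF_mul haC (c.le u.2), map_mul]
    ring
  by_contra h0
  have h2 := (mul_eq_right₀ h0).1 h1.symm
  exact hab (by linear_combination (l.lamF a) * h2 - (c.lamF a) * l.lamF_norm haC)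

/-- Orthogonality of the projections. -/
theorem sum_pr_mul (hU : l.U = c.U) :
    (Nat.card c.U : ℂ) ^ 2 * ∑ χ : IrrCharacter G, (c.pr χ : ℂ) * (l.pr χ : ℂ) =
      (Nat.card (secC d.z) : ℂ) * ∑ u : c.U, conj (c.lamF (u : G)) * l.lamF (u : G) := by
  classical
  have hU0 : (Nat.card c.U : ℂ) ≠ 0 := Nat.cast_ne_zero.2 Nat.card_pos.ne'
  have h1 : ∀ χ : IrrCharacter G, (Nat.card c.U : ℂ) ^ 2 * ((c.pr χ : ℂ) * (l.pr χ : ℂ)) =
      ∑ u : c.U, ∑ u' : c.U, conj (c.lamF (u : G)) * l.lamF (u' : G) *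
        ((χ : G → ℂ) (d.z * (u : G)) * conj ((χ : G → ℂ) (d.z * (u' : G)))) := by
    intro χ
    have e1 : (Nat.card c.U : ℂ) * (c.pr χ : ℂ) =
        ∑ u : c.U, (χ : G → ℂ) (d.z * (u : G)) * conj (c.lamF u) := by
      rw [← c.proj_eq, proj, mul_inv_cancel_left₀ hU0]
    have e2 : (Nat.card c.U : ℂ) * (l.pr χ : ℂ) =
        ∑ u : c.U, conj ((χ : G → ℂ) (d.z * (u : G))) * l.lamF u := by
      have e3 : (Nat.card c.U : ℂ) * l.proj χ =
          ∑ u : c.U, (χ : G → ℂ) (d.z * (u : G)) * conj (l.lamF u) := by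
        let e : l.U ≃ c.U := Equiv.subtypeEquivRight fun g => by rw [hU]
        rw [proj, Nat.card_congr e, mul_inv_cancel_left₀ hU0]
        exact Fintype.sum_equiv e _ _ fun u => rfl
      have e4 := congrArg conj e3
      rw [l.proj_eq, map_mul, map_natCast, map_intCast, map_sum] at e4
      rw [e4]
      exact Finset.sum_congr rfl fun u _ => by rw [map_mul, Complex.conj_conj]
    rw [pow_two, show (Nat.card c.U : ℂ) * Nat.card c.U * ((c.pr χ : ℂ) * (l.pr χ : ℂ)) =
      ((Nat.card c.U : ℂ) * c.pr χ) * ((Nat.card c.U : ℂ) * l.pr χ) by ring, e1, e2,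
      Finset.sum_mul_sum]
    exact Finset.sum_congr rfl fun u _ => Finset.sum_congr rfl fun u' _ => by ring
  rw [Finset.mul_sum, Finset.sum_congr rfl fun χ _ => h1 χ, Finset.sum_comm, Finset.mul_sum]
  refine Finset.sum_congr rfl fun u _ => ?_
  rw [Finset.sum_comm]
  simp only [← Finset.mul_sum, column_orth_count, Finset.natCast_card_filter]
  rw [Finset.sum_congr rfl fun u' _ => Finset.mul_sum _ _ _, Finset.sum_comm,
    ← Finset.sum_subset (Finset.subset_univ (Finset.univ.filter (· ∈ secC d.z))) (fun r _ hr => ?_),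
    Finset.sum_congr rfl (g := fun _ => conj (c.lamF (u : G)) * l.lamF (u : G)) (fun r hr => ?_),
    Finset.sum_const, nsmul_eq_mul, Nat.card_eq_fintype_card, Fintype.card_subtype]
  · have hrC : r ∈ secC d.z := (Finset.mem_filter.1 hr).2
    have hrz : r * d.z * r⁻¹ = d.z := mul_inv_eq_iff_eq_mul.2 (mem_secC.1 hrC)
    have hru : r⁻¹ * (u : G) * r ∈ c.U := by simpa using c.conj_mem r⁻¹ (inv_mem hrC) u u.2
    rw [Finset.sum_eq_single_of_mem (⟨r⁻¹ * (u : G) * r, hru⟩ : c.U) (Finset.mem_univ _)]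
    · rw [if_pos, mul_one]
      · congr 1
        simpa using l.lamF_conj' (inv_mem hrC) (c.le u.2)
      · show r * (d.z * (r⁻¹ * (u : G) * r)) * r⁻¹ = d.z * (u : G)
        calc _ = r * d.z * r⁻¹ * (u : G) := by group
          _ = _ := by rw [hrz]
    · intro u' _ hne
      rw [if_neg, mul_zero]
      intro e
      refine hne (Subtype.ext ?_)
      have e' : r * d.z * r⁻¹ * (r * (u' : G) * r⁻¹) = d.z * (u : G) := by rw [← e]; group
      rw [hrz] at e'
      show (u' : G) = r⁻¹ * (u : G) * r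
      rw [← mul_left_cancel e']; group
  · refine Finset.sum_eq_zero fun u' _ => ?_
    rw [if_neg, mul_zero]
    intro e
    refine hr (Finset.mem_filter.2 ⟨Finset.mem_univ _, mem_secC.2 ?_⟩)
    have hpp : ∀ w : c.U, IsPPart 2 (d.z * (w : G)) d.z := fun w =>
      ⟨w, rfl, (mem_secC.1 (c.le w.2)).symm,
        ⟨1, by rw [pow_one]; exact orderOf_eq_prime (by rw [pow_two]; exact d.zz) d.z_ne⟩,
        fun h2 => c.odd.not_two_dvd_nat (h2.trans (Subgroup.orderOf_dvd_natCard _ w.2))⟩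
    have h2 := IsPPart.conj (hpp u') r
    rw [e] at h2
    exact mul_inv_eq_iff_eq_mul.1 (isPPart_unique Nat.prime_two h2 (hpp u))

/-- The degrees are orthogonal to the projections. -/
theorem sum_pr_deg : ∑ χ : IrrCharacter G, c.pr χ * (charDegree (χ : G → ℂ) : ℤ) = 0 := by
  classical
  have h : ∑ χ : IrrCharacter G, c.proj χ * (χ : G → ℂ) 1 = 0 := by
    simp only [proj, mul_assoc, Finset.sum_mul, ← Finset.mul_sum]
    rw [Finset.sum_comm, Finset.sum_eq_zero fun u _ => ?_, mul_zero]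
    have hne : (d.z * (u : G))⁻¹ ≠ 1 := by
      rw [ne_eq, inv_eq_one]
      intro e
      have h1 : d.z = (u : G)⁻¹ := eq_inv_of_mul_eq_one_left e
      exact c.odd.not_two_dvd_nat ((orderOf_eq_prime (x := d.z) (by rw [pow_two]; exact d.zz) d.z_ne)
        ▸ Subgroup.orderOf_dvd_natCard _ (h1 ▸ inv_mem u.2))
    rw [Finset.sum_congr rfl (g := fun χ : IrrCharacter G =>
      conj (c.lamF (u : G)) * ((χ : G → ℂ) 1 * conj ((χ : G → ℂ) (d.z * (u : G))⁻¹))) fun χ _ => by
      rw [irr_inv, Complex.conj_conj]; ring, ← Finset.mul_sum, sum_irr_one_mul, if_neg hne, mul_zero]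
  simp only [c.proj_eq, irr_one_eq_charDegree] at h
  exact_mod_cast h

/-- The class identity does not see the linear character. -/
theorem sum_pr_sq (hU : l.U = c.U) (hl : ∀ u ∈ c.U, l.lamF u = 1) :
    ∑ χ : IrrCharacter G, (c.pr χ : ℂ) * ((χ : G → ℂ) d.z ^ 2 / (χ : G → ℂ) 1) =
      ∑ χ : IrrCharacter G, (l.pr χ : ℂ) * ((χ : G → ℂ) d.z ^ 2 / (χ : G → ℂ) 1) := by
  classical
  set I := classFinset d.z with hIdef
  have hscal : ∀ χ : IrrCharacter G, ∑ a ∈ I, ∑ b ∈ I, (χ : G → ℂ) (a * b) =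
      (I.card : ℂ) ^ 2 * ((χ : G → ℂ) d.z ^ 2 / (χ : G → ℂ) 1) := by
    intro χ
    have hx : IsClassElt (classSum ℂ d.z) := isClassElt_classSum _
    have hsum' : classSum ℂ d.z = ∑ a ∈ I, MonoidAlgebra.single a (1 : ℂ) := by
      refine gaExt fun y => ?_
      rw [coeff_classSum, MonoidAlgebra.coeff_sum, Finset.sum_apply']
      simp only [MonoidAlgebra.coeff_single, Finsupp.single_apply, Finset.sum_ite_eq', hIdef,
        mem_classFinset]
    have hom : ∀ g : G, omega χ (MonoidAlgebra.single g (1 : ℂ)) = (χ : G → ℂ) g / (χ : G → ℂ) 1 := by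
      intro g
      simp [omega, Finsupp.single_apply]
    have h2' := omega_mul χ hx hx
    rw [omega_classSum, centralChar, ← card_classFinset, ← hIdef] at h2'
    rw [hsum', Finset.sum_mul, omega_sum] at h2'
    simp only [Finset.mul_sum, omega_sum, MonoidAlgebra.single_mul_single, mul_one, hom,
      ← Finset.sum_div] at h2'
    rw [div_eq_iff (irr_one_ne_zero χ)] at h2'
    rw [h2']
    field_simp [irr_one_ne_zero χ]
  have hI : (I.card : ℂ) ^ 2 ≠ 0 := pow_ne_zero _ (Nat.cast_ne_zero.2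
    (Finset.card_ne_zero.2 ⟨_, mem_classFinset.2 (IsConj.refl _)⟩))
  have hinv : ∀ a ∈ I, a * a = 1 := fun a ha => by
    obtain ⟨g, rfl⟩ := isConj_iff.1 (mem_classFinset.1 ha)
    calc g * d.z * g⁻¹ * (g * d.z * g⁻¹) = g * (d.z * d.z) * g⁻¹ := by group
      _ = 1 := by rw [d.zz, mul_one, mul_inv_cancel]
  let e : l.U ≃ c.U := Equiv.subtypeEquivRight fun g => by rw [hU]
  have hl' : ∀ χ, (l.pr χ : ℂ) = (Nat.card c.U : ℂ)⁻¹ * ∑ u : c.U, (χ : G → ℂ) (d.z * (u : G)) := by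
    intro χ
    rw [← l.proj_eq, proj, Nat.card_congr e]
    congr 1
    refine Fintype.sum_equiv e _ _ fun u => ?_
    rw [hl u (hU ▸ u.2), map_one, mul_one]
    rfl
  have hc1 : ∀ χ : IrrCharacter G,
      (I.card : ℂ) ^ 2 * ((c.pr χ : ℂ) * ((χ : G → ℂ) d.z ^ 2 / (χ : G → ℂ) 1)) =
      (Nat.card c.U : ℂ)⁻¹ * ∑ u : c.U, conj (c.lamF (u : G)) *
        ((χ : G → ℂ) (d.z * (u : G)) * ∑ a ∈ I, ∑ b ∈ I, (χ : G → ℂ) (a * b)) := by
    intro χ
    rw [mul_left_comm, ← hscal, ← c.proj_eq, proj, mul_assoc, Finset.sum_mul]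
    congr 1
    exact Finset.sum_congr rfl fun u _ => by ring
  have hl1 : ∀ χ : IrrCharacter G,
      (I.card : ℂ) ^ 2 * ((l.pr χ : ℂ) * ((χ : G → ℂ) d.z ^ 2 / (χ : G → ℂ) 1)) =
      (Nat.card c.U : ℂ)⁻¹ * ∑ u : c.U,
        ((χ : G → ℂ) (d.z * (u : G)) * ∑ a ∈ I, ∑ b ∈ I, (χ : G → ℂ) (a * b)) := by
    intro χ
    rw [mul_left_comm, ← hscal, hl', mul_assoc, Finset.sum_mul]
  refine mul_left_cancel₀ hI ?_
  rw [Finset.mul_sum, Finset.mul_sum, Finset.sum_congr rfl fun χ _ => hc1 χ,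
    Finset.sum_congr rfl fun χ _ => hl1 χ, ← Finset.mul_sum, ← Finset.mul_sum]
  congr 1
  conv_lhs => rw [Finset.sum_comm]
  conv_rhs => rw [Finset.sum_comm]
  refine Finset.sum_congr rfl fun u _ => ?_
  by_cases h1 : c.lamF (u : G) = 1
  · simp only [h1, map_one, one_mul]
  -- otherwise the sum over the characters vanishes
  have hzero : ∑ χ : IrrCharacter G,
      (χ : G → ℂ) (d.z * (u : G)) * ∑ a ∈ I, ∑ b ∈ I, (χ : G → ℂ) (a * b) = 0 := by
    rw [Finset.sum_congr rfl fun χ _ => Finset.mul_sum _ _ _, Finset.sum_comm]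
    refine Finset.sum_eq_zero fun a ha => ?_
    rw [Finset.sum_congr rfl fun χ _ => Finset.mul_sum _ _ _, Finset.sum_comm]
    refine Finset.sum_eq_zero fun b hb => ?_
    rw [Finset.sum_congr rfl (g := fun χ : IrrCharacter G =>
      (χ : G → ℂ) (a * b) * conj ((χ : G → ℂ) (d.z * (u : G))⁻¹)) fun χ _ => by
      rw [irr_inv, Complex.conj_conj, mul_comm], column_orth_count, Nat.cast_eq_zero,
      Finset.card_eq_zero, Finset.filter_eq_empty_iff]
    intro r _ hr
    refine h1 ?_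
    have hzu : Commute d.z (u : G) := (mem_secC.1 (c.le u.2)).symm
    set g := d.z * (u : G) with hg
    set a' := r⁻¹ * a * r with ha'
    set b' := r⁻¹ * b * r with hb'
    have hab' : a' * b' = g⁻¹ := by
      rw [ha', hb', ← show r⁻¹ * (r * g⁻¹ * r⁻¹) * r = g⁻¹ by group, hr]
      group
    have haa : a' * a' = 1 := by
      rw [ha', show r⁻¹ * a * r * (r⁻¹ * a * r) = r⁻¹ * (a * a) * r by group, hinv a ha]; group
    have hbb : b' * b' = 1 := by
      rw [hb', show r⁻¹ * b * r * (r⁻¹ * b * r) = r⁻¹ * (b * b) * r by group, hinv b hb]; group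
    clear_value a' b'
    have hag : a' * g * a'⁻¹ = g⁻¹ := by
      have e1 : g = b' * a' := by
        rw [← inv_inj, ← hab', mul_inv_rev, inv_eq_of_mul_eq_one_right haa,
          inv_eq_of_mul_eq_one_right hbb]
      rw [← hab', e1, inv_eq_of_mul_eq_one_right haa, mul_assoc, mul_assoc, haa, mul_one]
    have hzo : orderOf d.z = 2 := orderOf_eq_prime (by rw [pow_two]; exact d.zz) d.z_ne
    have hpp : IsPPart 2 g d.z := ⟨u, rfl, hzu, ⟨1, by rw [pow_one, hzo]⟩,
      fun h2 => c.odd.not_two_dvd_nat (h2.trans (Subgroup.orderOf_dvd_natCard _ u.2))⟩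
    have haC : a' ∈ secC d.z := by
      have h2 := IsPPart.conj hpp a'
      rw [hag] at h2
      have h3 := isPPart_unique Nat.prime_two h2 (IsPPart.inv hpp)
      rw [inv_eq_of_mul_eq_one_right d.zz] at h3
      exact mem_secC.2 (mul_inv_eq_iff_eq_mul.1 h3)
    refine c.lamF_eq_one_of_inv haC u.2 (mul_left_cancel (a := d.z) ?_)
    have hz' : a' * d.z * a'⁻¹ = d.z := mul_inv_eq_iff_eq_mul.2 (mem_secC.1 haC)
    calc d.z * (a' * (u : G) * a'⁻¹) = a' * d.z * a'⁻¹ * (a' * (u : G) * a'⁻¹) := by rw [hz']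
      _ = a' * g * a'⁻¹ := by rw [hg]; group
      _ = d.z * (u : G)⁻¹ := by
        rw [hag, hg, mul_inv_rev, inv_eq_of_mul_eq_one_right d.zz, hzu.inv_right.eq]
  rw [← Finset.mul_sum, hzero, mul_zero]

end LinBase

end Cfsg.Agent.GW
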