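import Mathlib

/-!
The signs of four characters orthogonal on three sections, and a bound on the principal sum.
-/

namespace Cfsg.Agent.GW.KleinSigns

variable {ι : Type*} {s : Finset ι} {a b c d : ι → ℤ}

/-- Four sign vectors pairwise orthogonal, all orthogonal to the degrees. -/
theorem common_degree (hs : s.card = 4)
    (ha : ∀ x ∈ s, a x * a x = 1) (hb : ∀ x ∈ s, b x * b x = 1) (hc : ∀ x ∈ s, c x * c x = 1)
    (hab : ∑ x ∈ s, a x * b x = 0) (hac : ∑ x ∈ s, a x * c x = 0) (hbc : ∑ x ∈ s, b x * c x = 0)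
    (had : ∑ x ∈ s, a x * d x = 0) (hbd : ∑ x ∈ s, b x * d x = 0) (hcd : ∑ x ∈ s, c x * d x = 0)
    {x : ι} (hx : x ∈ s) :
    4 * d x = a x * b x * c x * ∑ y ∈ s, a y * b y * c y * d y := by
  classical
  set p : ι → ℤ := fun y => (1 + a x * b x * (a y * b y)) * (1 + a x * c x * (a y * c y)) with hp
  have pm : ∀ {u v : ℤ}, u * u = 1 → v * v = 1 → u * v * (u * v) = 1 := fun hu hv => by
    rw [mul_mul_mul_comm, hu, hv, one_mul]
  have hnn : ∀ y ∈ s, 0 ≤ p y := fun y hy => by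
    have key : ∀ u : ℤ, u * u = 1 → 0 ≤ 1 + u := fun u hu => by
      rcases Int.eq_one_or_neg_one_of_mul_eq_one hu with rfl | rfl <;> norm_num
    exact mul_nonneg (key _ (pm (pm (ha x hx) (hb x hx)) (pm (ha y hy) (hb y hy))))
      (key _ (pm (pm (ha x hx) (hc x hx)) (pm (ha y hy) (hc y hy))))
  have hpx : p x = 4 := by
    simp only [hp, pm (ha x hx) (hb x hx), pm (ha x hx) (hc x hx)]
    norm_num
  have hexp : ∀ y, p y = 1 + a x * b x * (a y * b y) + a x * c x * (a y * c y) +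
      a x * b x * (a x * c x) * ((a y * a y) * (b y * c y)) := fun y => by simp only [hp]; ring
  have hsum : ∑ y ∈ s, p y = 4 := by
    rw [Finset.sum_congr rfl (g := fun y => 1 + a x * b x * (a y * b y) + a x * c x * (a y * c y) +
      a x * b x * (a x * c x) * (b y * c y)) fun y hy => by rw [hexp, ha y hy, one_mul]]
    simp only [Finset.sum_add_distrib, ← Finset.mul_sum, hab, hac, hbc, mul_zero, add_zero,
      Finset.sum_const, hs, nsmul_eq_mul, mul_one]
    norm_num
  have hzero : ∀ y ∈ s, y ≠ x → p y = 0 := by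
    rw [← Finset.add_sum_erase _ _ hx, hpx] at hsum
    intro y hy hne
    exact (Finset.sum_eq_zero_iff_of_nonneg fun z hz => hnn z (Finset.mem_of_mem_erase hz)).1
      (by omega) y (Finset.mem_erase.2 ⟨hne, hy⟩)
  have h1 : ∑ y ∈ s, a y * d y * p y = a x * d x * 4 := by
    rw [Finset.sum_eq_single_of_mem x hx fun y hy hne => by rw [hzero y hy hne, mul_zero], hpx]
  rw [Finset.sum_congr rfl (g := fun y => a y * d y + a x * b x * (b y * d y) +
      a x * c x * (c y * d y) + a x * b x * (a x * c x) * (a y * b y * c y * d y)) fun y hy => by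
    rw [hexp]
    linear_combination (a x * b x * (b y * d y) + a x * c x * (c y * d y) +
      a x * b x * (a x * c x) * (a y * b y * c y * d y)) * ha y hy] at h1
  simp only [Finset.sum_add_distrib, ← Finset.mul_sum, had, hbd, hcd, mul_zero, zero_add] at h1
  linear_combination (-a x) * h1 +
    (a x * b x * c x * ∑ y ∈ s, a y * b y * c y * d y - 4 * d x) * ha x hx

/-- The common degree and the sum of the cubes. -/
theorem signs_key (hs : s.card = 4)
    (ha : ∀ x ∈ s, a x * a x = 1) (hb : ∀ x ∈ s, b x * b x = 1) (hc : ∀ x ∈ s, c x * c x = 1)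
    (hab : ∑ x ∈ s, a x * b x = 0) (hac : ∑ x ∈ s, a x * c x = 0) (hbc : ∑ x ∈ s, b x * c x = 0)
    (had : ∑ x ∈ s, a x * d x = 0) (hbd : ∑ x ∈ s, b x * d x = 0) (hcd : ∑ x ∈ s, c x * d x = 0)
    (hd : ∀ x ∈ s, 0 < d x) :
    ∃ N e : ℤ, 0 < N ∧ (e = 1 ∨ e = -1) ∧ (∀ x ∈ s, d x = N) ∧
      ∑ x ∈ s, a x * (a x + b x + c x) ^ 2 = 8 * e := by
  classical
  set T := ∑ y ∈ s, a y * b y * c y * d y with hT
  obtain ⟨x₀, hx₀⟩ : s.Nonempty := Finset.card_pos.1 (by omega)
  have hu : ∀ x ∈ s, a x * b x * c x = 1 ∨ a x * b x * c x = -1 := fun x hx => by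
    refine Int.eq_one_or_neg_one_of_mul_eq_one (u := a x * b x * c x) (v := a x * b x * c x) ?_
    linear_combination (b x * b x * (c x * c x)) * ha x hx + c x * c x * hb x hx + hc x hx
  have h4 : ∀ x ∈ s, 4 * d x = a x * b x * c x * T := fun x hx =>
    common_degree hs ha hb hc hab hac hbc had hbd hcd hx
  have hsame : ∀ x ∈ s, d x = d x₀ ∧ a x * b x * c x = a x₀ * b x₀ * c x₀ := fun x hx => by
    have e1 := h4 x hx
    have e2 := h4 x₀ hx₀
    have := hd x hx
    have := hd x₀ hx₀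
    rcases hu x hx with r | r <;> rcases hu x₀ hx₀ with r' | r' <;> rw [r] at e1 <;>
      rw [r'] at e2 <;> rw [r, r'] <;> constructor <;> omega
  have hN : ∀ x ∈ s, d x = d x₀ := fun x hx => (hsame x hx).1
  have hz : ∀ (v : ι → ℤ), ∑ x ∈ s, v x * d x = 0 → ∑ x ∈ s, v x = 0 := fun v hv => by
    rw [Finset.sum_congr rfl (g := fun x => v x * d x₀) fun x hx => by rw [hN x hx],
      ← Finset.sum_mul] at hv
    exact (mul_eq_zero.1 hv).resolve_right (hd x₀ hx₀).ne'
  refine ⟨d x₀, a x₀ * b x₀ * c x₀, hd x₀ hx₀, hu x₀ hx₀, hN, ?_⟩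
  rw [Finset.sum_congr rfl (g := fun x => 3 * a x + 2 * b x + 2 * c x + 2 * (a x₀ * b x₀ * c x₀))
    fun x hx => by
      rw [← (hsame x hx).2]
      linear_combination (a x + 2 * b x + 2 * c x) * ha x hx + a x * hb x hx + a x * hc x hx]
  simp only [Finset.sum_add_distrib, ← Finset.mul_sum, hz a had, hz b hbd, hz c hcd,
    Finset.sum_const, hs, nsmul_eq_mul]
  ring

theorem recip_three {a b c : ℤ} (h4a : 4 ∣ a - 1) (h4b : 4 ∣ b - 1) (h4c : 4 ∣ c - 1)
    (ha : a ≠ 1) (hb : b ≠ 1) (hc : c ≠ 1) (hs : a + b + c = -1) :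
    (1 : ℚ) / 2 ≤ 1 + 1 / a + 1 / b + 1 / c := by
  have pos : ∀ {x : ℤ}, 5 ≤ x → (0 : ℚ) ≤ 1 / x := fun {x} hx => by
    have : (5 : ℚ) ≤ x := by exact_mod_cast hx
    positivity
  have bd : ∀ {x k : ℤ}, k < 0 → x ≤ k → (1 : ℚ) / k ≤ 1 / x := fun {x k} hk hx => by
    have h1 : (x : ℚ) ≤ k := by exact_mod_cast hx
    have h2 : (k : ℚ) < 0 := by exact_mod_cast hk
    exact (one_div_le_one_div_of_neg h2 (lt_of_le_of_lt h1 h2)).2 h1
  -- one positive
  have one : ∀ {p q r : ℤ}, 4 ∣ p - 1 → 4 ∣ q - 1 → 4 ∣ r - 1 → 5 ≤ p → q ≤ -3 → r ≤ -3 →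
      p + q + r = -1 → (1 : ℚ) / 2 ≤ 1 + 1 / p + 1 / q + 1 / r := by
    intro p q r _ hq4 hr4 hp hq hr hsum
    by_cases hboth : q = -3 ∧ r = -3
    · obtain ⟨rfl, rfl⟩ := hboth
      obtain rfl : p = 5 := by omega
      norm_num
    · have hp0 := pos hp
      by_cases hq3 : q = -3
      · have := bd (k := -7) (by norm_num) (show r ≤ -7 by omega)
        subst hq3
        push_cast at this ⊢
        linarith
      · have h1 := bd (k := -7) (by norm_num) (show q ≤ -7 by omega)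
        have h2 := bd (k := -3) (by norm_num) hr
        push_cast at h1 h2
        linarith
  -- two positives
  have two : ∀ {p q r : ℤ}, 5 ≤ p → 5 ≤ q → p + q + r = -1 →
      (1 : ℚ) / 2 ≤ 1 + 1 / p + 1 / q + 1 / r := by
    intro p q r hp hq hsum
    have := bd (k := -11) (by norm_num) (show r ≤ -11 by omega)
    have := pos hp
    have := pos hq
    push_cast at *
    linarith
  have sg : ∀ {x : ℤ}, 4 ∣ x - 1 → x ≠ 1 → 5 ≤ x ∨ x ≤ -3 := fun {x} h h' => by omega
  rcases sg h4a ha with a' | a' <;> rcases sg h4b hb with b' | b' <;> rcases sg h4c hc with c' | c'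
  · omega
  · exact two a' b' hs
  · have := two a' c' (r := b) (by omega); linarith
  · exact one h4a h4b h4c a' b' c' hs
  · have := two b' c' (r := a) (by omega); linarith
  · have := one h4b h4a h4c b' a' c' (by omega); linarith
  · have := one h4c h4a h4b c' a' b' (by omega); linarith
  · omega

end Cfsg.Agent.GW.KleinSigns
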