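import Cfsg.Agent.Lib.GW.LinearMain
import Cfsg.Agent.Lib.GW.KleinPsi
import Cfsg.Agent.Lib.GW.KleinSigns
import Cfsg.Agent.Lib.GW.KleinOrbit
import Cfsg.Agent.Lib.GW.Ratio
import Cfsg.Agent.Lib.BSW.Dihedral
import Cfsg.Agent.Lib.OddChar.OddTheorem

/-!
A four group as Sylow 2-subgroup: the odd core of the centraliser of an involution is not an inverted
abelian group extended by a centralised group acting nontrivially on it.
-/

set_option linter.unusedSectionVars false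
set_option linter.style.haveILetI false

namespace Cfsg.Agent.GW

open Cfsg Cfsg.Agent.Blocks Cfsg.Agent.Char Cfsg.Agent.Star Cfsg.Agent.TwoFus
open scoped ComplexConjugate

universe u

variable {G : Type u} [Group G] [Fintype G] {P : Sylow 2 G} (d : Dih (P : Subgroup G))

theorem hom_orth {W : Type u} [Group W] [Fintype W] {μ ν : W →* ℂˣ} (h : μ ≠ ν) :
    ∑ w : W, (μ w : ℂ) * conj ((ν w : ℂ)) = 0 := by
  obtain ⟨a, ha⟩ : ∃ a, μ a ≠ ν a := by
    by_contra h'; push Not at h'; exact h (MonoidHom.ext h')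
  have h1 := classInner_irr_of_ne (isIrrCharacter_linear μ) (isIrrCharacter_linear ν)
    fun e => ha (Units.ext (congrFun e a))
  rw [classInner] at h1
  exact (mul_eq_zero.1 h1).resolve_left (inv_ne_zero (Nat.cast_ne_zero.2 Nat.card_pos.ne'))

theorem hom_self {W : Type u} [Group W] [Fintype W] (μ : W →* ℂˣ) :
    ∑ w : W, (μ w : ℂ) * conj ((μ w : ℂ)) = (Nat.card W : ℂ) := by
  have h1 := classInner_self_irr (isIrrCharacter_linear μ)
  rw [classInner, inv_mul_eq_iff_eq_mul₀ (Nat.cast_ne_zero.2 Nat.card_pos.ne'), mul_one] at h1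
  exact h1

/-- The elements of a four group. -/
theorem mem_four (hm : d.m = 2) {s : G} (hs : s ∈ (P : Subgroup G)) :
    s = 1 ∨ s = d.z ∨ s = d.y ∨ s = d.z * d.y := by
  have hxz : d.x = d.z := by rw [DihBlock.z_eq d (h := 1) hm, pow_one]
  have key : ∀ i : ℤ, d.x ^ i = 1 ∨ d.x ^ i = d.z := fun i =>
    d.sq_cases (Subgroup.zpow_mem_zpowers d.x i) (by
      rw [← zpow_add, ← two_mul, d.zpow_eq_one, hm]
      exact ⟨i, by push_cast; ring⟩)
  rcases d.cases s hs with ⟨i, rfl⟩ | ⟨i, rfl⟩ <;> rcases key i with e | e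
  · exact Or.inl e
  · exact Or.inr (Or.inl e)
  · exact Or.inr (Or.inr (Or.inl (by rw [e, one_mul])))
  · exact Or.inr (Or.inr (Or.inr (by rw [e])))

theorem closure_eq_sylow (hm : d.m = 2) {v : G} (hv : v ∈ (P : Subgroup G)) (hvv : v * v = 1)
    (hv1 : v ≠ 1) (hvz : v ≠ d.z) : Subgroup.closure ({d.z, v} : Set G) = (P : Subgroup G) := by
  have hnot : v ∉ Subgroup.zpowers d.z := fun h => by
    rcases d.sq_cases ((Subgroup.zpowers_le.2 d.z_mem) h) hvv with e | e
    · exact hv1 e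
    · exact hvz e
  have hK : IsKleinFour (Subgroup.closure ({d.z, v} : Set G)) :=
    isKleinFour_of_pair d.zz hvv (d.z_comm hv) d.z_ne hnot
  refine Subgroup.eq_of_le_of_card_ge ((Subgroup.closure_le _).2 ?_) ?_
  · rintro w (rfl | rfl)
    · exact Subgroup.zpowers_le.2 d.hx d.z_mem
    · exact hv
  · rw [hK.card_four, d.card, hm]

/-- A rotation of a four group which is a Sylow 2-subgroup of a group with one class of
involutions. -/
theorem exists_rot_four (hm : d.m = 2)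
    (h1 : ∀ a b : G, orderOf a = 2 → orderOf b = 2 → IsConj a b) :
    ∃ k ∈ Subgroup.normalizer ((P : Subgroup G) : Set G), k * d.z * k⁻¹ = d.y ∧
      k * d.y * k⁻¹ = d.z * d.y ∧ k * (d.z * d.y) * k⁻¹ = d.z := by
  haveI : Fact (Nat.Prime 2) := ⟨Nat.prime_two⟩
  have hzP : d.z ∈ (P : Subgroup G) := Subgroup.zpowers_le.2 d.hx d.z_mem
  have hy1 : d.y ≠ 1 := fun e => d.ynot (e ▸ one_mem _)
  have hyz : d.y ≠ d.z := fun e => d.ynot (e ▸ d.z_mem)
  have hzy1 : d.z * d.y ≠ 1 := fun e => hyz (mul_left_cancel (e.trans d.zz.symm))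
  have hzyz : d.z * d.y ≠ d.z := fun e => hy1 (mul_eq_left.1 e)
  have hzyy : d.z * d.y ≠ d.y := fun e => d.z_ne (mul_eq_right.1 e)
  haveI : IsMulCommutative (P : Subgroup G) := by
    refine ⟨⟨fun a b => Subtype.ext ?_⟩⟩
    have hzc : ∀ s ∈ (P : Subgroup G), s * d.z = d.z * s := fun s hs => d.z_comm hs
    rcases mem_four d hm a.2 with ea | ea | ea | ea <;> rcases mem_four d hm b.2 with eb | eb | eb | eb <;>
      simp only [Subgroup.coe_mul, ea, eb, one_mul, mul_one]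
    all_goals first
      | exact (hzc _ d.hy)
      | exact (hzc _ d.hy).symm
      | exact (hzc _ (mul_mem hzP d.hy))
      | exact (hzc _ (mul_mem hzP d.hy)).symm
      | (rw [← mul_assoc d.y, hzc _ d.hy])
  have conjP : ∀ v ∈ (P : Subgroup G), v * v = 1 → v ≠ 1 →
      ∃ n ∈ Subgroup.normalizer ((P : Subgroup G) : Set G), n * d.z * n⁻¹ = v := by
    intro v hv hvv hv1
    obtain ⟨g, hg⟩ := isConj_iff.1 (h1 d.z v
      (orderOf_eq_prime (by rw [pow_two, d.zz]) d.z_ne) (orderOf_eq_prime (by rw [pow_two, hvv]) hv1))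
    obtain ⟨n, hn, he⟩ := P.conj_eq_normalizer_conj_of_mem d.z g⁻¹ hzP (by rw [inv_inv, hg]; exact hv)
    rw [inv_inv, hg] at he
    exact ⟨n⁻¹, inv_mem hn, by rw [inv_inv]; exact he.symm⟩
  obtain ⟨n, hn, hnz⟩ := conjP d.y d.hy d.yy hy1
  obtain ⟨r, hr, hrz⟩ := conjP (d.z * d.y) (mul_mem hzP d.hy)
    (by rw [← mul_assoc, mul_assoc d.z d.y, (d.z_comm d.hy), ← mul_assoc, d.zz, one_mul, d.yy]) hzy1
  have img : ∀ {g : G}, g ∈ Subgroup.normalizer ((P : Subgroup G) : Set G) → ∀ {a b : G},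
      g * a * g⁻¹ = b → ∀ {v : G}, v ∈ (P : Subgroup G) → v ≠ 1 → v ≠ a →
      g * v * g⁻¹ = d.z ∧ b ≠ d.z ∨ g * v * g⁻¹ = d.y ∧ b ≠ d.y ∨
        g * v * g⁻¹ = d.z * d.y ∧ b ≠ d.z * d.y := by
    intro g hg a b hab v hv hv1 hva
    have hne : g * v * g⁻¹ ≠ b := fun e => hva (mul_left_cancel (mul_right_cancel (e.trans hab.symm)))
    rcases mem_four d hm ((Subgroup.mem_normalizer_iff.1 hg v).1 hv) with e | e | e | e
    · exact absurd (conj_eq_one_iff.1 e) hv1
    · exact Or.inl ⟨e, fun e' => hne (e.trans e'.symm)⟩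
    · exact Or.inr (Or.inl ⟨e, fun e' => hne (e.trans e'.symm)⟩)
    · exact Or.inr (Or.inr ⟨e, fun e' => hne (e.trans e'.symm)⟩)
  have fin : ∀ {g : G}, g ∈ Subgroup.normalizer ((P : Subgroup G) : Set G) →
      g * d.z * g⁻¹ = d.y → g * d.y * g⁻¹ = d.z * d.y →
      ∃ k ∈ Subgroup.normalizer ((P : Subgroup G) : Set G), k * d.z * k⁻¹ = d.y ∧
        k * d.y * k⁻¹ = d.z * d.y ∧ k * (d.z * d.y) * k⁻¹ = d.z := by
    intro g hg e1 e2
    refine ⟨g, hg, e1, e2, ?_⟩
    calc g * (d.z * d.y) * g⁻¹ = g * d.z * g⁻¹ * (g * d.y * g⁻¹) := by group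
      _ = d.z := by rw [e1, e2, ← mul_assoc, ← (d.z_comm d.hy : d.y * d.z = d.z * d.y).symm,
                      mul_assoc, d.yy, mul_one]
  rcases img hn hnz d.hy hy1 hyz with ⟨e, -⟩ | ⟨-, e⟩ | ⟨e, -⟩
  · rcases img hr hrz d.hy hy1 hyz with ⟨e', -⟩ | ⟨e', -⟩ | ⟨-, e'⟩
    · refine fin (inv_mem hr) ?_ ?_
      · conv_lhs => rw [← e']
        group
      · rw [inv_inv]
        calc r⁻¹ * d.y * r = r⁻¹ * (d.z * (d.z * d.y)) * r := by rw [← mul_assoc d.z, d.zz, one_mul]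
          _ = r⁻¹ * (r * d.y * r⁻¹ * (r * d.z * r⁻¹)) * r := by rw [e', hrz]
          _ = d.y * d.z := by group
          _ = d.z * d.y := d.z_comm d.hy
    · refine fin (mul_mem hr hn) ?_ ?_
      · rw [show r * n * d.z * (r * n)⁻¹ = r * (n * d.z * n⁻¹) * r⁻¹ by group, hnz, e']
      · rw [show r * n * d.y * (r * n)⁻¹ = r * (n * d.y * n⁻¹) * r⁻¹ by group, e, hrz]
    · exact absurd rfl e'
  · exact absurd rfl e
  · exact fin hn hnz e

set_option maxHeartbeats 2000000 in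
/-- The mixed configuration over a four group does not occur. -/
theorem klein_mixed_false [IsSimpleGroup G] (hnc : ¬ ∀ a b : G, a * b = b * a) (hm : d.m = 2)
    (U F : Subgroup G) (hle : U ≤ Subgroup.centralizer ({d.z} : Set G))
    (hconj : ∀ g ∈ Subgroup.centralizer ({d.z} : Set G), ∀ w ∈ U, g * w * g⁻¹ ∈ U)
    (hodd : Odd (Nat.card U))
    (hcard : Nat.card (Subgroup.centralizer ({d.z} : Set G)) =
      Nat.card U * Nat.card (P : Subgroup G))
    (hFU : F ≤ U) (hFn : ∀ g ∈ Subgroup.centralizer ({d.z} : Set G), ∀ f ∈ F, g * f * g⁻¹ ∈ F)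
    (hFab : ∀ a ∈ F, ∀ b ∈ F, a * b = b * a)
    (hFW : ∀ u ∈ U, ∃ f ∈ F, ∃ w ∈ U, Commute w d.y ∧ u = f * w)
    (hinv : ∀ f ∈ F, d.y * f * d.y⁻¹ = f⁻¹)
    (hmove : ∃ f ∈ F, ∃ w ∈ U, Commute w d.y ∧ ¬ Commute w f) : False := by
  classical
  haveI : Fact (Nat.Prime 2) := ⟨Nat.prime_two⟩
  obtain ⟨M, hM⟩ := Cfsg.Agent.GlaubermanMod.exists_isPModular 2
  haveI : M.IsPrime := hM.2.1.isPrime
  have h1 : ∀ a b : G, orderOf a = 2 → orderOf b = 2 → IsConj a b :=
    BSW.dih_simple_one_class (fun h => hnc fun a b => mul_comm' a b) P d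
  obtain ⟨k, hkN, hkz, hky, hkzy⟩ := exists_rot_four d hm h1
  have hzP : d.z ∈ (P : Subgroup G) := Subgroup.zpowers_le.2 d.hx d.z_mem
  have hzy : Commute d.z d.y := (d.z_comm d.hy).symm
  have hy1 : d.y ≠ 1 := fun e => d.ynot (e ▸ one_mem _)
  have hkiz : k⁻¹ * d.z * k = d.z * d.y := by
    conv_lhs => rw [← hkzy]
    group
  have hkiy : k⁻¹ * d.y * k = d.z := by
    conv_lhs => rw [← hkz]
    group
  have hUz : ∀ w ∈ U, Commute w d.z := fun w hw => Subgroup.mem_centralizer_singleton_iff.1 (hle hw)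
  have hcases : ∀ v ∈ (P : Subgroup G), v ≠ 1 → v ≠ d.z → v = d.y ∨ v = d.z * d.y :=
    fun v hv a b => ((mem_four d hm hv).resolve_left a).resolve_left b
  have hkclos : ∀ v ∈ (P : Subgroup G), v * v = 1 → v ≠ 1 → v ≠ d.z →
      k ∈ Subgroup.normalizer (Subgroup.closure ({d.z, v} : Set G) : Set G) := fun v a b e f => by
    rw [closure_eq_sylow d hm a b e f]; exact hkN
  -- the centralised part
  set W : Subgroup G := U ⊓ Subgroup.centralizer ({d.y} : Set G) with hW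
  have hmemW : ∀ {w : G}, w ∈ W ↔ w ∈ U ∧ Commute w d.y := fun {w} => by
    rw [hW, Subgroup.mem_inf, Subgroup.mem_centralizer_singleton_iff]
    rfl
  have hWU : W ≤ U := inf_le_left
  have hWodd : Odd (Nat.card W) := hodd.of_dvd_nat (Subgroup.card_dvd_of_le hWU)
  have hFodd : Odd (Nat.card F) := hodd.of_dvd_nat (Subgroup.card_dvd_of_le hFU)
  have hcV : ∀ w ∈ W, ∀ s ∈ (P : Subgroup G), Commute w s := fun w hw s hs => by
    obtain ⟨a, b⟩ := hmemW.1 hw
    rcases mem_four d hm hs with e | e | e | e <;> rw [e]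
    · exact Commute.one_right w
    · exact hUz w a
    · exact b
    · exact (hUz w a).mul_right b
  have hdisj : ∀ {g : G}, g ∈ F → g ∈ W → g = 1 := by
    intro g hgF hgW
    have h := hinv g hgF
    rw [← (hmemW.1 hgW).2.eq, mul_inv_cancel_right] at h
    refine orderOf_eq_one_iff.1 (Nat.eq_one_of_dvd_coprimes (Nat.coprime_two_left.2 hFodd)
      (orderOf_dvd_of_pow_eq_one ?_) (Subgroup.orderOf_dvd_natCard F hgF))
    rw [pow_two]
    nth_rewrite 1 [h]
    exact inv_mul_cancel g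
  have hconjW : ∀ w ∈ W, k * w * k⁻¹ ∈ W ∧ k⁻¹ * w * k ∈ W := by
    intro w hw
    obtain ⟨a, b⟩ := hmemW.1 hw
    have cm : ∀ (g v v' : G), g * v * g⁻¹ = v' → Commute w v → Commute (g * w * g⁻¹) v' :=
      fun g v v' e c => by
        rw [← e]
        show g * w * g⁻¹ * (g * v * g⁻¹) = g * v * g⁻¹ * (g * w * g⁻¹)
        calc _ = g * (w * v) * g⁻¹ := by group
          _ = g * (v * w) * g⁻¹ := by rw [c.eq]
          _ = _ := by group
    have mk : ∀ g : G, Commute (g * w * g⁻¹) d.z → Commute (g * w * g⁻¹) d.y → g * w * g⁻¹ ∈ W :=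
      fun g cz cy => hmemW.2 ⟨mem_core_of_odd d hle hconj hodd hcard
        (Subgroup.mem_centralizer_singleton_iff.2 cz) (by
          rw [DihBlock.order_conj']
          exact fun h2 => hodd.not_two_dvd_nat (h2.trans (Subgroup.orderOf_dvd_natCard U a))), cy⟩
    refine ⟨mk k ?_ ?_, ?_⟩
    · exact cm k _ _ hkzy ((hUz w a).mul_right b)
    · exact cm k _ _ hkz (hUz w a)
    · have := mk k⁻¹ (cm k⁻¹ _ _ (by rw [inv_inv]; exact hkiy) b)
        (cm k⁻¹ _ _ (show k⁻¹ * (d.z * d.y) * k⁻¹⁻¹ = d.y by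
          rw [inv_inv, show k⁻¹ * (d.z * d.y) * k = k⁻¹ * d.z * k * (k⁻¹ * d.y * k) by group, hkiz,
            hkiy, mul_assoc, (d.z_comm d.hy : d.y * d.z = d.z * d.y), ← mul_assoc, d.zz, one_mul])
          ((hUz w a).mul_right b))
      rwa [inv_inv] at this
  let φ : W →* W :=
    { toFun := fun w => ⟨k * (w : G) * k⁻¹, (hconjW w w.2).1⟩
      map_one' := Subtype.ext (by simp)
      map_mul' := fun a b => Subtype.ext (by simp only [Subgroup.coe_mul]; group) }
  let φi : W → W := fun w => ⟨k⁻¹ * (w : G) * k, (hconjW w w.2).2⟩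
  have hφi : ∀ w, φ (φi w) = w := fun w => Subtype.ext (show k * (k⁻¹ * (w : G) * k) * k⁻¹ = w by group)
  have hcube : ∀ (l : W →* ℂˣ) (w : W), l (φ (φ (φ w))) = l w := by
    intro l w
    set K := k * k * k with hK
    have cK : ∀ v v' v'' v''' : G, k * v * k⁻¹ = v' → k * v' * k⁻¹ = v'' → k * v'' * k⁻¹ = v''' →
        K * v * K⁻¹ = v''' := fun v v' v'' v''' e e' e'' => by
      rw [hK, ← e'', ← e', ← e]; group
    have hKz : K * d.z * K⁻¹ = d.z := cK _ _ _ _ hkz hky hkzy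
    have hKy : K * d.y * K⁻¹ = d.y := cK _ _ _ _ hky hkzy hkz
    obtain ⟨a, ha, s, hs, he⟩ := decomp d hle hodd hcard
      (g := K) (Subgroup.mem_centralizer_singleton_iff.2 (mul_inv_eq_iff_eq_mul.1 hKz))
    have haW : a ∈ W := hmemW.2 ⟨ha, by
      have hy' := mul_inv_eq_iff_eq_mul.1 hKy
      rw [he] at hy'
      have hyC : d.y ∈ Subgroup.centralizer ({d.z} : Set G) := P_le_centralizer d d.hy
      obtain ⟨e1, -⟩ := decomp_unique hodd ha (hconj _ hyC a ha) hs
        (mul_mem (mul_mem d.hy hs) (inv_mem d.hy))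
        (show a * s = d.y * a * d.y⁻¹ * (d.y * s * d.y⁻¹) by
          rw [show d.y * a * d.y⁻¹ * (d.y * s * d.y⁻¹) = d.y * (a * s) * d.y⁻¹ by group, ← hy',
            mul_inv_cancel_right])
      exact eq_mul_inv_iff_mul_eq.1 e1⟩
    have e : φ (φ (φ w)) = ⟨a, haW⟩ * w * ⟨a, haW⟩⁻¹ := Subtype.ext (by
      show k * (k * (k * (w : G) * k⁻¹) * k⁻¹) * k⁻¹ = a * (w : G) * a⁻¹
      calc _ = K * (w : G) * K⁻¹ := by rw [hK]; group
        _ = a * (s * (w : G) * s⁻¹) * a⁻¹ := by rw [he]; group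
        _ = _ := by rw [← (hcV w w.2 s hs).eq, mul_inv_cancel_right])
    rw [e, map_mul, map_mul, map_inv, mul_comm (l _), mul_inv_cancel_right]
  -- the projection on `W`
  have hdec : ∀ u : U, ∃ w : W, (u : G) * (w : G)⁻¹ ∈ F := fun u => by
    obtain ⟨f, hf, w, hw, hwy, e⟩ := hFW u u.2
    exact ⟨⟨w, hmemW.2 ⟨hw, hwy⟩⟩, by rw [e, mul_inv_cancel_right]; exact hf⟩
  choose pW hpW using hdec
  have huniq : ∀ (u : U) (w : W), (u : G) * (w : G)⁻¹ ∈ F → pW u = w := fun u w hw => by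
    have h := mul_mem (inv_mem (hpW u)) hw
    rw [mul_inv_rev, inv_inv, mul_assoc, inv_mul_cancel_left] at h
    exact Subtype.ext (mul_inv_eq_one.1 (hdisj h (mul_mem (pW u).2 (inv_mem w.2))))
  have hWFn : ∀ w ∈ W, ∀ f ∈ F, w * f * w⁻¹ ∈ F := fun w hw f hf => hFn w (hle (hWU hw)) f hf
  have hpW_mul : ∀ a b : U, pW (a * b) = pW a * pW b := fun a b => huniq _ _ (by
    rw [Subgroup.coe_mul, Subgroup.coe_mul,
      show (a : G) * b * ((pW a : G) * (pW b : G))⁻¹ = (a : G) * (pW a : G)⁻¹ *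
        ((pW a : G) * ((b : G) * (pW b : G)⁻¹) * (pW a : G)⁻¹) by group]
    exact mul_mem (hpW a) (hWFn _ (pW a).2 _ (hpW b)))
  let πW : U →* W := MonoidHom.mk' pW hpW_mul
  have hπW : ∀ (w : W), πW ⟨w, hWU w.2⟩ = w := fun w => huniq _ _ (by simp)
  have hπF : ∀ (f : G) (hf : f ∈ F), πW ⟨f, hFU hf⟩ = 1 := fun f hf => huniq _ _ (by simpa using hf)
  have hπP : ∀ s ∈ (P : Subgroup G), ∀ a b : U, (b : G) = s * (a : G) * s⁻¹ → πW b = πW a := by
    intro s hs a b e
    refine huniq _ _ ?_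
    show (b : G) * ((pW a : W) : G)⁻¹ ∈ F
    rw [e, show s * (a : G) * s⁻¹ * (pW a : G)⁻¹ =
      s * ((a : G) * (pW a : G)⁻¹) * s⁻¹ * (s * (pW a : G) * s⁻¹ * (pW a : G)⁻¹) by group,
      ← (hcV _ (pW a).2 s hs).eq, mul_inv_cancel_right, mul_inv_cancel, mul_one]
    exact hFn s (P_le_centralizer d hs) _ (hpW a)
  -- the data
  have hle' : U ≤ secC d.z := by rw [secC_eq]; exact hle
  have hconj' : ∀ g ∈ secC d.z, ∀ w ∈ U, g * w * g⁻¹ ∈ U := by rw [secC_eq]; exact hconj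
  have hcard' : Nat.card (secC d.z) = Nat.card U * Nat.card (P : Subgroup G) := by
    rw [secC_eq]; exact hcard
  have hrotate : ∀ v ∈ (P : Subgroup G), v * v = 1 → v ≠ 1 → v ≠ d.z →
      (v = d.y ∧ k * d.z * k⁻¹ = v ∧ k ∈ Subgroup.normalizer (Subgroup.closure ({d.z, v} : Set G) : Set G)) ∨
      (v = d.z * d.y ∧ k⁻¹ * d.z * k⁻¹⁻¹ = v ∧
        k⁻¹ ∈ Subgroup.normalizer (Subgroup.closure ({d.z, v} : Set G) : Set G)) := by
    intro v a b e f
    rcases hcases v a e f with r | r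
    · exact Or.inl ⟨r, by rw [r]; exact hkz, hkclos v a b e f⟩
    · exact Or.inr ⟨r, by rw [r, inv_inv]; exact hkiz, inv_mem (hkclos v a b e f)⟩
  let c₀ : LinCtx P d :=
    { U := U, le := hle', conj_mem := hconj', odd := hodd, card_eq := hcard'
      lin := 1, lin_P := fun _ _ => rfl
      coh := fun v a b e f => by
        rcases hrotate v a b e f with ⟨-, p, q⟩ | ⟨-, p, q⟩
        · exact ⟨k, p, q, fun _ _ _ _ _ _ => rfl⟩
        · exact ⟨k⁻¹, p, q, fun _ _ _ _ _ _ => rfl⟩ }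
  let base : (W →* ℂˣ) → LinBase P d := fun l =>
    { U := U, le := hle', conj_mem := hconj', odd := hodd, card_eq := hcard'
      lin :=
        { toFun := fun g => l (πW ⟨(g : G) * ((c₀.pi g : (P : Subgroup G)) : G)⁻¹, c₀.div_pi_mem g⟩)
          map_one' := by
            rw [← map_one l, ← map_one πW]
            exact congrArg (fun t => l (πW t)) (Subtype.ext (by simp))
          map_mul' := fun g g' => by
            set a : U := ⟨(g : G) * ((c₀.pi g : (P : Subgroup G)) : G)⁻¹, c₀.div_pi_mem g⟩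
            set b : U := ⟨(g' : G) * ((c₀.pi g' : (P : Subgroup G)) : G)⁻¹, c₀.div_pi_mem g'⟩
            set b' : U := ⟨((c₀.pi g : (P : Subgroup G)) : G) * (b : G) *
              ((c₀.pi g : (P : Subgroup G)) : G)⁻¹,
              hconj' _ (LinBase.P_le (c₀.pi g).2) _ b.2⟩
            rw [← hπP _ (c₀.pi g).2 b b' rfl, ← map_mul, ← map_mul]
            refine congrArg (fun t => l (πW t)) (Subtype.ext ?_)
            simp only [Subgroup.coe_mul, map_mul, mul_inv_rev, a, b, b']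
            group }
      lin_P := fun s hs => by
        show l (πW _) = 1
        rw [← map_one l, ← map_one πW]
        refine congrArg (fun t => l (πW t)) (Subtype.ext ?_)
        show (s : G) * ((c₀.pi s : (P : Subgroup G)) : G)⁻¹ = 1
        rw [c₀.pi_P hs]
        simp }
  have hbase : ∀ (l : W →* ℂˣ) (u : U), (base l).lamF (u : G) = (l (πW u) : ℂ) := fun l u => by
    rw [(base l).lamF_mem (hle' u.2)]
    refine congrArg (fun t => ((l (πW t) : ℂˣ) : ℂ)) (Subtype.ext ?_)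
    show (u : G) * ((c₀.pi ⟨u, hle' u.2⟩ : (P : Subgroup G)) : G)⁻¹ = u
    rw [c₀.pi_U (g := ⟨u, hle' u.2⟩) u.2]
    simp
  have hbaseW : ∀ (l : W →* ℂˣ) (w : W), (base l).lamF (w : G) = (l w : ℂ) := fun l w => by
    rw [hbase l ⟨w, hWU w.2⟩, hπW]
  -- fixed characters are trivial
  have hfix : ∀ l : W →* ℂˣ, (∀ w, l (φ w) = l w) → l = 1 := by
    intro l hl
    have hli : ∀ w, l (φi w) = l w := fun w => by rw [← hl (φi w), hφi]
    have hμ := linear_eq_one hnc P d U hle hconj hodd hcard (l.comp πW)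
      (fun s hs w w' e => congrArg l (hπP s hs w w' e)) fun v a b e f => by
        have inW : ∀ w : U, Commute (w : G) v → (w : G) ∈ W := fun w c => hmemW.2 ⟨w.2, by
          rcases hcases v a e f with r | r
          · rwa [← r]
          · have h := (hUz w w.2).mul_right (r ▸ c)
            rwa [← mul_assoc, d.zz, one_mul] at h⟩
        rcases hrotate v a b e f with ⟨r, p, q⟩ | ⟨r, p, q⟩
        · refine ⟨k, p, q, fun w w' c e' => ?_⟩
          show l (πW w') = l (πW w)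
          rw [show w' = (⟨(φ ⟨w, inW w c⟩ : G), hWU (φ _).2⟩ : U) from Subtype.ext e', hπW, hl,
            ← hπW ⟨w, inW w c⟩]
        · refine ⟨k⁻¹, p, q, fun w w' c e' => ?_⟩
          show l (πW w') = l (πW w)
          rw [show w' = (⟨(φi ⟨w, inW w c⟩ : G), hWU (φi _).2⟩ : U) from Subtype.ext (by
            rw [e', inv_inv]), hπW, hli, ← hπW ⟨w, inW w c⟩]
    refine MonoidHom.ext fun w => ?_
    have h := DFunLike.congr_fun hμ ⟨w, hWU w.2⟩
    rwa [MonoidHom.comp_apply, hπW] at h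
  have hprod : ∀ (l : W →* ℂˣ) (w : W), l w * l (φ w) * l (φ (φ w)) = 1 := by
    intro l w
    have h := hfix (l * l.comp φ * l.comp (φ.comp φ)) fun v => by
      simp only [MonoidHom.mul_apply, MonoidHom.comp_apply, hcube]
      rw [mul_assoc (l v), mul_comm (l v)]
    exact DFunLike.congr_fun h w
  have hthree : ∀ l : W →* ℂˣ, (∀ w, l w ^ 3 = 1) → l = 1 := by
    intro l hl
    refine hfix l fun w => ?_
    have h := hfix (l.comp φ * l⁻¹) fun v => by
      simp only [MonoidHom.mul_apply, MonoidHom.comp_apply, MonoidHom.inv_apply]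
      have e1 := hprod l v
      have e2 := hl (φ v)
      rw [mul_inv_eq_iff_eq_mul, mul_right_comm, eq_mul_inv_iff_mul_eq]
      calc l (φ (φ v)) * l v = l (φ (φ v)) * l v * (l (φ v) ^ 3) := by rw [e2, mul_one]
        _ = (l v * l (φ v) * l (φ (φ v))) * (l (φ v) * l (φ v)) := by
          rw [pow_succ, pow_two]
          ac_rfl
        _ = l (φ v) * l (φ v) := by rw [e1, one_mul]
    have h' := DFunLike.congr_fun h w
    simp only [MonoidHom.mul_apply, MonoidHom.comp_apply, MonoidHom.inv_apply,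
      MonoidHom.one_apply] at h'
    exact mul_inv_eq_one.1 h'
  -- a nontrivial character
  obtain ⟨l, hl1⟩ : ∃ l : W →* ℂˣ, l ≠ 1 := by
    obtain ⟨f, hf, w, hw, hwy, hwf⟩ := hmove
    haveI : Nontrivial W := ⟨⟨⟨w, hmemW.2 ⟨hw, hwy⟩⟩, 1, fun e => hwf (by
      rw [show w = 1 from congrArg Subtype.val e]; exact Commute.one_left f)⟩⟩
    haveI : Group.IsSolvable W := OddChar.oddSolvable W hWodd
    obtain ⟨a, ha⟩ : ∃ a : W, a ∉ commutator W := by
      by_contra h
      push Not at h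
      exact (Group.IsSolvable.commutator_lt_top_of_nontrivial W).ne ((Subgroup.eq_top_iff' _).2 h)
    haveI : Finite (Abelianization W) := inferInstanceAs (Finite (W ⧸ commutator W))
    haveI : IsMulCommutative (Abelianization W) := ⟨⟨fun a b => mul_comm a b⟩⟩
    obtain ⟨g, hg⟩ := CyclicTI.exists_hom_ne_one (x := Abelianization.of a) fun e => ha (by
      rwa [← MonoidHom.mem_ker, Abelianization.ker_of] at e)
    exact ⟨g.comp Abelianization.of, fun e => hg (DFunLike.congr_fun e a)⟩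
  set l₁ := l.comp φ with hl₁
  set l₂ := l.comp (φ.comp φ) with hl₂
  have n01 : l ≠ l₁ := fun e => hl1 (hfix l fun w => (DFunLike.congr_fun e w).symm)
  have n02 : l ≠ l₂ := fun e => hl1 (hfix l fun w => by
    have h := DFunLike.congr_fun e (φ w)
    rwa [hl₂, MonoidHom.comp_apply, MonoidHom.comp_apply, hcube] at h)
  have n12 : l₁ ≠ l₂ := fun e => hl1 (hfix l fun w => by
    have h := DFunLike.congr_fun e (φ (φ w))
    rw [hl₁, hl₂, MonoidHom.comp_apply, MonoidHom.comp_apply, MonoidHom.comp_apply, hcube, hcube] at h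
    exact h.symm)
  set c := base l with hc
  set c₁ := base l₁ with hc₁
  set c₂ := base l₂ with hc₂
  have hrot : ∀ v ∈ (P : Subgroup G), v * v = 1 → v ≠ 1 → v ≠ d.z →
      ∃ (k' : G) (m : LinBase P d), (m = c₁ ∨ m = c₂) ∧ k' * d.z * k'⁻¹ = v ∧
        k' ∈ Subgroup.normalizer (Subgroup.closure ({d.z, v} : Set G) : Set G) ∧
        ∀ w ∈ c.U, Commute w v → k' * w * k'⁻¹ ∈ c.U →
          c.lamF (k' * w * k'⁻¹) = m.lamF w := by
    intro v a b e f
    have inW : ∀ w ∈ U, Commute w v → w ∈ W := fun w hw cm => hmemW.2 ⟨hw, by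
      rcases hcases v a e f with r | r
      · rwa [← r]
      · have h := (hUz w hw).mul_right (r ▸ cm)
        rwa [← mul_assoc, d.zz, one_mul] at h⟩
    rcases hrotate v a b e f with ⟨-, p, q⟩ | ⟨-, p, q⟩
    · refine ⟨k, c₁, Or.inl rfl, p, q, fun w hw cm _ => ?_⟩
      have h1' := hbaseW l (φ ⟨w, inW w hw cm⟩)
      have h2' := hbaseW l₁ ⟨w, inW w hw cm⟩
      exact h1'.trans h2'.symm
    · refine ⟨k⁻¹, c₂, Or.inr rfl, p, q, fun w hw cm _ => ?_⟩
      have h1' := hbaseW l (φi ⟨w, inW w hw cm⟩)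
      have h2' := hbaseW l₂ ⟨w, inW w hw cm⟩
      rw [inv_inv]
      refine h1'.trans (Eq.trans ?_ h2'.symm)
      show _ = ((l (φ (φ _)) : ℂˣ) : ℂ)
      conv_lhs => rw [← hcube l (φi _), hφi]
  -- orthogonality
  have hU0 : (Nat.card U : ℂ) ≠ 0 := Nat.cast_ne_zero.2 Nat.card_pos.ne'
  have horth : ∀ m m' : W →* ℂˣ, m ≠ m' →
      ∑ u : U, (base m).lamF (u : G) * conj ((base m').lamF (u : G)) = 0 := fun m m' hne => by
    simp only [hbase]
    exact hom_orth (μ := m.comp πW) (ν := m'.comp πW) fun e => hne (MonoidHom.ext fun w => by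
      have h := DFunLike.congr_fun e ⟨w, hWU w.2⟩
      rwa [MonoidHom.comp_apply, MonoidHom.comp_apply, hπW] at h)
  have hself : ∀ m : W →* ℂˣ,
      ∑ u : U, (base m).lamF (u : G) * conj ((base m).lamF (u : G)) = (Nat.card U : ℂ) := fun m => by
    simp only [hbase]
    exact hom_self (m.comp πW)
  have hgram : ∀ m m' : W →* ℂˣ, ∑ χ : IrrCharacter G, (base m).pr χ * (base m').pr χ =
      if m = m' then 4 else 0 := fun m m' => by
    have h := (base m).sum_pr_mul (base m') rfl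
    have hC : (Nat.card (secC d.z) : ℂ) = 4 * (Nat.card U : ℂ) := by
      rw [hcard', d.card, hm]; push_cast; ring
    rw [show (Nat.card (base m).U : ℂ) = (Nat.card U : ℂ) from rfl, hC] at h
    have h2 : ∑ u : U, conj ((base m).lamF (u : G)) * (base m').lamF (u : G) =
        if m = m' then (Nat.card U : ℂ) else 0 := by
      rw [Finset.sum_congr rfl fun u _ => mul_comm _ _]
      split_ifs with e
      · rw [← e]; exact hself m
      · exact horth m' m (Ne.symm e)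
    change _ = _ * (∑ u : U, conj ((base m).lamF (u : G)) * (base m').lamF (u : G)) at h
    rw [h2] at h
    have h3 : (((∑ χ : IrrCharacter G, (base m).pr χ * (base m').pr χ : ℤ)) : ℂ) =
        (((if m = m' then 4 else 0 : ℤ)) : ℂ) := by
      refine mul_left_cancel₀ (pow_ne_zero 2 hU0) ?_
      push_cast
      rw [h]
      split_ifs <;> ring
    exact_mod_cast h3
  have hfour : ∀ m : W →* ℂˣ, (∀ x ∈ Shape.supp ((base m).pr), (base m).pr x * (base m).pr x = 1) ∧
      (Shape.supp ((base m).pr)).card = 4 := fun m =>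
    Shape.four_entries (by rw [hgram, if_pos rfl])
      (fun χ => (Nat.cast_pos.2 (charDegree_pos χ) : (0 : ℤ) < (charDegree (χ : G → ℂ) : ℤ)))
      (base m).sum_pr_deg
  -- values on the section
  set s := Shape.supp c.pr with hs
  have hvalue : ∀ χ ∈ s, ∀ u : U, (χ : G → ℂ) (d.z * (u : G)) =
      (c.pr χ : ℂ) * c.lamF u + (c₁.pr χ : ℂ) * c₁.lamF u + (c₂.pr χ : ℂ) * c₂.lamF u := by
    intro χ hχ
    obtain ⟨A₀, A₁, A₂, hA⟩ := c.section_value_rot hM c₁ c₂ rfl rfl hrot χ (by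
      intro e
      refine Shape.mem_supp.1 hχ ?_
      have h := c.proj_eq χ
      rw [LinBase.proj, e, mul_zero] at h
      exact_mod_cast h.symm)
    have hproj : ∀ m : W →* ℂˣ, ((base m).pr χ : ℂ) = (Nat.card U : ℂ)⁻¹ *
        (A₀ * ∑ u : U, c.lamF (u : G) * conj ((base m).lamF (u : G)) +
          A₁ * ∑ u : U, c₁.lamF (u : G) * conj ((base m).lamF (u : G)) +
          A₂ * ∑ u : U, c₂.lamF (u : G) * conj ((base m).lamF (u : G))) := fun m => by
      rw [← (base m).proj_eq, LinBase.proj, Finset.mul_sum (a := A₀), Finset.mul_sum (a := A₁),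
        Finset.mul_sum (a := A₂), ← Finset.sum_add_distrib, ← Finset.sum_add_distrib]
      congr 1
      refine Finset.sum_congr rfl fun u _ => ?_
      rw [hA u u.2]
      ring
    have e0 := hproj l
    have e1 := hproj l₁
    have e2 := hproj l₂
    rw [hself l, horth l₁ l n01.symm, horth l₂ l n02.symm, mul_zero, mul_zero, add_zero, add_zero,
      mul_comm A₀, inv_mul_cancel_left₀ hU0] at e0
    rw [hself l₁, horth l l₁ n01, horth l₂ l₁ n12.symm, mul_zero, mul_zero, zero_add, add_zero,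
      mul_comm A₁, inv_mul_cancel_left₀ hU0] at e1
    rw [hself l₂, horth l l₂ n02, horth l₁ l₂ n12, mul_zero, mul_zero, zero_add, zero_add,
      mul_comm A₂, inv_mul_cancel_left₀ hU0] at e2
    intro u
    rw [hA u u.2, ← e0, ← e1, ← e2]
  have hzval : ∀ χ ∈ s, ∀ f ∈ F,
      (χ : G → ℂ) (d.z * f) = (c.pr χ : ℂ) + (c₁.pr χ : ℂ) + (c₂.pr χ : ℂ) := fun χ hχ f hf => by
    have e0 : ∀ m : W →* ℂˣ, (base m).lamF f = 1 := fun m => by
      rw [hbase m ⟨f, hFU hf⟩, hπF f hf, map_one]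
      rfl
    rw [hvalue χ hχ ⟨f, hFU hf⟩]
    simp only [hc, hc₁, hc₂, e0, mul_one]
  -- parities
  set H := Subgroup.centralizer ({d.z, d.y} : Set G) with hH
  have hWH : W ≤ H := fun w hw => Subgroup.mem_centralizer_iff.2 fun v hv => by
    rcases hv with rfl | rfl
    · exact (hUz w (hWU hw)).symm.eq
    · exact (hmemW.1 hw).2.symm.eq
  have hyH : d.y ∈ H := Subgroup.mem_centralizer_iff.2 fun v hv => by
    rcases hv with rfl | rfl
    · exact hzy.eq
    · rfl
  have hpar : ∀ χ ∈ s, (2 : ℤ) ∣ c₁.pr χ + c₂.pr χ ∧ (2 : ℤ) ∣ c.pr χ + c₂.pr χ := by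
    intro χ hχ
    have hzw : ∀ w : W, (χ : G → ℂ) (d.z * (w : G)) =
        (c.pr χ : ℂ) * (l w : ℂ) + (c₁.pr χ : ℂ) * (l₁ w : ℂ) + (c₂.pr χ : ℂ) * (l₂ w : ℂ) := fun w => by
      rw [hvalue χ hχ ⟨w, hWU w.2⟩]
      simp only [hc, hc₁, hc₂, hbaseW]
    have hyw : ∀ w : W, (χ : G → ℂ) (d.y * (w : G)) =
        (c₁.pr χ : ℂ) * (l w : ℂ) + (c₂.pr χ : ℂ) * (l₁ w : ℂ) + (c.pr χ : ℂ) * (l₂ w : ℂ) := fun w => by
      rw [show d.y * (w : G) = k * (d.z * (φi w : G)) * k⁻¹ by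
        show d.y * (w : G) = k * (d.z * (k⁻¹ * (w : G) * k)) * k⁻¹
        rw [← hkz]; group, irr_conj_invariant, hzw (φi w)]
      have a0 : l (φi w) = l₂ w := by
        show _ = l (φ (φ w))
        conv_lhs => rw [← hcube l (φi w), hφi]
      have a1 : l₁ (φi w) = l w := by show l (φ (φi w)) = _; rw [hφi]
      have a2 : l₂ (φi w) = l₁ w := by show l (φ (φ (φi w))) = l (φ w); rw [hφi]
      rw [a0, a1, a2]
      ring
    have hzyw : ∀ w : W, (χ : G → ℂ) (d.z * (d.y * (w : G))) =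
        (c₂.pr χ : ℂ) * (l w : ℂ) + (c.pr χ : ℂ) * (l₁ w : ℂ) + (c₁.pr χ : ℂ) * (l₂ w : ℂ) := fun w => by
      rw [show d.z * (d.y * (w : G)) = k⁻¹ * (d.z * (φ w : G)) * k⁻¹⁻¹ by
        show _ = k⁻¹ * (d.z * (k * (w : G) * k⁻¹)) * k⁻¹⁻¹
        rw [← mul_assoc d.z, ← hkiz]; group, irr_conj_invariant, hzw (φ w)]
      have a2 : l₂ (φ w) = l w := hcube l w
      rw [a2]
      show (c.pr χ : ℂ) * (l₁ w : ℂ) + (c₁.pr χ : ℂ) * (l₂ w : ℂ) + _ = _
      ring
    set Pj : (W → ℂ) → ℂ := fun g => (Nat.card W : ℂ)⁻¹ * ∑ w : W, g w * conj ((l w : ℂ)) with hPj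
    have hcomb : ∀ a b e : ℂ, Pj (fun w => a * (l w : ℂ) + b * (l₁ w : ℂ) + e * (l₂ w : ℂ)) = a := by
      intro a b e
      simp only [hPj, add_mul, mul_assoc, Finset.sum_add_distrib, ← Finset.mul_sum, hom_self,
        hom_orth n01.symm, hom_orth n02.symm, mul_zero, add_zero]
      rw [mul_left_comm, inv_mul_cancel₀ (Nat.cast_ne_zero.2 Nat.card_pos.ne'), mul_one]
    set R : ℂ := Pj (fun w => (χ : G → ℂ) (w : G)) with hR
    have hmult : ∀ e₁ e₂ : ℤ, (e₁ = 1 ∨ e₁ = -1) → (e₂ = 1 ∨ e₂ = -1) → ∃ n : ℕ,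
        R + e₁ * (c.pr χ : ℂ) + e₂ * ((c₁.pr χ : ℂ) + e₁ * (c₂.pr χ : ℂ)) = 4 * n := by
      intro e₁ e₂ he₁ he₂
      have hβ := exists_eigenChar (H := H) (irr_isCharacter χ) d.zz
        (fun g => ((Subgroup.mem_centralizer_iff.1 g.2 d.z (by simp)).symm : Commute (g : G) d.z))
        he₁
      have hγ := exists_eigenChar (H := W.subgroupOf H) hβ (z := (⟨d.y, hyH⟩ : H)) (Subtype.ext d.yy)
        (fun g => Subtype.ext (hmemW.1 (Subgroup.mem_subgroupOf.1 g.2)).2.eq) he₂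
      let ι := (Subgroup.subgroupOfEquivOfLe hWH).symm
      obtain ⟨n, hn⟩ := IsCharacter.exists_classInner_nat hγ
        (IsIrrCharacter.isCharacter (isIrrCharacter_linear
          (l.comp (Subgroup.subgroupOfEquivOfLe hWH).toMonoidHom)))
      refine ⟨n, ?_⟩
      rw [classInner, ← Nat.card_congr ι.toEquiv] at hn
      rw [← hn, show (c.pr χ : ℂ) = Pj (fun w => (χ : G → ℂ) (d.z * (w : G))) by
          simp only [hzw, hcomb],
        show (c₁.pr χ : ℂ) = Pj (fun w => (χ : G → ℂ) (d.y * (w : G))) by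
          simp only [hyw, hcomb],
        show (c₂.pr χ : ℂ) = Pj (fun w => (χ : G → ℂ) (d.z * (d.y * (w : G)))) by
          simp only [hzyw, hcomb]]
      simp only [hR, hPj]
      rw [← Fintype.sum_equiv ι.toEquiv (fun w : W => _) _ fun w => rfl]
      simp only [Finset.mul_sum, ← Finset.sum_add_distrib]
      refine Finset.sum_congr rfl fun w _ => ?_
      show _ = 4 * ((Nat.card W : ℂ)⁻¹ *
        ((((χ : G → ℂ) (w : G) + e₁ * (χ : G → ℂ) (d.z * (w : G))) / 2 +
          e₂ * (((χ : G → ℂ) (d.y * (w : G)) + e₁ * (χ : G → ℂ) (d.z * (d.y * (w : G)))) / 2)) / 2 *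
            conj ((l (((Subgroup.subgroupOfEquivOfLe hWH).symm.trans
              (Subgroup.subgroupOfEquivOfLe hWH)) w) : ℂ))))
      rw [MulEquiv.symm_trans_self]
      simp only [MulEquiv.refl_apply]
      ring
    obtain ⟨n₁, h11⟩ := hmult 1 1 (Or.inl rfl) (Or.inl rfl)
    obtain ⟨n₂, h12⟩ := hmult 1 (-1) (Or.inl rfl) (Or.inr rfl)
    obtain ⟨n₃, h21⟩ := hmult (-1) 1 (Or.inr rfl) (Or.inl rfl)
    push_cast at h11 h12 h21
    have q1 : (((c₁.pr χ + c₂.pr χ : ℤ)) : ℂ) = (((2 * ((n₁ : ℤ) - n₂) : ℤ)) : ℂ) := by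
      push_cast; linear_combination (h11 - h12) / 2
    have q2 : (((c.pr χ + c₂.pr χ : ℤ)) : ℂ) = (((2 * ((n₁ : ℤ) - n₃) : ℤ)) : ℂ) := by
      push_cast; linear_combination (h11 - h21) / 2
    exact ⟨⟨_, Int.cast_inj.1 q1⟩, ⟨_, Int.cast_inj.1 q2⟩⟩
  -- one support
  obtain ⟨hsq, hscard⟩ : (∀ x ∈ s, c.pr x * c.pr x = 1) ∧ s.card = 4 := hfour l
  have hsub : ∀ m : W →* ℂˣ, (∀ χ ∈ s, (base m).pr χ ≠ 0) → Shape.supp ((base m).pr) = s :=
    fun m hne => (Finset.eq_of_subset_of_card_le (fun χ hχ => Shape.mem_supp.2 (hne χ hχ))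
      (by rw [hscard, (hfour m).2])).symm
  have hnz : ∀ χ ∈ s, c₁.pr χ ≠ 0 ∧ c₂.pr χ ≠ 0 := fun χ hχ => by
    have h1' := hsq χ hχ
    obtain ⟨h2', h3'⟩ := hpar χ hχ
    rcases Int.eq_one_or_neg_one_of_mul_eq_one h1' with e | e <;> omega
  have hs₁ : Shape.supp c₁.pr = s := hsub l₁ fun χ hχ => (hnz χ hχ).1
  have hs₂ : Shape.supp c₂.pr = s := hsub l₂ fun χ hχ => (hnz χ hχ).2
  have hsq₁ : ∀ x ∈ s, c₁.pr x * c₁.pr x = 1 := fun x hx => (hfour l₁).1 x (hs₁.symm ▸ hx)
  have hsq₂ : ∀ x ∈ s, c₂.pr x * c₂.pr x = 1 := fun x hx => (hfour l₂).1 x (hs₂.symm ▸ hx)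
  have hres : ∀ g : IrrCharacter G → ℤ, (∀ x, x ∉ s → g x = 0) → ∑ x ∈ s, g x = ∑ x, g x :=
    fun g hg => Finset.sum_subset (Finset.subset_univ _) fun x _ hx => hg x hx
  have hout : ∀ (m : W →* ℂˣ), Shape.supp ((base m).pr) = s → ∀ x, x ∉ s → (base m).pr x = 0 :=
    fun m hm' x hx => by_contra fun h0 => hx (hm' ▸ Shape.mem_supp.2 h0)
  have o₀ := hout l rfl
  have o₁ := hout l₁ hs₁
  have o₂ := hout l₂ hs₂
  set D : IrrCharacter G → ℤ := fun χ => (charDegree (χ : G → ℂ) : ℤ) with hD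
  obtain ⟨N, e, hN0, he, hN, hsum8⟩ := KleinSigns.signs_key (a := c.pr) (b := c₁.pr) (c := c₂.pr)
    (d := D) hscard hsq hsq₁ hsq₂
    (by rw [hres _ fun x hx => by rw [o₀ x hx, zero_mul]]; exact (hgram l l₁).trans (if_neg n01))
    (by rw [hres _ fun x hx => by rw [o₀ x hx, zero_mul]]; exact (hgram l l₂).trans (if_neg n02))
    (by rw [hres _ fun x hx => by rw [o₁ x hx, zero_mul]]; exact (hgram l₁ l₂).trans (if_neg n12))
    (by rw [hres _ fun x hx => by rw [o₀ x hx, zero_mul]]; exact c.sum_pr_deg)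
    (by rw [hres _ fun x hx => by rw [o₁ x hx, zero_mul]]; exact c₁.sum_pr_deg)
    (by rw [hres _ fun x hx => by rw [o₂ x hx, zero_mul]]; exact c₂.sum_pr_deg)
    (fun x _ => by simp only [hD]; exact_mod_cast charDegree_pos x)
  -- the principal block
  set t := c₀.toLinBase with ht
  have htriv : ∀ u ∈ U, t.lamF u = 1 := fun u hu => by
    rw [t.lamF_mem (hle' hu)]
    show ((1 : ℂˣ) : ℂ) = 1
    rfl
  have hbase1 : ∀ u ∈ U, t.lamF u = (base 1).lamF u := fun u hu => by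
    rw [htriv u hu, hbase 1 ⟨u, hu⟩]; simp
  have hpr1 : ∀ χ, (base 1).pr χ = t.pr χ := fun χ => by
    have h : (((base 1).pr χ : ℤ) : ℂ) = ((t.pr χ : ℤ) : ℂ) := by
      rw [← (base 1).proj_eq, ← t.proj_eq, LinBase.proj, LinBase.proj]
      refine congrArg _ (Finset.sum_congr rfl fun u _ => ?_)
      rw [hbase1 u u.2]
    exact_mod_cast h
  set T := Shape.supp ((base 1).pr) with hT
  obtain ⟨hTsq, hTcard⟩ := hfour 1
  have hTz : ∀ χ ∈ T, (χ : G → ℂ) d.z = ((base 1).pr χ : ℂ) := by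
    intro χ hχ
    have hne : t.pr χ ≠ 0 := by rw [← hpr1]; exact Shape.mem_supp.1 hχ
    have hsec := c₀.section_value hM χ (fun e' => hne (by
      have h := t.proj_eq χ
      rw [LinBase.proj] at h
      change _ * (∑ u : U, (χ : G → ℂ) (d.z * (u : G)) * conj (t.lamF u)) = _ at h
      change ∑ u : U, (χ : G → ℂ) (d.z * (u : G)) * conj (t.lamF u) = 0 at e'
      rw [e', mul_zero] at h
      exact_mod_cast h.symm))
    rw [hpr1, ← t.proj_eq, LinBase.proj]
    change _ = (Nat.card U : ℂ)⁻¹ * ∑ u : U, (χ : G → ℂ) (d.z * (u : G)) * conj (t.lamF u)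
    rw [Finset.sum_congr rfl (g := fun _ => (χ : G → ℂ) d.z) fun u _ => by
      rw [hsec u u.2]
      change _ * t.lamF u * conj (t.lamF u) = _
      rw [htriv u u.2, map_one, mul_one, mul_one], Finset.sum_const, Finset.card_univ, nsmul_eq_mul,
      ← Nat.card_eq_fintype_card, inv_mul_cancel_left₀ hU0]
  have hX4 : ∀ χ ∈ T, (4 : ℤ) ∣ (base 1).pr χ * D χ - 1 := by
    intro χ hχ
    obtain ⟨n, hn⟩ := exists_sum_subgroup_eq (P : Subgroup G) χ
    have hx : d.x = d.z := by rw [DihBlock.z_eq d (h := 1) hm, pow_one]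
    have hzyo : orderOf (d.z * d.y) = 2 := by
      refine orderOf_eq_prime ?_ fun e' => d.ynot ?_
      · rw [pow_two, ← hx]
        have := d.form_sq 1
        rwa [zpow_one] at this
      · rw [mul_eq_one_iff_inv_eq] at e'
        exact e' ▸ inv_mem d.z_mem
    have hzo : orderOf d.z = 2 := orderOf_eq_prime (by rw [pow_two, d.zz]) d.z_ne
    rw [sum_sylow d, hm, Finset.sum_range_succ, Finset.sum_range_succ, Finset.sum_range_zero,
      Finset.sum_range_succ, Finset.sum_range_succ, Finset.sum_range_zero, d.card, hm] at hn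
    simp only [pow_zero, pow_one, zero_add, Nat.cast_zero, Nat.cast_one, zpow_zero, zpow_one,
      one_mul, hx] at hn
    rw [irr_isConj χ (h1 _ _ hzo (orderOf_eq_prime (by rw [pow_two]; exact d.yy) hy1)),
      irr_isConj χ (h1 _ _ hzo hzyo), hTz χ hχ, irr_one_eq_charDegree] at hn
    have h' : D χ + (base 1).pr χ + ((base 1).pr χ + (base 1).pr χ) = 4 * (n : ℤ) := by
      rw [hD]; exact_mod_cast hn
    exact ⟨(base 1).pr χ * n - 1, by
      linear_combination ((base 1).pr χ) * h' - 3 * hTsq χ hχ⟩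
  have hprin : (base 1).pr (principal G) = 1 ∧ c.pr (principal G) = 0 := by
    have key : ∀ m : W →* ℂˣ, (((base m).pr (principal G) : ℤ) : ℂ) =
        (Nat.card U : ℂ)⁻¹ * ∑ u : U, (base 1).lamF (u : G) * conj ((base m).lamF (u : G)) := fun m => by
      rw [← (base m).proj_eq, LinBase.proj]
      refine congrArg _ (Finset.sum_congr rfl fun u _ => ?_)
      rw [hbase 1 u, MonoidHom.one_apply, Units.val_one]
      rfl
    have k1 := key 1
    have k2 := key l
    rw [hself 1, inv_mul_cancel₀ hU0] at k1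
    rw [horth 1 l (Ne.symm hl1), mul_zero] at k2
    exact ⟨by exact_mod_cast k1, by rw [hc]; exact_mod_cast k2⟩
  have hPT : principal G ∈ T := Shape.mem_supp.2 (by rw [hprin.1]; exact one_ne_zero)
  have hPd : D (principal G) = 1 := by simp [hD, principal, charDegree]
  have hne1 : ∀ χ : IrrCharacter G, χ ≠ principal G → D χ ≠ 1 := fun χ hne e' =>
    hne (eq_principal_of_deg_one hnc (by simp only [hD] at e'; exact_mod_cast e'))
  obtain ⟨x, y, z, hxy, hxz, hyz, hT3⟩ := Finset.card_eq_three.1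
    (show (T.erase (principal G)).card = 3 by rw [Finset.card_erase_of_mem hPT, hTcard])
  have hTsum : ∀ {A : Type} [AddCommMonoid A] (g : IrrCharacter G → A),
      ∑ χ ∈ T, g χ = g (principal G) + (g x + (g y + g z)) := by
    intro A _ g
    rw [← Finset.add_sum_erase _ _ hPT, hT3, Finset.sum_insert (by simp [hxy, hxz]),
      Finset.sum_pair hyz]
  have hTin : ∀ χ, χ = x ∨ χ = y ∨ χ = z → χ ∈ T ∧ χ ≠ principal G := fun χ hχ => by
    have h' : χ ∈ T.erase (principal G) := by rw [hT3]; simpa using hχ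
    exact ⟨(Finset.mem_erase.1 h').2, (Finset.mem_erase.1 h').1⟩
  have hX1 : ∀ χ, χ = x ∨ χ = y ∨ χ = z → (base 1).pr χ * D χ ≠ 1 := fun χ hχ e' =>
    hne1 χ (hTin χ hχ).2 (Int.eq_one_of_mul_eq_one_left (by rw [hD]; positivity) e')
  have hTdeg : (base 1).pr x * D x + (base 1).pr y * D y + (base 1).pr z * D z = -1 := by
    have h : ∑ χ ∈ T, (base 1).pr χ * D χ = 0 := by
      rw [← (base 1).sum_pr_deg]
      exact Finset.sum_subset (Finset.subset_univ _) fun χ _ hχ => by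
        rw [show (base 1).pr χ = 0 from by_contra fun h0 => hχ (Shape.mem_supp.2 h0), zero_mul]
    rw [hTsum, hprin.1, hPd] at h
    linarith
  have hbound := KleinSigns.recip_three (hX4 x (hTin x (by simp)).1) (hX4 y (hTin y (by simp)).1)
    (hX4 z (hTin z (by simp)).1) (hX1 x (by simp)) (hX1 y (by simp)) (hX1 z (by simp)) hTdeg
  have hkey := c.sum_pr_sq (base 1) rfl fun u hu => by
    rw [hbase 1 ⟨u, hu⟩]; simp
  have hzero : ∀ (m : W →* ℂˣ) (S : Finset (IrrCharacter G)), Shape.supp ((base m).pr) = S →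
      ∑ χ : IrrCharacter G, ((base m).pr χ : ℂ) * ((χ : G → ℂ) d.z ^ 2 / (χ : G → ℂ) 1) =
      ∑ χ ∈ S, ((base m).pr χ : ℂ) * ((χ : G → ℂ) d.z ^ 2 / (χ : G → ℂ) 1) := fun m S hS => by
    refine (Finset.sum_subset (Finset.subset_univ _) fun χ _ hχ => ?_).symm
    rw [show (base m).pr χ = 0 from by_contra fun h0 => hχ (hS ▸ Shape.mem_supp.2 h0),
      Int.cast_zero, zero_mul]
  rw [hc, hzero l s rfl, hzero 1 T rfl,
    Finset.sum_congr rfl (g := fun χ => (((c.pr χ * (c.pr χ + c₁.pr χ + c₂.pr χ) ^ 2 : ℤ)) : ℂ) / (N : ℂ))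
      fun χ hχ => by
        rw [← mul_one d.z, hzval χ hχ 1 (one_mem F), irr_one_eq_charDegree,
          show ((charDegree (χ : G → ℂ) : ℂ)) = (N : ℂ) by exact_mod_cast hN χ hχ, hc]
        push_cast
        ring,
    ← Finset.sum_div, ← Int.cast_sum, hsum8,
    Finset.sum_congr rfl (g := fun χ => ((((1 : ℚ) / (((base 1).pr χ * D χ : ℤ) : ℚ)) : ℚ) : ℂ))
      fun χ hχ => by
        have hp : ((base 1).pr χ : ℂ) * ((base 1).pr χ : ℂ) = 1 := by exact_mod_cast hTsq χ hχ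
        have hp0 : ((base 1).pr χ : ℂ) ≠ 0 := left_ne_zero_of_mul_eq_one hp
        have hd0 : (charDegree (χ : G → ℂ) : ℂ) ≠ 0 := Nat.cast_ne_zero.2 (charDegree_pos χ).ne'
        rw [hTz χ hχ, irr_one_eq_charDegree]
        simp only [hD]
        push_cast
        field_simp
        linear_combination (((base 1).pr χ : ℂ) * (base 1).pr χ + 1) * hp,
    hTsum] at hkey
  rw [hprin.1, hPd] at hkey
  have hN16 : N ≤ 16 := by
    have h8 : (((8 * e : ℤ) : ℚ) / (N : ℚ)) = 1 + 1 / (((base 1).pr x * D x : ℤ) : ℚ) +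
        1 / (((base 1).pr y * D y : ℤ) : ℚ) + 1 / (((base 1).pr z * D z : ℤ) : ℚ) := by
      refine Rat.cast_injective (α := ℂ) ?_
      push_cast at hkey ⊢
      rw [hkey]
      ring
    have hNq : (0 : ℚ) < N := by exact_mod_cast hN0
    have h9 : (1 : ℚ) / 2 * N ≤ ((8 * e : ℤ) : ℚ) := by
      rw [← le_div_iff₀ hNq, h8]; exact hbound
    rcases he with rfl | rfl
    · have : (N : ℚ) ≤ 16 := by push_cast at h9; linarith
      exact_mod_cast this
    · push_cast at h9; linarith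
  -- the kill
  obtain ⟨χ, hχ⟩ : s.Nonempty := Finset.card_pos.1 (by omega)
  have hχP : χ ≠ principal G := fun e' => Shape.mem_supp.1 hχ (by rw [e']; exact hprin.2)
  have hdeg20 : charDegree (χ : G → ℂ) < 20 := by
    have := hN χ hχ
    rw [hD] at this
    simp only at this
    omega
  obtain ⟨f, hf, w, hw, hwy, hwf⟩ := hmove
  refine hwf ?_
  have hk1 := orbit_kill χ d.zz hFab hFodd hWodd hWFn hinv (fun f hf => hUz f (hFU hf))
    (fun f hf => by rw [hzval χ hχ f hf, ← hzval χ hχ 1 (one_mem F), mul_one]) hdeg20 hthree f hf w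
    (hmemW.2 ⟨hw, hwy⟩)
  have h := faithful_of_simple (fun e' => hne1 χ hχP (by simp only [hD]; exact_mod_cast e')) hk1
  exact mul_inv_eq_iff_eq_mul.1 (mul_inv_eq_one.1 h)

end Cfsg.Agent.GW
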