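import Cfsg.Agent.Lib.GW.MixedFree
import Cfsg.Agent.Lib.GW.FreeRot
import Cfsg.Agent.Lib.GW.KleinMixed
import Cfsg.Agent.Lib.DGroup.RankOne
import Mathlib.GroupTheory.FiniteAbelian.Duality
import Mathlib.RingTheory.RootsOfUnity.AlgebraicallyClosed
import Mathlib.Analysis.Complex.Polynomial.Basic

/-!
The end of the case in which `C` is maximal: without mixed reflections and without the exotic configuration
the subgroups `W` are trivial, and then the group is a target.
-/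

set_option autoImplicit false
set_option linter.unusedSectionVars false
set_option linter.style.haveILetI false

namespace Cfsg.Agent.GW

open Cfsg.Agent.TwoFus Cfsg.Agent.BenderUnique

universe u

namespace Core

variable {G : Type u} [Group G] [Finite G] {c : Core G} {a : G}

/-- A `q`-subgroup normalised by `M` lies in `O_q(M)`. -/
theorem le_coreIn' {q : ℕ} {M Y : Subgroup G} (hp : IsPGroup q Y) (hY : Y ≤ M)
    (hn : M ≤ Subgroup.normalizer (Y : Set G)) : Y ≤ coreIn q M := by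
  haveI : (Y.subgroupOf M).Normal := ⟨fun y hy m => by
    rw [Subgroup.mem_subgroupOf] at hy ⊢
    exact (Subgroup.mem_normalizer_iff.1 (hn m.2) _).1 hy⟩
  exact fun y hy => ⟨⟨y, hY hy⟩, FittingCores.le_pCore inferInstance
    (hp.of_equiv (Subgroup.subgroupOfEquivOfLe hY).symm) hy, rfl⟩

/-- An element normalising `M` normalises `O_q(M)`. -/
theorem coreIn_conj {q : ℕ} [Fact q.Prime] {M : Subgroup G} {g : G}
    (hg : g ∈ Subgroup.normalizer (M : Set G)) {y : G} (hy : y ∈ coreIn q M) :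
    g * y * g⁻¹ ∈ coreIn q M := by
  have hle : (coreIn q M).map (MulAut.conj g).toMonoidHom ≤ coreIn q M := by
    refine le_coreIn' ((coreIn_pGroup q M).map _) ?_ fun m hm => ?_
    · rintro _ ⟨t, ht, rfl⟩
      exact (Subgroup.mem_normalizer_iff.1 hg t).1 (Subgroup.map_subtype_le _ ht)
    · refine Subgroup.mem_normalizer_fintype ?_
      rintro _ ⟨t, ht, rfl⟩
      have hm' : g⁻¹ * m * g ∈ M := by
        have := (Subgroup.mem_normalizer_iff.1 (inv_mem hg) m).1 hm
        rwa [inv_inv] at this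
      refine ⟨_, (Subgroup.mem_normalizer_iff.1 (normalizes_coreIn q M hm') t).1 ht, ?_⟩
      simp [mul_assoc]
  exact hle ⟨y, hy, rfl⟩

/-- The elements of the Fitting subgroup fixed by a reflection. -/
theorem fitW_le_of (c : Core G) {X : Subgroup G}
    (h : ∀ q : ℕ, q.Prime → q ≠ 2 → c.Qc q ⊓ c.W a ≠ ⊥ → c.Qc q ⊓ c.W a ≤ X) :
    c.fit ⊓ c.W a ≤ X := by
  classical
  suffices hd : Nat.card (c.fit ⊓ c.W a : Subgroup G) ∣
      Nat.card ((c.fit ⊓ c.W a) ⊓ X : Subgroup G) by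
    exact (Subgroup.eq_of_le_of_card_ge inf_le_left (Nat.le_of_dvd Nat.card_pos hd)).ge.trans
      inf_le_right
  refine (Nat.dvd_iff_prime_pow_dvd_dvd _ _).2 fun p k hp hpk => ?_
  haveI := Fact.mk hp
  obtain ⟨K, hK⟩ := Sylow.exists_subgroup_card_pow_prime p hpk
  have hKp : IsPGroup p (K.map (c.fit ⊓ c.W a).subtype) := (IsPGroup.of_card hK).map _
  have hcard : Nat.card (K.map (c.fit ⊓ c.W a).subtype) = p ^ k := by
    rw [Subgroup.card_map_of_injective (c.fit ⊓ c.W a).subtype_injective, hK]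
  have hle : K.map (c.fit ⊓ c.W a).subtype ≤ c.fit ⊓ c.W a := Subgroup.map_subtype_le _
  rcases k with _ | k
  · simp
  have hp2 : p ≠ 2 := by
    rintro rfl
    have h2 : 2 ∣ Nat.card c.U := ((dvd_pow_self 2 (Nat.succ_ne_zero k)).trans hpk).trans
      (Subgroup.card_dvd_of_le (inf_le_left.trans c.fit_le))
    exact Nat.not_even_iff_odd.2 c.U_odd (even_iff_two_dvd.2 h2)
  rw [← hcard]
  have hKQ : K.map (c.fit ⊓ c.W a).subtype ≤ c.Qc p ⊓ c.W a :=
    le_inf (c.fit_sub hKp (hle.trans inf_le_left)) (hle.trans inf_le_right)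
  refine Subgroup.card_dvd_of_le (le_inf hle (hKQ.trans (h p hp hp2 fun e => ?_)))
  rw [e, le_bot_iff] at hKQ
  rw [hKQ, Subgroup.card_bot] at hcard
  exact (Nat.one_lt_pow (Nat.succ_ne_zero k) hp.one_lt).ne hcard

theorem fitW_conj (hN : c.NoMixed) (ha : c.Refl a) {g : G} (hg : g ∈ c.C) {f : G}
    (hf : f ∈ c.fit ⊓ c.W a) : g * f * g⁻¹ ∈ c.fit ⊓ c.W a := by
  refine ⟨c.fit_conj hg hf.1, ?_⟩
  have hle : c.fit ⊓ c.W a ≤ (c.W a).comap (MulAut.conj g).toMonoidHom :=
    c.fitW_le_of fun q hq hq2 hb y hy => hN q hq hq2 a ha hb (c.Qc_conj q hg hy.1)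
  exact hle hf

theorem C_le_normalizer_fitW (hN : c.NoMixed) (ha : c.Refl a) :
    c.C ≤ Subgroup.normalizer ((c.fit ⊓ c.W a : Subgroup G) : Set G) :=
  fun _ hg => Subgroup.mem_normalizer_fintype
    (S := ((c.fit ⊓ c.W a : Subgroup G) : Set G)) fun _ hf => fitW_conj hN ha hg hf

theorem Refl.fixed_W (ha : c.Refl a) {v : G} (hv : v ∈ c.U)
    (hvP : v ∈ Subgroup.centralizer ((c.P : Subgroup G) : Set G)) : v ∈ c.W a :=
  ha.mem_W.2 ⟨hv, (Subgroup.mem_centralizer_iff.1 hvP a ha.1).symm⟩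

/-- `P` normalises `W`. -/
theorem Refl.P_conj_W (hN : c.NoMixed) (ha : c.Refl a) {p w : G} (hp : p ∈ (c.P : Subgroup G))
    (hw : w ∈ c.W a) : p * w * p⁻¹ ∈ c.W a := by
  obtain ⟨f, hf, hv⟩ := exists_fixed hN (ha.mem_W.1 hw).1
  have hvU : w * f ∈ c.U := mul_mem (ha.mem_W.1 hw).1 (c.fit_le hf)
  have hvW := ha.fixed_W hvU hv
  have hfW : f ∈ c.W a := by
    have := mul_mem (inv_mem hw) hvW
    rwa [inv_mul_cancel_left] at this
  have e : p * w * p⁻¹ = w * f * (p * f⁻¹ * p⁻¹) := by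
    calc p * w * p⁻¹ = p * (w * f) * p⁻¹ * (p * f⁻¹ * p⁻¹) := by group
      _ = w * f * (p * f⁻¹ * p⁻¹) := by
        rw [Subgroup.mem_centralizer_iff.1 hv p hp, mul_inv_cancel_right]
  rw [e]
  exact mul_mem hvW (fitW_conj hN ha (c.P_le hp) (inv_mem (⟨hf, hfW⟩ : f ∈ c.fit ⊓ c.W a))).2

/-- Outside the four-group case no nontrivial `O_s(C)` is centralised by a reflection. -/
theorem Refl.no_plus (hC : IsCoatom c.C) (hN : c.NoMixed) (hE : ∀ b, ¬ c.Exotic b) (hm : c.d.m ≠ 2)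
    (ha : c.Refl a) {s : ℕ} (hs : s.Prime) (hs2 : s ≠ 2) (hne : c.Qc s ≠ ⊥)
    (hle : c.Qc s ≤ c.W a) : False := by
  classical
  haveI := Fact.mk hs
  set T := coreIn s (c.W a) with hT
  have hTW : T ≤ c.W a := Subgroup.map_subtype_le _
  have hQT : c.Qc s ≤ T := le_coreIn' (coreIn_pGroup s c.C) hle
    ((ha.W_le.trans c.U_le).trans (normalizes_coreIn s c.C))
  have hTp : IsPGroup s T := coreIn_pGroup s (c.W a)
  have hN1 : Subgroup.normalizer (c.Qc s : Set G) = c.C :=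
    normalizer_eq_C hC (c.Qc_le_C s) hne (normalizes_coreIn s c.C)
  have hcT : Subgroup.centralizer (T : Set G) ≤ c.C :=
    hN1 ▸ (Subgroup.centralizer_le hQT).trans (Subgroup.centralizer_le_normalizer _)
  obtain ⟨g, g1, -, g3⟩ := ha.exists_rot
  have hgW : g ∈ Subgroup.normalizer (c.W a : Set G) :=
    Subgroup.mem_normalizer_fintype (S := (c.W a : Set G)) fun w hw => ha.rot_W g1 g3 hw
  have key : ∀ p ∈ (c.P : Subgroup G), (∀ y ∈ c.Qc s, p * y * p⁻¹ = y) → p * a = a * p := by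
    intro p hp hpQ
    have hpW : p ∈ Subgroup.normalizer (c.W a : Set G) :=
      Subgroup.mem_normalizer_fintype (S := (c.W a : Set G)) fun w hw => ha.P_conj_W hN hp hw
    have hpT : p ∈ Subgroup.centralizer (T : Set G) := by
      refine Subgroup.mem_centralizer_iff.2 fun t ht => ?_
      set e := t⁻¹ * (p * t * p⁻¹) with he
      have heT : e ∈ T := mul_mem (inv_mem ht) (coreIn_conj hpW ht)
      have heF : e ∈ c.fit := Core.quot_comm hN hp (ha.mem_W.1 (hTW ht)).1
      have heQ : e ∈ c.Qc s :=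
        c.fit_sub (hTp.to_le (inf_le_left : T ⊓ c.fit ≤ T)) inf_le_right ⟨heT, heF⟩
      have hpt : p * t * p⁻¹ = t * e := by rw [he, mul_inv_cancel_left]
      have hn : ∀ n : ℕ, p ^ n * t * (p ^ n)⁻¹ = t * e ^ n := by
        intro n
        induction n with
        | zero => simp
        | succ n ih =>
          calc p ^ (n + 1) * t * (p ^ (n + 1))⁻¹ = p * (p ^ n * t * (p ^ n)⁻¹) * p⁻¹ := by
                rw [pow_succ']; group
            _ = p * (t * e ^ n) * p⁻¹ := by rw [ih]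
            _ = p * t * p⁻¹ * (p * e * p⁻¹) ^ n := by rw [conj_pow]; group
            _ = t * e ^ (n + 1) := by rw [hpt, hpQ e heQ, pow_succ', mul_assoc]
      obtain ⟨k, hk⟩ := c.P.isPGroup' ⟨p, hp⟩
      have hk' : p ^ (2 ^ k) = 1 := congrArg Subtype.val hk
      have h1 := hn (2 ^ k)
      rw [hk', one_mul, inv_one, mul_one] at h1
      have h2 : e ^ (2 ^ k) = 1 := mul_left_cancel (h1.symm.trans (mul_one t).symm)
      have ho : Odd (orderOf e) := c.odd_of_mem_U (c.fit_le heF)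
      have he1 : e = 1 := orderOf_eq_one_iff.1 (Nat.eq_one_of_dvd_coprimes
        (Nat.Coprime.pow_right k (Nat.coprime_two_right.2 ho)) dvd_rfl (orderOf_dvd_of_pow_eq_one h2))
      rw [he1, mul_one] at hpt
      exact (mul_inv_eq_iff_eq_mul.1 hpt).symm
    have hgp : g * p * g⁻¹ ∈ Subgroup.centralizer (T : Set G) := by
      refine Subgroup.mem_centralizer_iff.2 fun t ht => ?_
      have ht' : g⁻¹ * t * g ∈ T := by
        have := coreIn_conj (inv_mem hgW) ht
        rwa [inv_inv] at this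
      have h1 := Subgroup.mem_centralizer_iff.1 hpT _ ht'
      calc t * (g * p * g⁻¹) = g * (g⁻¹ * t * g * p) * g⁻¹ := by group
        _ = g * (p * (g⁻¹ * t * g)) * g⁻¹ := by rw [h1]
        _ = g * p * g⁻¹ * t := by group
    have h2 : Commute (g * p * g⁻¹) (g * (c.d.z * a) * g⁻¹) := by
      rw [g3]; exact c.mem_C.1 (hcT hgp)
    have h3 : Commute p (c.d.z * a) := (Commute.conj_iff g).1 h2
    have h4 : Commute p c.d.z := c.d.z_comm hp
    have := h4.mul_right h3
    rwa [← mul_assoc, c.d.zz, one_mul] at this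
  have hb : c.Refl (c.d.x * a) := c.x_mul_refl ha
  have hxy : ∀ y ∈ c.Qc s, c.d.x * y * c.d.x⁻¹ = c.d.x * a * y * (c.d.x * a)⁻¹ := fun y hy => by
    have := (ha.mem_W.1 (hle hy)).2
    rw [mul_inv_rev]
    calc c.d.x * y * c.d.x⁻¹ = c.d.x * (y * a) * (a⁻¹ * c.d.x⁻¹) := by group
      _ = c.d.x * a * y * (a⁻¹ * c.d.x⁻¹) := by rw [this]; group
  by_cases hbot : c.Qc s ⊓ c.W (c.d.x * a) = ⊥
  · have hinv : ∀ y ∈ c.Qc s, c.d.x * y * c.d.x⁻¹ = y⁻¹ := fun y hy => by
      rw [hxy y hy]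
      exact hb.inverts (c.Qc_le_U hs2) (fun d hd => c.Qc_conj s hb.mem_C hd) hbot hy
    have hc2 := key (c.d.x * c.d.x) (mul_mem c.d.hx c.d.hx) fun y hy => by
      calc c.d.x * c.d.x * y * (c.d.x * c.d.x)⁻¹ = c.d.x * (c.d.x * y * c.d.x⁻¹) * c.d.x⁻¹ := by group
        _ = c.d.x * y⁻¹ * c.d.x⁻¹ := by rw [hinv y hy]
        _ = (c.d.x * y * c.d.x⁻¹)⁻¹ := by group
        _ = y := by rw [hinv y hy, inv_inv]
    have h4 : (c.d.x * c.d.x) * (c.d.x * c.d.x) = 1 := by
      have h1 : a * (c.d.x * c.d.x) * a⁻¹ = c.d.x * c.d.x := by rw [← hc2, mul_inv_cancel_right]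
      have h2 : a * (c.d.x * c.d.x) * a⁻¹ = (c.d.x * c.d.x)⁻¹ := by
        calc a * (c.d.x * c.d.x) * a⁻¹ = (a * c.d.x⁻¹ * a⁻¹ * (a * c.d.x⁻¹ * a⁻¹))⁻¹ := by
              simp [mul_assoc]
          _ = (c.d.x * c.d.x)⁻¹ := by rw [ha.conj_x]
      exact mul_eq_one_iff_eq_inv.2 (h1.symm.trans h2)
    have hdvd : c.d.m ∣ 4 := by
      rw [← c.d.hm]
      exact orderOf_dvd_of_pow_eq_one (by rw [show (4 : ℕ) = 2 + 2 from rfl, pow_add, pow_two, h4])
    have hm4 : c.d.m = 4 := by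
      have h1 := Nat.le_of_dvd (by norm_num) hdvd
      have h2 := c.d.two_le
      rcases eq_or_ne c.d.m 3 with h3 | h3
      · rw [h3] at hdvd; norm_num at hdvd
      · omega
    exact hE a ⟨ha, hm4, s, hs, hs2, hne, hle, hbot⟩
  · have hcx := key c.d.x c.d.hx fun y hy => by
      rw [hxy y hy, ← (hb.mem_W.1 (hN s hs hs2 _ hb hbot hy)).2, mul_inv_cancel_right]
    have := ha.x_conj
    rw [hcx, mul_inv_cancel_right, mul_inv_cancel] at this
    exact c.x_sq_ne hm this.symm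

/-- The four-group case. -/
theorem klein_W_eq_bot (hC : IsCoatom c.C) (hN : c.NoMixed) (hm : c.d.m = 2) : c.W c.d.y = ⊥ := by
  classical
  haveI := Fintype.ofFinite G
  haveI := c.simple
  have hy := c.refl_y
  set S : Set G :=
    {f | ∃ q : ℕ, q.Prime ∧ q ≠ 2 ∧ c.Qc q ⊓ c.W c.d.y = ⊥ ∧ f ∈ c.Qc q} with hS
  set F := Subgroup.closure S with hF
  have hFfit : F ≤ c.fit := (Subgroup.closure_le _).2 fun f ⟨q, hq, hq2, _, hf⟩ =>
    haveI := Fact.mk hq
    c.Qc_le_fit hq2 hf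
  have hFU : F ≤ c.U := hFfit.trans c.fit_le
  have hFC : ∀ g ∈ c.C, ∀ f ∈ F, g * f * g⁻¹ ∈ F := by
    intro g hg
    have hle : F ≤ F.comap (MulAut.conj g).toMonoidHom :=
      (Subgroup.closure_le _).2 fun f ⟨q, hq, hq2, hb, hf⟩ =>
        Subgroup.subset_closure ⟨q, hq, hq2, hb, c.Qc_conj q hg hf⟩
    exact fun f hf => hle hf
  have hSinv : ∀ f ∈ S, c.d.y * f * c.d.y⁻¹ = f⁻¹ := fun f ⟨q, hq, hq2, hb, hf⟩ =>
    haveI := Fact.mk hq
    hy.inverts (c.Qc_le_U hq2) (fun d hd => c.Qc_conj q hy.mem_C hd) hb hf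
  have hScomm : S ⊆ Subgroup.centralizer S := by
    rintro f ⟨q, hq, hq2, hb, hf⟩
    refine Subgroup.mem_centralizer_iff.2 ?_
    rintro f' ⟨q', hq', hq2', hb', hf'⟩
    haveI := Fact.mk hq
    haveI := Fact.mk hq'
    by_cases e : q' = q
    · subst e
      have h1 := hSinv _ ⟨q', hq', hq2', hb', mul_mem hf hf'⟩
      have h2 := hSinv f ⟨q', hq', hq2', hb', hf⟩
      have h3 := hSinv f' ⟨q', hq', hq2', hb', hf'⟩
      have h4 : c.d.y * (f * f') * c.d.y⁻¹ = f⁻¹ * f'⁻¹ := by rw [← conj_mul, h2, h3]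
      have h5 := h1.symm.trans h4
      rw [← mul_inv_rev] at h5
      exact (inv_injective h5).symm
    · exact (Subgroup.mem_centralizer_iff.1
        (Subgroup.commutator_eq_bot_iff_le_centralizer.1 (coreIn_commute e c.C) hf') f hf).symm
  have hFab : F ≤ Subgroup.centralizer (F : Set G) := by
    rw [hF, Subgroup.centralizer_closure]
    exact (Subgroup.closure_le _).2 hScomm
  have hinv : ∀ f ∈ F, c.d.y * f * c.d.y⁻¹ = f⁻¹ := by
    intro f hf
    induction hf using Subgroup.closure_induction with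
    | mem f hf => exact hSinv f hf
    | one => simp
    | mul f g hf hg ihf ihg =>
      rw [← conj_mul, ihf, ihg, ← mul_inv_rev, Subgroup.mem_centralizer_iff.1 (hFab hg) f hf]
    | inv f hf ih => rw [← conj_inv, ih]
  have hFn : c.W c.d.y ≤ Subgroup.normalizer (F : Set G) := fun w hw =>
    Subgroup.mem_normalizer_fintype (S := (F : Set G)) fun f hf =>
      hFC w (c.U_le (hy.mem_W.1 hw).1) f hf
  have hfitX : c.fit ≤ F ⊔ c.W c.d.y := c.fit_le_of fun q hq hq2 => by
    by_cases hb : c.Qc q ⊓ c.W c.d.y = ⊥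
    · exact fun f hf => Subgroup.mem_sup_left (Subgroup.subset_closure ⟨q, hq, hq2, hb, hf⟩)
    · exact (hN q hq hq2 _ hy hb).trans le_sup_right
  have hFW : ∀ u ∈ c.U, ∃ f ∈ F, ∃ w ∈ c.U, Commute w c.d.y ∧ u = f * w := by
    intro u hu
    obtain ⟨r, hr, -, hw⟩ := hy.fit_mul_W hN hu
    have hmem : u ∈ ((F ⊔ c.W c.d.y : Subgroup G) : Set G) := by
      have := mul_mem (hfitX hr) (Subgroup.mem_sup_right hw)
      rwa [mul_inv_cancel_left] at this
    rw [Subgroup.coe_mul_of_right_le_normalizer_left F _ hFn] at hmem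
    obtain ⟨f, hf, w, hw', e⟩ := hmem
    exact ⟨f, hf, w, (hy.mem_W.1 hw').1, (hy.mem_W.1 hw').2, e.symm⟩
  by_contra hW
  by_cases hmove : ∃ f ∈ F, ∃ w ∈ c.U, Commute w c.d.y ∧ ¬ Commute w f
  · refine klein_mixed_false c.d (fun h => c.noncomm ⟨⟨h⟩⟩) hm c.U F c.U_le c.U_conj c.U_odd ?_ hFU
      hFC (fun f hf f' hf' => (Subgroup.mem_centralizer_iff.1 (hFab hf) f' hf').symm) hFW hinv hmove
    rw [c.C_card, c.d.card]
  · push Not at hmove
    have hcomm : ∀ w ∈ c.W c.d.y, ∀ f ∈ F, w * f = f * w := fun w hw f hf =>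
      (hmove f hf w (hy.mem_W.1 hw).1 (hy.mem_W.1 hw).2).eq
    set Y := c.fit ⊓ c.W c.d.y with hY
    by_cases hY0 : Y = ⊥
    · refine hW ((Subgroup.eq_bot_iff_forall _).2 fun w hw => Subgroup.mem_bot.1 (hY0 ▸ ?_))
      refine ⟨c.mem_fit_of_comm (hy.mem_W.1 hw).1 fun q hq hq2 y hyq => ?_, hw⟩
      haveI := Fact.mk hq
      by_cases hb : c.Qc q ⊓ c.W c.d.y = ⊥
      · exact hcomm w hw y (Subgroup.subset_closure ⟨q, hq, hq2, hb, hyq⟩)
      · have hy1 : y ∈ Y := ⟨c.Qc_le_fit hq2 hyq, hN q hq hq2 _ hy hb hyq⟩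
        rw [hY0, Subgroup.mem_bot] at hy1
        rw [hy1, one_mul, mul_one]
    obtain ⟨g, g1, -, g3⟩ := hy.exists_rot
    have hgW : g ∈ Subgroup.normalizer (c.W c.d.y : Set G) :=
      Subgroup.mem_normalizer_fintype (S := (c.W c.d.y : Set G)) fun w hw => hy.rot_W g1 g3 hw
    have hYn := C_le_normalizer_fitW hN hy
    set Z := Y.map (MulAut.conj g).toMonoidHom with hZ
    have hZW : Z ≤ c.W c.d.y := by
      rintro _ ⟨y, hy', rfl⟩
      exact (Subgroup.mem_normalizer_iff.1 hgW y).1 hy'.2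
    have hUZ : c.U ≤ Subgroup.normalizer (Z : Set G) := by
      intro u hu
      obtain ⟨f, hf, w, hwU, hwy, rfl⟩ := hFW u hu
      refine mul_mem (Subgroup.mem_normalizer_fintype (S := (Z : Set G)) fun v hv => ?_)
        (Subgroup.mem_normalizer_fintype (S := (Z : Set G)) ?_)
      · rwa [← hcomm v (hZW hv) f hf, mul_inv_cancel_right]
      · rintro _ ⟨y, hy', rfl⟩
        have hw' : g⁻¹ * w * g ∈ c.W c.d.y := by
          have := (Subgroup.mem_normalizer_iff.1 (inv_mem hgW) w).1 (hy.mem_W.2 ⟨hwU, hwy⟩)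
          rwa [inv_inv] at this
        refine ⟨_, (Subgroup.mem_normalizer_iff.1 (hYn (c.U_le (hy.mem_W.1 hw').1)) y).1 hy', ?_⟩
        simp [mul_assoc]
    haveI hYnil : Group.IsNilpotent Y := by
      haveI := c.fit_nilpotent
      exact (Group.isNilpotent_congr (Subgroup.subgroupOfEquivOfLe
        (inf_le_left : Y ≤ c.fit))).1 inferInstance
    have hZY : Z ≤ Y :=
      le_inf (c.le_fit (hZW.trans hy.W_le) hUZ (Components.isNilpotent_map _ _)) hZW
    have hgY : g ∈ Subgroup.normalizer (Y : Set G) :=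
      Subgroup.mem_normalizer_fintype (S := (Y : Set G)) fun y hy' => hZY ⟨y, hy', rfl⟩
    rw [normalizer_eq_C hC (inf_le_left.trans (c.fit_le.trans c.U_le)) hY0 hYn] at hgY
    refine hy.ne_z ?_
    rw [← g1, c.mem_C.1 hgY, mul_inv_cancel_right]

theorem Refl.klein_eq (hm : c.d.m = 2) (ha : c.Refl a) : a = c.d.y ∨ a = c.d.z * c.d.y := by
  classical
  haveI := Fintype.ofFinite G
  rcases mem_four c.d hm ha.1 with e | e | e | e
  · exact absurd e ha.ne_one
  · exact absurd e ha.ne_z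
  · exact Or.inl e
  · exact Or.inr e

/-- The case of larger Sylow subgroups. -/
theorem Refl.W_eq_bot_of_ne_two (hC : IsCoatom c.C) (hN : c.NoMixed) (hE : ∀ b, ¬ c.Exotic b)
    (hm : c.d.m ≠ 2) (ha : c.Refl a) : c.W a = ⊥ := by
  classical
  haveI := Fintype.ofFinite G
  haveI := c.simple
  have hfW : ∀ b, c.Refl b → c.fit ⊓ c.W b = ⊥ := fun b hb =>
    le_bot_iff.1 (c.fitW_le_of fun q hq hq2 hne =>
      (hb.no_plus hC hN hE hm hq hq2 (fun e => hne (by rw [e, bot_inf_eq]))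
        (hN q hq hq2 b hb hne)).elim)
  have hWP : ∀ b, c.Refl b → ∀ w ∈ c.W b, w ∈ Subgroup.centralizer ((c.P : Subgroup G) : Set G) := by
    intro b hb w hw
    obtain ⟨f, hf, hv⟩ := exists_fixed hN (hb.mem_W.1 hw).1
    have hfb : f ∈ c.fit ⊓ c.W b := ⟨hf, by
      have := mul_mem (inv_mem hw) (hb.fixed_W (mul_mem (hb.mem_W.1 hw).1 (c.fit_le hf)) hv)
      rwa [inv_mul_cancel_left] at this⟩
    rw [hfW b hb, Subgroup.mem_bot] at hfb
    rwa [hfb, mul_one] at hv
  by_contra hW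
  -- a linear character trivial on the Fitting subgroup
  set N := c.fit.subgroupOf c.U with hNd
  haveI hNn : N.Normal := ⟨fun f hf u => c.fit_conj (c.U_le u.2) hf⟩
  haveI : Group.IsSolvable c.U := OddChar.oddSolvable _ c.U_odd
  have hNtop : N ≠ ⊤ := fun e => hW (le_bot_iff.1 ((le_inf
    (ha.W_le.trans (Subgroup.subgroupOf_eq_top.1 e)) le_rfl).trans (hfW a ha).le))
  haveI : Nontrivial (c.U ⧸ N) := QuotientGroup.nontrivial_iff.2 hNtop
  obtain ⟨q, hq⟩ : ∃ q : Abelianization (c.U ⧸ N), q ≠ 1 := by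
    by_contra hcon
    push Not at hcon
    refine (Group.IsSolvable.commutator_lt_top_of_nontrivial (c.U ⧸ N)).ne (top_le_iff.1 fun y _ => ?_)
    rw [← Abelianization.ker_of, MonoidHom.mem_ker]
    exact hcon _
  haveI : NeZero ((Monoid.exponent (Abelianization (c.U ⧸ N)) : ℕ) : ℂ) :=
    ⟨Nat.cast_ne_zero.2 Monoid.exponent_ne_zero_of_finite⟩
  obtain ⟨φ, hφ⟩ := CommGroup.exists_apply_ne_one_of_hasEnoughRootsOfUnity
    (Abelianization (c.U ⧸ N)) ℂ hq
  set μ₀ : c.U →* ℂˣ := (φ.comp Abelianization.of).comp (QuotientGroup.mk' N) with hμ₀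
  have hμ₀N : ∀ u : c.U, u ∈ N → μ₀ u = 1 := fun u hu => by
    rw [hμ₀, MonoidHom.comp_apply, QuotientGroup.mk'_apply, (QuotientGroup.eq_one_iff u).2 hu, map_one]
  have hμ₀1 : μ₀ ≠ 1 := by
    intro e
    obtain ⟨v, rfl⟩ := QuotientGroup.mk'_surjective (commutator (c.U ⧸ N)) q
    obtain ⟨u, rfl⟩ := QuotientGroup.mk'_surjective N v
    exact hφ (DFunLike.congr_fun e u)
  have hfin : μ₀ ^ Nat.card c.U = 1 := MonoidHom.ext fun u => by
    rw [MonoidHom.pow_apply, ← map_pow, pow_card_eq_one', map_one, MonoidHom.one_apply]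
  obtain ⟨l, hl, hdvd⟩ := Nat.exists_prime_and_dvd
    (fun e => hμ₀1 (orderOf_eq_one_iff.1 e) : orderOf μ₀ ≠ 1)
  haveI := Fact.mk hl
  have hpos : 0 < orderOf μ₀ :=
    (isOfFinOrder_iff_pow_eq_one.2 ⟨_, Nat.card_pos, hfin⟩).orderOf_pos
  obtain ⟨j, hj⟩ := hdvd
  set μ := μ₀ ^ j with hμd
  have hμo : orderOf μ = l := by
    have hj0 : 0 < j := Nat.pos_of_ne_zero fun e => by rw [e, mul_zero] at hj; omega
    rw [hμd, orderOf_pow_of_dvd hj0.ne' (hj ▸ dvd_mul_left j l), hj, Nat.mul_div_cancel _ hj0]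
  have hμl : ∀ u, μ u ^ l = 1 := fun u => by
    rw [← MonoidHom.pow_apply, ← hμo, pow_orderOf_eq_one, MonoidHom.one_apply]
  have hμN : ∀ u : c.U, u ∈ N → μ u = 1 := fun u hu => by
    rw [hμd, MonoidHom.pow_apply, hμ₀N u hu, one_pow]
  have hμ1 : μ = 1 := by
    refine linear_eq_one (fun h => c.noncomm ⟨⟨h⟩⟩) c.P c.d c.U c.U_le c.U_conj c.U_odd
      (by rw [c.C_card, c.d.card]) μ ?_ ?_
    · intro s hs w w' e
      have hm' : w⁻¹ * w' ∈ N := by
        show ((w⁻¹ * w' : c.U) : G) ∈ c.fit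
        rw [Subgroup.coe_mul, InvMemClass.coe_inv, e]
        exact Core.quot_comm hN hs w.2
      have := hμN _ hm'
      rw [map_mul, map_inv, inv_mul_eq_one] at this
      exact this.symm
    · intro v hv hvv hv1 hvz
      have hvr : c.Refl v := ⟨hv, fun h => (c.d.sq_cases h hvv).elim hv1 hvz⟩
      obtain ⟨R, g, hR, hRp, hRmax, hgR, g1, g2, g3⟩ := hvr.exists_sylow_rot l
      obtain ⟨k, hk, hkR⟩ : ∃ k : G, (k * c.d.z * k⁻¹ = v ∧
          (k * v * k⁻¹ = c.d.z ∨ k * v * k⁻¹ = c.d.z * v)) ∧ ∀ r ∈ R, k * r * k⁻¹ = r := by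
        by_cases hR0 : R = ⊥
        · refine ⟨g, ⟨g1, Or.inr g2⟩, fun r hr => ?_⟩
          rw [hR0, Subgroup.mem_bot] at hr
          rw [hr, mul_one, mul_inv_cancel]
        · obtain ⟨k, hkC, h1, h2⟩ := hvr.exists_mover hm hR0 (fun s hs =>
            Subgroup.mem_centralizer_iff.2 fun r hr =>
              (Subgroup.mem_centralizer_iff.1 (hWP v hvr r (hR hr)) s hs).symm) hgR g1 g2 g3
          exact ⟨k, ⟨h1, h2⟩, fun r hr => by
            rw [← Subgroup.mem_centralizer_iff.1 hkC r hr, mul_inv_cancel_right]⟩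
      obtain ⟨hkz, hkv⟩ := hk
      refine ⟨k, hkz, Subgroup.mem_normalizer_fintype fun y hy => ?_, ?_⟩
      · have hz' : c.d.z ∈ Subgroup.closure ({c.d.z, v} : Set G) := Subgroup.subset_closure (by simp)
        have hv' : v ∈ Subgroup.closure ({c.d.z, v} : Set G) := Subgroup.subset_closure (by simp)
        have hle : Subgroup.closure ({c.d.z, v} : Set G) ≤
            (Subgroup.closure ({c.d.z, v} : Set G)).comap (MulAut.conj k).toMonoidHom := by
          refine (Subgroup.closure_le _).2 ?_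
          intro w hw
          simp only [SetLike.mem_coe, Subgroup.mem_comap, MulEquiv.coe_toMonoidHom, MulAut.conj_apply]
          obtain e | e : w = c.d.z ∨ w = v := by simpa using hw
          · rw [e, hkz]; exact hv'
          · rw [e]
            rcases hkv with e | e <;> rw [e]
            · exact hz'
            · exact mul_mem hz' hv'
        exact hle hy
      -- conjugation by `k` on `W v`
      have hkW : ∀ w ∈ c.W v, k * w * k⁻¹ ∈ c.W v := by
        intro w hw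
        obtain ⟨hwz, hwv, -⟩ := hvr.W_comm hw
        have e : ∀ {p p' : G}, Commute w p → k * p * k⁻¹ = p' → Commute (k * w * k⁻¹) p' := by
          intro p p' hp hp'
          rw [← hp']; exact (Commute.conj_iff k).2 hp
        have h1 : Commute (k * w * k⁻¹) v := e hwz hkz
        have h2 : Commute (k * w * k⁻¹) c.d.z := by
          rcases hkv with e' | e'
          · exact e hwv e'
          · have := (e hwv e').mul_right h1
            rwa [mul_assoc c.d.z, hvr.sq, mul_one] at this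
        refine hvr.mem_W.2 ⟨c.mem_U_of_odd (c.mem_C.2 h2) ?_, h1⟩
        rw [← MulAut.conj_apply, MulEquiv.orderOf_eq]
        exact c.odd_of_mem_U (hvr.mem_W.1 hw).1
      set i : c.W v →* c.U := Subgroup.inclusion hvr.W_le
      let φk : c.W v →* c.W v := MonoidHom.mk' (fun w => ⟨k * (w : G) * k⁻¹, hkW w w.2⟩)
        fun x y => Subtype.ext (show k * ((x : G) * y) * k⁻¹ = k * x * k⁻¹ * (k * y * k⁻¹) by group)
      let ψ : c.W v →* ℂˣ := μ.comp (i.comp φk) / μ.comp i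
      have hψker : R.subgroupOf (c.W v) ≤ ψ.ker := by
        intro r hr
        have e : φk r = r := Subtype.ext (hkR (r : G) hr)
        rw [MonoidHom.mem_ker]
        simp [ψ, e]
      let SR : Sylow l (c.W v) :=
        { toSubgroup := R.subgroupOf (c.W v)
          isPGroup' := hRp.of_equiv (Subgroup.subgroupOfEquivOfLe hR).symm
          is_maximal' := by
            intro Q hQ hle
            have h1 := hRmax (Q.map (c.W v).subtype)
              (fun r hr => ⟨⟨r, hR hr⟩, hle hr, rfl⟩) (Subgroup.map_subtype_le _) (hQ.map _)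
            refine le_antisymm (fun x hx => ?_) hle
            show (x : G) ∈ R
            rw [← h1]
            exact ⟨x, hx, rfl⟩ }
      intro w w' hwv e
      set wW : c.W v := ⟨(w : G), hvr.mem_W.2 ⟨w.2, hwv⟩⟩
      have hψ : ψ wW = 1 := by
        by_contra hne
        have hl1 : ψ wW ^ l = 1 := by
          simp only [ψ, MonoidHom.div_apply, div_pow, MonoidHom.comp_apply, hμl, div_one]
        have ho : orderOf (⟨ψ wW, wW, rfl⟩ : ψ.range) = l := by
          rw [← Subgroup.orderOf_coe]; exact orderOf_eq_prime hl1 hne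
        refine SR.not_dvd_index ((ho ▸ orderOf_dvd_natCard _).trans ?_)
        rw [← Subgroup.index_ker]
        exact Subgroup.index_dvd_of_le hψker
      rw [MonoidHom.div_apply, div_eq_one] at hψ
      have ew : i wW = w := Subtype.ext rfl
      have ew' : i (φk wW) = w' := Subtype.ext e.symm
      simpa [ew, ew'] using hψ
  rw [hμ1, orderOf_one] at hμo
  exact hl.one_lt.ne hμo

/-- With `C` maximal and neither a mixed reflection nor the exotic configuration all `W` are trivial. -/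
theorem w_eq_bot (hC : IsCoatom c.C) (hN : c.NoMixed) (hE : ∀ a, ¬ c.Exotic a) :
    ∀ a, c.Refl a → c.W a = ⊥ := by
  intro a ha
  by_cases hm : c.d.m = 2
  · rcases ha.klein_eq hm with rfl | rfl
    · exact klein_W_eq_bot hC hN hm
    · rw [c.refl_y.W_eq]; exact klein_W_eq_bot hC hN hm
  · exact ha.W_eq_bot_of_ne_two hC hN hE hm

/-- When all `W` are trivial the centraliser is a D-group and `G` is a target. -/
theorem target_of_w_eq_bot (hW : ∀ a, c.Refl a → c.W a = ⊥) : IsTarget G := by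
  classical
  haveI := c.simple
  haveI := Fact.mk Nat.prime_two
  have hy := c.refl_y
  have hinv : ∀ a, c.Refl a → ∀ u ∈ c.U, a * u * a⁻¹ = u⁻¹ := fun a ha u hu =>
    ha.inverts le_rfl (fun d hd => c.U_conj a ha.mem_C d hd) (by rw [hW a ha, inf_bot_eq]) hu
  have hUab : ∀ u ∈ c.U, ∀ v ∈ c.U, u * v = v * u := by
    intro u hu v hv
    have h := hinv _ hy _ (mul_mem hu hv)
    rw [← conj_mul, hinv _ hy u hu, hinv _ hy v hv, ← mul_inv_rev] at h
    exact (inv_injective h).symm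
  have hxU : ∀ u ∈ c.U, c.d.x * u = u * c.d.x := by
    intro u hu
    have h := hinv _ (c.x_mul_refl hy) u hu
    refine mul_inv_eq_iff_eq_mul.1 (inv_injective ?_)
    calc (c.d.x * u * c.d.x⁻¹)⁻¹ = c.d.x * u⁻¹ * c.d.x⁻¹ := by group
      _ = c.d.x * (c.d.y * u * c.d.y⁻¹) * c.d.x⁻¹ := by rw [hinv _ hy u hu]
      _ = c.d.x * c.d.y * u * (c.d.x * c.d.y)⁻¹ := by group
      _ = u⁻¹ := h
  set A := c.U ⊔ Subgroup.zpowers c.d.x with hA
  have hzU : Subgroup.zpowers c.d.x ≤ Subgroup.centralizer (c.U : Set G) :=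
    Subgroup.zpowers_le.2 (Subgroup.mem_centralizer_iff.2 fun u hu => (hxU u hu).symm)
  have hmem : ∀ {g : G}, g ∈ A → ∃ u ∈ c.U, ∃ i : ℤ, g = u * c.d.x ^ i := by
    intro g hg
    have hg' : g ∈ ((A : Subgroup G) : Set G) := hg
    rw [hA, Subgroup.coe_mul_of_right_le_normalizer_left _ _
      (hzU.trans (Subgroup.centralizer_le_normalizer _))] at hg'
    obtain ⟨u, hu, _, ⟨i, rfl⟩, rfl⟩ := hg'
    exact ⟨u, hu, i, rfl⟩
  have hcomm : ∀ u ∈ c.U, ∀ i : ℤ, Commute u (c.d.x ^ i) := fun u hu i =>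
    (show Commute u c.d.x from (hxU u hu).symm).zpow_right i
  have hsplit : ∀ {u v s t : G}, u ∈ c.U → v ∈ c.U → s ∈ (c.P : Subgroup G) →
      t ∈ (c.P : Subgroup G) → u * s = v * t → u = v ∧ s = t := fun hu hv hs ht e =>
    c.mul_eq_mul_split hu hv hs ht e
  have hHyp : DGroup.Hyp2 A c.d.y := by
    refine ⟨?_, ?_, hy.sq, ?_, ?_, ?_⟩
    · intro g hg g' hg'
      obtain ⟨u, hu, i, rfl⟩ := hmem hg
      obtain ⟨v, hv, j, rfl⟩ := hmem hg'
      exact (Commute.mul_left ((show Commute u v from hUab u hu v hv).mul_right (hcomm u hu j))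
        ((hcomm v hv i).symm.mul_right (Commute.zpow_zpow_self c.d.x i j))).eq
    · rw [← c.z_order]
      exact Subgroup.orderOf_dvd_natCard _ (Subgroup.mem_sup_right c.d.z_mem)
    · intro h
      obtain ⟨u, hu, i, e⟩ := hmem h
      obtain ⟨-, e'⟩ := hsplit (one_mem _) hu c.d.hy (zpow_mem c.d.hx i) (by rwa [one_mul])
      exact c.d.ynot (e' ▸ zpow_mem (Subgroup.mem_zpowers _) i)
    · intro g hg
      obtain ⟨u, hu, i, rfl⟩ := hmem hg
      have h1 := hinv _ hy u hu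
      rw [hy.inv_eq] at h1
      calc c.d.y * (u * c.d.x ^ i) * c.d.y = c.d.y * u * (c.d.y * c.d.y) * c.d.x ^ i * c.d.y := by
            rw [hy.sq]; group
        _ = c.d.y * u * c.d.y * (c.d.y * c.d.x ^ i * c.d.y) := by group
        _ = u⁻¹ * (c.d.x ^ i)⁻¹ := by
          rw [h1, c.d.swap, mul_assoc (c.d.x ^ (-i)), hy.sq, mul_one, zpow_neg]
        _ = (u * c.d.x ^ i)⁻¹ := by rw [(hcomm u hu i).eq, mul_inv_rev]
    · intro e he he2 he1 g hge
      obtain ⟨u, hu, i, rfl⟩ := hmem he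
      have e2 : u * u * (c.d.x ^ i * c.d.x ^ i) = 1 * 1 := by
        rw [one_mul]
        calc u * u * (c.d.x ^ i * c.d.x ^ i) = u * (u * c.d.x ^ i) * c.d.x ^ i := by group
          _ = u * (c.d.x ^ i * u) * c.d.x ^ i := by rw [(hcomm u hu i).eq]
          _ = u * c.d.x ^ i * (u * c.d.x ^ i) := by group
          _ = 1 := he2
      obtain ⟨f1, f2⟩ := hsplit (mul_mem hu hu) (one_mem _)
        (mul_mem (zpow_mem c.d.hx i) (zpow_mem c.d.hx i)) (one_mem _) e2
      have hu1 : u = 1 := eq_one_of_sq_odd f1 (c.odd_of_mem_U hu)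
      subst hu1
      rw [one_mul] at he1 hge
      rw [(c.d.sq_cases (zpow_mem (Subgroup.mem_zpowers _) i) f2).resolve_left he1] at hge
      obtain ⟨w, hw, s, hs, rfl⟩ := c.U_sup g (c.mem_C.2 hge)
      by_cases hsx : s ∈ Subgroup.zpowers c.d.x
      · exact Or.inl (mul_mem (Subgroup.mem_sup_left hw) (Subgroup.mem_sup_right hsx))
      · right
        have hsy := c.d.idx s hs c.d.y c.d.hy hsx c.d.ynot
        rw [show s⁻¹ = s from (show c.Refl s from ⟨hs, hsx⟩).inv_eq] at hsy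
        rw [mul_assoc]
        exact mul_mem (Subgroup.mem_sup_left hw) (Subgroup.mem_sup_right hsy)
  have hjA : DGroup.IsInner A c.d.z :=
    ⟨Subgroup.mem_sup_right c.d.z_mem, c.d.zz, c.d.z_ne⟩
  have huq : ∀ e, DGroup.IsInner A e → e = c.d.z := by
    rintro e ⟨he, he2, he1⟩
    obtain ⟨u, hu, i, rfl⟩ := hmem he
    have e2 : u * u * (c.d.x ^ i * c.d.x ^ i) = 1 * 1 := by
      rw [one_mul]
      calc u * u * (c.d.x ^ i * c.d.x ^ i) = u * (u * c.d.x ^ i) * c.d.x ^ i := by group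
        _ = u * (c.d.x ^ i * u) * c.d.x ^ i := by rw [(hcomm u hu i).eq]
        _ = u * c.d.x ^ i * (u * c.d.x ^ i) := by group
        _ = 1 := he2
    obtain ⟨f1, f2⟩ := hsplit (mul_mem hu hu) (one_mem _)
      (mul_mem (zpow_mem c.d.hx i) (zpow_mem c.d.hx i)) (one_mem _) e2
    have hu1 : u = 1 := eq_one_of_sq_odd f1 (c.odd_of_mem_U hu)
    subst hu1
    rw [one_mul] at he1 ⊢
    exact (c.d.sq_cases (zpow_mem (Subgroup.mem_zpowers _) i) f2).resolve_left he1
  have hsyl : (c.P : Subgroup G) ≤ hHyp.H := by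
    intro s hs
    rw [DGroup.Hyp2.mem_H]
    rcases c.d.cases s hs with ⟨i, rfl⟩ | ⟨i, rfl⟩
    · exact Or.inl (Subgroup.mem_sup_right (zpow_mem (Subgroup.mem_zpowers _) i))
    · right
      rw [mul_assoc, hy.sq, mul_one]
      exact Subgroup.mem_sup_right (zpow_mem (Subgroup.mem_zpowers _) i)
  have hno : DGroup.NoOdd G := fun N hN ho => (hN.eq_bot_or_eq_top).resolve_right fun e => by
    have h2 : 2 ∣ Nat.card N := by
      rw [← c.z_order, e]
      exact Subgroup.orderOf_dvd_natCard _ (Subgroup.mem_top _)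
    exact Nat.not_even_iff_odd.2 ho (even_iff_two_dvd.2 h2)
  have hns : ¬ Group.IsSolvable G := fun h =>
    c.noncomm ⟨⟨IsSimpleGroup.comm_iff_isSolvable.2 h⟩⟩
  have hMain : DGroup.Main A c.d.y c.d.z :=
    ⟨⟨hHyp, hjA, huq, c.P, hsyl⟩, hno, c.one_class⟩
  exact Or.inl (hMain.psl hns)

end Core

end Cfsg.Agent.GW
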