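import Cfsg.Agent.Lib.GW.OtherSide
import Cfsg.Agent.Lib.GW.TorusFacts
import Cfsg.Agent.Lib.GW.TorusSeven
import Cfsg.Agent.Lib.GW.Index
import Cfsg.Agent.Lib.Solvable.Coprime

/-!
Local analysis of the last configuration with a Sylow 2-subgroup of order eight: a prime `s` with
`O_s(C)` centralised by a reflection `a` and inverted by a reflection `b` of the other class.
`s`-subgroups normalised by `P` centralise the central involution, and a proper subgroup containing `P`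
that fuses `b` to it has a section `A₇` as soon as it meets `O_s(C)`.
-/

set_option autoImplicit false
set_option linter.unusedSectionVars false
set_option linter.style.haveILetI false

namespace Cfsg.Agent.GW

open Cfsg.Agent.TwoFus Cfsg.Agent.BenderUnique Subgroup

universe u

section

variable {Y : Type u} [Group Y]

/-- In a subgroup normalised by an involution an element of odd order is an inverted one times a fixed
one. -/
theorem split_invol {S : Subgroup Y} {a h : Y} (ha : a * a = 1) (hn : ∀ f ∈ S, a * f * a⁻¹ ∈ S)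
    (ho : ∀ f ∈ S, Odd (orderOf f)) (hh : h ∈ S) :
    ∃ r ∈ S, ∃ w ∈ S, h = r * w ∧ a * r * a⁻¹ = r⁻¹ ∧ a * w = w * a := by
  have hai : a⁻¹ = a := inv_eq_of_mul_eq_one_right ha
  set s := h * (a * h⁻¹ * a⁻¹) with hs
  have hsS : s ∈ S := mul_mem hh (hn _ (inv_mem hh))
  obtain ⟨r, hr, hrs⟩ := exists_sqrt (ho s hsS)
  have hsinv : a * s * a⁻¹ = s⁻¹ := by
    rw [hs]
    calc a * (h * (a * h⁻¹ * a⁻¹)) * a⁻¹ = a * h * (a * h⁻¹) * (a * a)⁻¹ := by group
      _ = a * h * (a⁻¹ * h⁻¹) := by rw [ha, inv_one, mul_one, hai]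
      _ = (h * (a * h⁻¹ * a⁻¹))⁻¹ := by group
  have hrinv : a * r * a⁻¹ = r⁻¹ := by
    obtain ⟨i, rfl⟩ := hr
    simp only
    rw [← conj_zpow, hsinv, inv_zpow]
  have hrS : r ∈ S := (zpowers_le.2 hsS) hr
  refine ⟨r, hrS, r⁻¹ * h, mul_mem (inv_mem hrS) hh, (mul_inv_cancel_left r h).symm, hrinv, ?_⟩
  have e1 : h * a * h⁻¹ = r * a * r⁻¹ := by
    calc h * a * h⁻¹ = s * a := by rw [hs]; group
      _ = r * r * a := by rw [hrs]
      _ = r * (r * a) := mul_assoc _ _ _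
      _ = r * (a * (a * r * a⁻¹)) := by
        rw [← mul_assoc a (a * r) a⁻¹, ← mul_assoc a a r, ha, one_mul, hai]
      _ = r * a * r⁻¹ := by rw [hrinv]; group
  calc a * (r⁻¹ * h) = r⁻¹ * (r * a * r⁻¹) * h := by group
    _ = r⁻¹ * (h * a * h⁻¹) * h := by rw [e1]
    _ = r⁻¹ * h * a := by group

theorem isPGroup_zpowers_of_mem {S : Subgroup Y} {s : ℕ} (hS : IsPGroup s S) {f : Y} (hf : f ∈ S) :
    IsPGroup s (zpowers f) :=
  hS.to_le (zpowers_le.2 hf)

theorem isPGroup_zpowers_conj {s : ℕ} {f : Y} (hf : IsPGroup s (zpowers f)) (g : Y) :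
    IsPGroup s (zpowers (g * f * g⁻¹)) := by
  have := hf.map (MulAut.conj g).toMonoidHom
  rwa [MonoidHom.map_zpowers] at this

theorem odd_of_sGroup {S : Subgroup Y} {s : ℕ} [Fact s.Prime] (hs2 : s ≠ 2) (hS : IsPGroup s S)
    {f : Y} (hf : f ∈ S) : Odd (orderOf f) := by
  obtain ⟨k, hk⟩ := IsPGroup.iff_orderOf.1 hS ⟨f, hf⟩
  rw [orderOf_mk] at hk
  rw [hk]
  exact ((Fact.out : s.Prime).odd_of_ne_two hs2).pow

end

/-- The data of the configuration at the prime `s`. -/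
structure ExoData {G : Type u} [Group G] [Finite G] (c : Core G) (a : G) (s : ℕ) : Prop where
  refl : c.Refl a
  nm : ∀ r, c.Refl r → c.NeverMixed r
  four : c.d.m = 4
  prime : s.Prime
  ne_two : s ≠ 2
  le_W : c.Qc s ≤ c.W a
  cap : c.Qc s ⊓ c.W (c.d.x * a) = ⊥

namespace ExoData

variable {G : Type u} [Group G] [Finite G] {c : Core G} {a : G} {s : ℕ} (E : ExoData c a s)

include E

theorem fact : Fact s.Prime := ⟨E.prime⟩

theorem z_xx : c.d.z = c.d.x * c.d.x := by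
  rw [Dih.z, E.four, ← pow_two, ← zpow_natCast]
  rfl

theorem xz : c.d.x * c.d.z = c.d.z * c.d.x := by rw [E.z_xx, mul_assoc]

theorem x_conj_a : c.d.x * a * c.d.x⁻¹ = c.d.z * a := by
  have h := E.refl.inv_x
  rw [E.refl.inv_eq] at h
  calc c.d.x * a * c.d.x⁻¹ = c.d.x * a * (a * c.d.x * a) := by rw [h]
    _ = c.d.x * (a * a) * (c.d.x * a) := by group
    _ = c.d.x * c.d.x * a := by rw [E.refl.sq]; group
    _ = c.d.z * a := by rw [← E.z_xx]

theorem x_conj_za : c.d.x * (c.d.z * a) * c.d.x⁻¹ = a := by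
  calc c.d.x * (c.d.z * a) * c.d.x⁻¹ = c.d.x * c.d.z * c.d.x⁻¹ * (c.d.x * a * c.d.x⁻¹) := by group
    _ = c.d.z * (c.d.z * a) := by rw [E.x_conj_a, E.xz, mul_inv_cancel_right]
    _ = a := by rw [← mul_assoc, c.d.zz, one_mul]

theorem refl_b : c.Refl (c.d.x * a) := c.x_mul_refl E.refl

theorem b_conj_a : c.d.x * a * a = c.d.x := by rw [mul_assoc, E.refl.sq, mul_one]

theorem b_zb : c.d.x * (c.d.x * a) * c.d.x⁻¹ = c.d.z * (c.d.x * a) := by
  calc c.d.x * (c.d.x * a) * c.d.x⁻¹ = c.d.x * (c.d.x * a * c.d.x⁻¹) := by group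
    _ = c.d.x * c.d.z * a := by rw [E.x_conj_a, mul_assoc]
    _ = c.d.z * (c.d.x * a) := by rw [E.xz, mul_assoc]

theorem Y_z {y : G} (hy : y ∈ c.Qc s) : y * c.d.z = c.d.z * y :=
  c.mem_C.1 (c.Qc_le_C s hy)

theorem Y_a {y : G} (hy : y ∈ c.Qc s) : y * a = a * y := (E.refl.mem_W.1 (E.le_W hy)).2

theorem Y_b {y : G} (hy : y ∈ c.Qc s) : c.d.x * a * y * (c.d.x * a)⁻¹ = y⁻¹ := by
  haveI := E.fact
  rcases (E.nm _ E.refl_b).dichotomy E.refl_b s E.ne_two with h | h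
  · have hm : y ∈ c.Qc s ⊓ c.W (c.d.x * a) :=
      ⟨hy, E.refl_b.mem_W.2 ⟨c.Qc_le_U E.ne_two hy, (mul_inv_eq_iff_eq_mul.1 (h y hy)).symm⟩⟩
    rw [E.cap, mem_bot] at hm
    rw [hm]; simp
  · exact h y hy

theorem Y_x {y : G} (hy : y ∈ c.Qc s) : c.d.x * y * c.d.x⁻¹ = y⁻¹ := by
  have h1 : a * y * a⁻¹ = y := mul_inv_eq_iff_eq_mul.2 (E.Y_a hy).symm
  calc c.d.x * y * c.d.x⁻¹ = c.d.x * a * (a⁻¹ * y * a) * (c.d.x * a)⁻¹ := by group
    _ = c.d.x * a * y * (c.d.x * a)⁻¹ := by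
      have h2 : a⁻¹ * y * a = y := by rw [mul_assoc, E.Y_a hy, inv_mul_cancel_left]
      rw [h2]
    _ = y⁻¹ := E.Y_b hy

/-- No element centralised by `a` and inverted by `z` is an `s`-element. -/
theorem no_fixed_inverted {f : G} (hf : IsPGroup s (zpowers f)) (hfa : a * f = f * a)
    (hfz : c.d.z * f * c.d.z⁻¹ = f⁻¹) : f = 1 := by
  haveI := E.fact
  obtain ⟨g, h1, -, h3⟩ := E.refl.exists_rot
  set r := c.d.z * a with hr
  set f' := g⁻¹ * f * g with hf'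
  have hf's : IsPGroup s (zpowers f') := by
    have := isPGroup_zpowers_conj hf g⁻¹
    rwa [inv_inv] at this
  have hf'o : Odd (orderOf f') := odd_of_sGroup E.ne_two hf's (mem_zpowers _)
  have hC : f' ∈ c.C := c.mem_C.2 (by
    rw [← h1] at hfa
    calc f' * c.d.z = g⁻¹ * (f * (g * c.d.z * g⁻¹)) * g := by rw [hf']; group
      _ = g⁻¹ * (g * c.d.z * g⁻¹ * f) * g := by rw [hfa]
      _ = c.d.z * f' := by rw [hf']; group)
  have hU : f' ∈ c.U := c.mem_U_of_odd hC hf'o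
  have hinv : r * f' * r⁻¹ = f'⁻¹ := by
    rw [hf', show r * (g⁻¹ * f * g) * r⁻¹ = g⁻¹ * ((g * r * g⁻¹) * f * (g * r * g⁻¹)⁻¹) * g by group,
      h3, hfz]
    group
  have hW : f' ∈ c.W r := by
    rw [hr, E.refl.W_eq]
    exact E.le_W (Core.mem_Qc_of_pow ((E.nm r E.refl.mul_z).mem_ZFit E.refl.mul_z hU hinv).1 hf's)
  have h4 : f'⁻¹ = f' := hinv.symm.trans
    (mul_inv_eq_iff_eq_mul.2 ((E.refl.mul_z.mem_W.1 hW).2).symm)
  have h5 : f' = 1 := eq_one_of_sq_odd (by nth_rewrite 1 [← h4]; rw [inv_mul_cancel]) hf'o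
  calc f = g * f' * g⁻¹ := by rw [hf']; group
    _ = 1 := by rw [h5, mul_one, mul_inv_cancel]

/-- An `s`-subgroup normalised by `P` centralises the central involution. -/
theorem comm_z {S : Subgroup G} (hS : IsPGroup s S) (hn : ∀ p ∈ (c.P : Subgroup G), ∀ f ∈ S, p * f * p⁻¹ ∈ S)
    {h : G} (hh : h ∈ S) : h * c.d.z = c.d.z * h := by
  haveI := E.fact
  have ha := E.refl
  have hza : Commute c.d.z a := ha.comm.symm
  have hodd : ∀ f ∈ S, Odd (orderOf f) := fun f hf => odd_of_sGroup E.ne_two hS hf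
  -- the fixed points of `a`
  have hfixa : ∀ f ∈ S, a * f = f * a → f * c.d.z = c.d.z * f := by
    intro f hf hfa
    set f' := f⁻¹ * (c.d.z * f * c.d.z⁻¹) with hf'
    have hf'S : f' ∈ S := mul_mem (inv_mem hf) (hn _ c.z_mem f hf)
    have h1 : a * f' = f' * a :=
      ((show Commute a f from hfa).inv_right.mul_right
        ((hza.symm.mul_right hfa).mul_right hza.symm.inv_right)).eq
    have h2 : c.d.z * f' * c.d.z⁻¹ = f'⁻¹ := by
      rw [hf', inv_eq_of_mul_eq_one_right c.d.zz]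
      calc c.d.z * (f⁻¹ * (c.d.z * f * c.d.z)) * c.d.z
          = c.d.z * f⁻¹ * c.d.z * f * (c.d.z * c.d.z) := by group
        _ = c.d.z⁻¹ * f⁻¹ * c.d.z⁻¹ * f := by
          rw [c.d.zz, mul_one, inv_eq_of_mul_eq_one_right c.d.zz]
        _ = (f⁻¹ * (c.d.z * f * c.d.z))⁻¹ := by group
    have h3 := E.no_fixed_inverted (isPGroup_zpowers_of_mem hS hf'S) h1 h2
    rw [hf', inv_mul_eq_one] at h3
    exact (eq_mul_inv_iff_mul_eq.1 h3)
  have hfixza : ∀ f ∈ S, c.d.z * a * f = f * (c.d.z * a) → f * c.d.z = c.d.z * f := by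
    intro f hf hfa
    have hm : c.d.x⁻¹ * f * c.d.x ∈ S := by
      have := hn _ (inv_mem c.d.hx) f hf
      rwa [inv_inv] at this
    have h1 := hfixa _ hm (by
      rw [← E.x_conj_a] at hfa
      calc a * (c.d.x⁻¹ * f * c.d.x) = c.d.x⁻¹ * (c.d.x * a * c.d.x⁻¹ * f) * c.d.x := by group
        _ = c.d.x⁻¹ * (f * (c.d.x * a * c.d.x⁻¹)) * c.d.x := by rw [hfa]
        _ = c.d.x⁻¹ * f * c.d.x * a := by group)
    have hxz : Commute c.d.x c.d.z := E.xz
    have h2 : Commute (c.d.x * (c.d.x⁻¹ * f * c.d.x) * c.d.x⁻¹) c.d.z :=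
      (hxz.mul_left h1).mul_left hxz.inv_left
    rw [show c.d.x * (c.d.x⁻¹ * f * c.d.x) * c.d.x⁻¹ = f by group] at h2
    exact h2.eq
  -- no element is inverted
  have hnone : ∀ f ∈ S, c.d.z * f * c.d.z⁻¹ = f⁻¹ → f = 1 := by
    intro f hf hfz
    obtain ⟨r, hr, w, hw, e, hri, hwa⟩ := split_invol ha.sq (hn a ha.1) hodd hf
    have hwz : c.d.z * w * c.d.z⁻¹ = w :=
      mul_inv_eq_iff_eq_mul.2 (hfixa w hw hwa).symm
    have h1 : c.d.z * r * c.d.z⁻¹ = w⁻¹ * r⁻¹ * w⁻¹ := by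
      rw [e, mul_inv_rev] at hfz
      calc c.d.z * r * c.d.z⁻¹ = c.d.z * (r * w) * c.d.z⁻¹ * (c.d.z * w * c.d.z⁻¹)⁻¹ := by group
        _ = w⁻¹ * r⁻¹ * w⁻¹ := by rw [hfz, hwz]
    have hwai : a * w⁻¹ * a⁻¹ = w⁻¹ := mul_inv_eq_iff_eq_mul.2 ((show Commute a w from hwa).inv_right).eq
    have h2 : a * (w⁻¹ * r⁻¹ * w⁻¹) * a⁻¹ = (w⁻¹ * r⁻¹ * w⁻¹)⁻¹ := by
      rw [← h1]
      calc a * (c.d.z * r * c.d.z⁻¹) * a⁻¹ = c.d.z * (a * r * a⁻¹) * c.d.z⁻¹ := by
            rw [← mul_assoc, ← mul_assoc, ← hza.eq, mul_assoc (c.d.z * a * r), ← hza.inv_inv.symm.eq]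
            group
        _ = (c.d.z * r * c.d.z⁻¹)⁻¹ := by rw [hri]; group
    have h3 : w⁻¹ * r * w⁻¹ = w * r * w := by
      rw [show a * (w⁻¹ * r⁻¹ * w⁻¹) * a⁻¹ = a * w⁻¹ * a⁻¹ * (a * r * a⁻¹)⁻¹ * (a * w⁻¹ * a⁻¹) by group,
        hwai, hri, inv_inv] at h2
      rw [h2]; group
    have h4 : r * (w * w) * r⁻¹ = (w * w)⁻¹ := by
      calc r * (w * w) * r⁻¹ = w⁻¹ * (w * r * w) * w * r⁻¹ := by group
        _ = w⁻¹ * (w⁻¹ * r * w⁻¹) * w * r⁻¹ := by rw [h3]
        _ = (w * w)⁻¹ := by group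
    have h5 : Commute (r * r) (w * w) := by
      refine mul_inv_eq_iff_eq_mul.1 ?_
      calc r * r * (w * w) * (r * r)⁻¹ = r * (r * (w * w) * r⁻¹) * r⁻¹ := by group
        _ = (r * (w * w) * r⁻¹)⁻¹ := by nth_rewrite 1 [h4]; group
        _ = w * w := by rw [h4, inv_inv]
    obtain ⟨j, hj⟩ := hodd r hr
    have h6 : Commute r (w * w) := by
      have er : r = (r * r) ^ (j + 1) := by
        rw [← pow_two, ← pow_mul, show 2 * (j + 1) = orderOf r + 1 by omega, pow_succ,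
          pow_orderOf_eq_one, one_mul]
      rw [er]; exact h5.pow_left _
    rw [h6.eq, mul_inv_cancel_right] at h4
    have hw1 : w = 1 := by
      have h7 : w * w = 1 := eq_one_of_sq_odd (by nth_rewrite 1 [h4]; rw [inv_mul_cancel])
        (hodd _ (mul_mem hw hw))
      exact eq_one_of_sq_odd h7 (hodd w hw)
    rw [hw1, mul_one] at e
    subst e
    have h8 : c.d.z * a * f = f * (c.d.z * a) := mul_inv_eq_iff_eq_mul.1 (by
      rw [show c.d.z * a * f * (c.d.z * a)⁻¹ = c.d.z * (a * f * a⁻¹) * c.d.z⁻¹ by group, hri,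
        ← conj_inv, hfz, inv_inv])
    have h9 := mul_inv_eq_iff_eq_mul.2 (hfixza f hf h8).symm
    exact eq_one_of_sq_odd (by nth_rewrite 1 [h9.symm.trans hfz]; rw [inv_mul_cancel]) (hodd f hf)
  have h1 : h⁻¹ * (c.d.z * h * c.d.z⁻¹) = 1 := hnone _ (mul_mem (inv_mem hh) (hn _ c.z_mem h hh)) (by
    rw [inv_eq_of_mul_eq_one_right c.d.zz]
    calc c.d.z * (h⁻¹ * (c.d.z * h * c.d.z)) * c.d.z
        = c.d.z * h⁻¹ * c.d.z * h * (c.d.z * c.d.z) := by group
      _ = c.d.z⁻¹ * h⁻¹ * c.d.z⁻¹ * h := by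
        rw [c.d.zz, mul_one, inv_eq_of_mul_eq_one_right c.d.zz]
      _ = (h⁻¹ * (c.d.z * h * c.d.z))⁻¹ := by group)
  rw [inv_mul_eq_one] at h1
  exact eq_mul_inv_iff_mul_eq.1 h1

/-- An odd subgroup normalised by `P` has no `s`-element inverted by the central involution. -/
theorem no_moved_odd {D : Subgroup G} (hD : Odd (Nat.card D))
    (hn : (c.P : Subgroup G) ≤ normalizer (D : Set G)) {h : G} (hh : h ∈ D)
    (hs : IsPGroup s (zpowers h)) (hz : c.d.z * h * c.d.z⁻¹ = h⁻¹) : h = 1 := by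
  haveI := E.fact
  haveI : Fact (Nat.Prime 2) := ⟨Nat.prime_two⟩
  have hsolv : ∀ A : Subgroup G, A ≤ (c.P : Subgroup G) →
      (Nat.card A).Coprime (Nat.card D) ∧ Group.IsSolvable A := fun A hA => by
    have hA2 : IsPGroup 2 A := c.P.isPGroup'.to_le hA
    obtain ⟨k, hk⟩ := IsPGroup.iff_card.1 hA2
    haveI : Group.IsNilpotent A := hA2.isNilpotent
    exact ⟨hk ▸ Nat.Coprime.pow_left k (Nat.coprime_two_left.2 hD), inferInstance⟩
  obtain ⟨S, hS⟩ := CoprimeAct.exists_invariant_sylow hn (hsolv _ le_rfl).1 (Or.inl (hsolv _ le_rfl).2) s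
  set A := zpowers c.d.z
  have hAP : A ≤ (c.P : Subgroup G) := zpowers_le.2 c.z_mem
  have hAh : A ≤ normalizer (zpowers h : Set G) := zpowers_le.2 (by
    refine mem_normalizer_fintype fun f hf => ?_
    obtain ⟨i, rfl⟩ := hf
    show c.d.z * h ^ i * c.d.z⁻¹ ∈ zpowers h
    rw [← conj_zpow, hz]
    exact zpow_mem (inv_mem (mem_zpowers h)) i)
  obtain ⟨Q, hhQ, hQ⟩ := CoprimeAct.exists_invariant_sylow_ge (hAP.trans hn) (hsolv A hAP).1
    (Or.inl (hsolv A hAP).2) (zpowers_le.2 hh) hs hAh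
  obtain ⟨e, he, heq⟩ := CoprimeAct.invariant_sylow_conj (hAP.trans hn) (hsolv A hAP).1
    (Or.inl (hsolv A hAP).2) S Q (hAP.trans hS) hQ
  obtain ⟨q, hq, hqh⟩ := hhQ (mem_zpowers h)
  rw [← heq] at hq
  obtain ⟨f, hf, rfl⟩ := hq
  have hfz : Commute ((f : D) : G) c.d.z := E.comm_z (S.isPGroup'.map D.subtype)
    (fun p hp v hv => (mem_normalizer_iff.1 (hS hp) v).1 hv) ⟨f, hf, rfl⟩
  have hez : Commute (e : G) c.d.z := (mem_centralizer_iff.1 he _ (mem_zpowers _)).symm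
  have hcomm : Commute h c.d.z := by
    rw [← hqh]
    show Commute ((e : G) * (f : G) * (e : G)⁻¹) c.d.z
    exact (hez.mul_left hfz).mul_left hez.inv_left
  have h2 : h⁻¹ = h := hz.symm.trans (mul_inv_eq_iff_eq_mul.2 hcomm.symm.eq)
  exact eq_one_of_sq_odd (by nth_rewrite 1 [← h2]; rw [inv_mul_cancel])
    (hD.of_dvd_nat (orderOf_dvd_natCard D hh))

variable {H : Subgroup G} (hH : H ≠ ⊤) (hP : (c.P : Subgroup G) ≤ H)
  (hfus : ∃ e ∈ H, e * (c.d.x * a) * e⁻¹ = c.d.z)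

include hH hP hfus

/-- `O_s(C)` meets the odd core trivially. -/
theorem not_core {y : G} (hy : y ∈ c.Qc s) (hyH : y ∈ H)
    (hc : (⟨y, hyH⟩ : H) ∈ Cfsg.oddCore H) : y = 1 := by
  haveI := E.fact
  obtain ⟨e, he, heb⟩ := hfus
  haveI := oddCore_normal (X := H)
  set D := (Cfsg.oddCore H).map H.subtype with hD
  have hDo : Odd (Nat.card D) := by
    rw [hD, card_map_of_injective (subtype_injective _)]; exact oddCore_odd
  have hn : (c.P : Subgroup G) ≤ normalizer (D : Set G) := hP.trans (BenderMax.le_normalizer_map _)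
  have hh : e * y * e⁻¹ ∈ D :=
    ⟨⟨e, he⟩ * ⟨y, hyH⟩ * ⟨e, he⟩⁻¹, (oddCore_normal (X := H)).conj_mem _ hc _, rfl⟩
  have h1 := E.no_moved_odd hDo hn hh
    (isPGroup_zpowers_conj (isPGroup_zpowers_of_mem (coreIn_pGroup s c.C) hy) e) (by
      rw [← heb, show e * (c.d.x * a) * e⁻¹ * (e * y * e⁻¹) * (e * (c.d.x * a) * e⁻¹)⁻¹ =
        e * (c.d.x * a * y * (c.d.x * a)⁻¹) * e⁻¹ by group, E.Y_b hy]
      group)
  exact conj_eq_one_iff.1 h1

/-- The section is `A₇`. -/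
theorem sec_seven {y : G} (hy : y ∈ c.Qc s) (hyH : y ∈ H) (hy1 : y ≠ 1) :
    Nonempty ((H ⧸ Cfsg.oddCore H) ≃* alternatingGroup (Fin 7)) := by
  classical
  haveI := E.fact
  have hzH : c.d.z ∈ H := hP c.z_mem
  have haH : a ∈ H := hP E.refl.1
  have hbH : c.d.x * a ∈ H := hP E.refl_b.1
  have hyc : (⟨y, hyH⟩ : H) ∉ Cfsg.oddCore H := fun h => hy1 (E.not_core hH hP hfus hy hyH h)
  obtain ⟨e, he, heb⟩ := hfus
  set zH : H := ⟨c.d.z, hzH⟩
  set aH : H := ⟨a, haH⟩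
  set bH : H := ⟨c.d.x * a, hbH⟩
  set yH : H := ⟨y, hyH⟩
  set xH : H := ⟨c.d.x, hP c.d.hx⟩
  set eH : H := ⟨e, he⟩
  have hzo : orderOf zH = 2 := by rw [← Subgroup.orderOf_coe]; exact c.z_order
  have hao : orderOf aH = 2 := by rw [← Subgroup.orderOf_coe]; exact E.refl.order
  have hbo : orderOf bH = 2 := by rw [← Subgroup.orderOf_coe]; exact E.refl_b.order
  have hyo : Odd (orderOf yH) := by
    rw [← Subgroup.orderOf_coe]; exact c.odd_of_mem_U (c.Qc_le_U E.ne_two hy)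
  have hyz : yH * zH = zH * yH := Subtype.ext (E.Y_z hy)
  have hd := E.refl.dihSylow H hzH haH
  obtain ⟨K⟩ := sock_of_odd_commute (E.refl.shape H hH hzH haH) hyo hzo hyz hyc
  haveI := K.normal
  haveI := K.simple
  have hebH : mo H eH * mo H bH * (mo H eH)⁻¹ = mo H zH := by
    rw [← map_inv, ← map_mul, ← map_mul]
    exact congrArg _ (Subtype.ext heb)
  have hbzH : mo H xH * mo H bH * (mo H xH)⁻¹ = mo H zH * mo H bH := by
    rw [← map_inv, ← map_mul, ← map_mul, ← map_mul]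
    exact congrArg _ (Subtype.ext E.b_zb)
  have hzL : mo H zH ∈ K.L := by
    have hzb : zH * bH = bH * zH := Subtype.ext E.refl_b.comm.symm
    rcases K.exists_inner hd hzo hbo (fun e => E.refl_b.ne_z (congrArg Subtype.val e).symm) hzb
      with h | h | h
    · exact K.mem_socPre.1 h
    · rw [← hebH]; exact K.normal.conj_mem _ (K.mem_socPre.1 h) _
    · have h1 := K.mem_socPre.1 h
      rw [map_mul, ← hbzH] at h1
      have h2 := K.normal.conj_mem _ h1 (mo H xH)⁻¹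
      rw [← hebH]
      refine K.normal.conj_mem _ ?_ _
      simpa [mul_assoc] using h2
  have hbL : mo H bH ∈ K.L := by
    have h := K.normal.conj_mem _ hzL (mo H eH)⁻¹
    rw [← hebH] at h
    simpa [mul_assoc] using h
  have hyo' : Odd (orderOf (mo H yH)) := hyo.of_dvd_nat (orderOf_map_dvd _ _)
  have hy1' : mo H yH ≠ 1 := fun h => hyc ((mo_ker _).1 h)
  have hbinv : mo H bH * mo H yH * (mo H bH)⁻¹ = (mo H yH)⁻¹ := by
    rw [← map_inv, ← map_mul, ← map_mul, ← map_inv]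
    exact congrArg _ (Subtype.ext (E.Y_b hy))
  have hyL : mo H yH ∈ K.L := by
    have h2 : mo H yH * mo H yH ∈ K.L := by
      have h := mul_mem (K.normal.conj_mem _ hbL (mo H yH)) (inv_mem hbL)
      have e1 : mo H bH * (mo H yH)⁻¹ * (mo H bH)⁻¹ = mo H yH := by rw [← conj_inv, hbinv, inv_inv]
      rw [show mo H yH * mo H bH * (mo H yH)⁻¹ * (mo H bH)⁻¹ =
        mo H yH * (mo H bH * (mo H yH)⁻¹ * (mo H bH)⁻¹) by group, e1] at h
      exact h
    obtain ⟨j, hj⟩ := hyo'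
    have h3 := pow_mem h2 (j + 1)
    rwa [← pow_two, ← pow_mul, show 2 * (j + 1) = orderOf (mo H yH) + 1 by omega, pow_succ,
      pow_orderOf_eq_one, one_mul] at h3
  have hd' : DihSylow (H ⧸ Cfsg.oddCore H) := hd.quotient _ oddCore_odd
  rcases psl_data hd' K.L K.noncomm K.cent K.target with h7 | ⟨F, _, _, _, ι, hnc, hodd, h3, hι, hL, hfld⟩
  · exact h7
  exfalso
  have hz' := invol_mo hzo
  obtain ⟨Kd, hKdn, hLK, hKodd, -, A, t, -, hAc, hzA, -, -, htt, -, hinv, -, hall⟩ :=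
    psl_centralizer hnc hodd K.L ι hι hL hfld hzL hz'
  haveI := hKdn
  have hcomA : ∀ p q, p ∈ A → q ∈ A → p * q = q * p := fun p q hp hq =>
    congrArg Subtype.val (hAc.isMulCommutative.is_comm.comm (⟨p, hp⟩ : A) ⟨q, hq⟩)
  have hti : t⁻¹ = t := inv_eq_of_mul_eq_one_right htt
  have hout : ∀ g, g * t ∈ A → g * g = 1 := by
    intro g hg
    have h1 := hinv _ hg
    rw [hti] at h1
    calc g * g = g * t * (t * (g * t) * t) := by
          rw [mul_assoc t, mul_assoc g t t, htt, mul_one, ← mul_assoc (g * t), mul_assoc g t t, htt,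
            mul_one]
      _ = 1 := by rw [h1, mul_inv_cancel]
  have hyA : mo H yH ∈ A := by
    refine (hall _ (hLK hyL) (by rw [← map_mul, ← map_mul, hyz])).resolve_right fun h => ?_
    exact hy1' (eq_one_of_sq_odd (hout _ h) hyo')
  have haK : mo H aH ∈ Kd := by
    have h2 : orderOf (QuotientGroup.mk' Kd (mo H aH)) ∣ 2 :=
      (orderOf_map_dvd _ _).trans (dvd_of_eq (invol_mo hao))
    have h3 : orderOf (QuotientGroup.mk' Kd (mo H aH)) ∣ Kd.index := by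
      rw [index_eq_card]; exact orderOf_dvd_natCard _
    exact (QuotientGroup.eq_one_iff _).1 (orderOf_eq_one_iff.1
      (Nat.eq_one_of_dvd_coprimes (Nat.coprime_two_left.2 hKodd) h2 h3))
  have haz : mo H aH * mo H zH = mo H zH * mo H aH := by
    rw [← map_mul, ← map_mul]; exact congrArg _ (Subtype.ext E.refl.comm)
  have hay : mo H aH * mo H yH = mo H yH * mo H aH := by
    rw [← map_mul, ← map_mul]; exact congrArg _ (Subtype.ext (E.Y_a hy).symm)
  rcases hall _ haK haz with hA | hA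
  · have hz1 : mo H zH ≠ 1 := fun e => by rw [e, orderOf_one] at hz'; omega
    have ha' := invol_mo hao
    rcases eq_of_cyclic_sq hAc hzA (sq_one hz') hz1 hA (sq_one ha') with h | h
    · rw [h, orderOf_one] at ha'; omega
    · have hm : zH * aH ∈ Cfsg.oddCore H := (mo_ker _).1 (by
        rw [map_mul, h, sq_one hz'])
      have h1 := odd_of_mem_core hm
      rw [← Subgroup.orderOf_coe] at h1
      change Odd (orderOf (c.d.z * a)) at h1
      rw [E.refl.mul_z.order] at h1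
      exact absurd h1 (by decide)
  · have h1 : mo H aH * mo H yH * (mo H aH)⁻¹ = (mo H yH)⁻¹ := by
      have e1 : mo H aH = mo H aH * t * t := by rw [mul_assoc, htt, mul_one]
      rw [e1]
      calc mo H aH * t * t * mo H yH * (mo H aH * t * t)⁻¹
          = (mo H aH * t) * (t * mo H yH * t⁻¹) * (mo H aH * t)⁻¹ := by group
        _ = (mo H yH)⁻¹ := by
          rw [hinv _ hyA, hcomA _ _ hA (inv_mem hyA), mul_inv_cancel_right]
    rw [hay, mul_inv_cancel_right] at h1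
    exact hy1' (eq_one_of_sq_odd (by nth_rewrite 1 [h1]; rw [inv_mul_cancel]) hyo')

/-- At most three elements of `O_s(C)`. -/
theorem card_dvd_three {Y₀ : Subgroup G} (hYQ : Y₀ ≤ c.Qc s) (hYH : Y₀ ≤ H) : Nat.card Y₀ ∣ 3 := by
  classical
  by_cases hb : Y₀ = ⊥
  · rw [hb, card_bot]; exact one_dvd _
  obtain ⟨⟨y, hy⟩, hy1⟩ := ne_bot_iff_exists_ne_one.1 hb
  obtain ⟨e⟩ := E.sec_seven hH hP hfus (hYQ hy) (hYH hy) fun h => hy1 (Subtype.ext h)
  set zH : H := ⟨c.d.z, hP c.z_mem⟩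
  obtain ⟨T, -, hT3, hTmem⟩ := seven_torus e
    (invol_mo (v := zH) (by rw [← Subgroup.orderOf_coe]; exact c.z_order))
  set f : Y₀ →* H ⧸ Cfsg.oddCore H := (mo H).comp (inclusion hYH) with hf
  have hfinj : Function.Injective f := (injective_iff_map_eq_one _).2 fun v hv =>
    Subtype.ext (E.not_core hH hP hfus (hYQ v.2) (hYH v.2) ((mo_ker _).1 hv))
  have hmem : ∀ v : Y₀, f v ∈ T := fun v => hTmem _
    (by rw [hf, MonoidHom.comp_apply, ← map_mul, ← map_mul]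
        exact congrArg _ (Subtype.ext (E.Y_z (hYQ v.2))))
    ((show Odd (orderOf (v : G)) from c.odd_of_mem_U (haveI := E.fact; c.Qc_le_U E.ne_two (hYQ v.2))).of_dvd_nat
      ((orderOf_map_dvd f v).trans (dvd_of_eq (Subgroup.orderOf_coe v).symm)))
  rw [← hT3]
  exact card_dvd_of_injective (f.codRestrict T hmem) fun v w h => hfinj (congrArg Subtype.val h)

/-- Fusion inside the centraliser of a normal subgroup centralised by `z` and `b`. -/
theorem fus_in_cent {R : Subgroup G} (hRn : H ≤ normalizer (R : Set G))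
    (hRz : ∀ r ∈ R, r * c.d.z = c.d.z * r) (hRb : ∀ r ∈ R, r * (c.d.x * a) = c.d.x * a * r)
    {y : G} (hy : y ∈ c.Qc s) (hyH : y ∈ H) (hy1 : y ≠ 1) :
    (c.P : Subgroup G) ≤ centralizer (R : Set G) ∧
      ∃ e ∈ centralizer (R : Set G), e * (c.d.x * a) * e⁻¹ = c.d.z := by
  classical
  obtain ⟨e7⟩ := E.sec_seven hH hP hfus hy hyH hy1
  haveI : IsSimpleGroup (alternatingGroup (Fin 7)) := alternatingGroup.isSimpleGroup (by simp)
  haveI : IsSimpleGroup (H ⧸ Cfsg.oddCore H) := e7.isSimpleGroup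
  have hzH : c.d.z ∈ H := hP c.z_mem
  have hzC : c.d.z ∈ centralizer (R : Set G) := mem_centralizer_iff.2 hRz
  have hbC : c.d.x * a ∈ centralizer (R : Set G) := mem_centralizer_iff.2 hRb
  set N := (centralizer (R : Set G)).subgroupOf H with hN
  haveI hNn : N.Normal := ⟨fun n hn g => by
    rw [hN, mem_subgroupOf] at hn ⊢
    exact (mem_normalizer_iff.1
      (Cfsg.Agent.Components.normalizer_le_normalizer_centralizer _ (hRn g.2)) _).1 hn⟩
  haveI hMn : (N.map (mo H)).Normal := Subgroup.Normal.map hNn _ (QuotientGroup.mk'_surjective _)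
  have htop : N.map (mo H) = ⊤ := by
    refine hMn.eq_bot_or_eq_top.resolve_left fun hb => ?_
    have hm : mo H (⟨c.d.z, hzH⟩ : H) ∈ N.map (mo H) := mem_map_of_mem _ hzC
    rw [hb, mem_bot] at hm
    have := invol_mo (v := (⟨c.d.z, hzH⟩ : H)) (by rw [← Subgroup.orderOf_coe]; exact c.z_order)
    rw [hm, orderOf_one] at this
    omega
  have hsplit : ∀ h : H, ∃ n ∈ N, ∃ o ∈ Cfsg.oddCore H, h = n * o := fun h => by
    obtain ⟨n, hn, hnh⟩ : mo H h ∈ N.map (mo H) := htop ▸ mem_top _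
    exact ⟨n, hn, n⁻¹ * h, (mo_ker _).1 (by rw [map_mul, map_inv, hnh, inv_mul_cancel]),
      (mul_inv_cancel_left n h).symm⟩
  have hinvol : ∀ v, v ∈ H → orderOf v = 2 → v ∈ centralizer (R : Set G) := by
    intro v hv hvo
    obtain ⟨n, hn, o, ho, e⟩ := hsplit ⟨v, hv⟩
    have h1 : (QuotientGroup.mk' N) (⟨v, hv⟩ : H) = QuotientGroup.mk' N o := by
      rw [e, map_mul, show QuotientGroup.mk' N n = 1 from (QuotientGroup.eq_one_iff (N := N) n).2 hn, one_mul]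
    have h2 : orderOf (QuotientGroup.mk' N (⟨v, hv⟩ : H)) ∣ 2 :=
      (orderOf_map_dvd _ _).trans (dvd_of_eq (by rw [← Subgroup.orderOf_coe]; exact hvo))
    have h3 : orderOf (QuotientGroup.mk' N (⟨v, hv⟩ : H)) ∣ orderOf o := h1 ▸ orderOf_map_dvd _ _
    exact mem_subgroupOf.1 ((QuotientGroup.eq_one_iff (N := N) ⟨v, hv⟩).1 (orderOf_eq_one_iff.1
      (Nat.eq_one_of_dvd_coprimes (Nat.coprime_two_left.2 (odd_of_mem_core ho)) h2 h3)))
  have haC := hinvol a (hP E.refl.1) E.refl.order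
  have hxC : c.d.x ∈ centralizer (R : Set G) := by
    have := mul_mem hbC haC
    rwa [E.b_conj_a] at this
  refine ⟨fun p hp => ?_, ?_⟩
  · rcases c.d.cases p hp with ⟨i, rfl⟩ | ⟨i, rfl⟩
    · exact zpow_mem hxC i
    · rcases c.d.cases a E.refl.1 with ⟨j, hj⟩ | ⟨j, hj⟩
      · exact absurd (hj ▸ zpow_mem (mem_zpowers _) j) E.refl.2
      · have hyd : c.d.y = c.d.x ^ (-j) * a := by rw [hj, ← mul_assoc, ← zpow_add]; simp
        exact mul_mem (zpow_mem hxC i) (hyd ▸ mul_mem (zpow_mem hxC (-j)) haC)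
  obtain ⟨e, he, heb⟩ := hfus
  set b := c.d.x * a with hbdef
  obtain ⟨n, hn, o, ho, eo⟩ := hsplit ⟨e, he⟩
  replace eo : e = (n : G) * (o : G) := congrArg Subtype.val eo
  have hnC : (n : G) ∈ centralizer (R : Set G) := hn
  have hbb : b * b = 1 := E.refl_b.sq
  have hbi : b⁻¹ = b := E.refl_b.inv_eq
  set b₂ := (n : G)⁻¹ * c.d.z * n with hb₂
  have hb₂e : b₂ = (o : G) * b * (o : G)⁻¹ := by rw [hb₂, ← heb, eo]; group
  have hb₂C : b₂ ∈ centralizer (R : Set G) := mul_mem (mul_mem (inv_mem hnC) hzC) hnC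
  set δ := b₂ * b with hδ
  have hδo : Odd (orderOf δ) := by
    haveI := oddCore_normal (X := H)
    set bH : H := ⟨b, hP E.refl_b.1⟩
    have hm : o * bH * o⁻¹ * bH ∈ Cfsg.oddCore H := by
      rw [show o * bH * o⁻¹ * bH = o * (bH * o⁻¹ * bH⁻¹) * (bH * bH) by group,
        show bH * bH = 1 from Subtype.ext hbb, mul_one]
      exact mul_mem ho ((oddCore_normal (X := H)).conj_mem _ (inv_mem ho) bH)
    have h4 := odd_of_mem_core hm
    rw [← Subgroup.orderOf_coe] at h4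
    rwa [hδ, hb₂e]
  have hb₂b₂ : b₂ * b₂ = 1 := by
    rw [hb₂e, show (o : G) * b * (o : G)⁻¹ * ((o : G) * b * (o : G)⁻¹) = o * (b * b) * (o : G)⁻¹ by group,
      hbb, mul_one, mul_inv_cancel]
  have hδinv : b * δ * b⁻¹ = δ⁻¹ := by
    rw [hδ, hbi, mul_inv_rev, inv_eq_of_mul_eq_one_right hb₂b₂, hbi]
    calc b * (b₂ * b) * b = b * b₂ * (b * b) := by group
      _ = b * b₂ := by rw [hbb, mul_one]
  obtain ⟨ρ, hρ, hρρ⟩ := exists_sqrt hδo
  have hρC : ρ ∈ centralizer (R : Set G) := (zpowers_le.2 (mul_mem hb₂C hbC)) hρ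
  have hρinv : b * ρ * b⁻¹ = ρ⁻¹ := by
    obtain ⟨i, rfl⟩ := hρ
    simp only
    rw [← conj_zpow, hδinv, inv_zpow]
  have h5 : ρ * b * ρ⁻¹ = b₂ := by
    calc ρ * b * ρ⁻¹ = ρ * (b * ρ⁻¹ * b⁻¹) * b := by group
      _ = ρ * ρ * b := by rw [← conj_inv, hρinv, inv_inv]
      _ = b₂ := by rw [hρρ, hδ, mul_assoc, hbb, mul_one]
  refine ⟨(n : G) * ρ, mul_mem hnC hρC, ?_⟩
  calc (n : G) * ρ * b * ((n : G) * ρ)⁻¹ = n * (ρ * b * ρ⁻¹) * (n : G)⁻¹ := by group
    _ = c.d.z := by rw [h5, hb₂]; group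

end ExoData

end Cfsg.Agent.GW
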