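import Mathlib.Data.Fintype.Prod
import Mathlib.LinearAlgebra.Matrix.Determinant.Basic
import Mathlib.LinearAlgebra.Matrix.Notation
import Mathlib.Data.ZMod.Basic
set_option autoImplicit false
set_option synthInstance.maxSize 2000
set_option synthInstance.maxHeartbeats 200000
open Matrix
namespace Cfsg.Agent.GW

abbrev T3 := ZMod 3 × ZMod 3 × ZMod 3 × ZMod 3
def T3.mul (a b : T3) : T3 :=
  (a.1 * b.1 + a.2.1 * b.2.2.1, a.1 * b.2.1 + a.2.1 * b.2.2.2,
   a.2.2.1 * b.1 + a.2.2.2 * b.2.2.1, a.2.2.1 * b.2.1 + a.2.2.2 * b.2.2.2)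
def T3.sq (a : T3) : T3 := T3.mul a a
def T3.app (a : T3) (v : ZMod 3 × ZMod 3) : ZMod 3 × ZMod 3 :=
  (a.1 * v.1 + a.2.1 * v.2, a.2.2.1 * v.1 + a.2.2.2 * v.2)

theorem gl23_aux : ∀ a : T3, T3.mul a a = (1,0,0,1) → a.1 * a.2.2.2 - a.2.1 * a.2.2.1 = -1 →
    ∀ x : T3, T3.mul (T3.mul a x) (T3.mul a x) = (1,0,0,1) →
      T3.sq (T3.sq (T3.sq x)) = (1,0,0,1) →
      ∀ v : ZMod 3 × ZMod 3, T3.app a v = v ∨ T3.app a v = -v → T3.app (T3.sq x) v = v ∨ T3.app (T3.sq x) v = -v := by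
  decide +kernel

theorem gl23_pow_aux : ∀ y : T3,
    T3.sq (T3.sq (T3.sq (T3.sq y))) = (1,0,0,1) → T3.sq (T3.sq (T3.sq y)) = (1,0,0,1) := by
  decide +kernel

/-- In `GL(2,3)` the square of a `2`-element inverted by a reflection preserves its eigenlines. -/
theorem gl23_orbit (a x : Matrix (Fin 2) (Fin 2) (ZMod 3)) (ha : a * a = 1) (hdet : a.det = -1)
    (hx : a * x * a * x = 1) (hn : ∃ n, x ^ (2 ^ n) = 1) (v : Fin 2 → ZMod 3)
    (hv : a *ᵥ v = v ∨ a *ᵥ v = -v) : (x * x) *ᵥ v = v ∨ (x * x) *ᵥ v = -v := by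
  let τ : Matrix (Fin 2) (Fin 2) (ZMod 3) → T3 := fun m => (m 0 0, m 0 1, m 1 0, m 1 1)
  let π : (Fin 2 → ZMod 3) → ZMod 3 × ZMod 3 := fun w => (w 0, w 1)
  have hmul : ∀ m m', τ (m * m') = T3.mul (τ m) (τ m') := fun m m' => by
    simp [τ, T3.mul, Matrix.mul_apply, Fin.sum_univ_two]
  have hone : τ 1 = (1, 0, 0, 1) := by simp [τ]
  have happ : ∀ m w, π (m *ᵥ w) = T3.app (τ m) (π w) := fun m w => by
    simp [τ, π, T3.app, Matrix.mulVec, dotProduct, Fin.sum_univ_two]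
  have hπ : ∀ w w', π w = π w' → w = w' := fun w w' h => by
    ext i; fin_cases i
    · exact congrArg Prod.fst h
    · exact congrArg Prod.snd h
  have hτsq : ∀ m, τ (m * m) = T3.sq (τ m) := fun m => hmul m m
  obtain ⟨n, hn⟩ := hn
  have h8 : ∀ (n : ℕ) (y : Matrix (Fin 2) (Fin 2) (ZMod 3)), y ^ (2 ^ n) = 1 →
      T3.sq (T3.sq (T3.sq (τ y))) = (1, 0, 0, 1) := by
    intro n
    induction n with
    | zero =>
      intro y hy
      rw [pow_zero, pow_one] at hy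
      subst hy
      rw [hone]
      decide +kernel
    | succ n ih =>
      intro y hy
      apply gl23_pow_aux
      rw [← hτsq y]
      exact ih (y * y) (by rw [← sq, ← pow_mul, ← pow_succ']; exact hy)
  have key := gl23_aux (τ a) (by rw [← hmul, ha, hone]) (by rw [← hdet, Matrix.det_fin_two]) (τ x)
    (by rw [← hmul, ← hmul, ← mul_assoc, hx, hone]) (h8 n x hn) (π v)
    (by rw [← happ]; exact hv.imp (fun h => by rw [h]) (fun h => by rw [h]; rfl))
  rw [← hτsq, ← happ] at key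
  exact key.imp (hπ _ _) (fun h => hπ _ _ h)

end Cfsg.Agent.GW
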