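import Cfsg.Agent.Lib.GW.Mixed

/-!
A reflection that is mixed on no `O_s(C)`: its inverted elements of `U` form a small abelian normal
subgroup of `C`.
-/

set_option autoImplicit false
set_option linter.unusedSectionVars false
set_option linter.style.haveILetI false

namespace Cfsg.Agent.GW

open Cfsg.Agent.TwoFus Cfsg.Agent.BenderUnique Subgroup

universe u

theorem inverted_comm_inv {Y : Type u} [Group Y] {a y o : Y} (hy : a * y * a⁻¹ = y⁻¹)
    (hyo : Odd (orderOf y)) (ho : a * o * a⁻¹ = o⁻¹)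
    (hinv : a * (y * o * y⁻¹) * a⁻¹ = (y * o * y⁻¹)⁻¹) : y * o = o * y := by
  have h1 : y⁻¹ * o⁻¹ * y = y * o⁻¹ * y⁻¹ := by
    calc y⁻¹ * o⁻¹ * y = a * y * a⁻¹ * (a * o * a⁻¹) * (a * y * a⁻¹)⁻¹ := by rw [hy, ho, inv_inv]
      _ = a * (y * o * y⁻¹) * a⁻¹ := by group
      _ = y * o⁻¹ * y⁻¹ := by rw [hinv]; group
  have h2 : Commute (y * y) o⁻¹ := by
    show y * y * o⁻¹ = o⁻¹ * (y * y)
    calc y * y * o⁻¹ = y * (y * o⁻¹ * y⁻¹) * y := by group
      _ = y * (y⁻¹ * o⁻¹ * y) * y := by rw [h1]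
      _ = o⁻¹ * (y * y) := by group
  obtain ⟨j, hj⟩ := hyo
  have e : y = (y * y) ^ (j + 1) := by
    rw [← pow_two, ← pow_mul, show 2 * (j + 1) = orderOf y + 1 by omega, pow_succ, pow_orderOf_eq_one,
      one_mul]
  rw [e]
  exact (h2.pow_left _).inv_right.eq.trans (by rw [inv_inv]) |> fun h => by simpa using h

namespace Core

variable {G : Type u} [Group G] [Finite G] (c : Core G)

theorem C_solvable : Group.IsSolvable c.C := by
  haveI : Fact (Nat.Prime 2) := ⟨Nat.prime_two⟩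
  haveI hn : (c.U.subgroupOf c.C).Normal := ⟨fun u hu h => by
    rw [mem_subgroupOf] at hu ⊢
    exact c.U_conj h h.2 u hu⟩
  haveI : Group.IsSolvable (c.U.subgroupOf c.C) := by
    haveI := OddChar.oddSolvable c.U c.U_odd
    exact Group.isSolvable_of_surjective (f := (subgroupOfEquivOfLe c.U_le).symm.toMonoidHom)
      (MulEquiv.surjective _)
  haveI : Group.IsNilpotent (c.P : Subgroup G) := c.P.isPGroup'.isNilpotent
  let f : (c.P : Subgroup G) →* c.C ⧸ c.U.subgroupOf c.C :=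
    (QuotientGroup.mk' _).comp (inclusion c.P_le)
  haveI : Group.IsSolvable (c.C ⧸ c.U.subgroupOf c.C) := Group.isSolvable_of_surjective (f := f) fun p => by
    obtain ⟨⟨g, hg⟩, rfl⟩ := QuotientGroup.mk'_surjective _ p
    obtain ⟨u, hu, s, hs, e⟩ := c.U_sup g hg
    refine ⟨⟨s, hs⟩, (QuotientGroup.mk'_eq_mk' (c.U.subgroupOf c.C)).2 ⟨⟨s⁻¹ * u * s, ?_⟩, ?_, Subtype.ext ?_⟩⟩
    · exact mul_mem (mul_mem (inv_mem (c.P_le hs)) (c.U_le hu)) (c.P_le hs)
    · rw [mem_subgroupOf]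
      have := c.U_conj s⁻¹ (inv_mem (c.P_le hs)) u hu
      rwa [inv_inv] at this
    · show s * (s⁻¹ * u * s) = g
      rw [e]; group
  exact Group.isSolvable_of_ker_le_range (c.U.subgroupOf c.C).subtype (QuotientGroup.mk' (c.U.subgroupOf c.C))
    (by rw [QuotientGroup.ker_mk', Subgroup.range_subtype])

/-- A reflection mixed on no `O_s(C)` of odd order. -/
def NeverMixed (b : G) : Prop := ∀ s : ℕ, Fact s.Prime → s ≠ 2 → ¬ c.Mixed b s

/-- The centre of the Fitting subgroup of `C`. -/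
def ZFit : Subgroup G := fitIn c.C ⊓ centralizer (fitIn c.C : Set G)

variable {c} {b : G}

theorem ZFit_norm : c.C ≤ normalizer (c.ZFit : Set G) := by
  have h : c.C ≤ normalizer (fitIn c.C : Set G) := by
    haveI := FittingCores.fitting_normal (G := c.C)
    exact BenderMax.le_normalizer_map _
  exact (le_inf h (h.trans (Cfsg.Agent.Components.normalizer_le_normalizer_centralizer _))).trans
    inf_normalizer_le_normalizer_inf

theorem ZFit_comm : c.ZFit ≤ centralizer (c.ZFit : Set G) :=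
  inf_le_right.trans (centralizer_le inf_le_left)

theorem ZFit_le_cent {s : ℕ} (hs : s.Prime) : c.ZFit ≤ centralizer (c.Qc s : Set G) :=
  inf_le_right.trans (centralizer_le (coreIn_le_fit hs c.C))

/-- An element of `C` of prime power order in the Fitting subgroup. -/
theorem mem_Qc_of_pow {s : ℕ} [Fact s.Prime] {r : G} (hr : r ∈ fitIn c.C) (hp : IsPGroup s (zpowers r)) :
    r ∈ c.Qc s :=
  pSub_le_coreIn hp (zpowers_le.2 hr) (mem_zpowers r)

namespace NeverMixed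

variable (hb : c.Refl b) (hn : c.NeverMixed b)

include hb hn

theorem dichotomy (s : ℕ) [Fact s.Prime] (hs2 : s ≠ 2) :
    (∀ y ∈ c.Qc s, b * y * b⁻¹ = y) ∨ (∀ y ∈ c.Qc s, b * y * b⁻¹ = y⁻¹) := by
  by_cases hW : c.Qc s ≤ c.W b
  · exact Or.inl fun y hy => mul_inv_eq_iff_eq_mul.2 ((hb.mem_W.1 (hW hy)).2).symm
  refine Or.inr (inverts_of_fpf hb.order
    (fun y hy => (mem_normalizer_iff.1 (normalizes_coreIn s c.C hb.mem_C) y).1 hy) fun y hy hby => ?_)
  have hbot : c.Qc s ⊓ c.W b = ⊥ := by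
    by_contra hne
    exact hn s inferInstance hs2 ⟨hne, hW⟩
  have hm : y ∈ c.Qc s ⊓ c.W b := ⟨hy, hb.mem_W.2 ⟨c.Qc_le_U hs2 hy, hby.symm⟩⟩
  rwa [hbot, mem_bot] at hm

/-- An inverted element of `U` lies in the centre of the Fitting subgroup. -/
theorem mem_ZFit {r : G} (hr : r ∈ c.U) (hri : b * r * b⁻¹ = r⁻¹) : r ∈ c.ZFit := by
  have hrC : r ∈ c.C := c.U_le hr
  have hro : Odd (orderOf r) := c.odd_of_mem_U hr
  have hc : r ∈ centralizer (fitIn c.C : Set G) := by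
    have h1 : fitIn c.C ≤ centralizer ({r} : Set G) := fitIn_le_iff.2 fun s hs y hy => by
      haveI := Fact.mk hs
      rw [mem_centralizer_singleton_iff]
      have hy' : r * y * r⁻¹ ∈ c.Qc s := (mem_normalizer_iff.1 (normalizes_coreIn s c.C hrC) y).1 hy
      by_cases hs2 : s = 2
      · subst hs2
        have hm : r * y * r⁻¹ * y⁻¹ ∈ c.Qc 2 := mul_mem hy' (inv_mem hy)
        have hmU : r * y * r⁻¹ * y⁻¹ ∈ c.U := by
          rw [show r * y * r⁻¹ * y⁻¹ = r * (y * r⁻¹ * y⁻¹) by group]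
          exact mul_mem hr (c.U_conj y (c.Qc_le_C 2 hy) _ (inv_mem hr))
        obtain ⟨k, hk⟩ := IsPGroup.iff_orderOf.1 (coreIn_pGroup 2 c.C) ⟨_, hm⟩
        rw [orderOf_mk] at hk
        have h2 : r * y * r⁻¹ * y⁻¹ = 1 := orderOf_eq_one_iff.1 (Nat.eq_one_of_dvd_coprimes
          (Nat.Coprime.pow_right k (Nat.coprime_two_right.2 (c.odd_of_mem_U hmU))) dvd_rfl hk.dvd)
        exact (mul_inv_eq_iff_eq_mul.1 (mul_inv_eq_one.1 h2)).symm
      rcases hn.dichotomy hb s hs2 with h | h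
      · exact (inverted_comm hri hro (h y hy) (h _ hy')).symm
      · exact (inverted_comm_inv hri hro (h y hy) (h _ hy')).symm
    exact mem_centralizer_iff.2 fun y hy => mem_centralizer_singleton_iff.1 (h1 hy)
  refine ⟨?_, hc⟩
  haveI := c.C_solvable
  refine ⟨⟨r, hrC⟩, FittingCores.centralizer_fitting_le ?_, rfl⟩
  exact mem_centralizer_iff.2 fun y hy => Subtype.ext
    (mem_centralizer_iff.1 hc (y : G) ⟨y, hy, rfl⟩)

/-- The inverted elements form a normal subgroup of `C`. -/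
theorem exists_inv_subgroup :
    ∃ F : Subgroup G, F ≤ c.U ∧ F ≤ c.ZFit ∧ c.C ≤ normalizer (F : Set G) ∧
      ∀ r, r ∈ F ↔ r ∈ c.U ∧ b * r * b⁻¹ = r⁻¹ := by
  classical
  let F : Subgroup G :=
    { carrier := {r | r ∈ c.U ∧ b * r * b⁻¹ = r⁻¹}
      one_mem' := ⟨one_mem _, by simp⟩
      mul_mem' := fun {r s} hr hs => ⟨mul_mem hr.1 hs.1, by
        have hc : r * s = s * r :=
          (mem_centralizer_iff.1 (ZFit_comm (hn.mem_ZFit hb hs.1 hs.2)) r (hn.mem_ZFit hb hr.1 hr.2))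
        rw [mul_inv_rev, ← conj_mul, hr.2, hs.2, ← mul_inv_rev, ← mul_inv_rev, hc]⟩
      inv_mem' := fun {r} hr => ⟨inv_mem hr.1, by
        show b * r⁻¹ * b⁻¹ = r⁻¹⁻¹
        rw [← conj_inv, hr.2]⟩ }
  have hFU : F ≤ c.U := fun r hr => hr.1
  refine ⟨F, hFU, fun r hr => hn.mem_ZFit hb hr.1 hr.2, fun g hg => ?_, fun r => Iff.rfl⟩
  refine mem_normalizer_fintype fun r hr => ?_
  suffices htop : (F.comap (MulAut.conj g).toMonoidHom).subgroupOf F = ⊤ from
    (subgroupOf_eq_top.1 htop) hr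
  refine FittingCores.eq_top_of_forall_sylow_le fun t ht => ?_
  haveI := Fact.mk ht
  refine ⟨default, fun y hy => ?_⟩
  rw [mem_subgroupOf]
  show g * (y : G) * g⁻¹ ∈ F
  by_cases hy1 : (y : G) = 1
  · rw [hy1, mul_one, mul_inv_cancel]; exact one_mem F
  have hp : IsPGroup t (zpowers (y : G)) :=
    ((default : Sylow t F).isPGroup'.map F.subtype).to_le (zpowers_le.2 ⟨y, hy, rfl⟩)
  have hyQ : (y : G) ∈ c.Qc t := mem_Qc_of_pow (hn.mem_ZFit hb y.2.1 y.2.2).1 hp
  have ht2 : t ≠ 2 := by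
    rintro rfl
    obtain ⟨k, hk⟩ := IsPGroup.iff_orderOf.1 hp ⟨y, mem_zpowers _⟩
    rw [orderOf_mk] at hk
    exact hy1 (orderOf_eq_one_iff.1 (Nat.eq_one_of_dvd_coprimes
      (Nat.Coprime.pow_right k (Nat.coprime_two_right.2 (c.odd_of_mem_U y.2.1))) dvd_rfl hk.dvd))
  refine ⟨c.U_conj g hg _ y.2.1, ?_⟩
  rcases hn.dichotomy hb t ht2 with h | h
  · exfalso
    refine hy1 (eq_one_of_sq_odd ?_ (c.odd_of_mem_U y.2.1))
    have h2 := (h _ hyQ).symm.trans y.2.2
    nth_rewrite 1 [h2]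
    rw [inv_mul_cancel]
  · exact h _ ((mem_normalizer_iff.1 (normalizes_coreIn t c.C hg) _).1 hyQ)

end NeverMixed

variable {a : G} {q : ℕ} [hq : Fact q.Prime]

/-- The inverted elements of a section above `E` are at most as many as the cosets of `W`. -/
theorem Refl.card_T_le (ha : c.Refl a) {H T : Subgroup G}
    (hT : ∀ y, y ∈ T ↔ y ∈ H ∧ y ∈ c.U ∧ a * y * a⁻¹ = y⁻¹) :
    Nat.card T ≤ (c.W a).relIndex (c.U ⊓ H) := by
  let f : T → (c.U ⊓ H : Subgroup G) ⧸ (c.W a).subgroupOf (c.U ⊓ H) := fun t =>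
    QuotientGroup.mk ⟨t, ((hT t).1 t.2).2.1, ((hT t).1 t.2).1⟩
  refine Nat.card_le_card_of_injective f fun r r' e => ?_
  simp only [f, QuotientGroup.eq, mem_subgroupOf] at e
  have hm : (r : G)⁻¹ * r' ∈ c.W a := e
  obtain ⟨-, hrU, hr⟩ := (hT r).1 r.2
  obtain ⟨-, hrU', hr'⟩ := (hT r').1 r'.2
  have h1 : (r : G) * (r' : G)⁻¹ = (r : G)⁻¹ * r' := by
    have h2 : a * ((r : G)⁻¹ * r') * a⁻¹ = (r : G)⁻¹ * r' :=
      mul_inv_eq_iff_eq_mul.2 ((ha.mem_W.1 hm).2).symm
    rwa [← conj_mul, ← conj_inv, hr, hr', inv_inv] at h2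
  have h3 : (r : G) * r = (r' : G) * r' := by
    calc (r : G) * r = r * ((r : G) * (r' : G)⁻¹) * r' := by group
      _ = r * ((r : G)⁻¹ * r') * r' := by rw [h1]
      _ = (r' : G) * r' := by group
  have key : ∀ x : G, Odd (orderOf x) → ∀ n, orderOf x ∣ n → Odd n → x = (x * x) ^ ((n + 1) / 2) := by
    rintro x - n hd ⟨j, rfl⟩
    rw [← pow_two, ← pow_mul, show 2 * ((2 * j + 1 + 1) / 2) = 2 * j + 1 + 1 by omega, pow_succ,
      orderOf_dvd_iff_pow_eq_one.1 hd, one_mul]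
  refine Subtype.ext ?_
  exact ((key r (c.odd_of_mem_U hrU) (orderOf (r : G) * orderOf (r' : G)) (dvd_mul_right _ _)
      ((c.odd_of_mem_U hrU).mul (c.odd_of_mem_U hrU'))).trans (congrArg (· ^ _) h3)).trans
    (key r' (c.odd_of_mem_U hrU') (orderOf (r : G) * orderOf (r' : G)) (dvd_mul_left _ _)
      ((c.odd_of_mem_U hrU).mul (c.odd_of_mem_U hrU'))).symm

/-- The other reflection class, when it is never mixed, has at most `|T| ^ 2` conjugates under `U`. -/
theorem Refl.other_bound (ha : c.Refl a) (hb : c.Refl b) (hba : b = c.d.x * a) (hn : c.NeverMixed b) (hC : IsCoatom c.C)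
    (hS : c.SecAll) (hq2 : q ≠ 2) (hm : c.Mixed a q) {E H T : Subgroup G} (hE : E ≤ c.Qc q)
    (hEH : centralizer (E : Set G) ≤ H) (hT : ∀ y, y ∈ T ↔ y ∈ H ∧ y ∈ c.U ∧ a * y * a⁻¹ = y⁻¹) :
    (c.W b).relIndex c.U ≤ Nat.card T ^ 2 := by
  classical
  obtain ⟨F, hFU, hFZ, hFn, hFmem⟩ := hn.exists_inv_subgroup hb
  have hsurj : (c.W b).relIndex c.U ≤ Nat.card F := by
    let f : F → c.U ⧸ (c.W b).subgroupOf c.U := fun r => QuotientGroup.mk ⟨r, hFU r.2⟩
    refine Nat.card_le_card_of_surjective f fun p => ?_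
    induction p using QuotientGroup.induction_on with
    | _ u =>
      obtain ⟨r, hrU, hri, hw, -⟩ := hb.decomp u.2
      exact ⟨⟨r, (hFmem r).2 ⟨hrU, hri⟩⟩, QuotientGroup.eq.2 hw⟩
  refine hsurj.trans ?_
  have hcomm : ∀ r ∈ F, ∀ s ∈ F, r * s = s * r := fun r hr s hs =>
    mem_centralizer_iff.1 (ZFit_comm (hFZ hs)) r (hFZ hr)
  have hFH : F ≤ H := fun r hr => hEH ((centralizer_le hE) ((ZFit_le_cent hq.out) (hFZ hr)))
  have haF : ∀ r ∈ F, a * r * a⁻¹ ∈ F := fun r hr => (mem_normalizer_iff.1 (hFn ha.mem_C) r).1 hr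
  let φ : F →* G :=
    { toFun := fun r => r * (a * (r : G)⁻¹ * a⁻¹)
      map_one' := by simp
      map_mul' := fun r s => by
        show (r : G) * s * (a * ((r : G) * s)⁻¹ * a⁻¹) = _
        rw [mul_inv_rev, show a * ((s : G)⁻¹ * (r : G)⁻¹) * a⁻¹ =
          (a * (s : G)⁻¹ * a⁻¹) * (a * (r : G)⁻¹ * a⁻¹) by group,
          hcomm _ (haF _ (inv_mem s.2)) _ (haF _ (inv_mem r.2))]
        calc (r : G) * s * (a * (r : G)⁻¹ * a⁻¹ * (a * (s : G)⁻¹ * a⁻¹))
            = r * ((s : G) * (a * (r : G)⁻¹ * a⁻¹)) * (a * (s : G)⁻¹ * a⁻¹) := by group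
          _ = r * (a * (r : G)⁻¹ * a⁻¹ * s) * (a * (s : G)⁻¹ * a⁻¹) := by
            rw [hcomm _ s.2 _ (haF _ (inv_mem r.2))]
          _ = r * (a * (r : G)⁻¹ * a⁻¹) * (s * (a * (s : G)⁻¹ * a⁻¹)) := by group }
  have hφinv : ∀ r : F, a * φ r * a⁻¹ = (φ r)⁻¹ := fun r => by
    show a * ((r : G) * (a * (r : G)⁻¹ * a⁻¹)) * a⁻¹ = ((r : G) * (a * (r : G)⁻¹ * a⁻¹))⁻¹
    rw [mul_inv_rev, conj_inv, inv_inv, ← conj_mul,
      show a * (a * (r : G)⁻¹ * a⁻¹) * a⁻¹ = a * a * (r : G)⁻¹ * (a * a)⁻¹ by group, ha.sq, one_mul,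
      inv_one, mul_one]
  have himg : φ.range ≤ T := by
    rintro _ ⟨r, rfl⟩
    have hmem : φ r ∈ F := mul_mem r.2 (haF _ (inv_mem r.2))
    exact (hT _).2 ⟨hFH hmem, hFU hmem, hφinv r⟩
  have hcard : Nat.card F = Nat.card φ.ker * Nat.card φ.range := by
    rw [← Subgroup.index_ker, Subgroup.card_mul_index]
  set K := φ.ker.map F.subtype with hK
  have hKmem : ∀ r, r ∈ K ↔ r ∈ F ∧ a * r = r * a := fun r => by
    constructor
    · rintro ⟨r, hr, rfl⟩
      refine ⟨r.2, ?_⟩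
      have e : (r : G) * (a * (r : G)⁻¹ * a⁻¹) = 1 := hr
      rw [show a * (r : G)⁻¹ * a⁻¹ = (a * r * a⁻¹)⁻¹ by group, mul_inv_eq_one] at e
      exact mul_inv_eq_iff_eq_mul.1 e.symm
    · rintro ⟨hr, e⟩
      refine ⟨⟨r, hr⟩, ?_, rfl⟩
      show r * (a * r⁻¹ * a⁻¹) = 1
      rw [show a * r⁻¹ * a⁻¹ = (a * r * a⁻¹)⁻¹ by group, e]
      group
  have hKF : K ≤ F := map_subtype_le _
  have hKcard : Nat.card K = Nat.card φ.ker := card_map_of_injective F.subtype_injective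
  have hr : Nat.card φ.range ≤ Nat.card T := card_le_of_le himg
  rw [hcard, ← hKcard, pow_two]
  refine Nat.mul_le_mul (le_trans ?_ hr) hr
  by_cases hdis : ∀ u ∈ c.U, K ⊓ K.map (MulAut.conj u).toMonoidHom ≠ ⊥ → u ∈ normalizer (K : Set G)
  swap
  · push Not at hdis
    obtain ⟨u, hu, hne, hun⟩ := hdis
    exfalso
    refine hun ?_
    obtain ⟨⟨r, hrK, hrK'⟩, hr1⟩ := Subgroup.ne_bot_iff_exists_ne_one.1 hne
    replace hr1 : r ≠ 1 := fun e => hr1 (Subtype.ext e)
    obtain ⟨s, hs, hdvd⟩ := Nat.exists_prime_and_dvd (n := orderOf r) fun e => hr1 (orderOf_eq_one_iff.1 e)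
    haveI := Fact.mk hs
    have hs2 : s ≠ 2 := by
      rintro rfl
      exact Nat.not_even_iff_odd.2 (c.odd_of_mem_U (hFU (hKF hrK))) (even_iff_two_dvd.2 hdvd)
    set p := r ^ (orderOf r / s) with hp
    have hpo : orderOf p = s := by
      rw [hp, orderOf_pow_of_dvd (Nat.div_pos (Nat.le_of_dvd (orderOf_pos r) hdvd) hs.pos).ne'
        (Nat.div_dvd_of_dvd hdvd), Nat.div_div_self hdvd (orderOf_pos r).ne']
    set X := zpowers p with hX
    have hXK : X ≤ K := zpowers_le.2 (pow_mem hrK _)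
    have hXK' : X ≤ K.map (MulAut.conj u).toMonoidHom := zpowers_le.2 (pow_mem hrK' _)
    have hXQ : X ≤ c.Qc s :=
      pSub_le_coreIn (IsPGroup.of_card (n := 1) (by rw [Nat.card_zpowers, hpo, pow_one]))
        ((hXK.trans hKF).trans (hFZ.trans inf_le_left))
    have hX1 : X ≠ ⊥ := fun e => by
      have := Nat.card_zpowers p
      rw [← hX, e, card_bot, hpo] at this
      exact hs.one_lt.ne this
    have hXW : X ≤ c.W a := fun y hy => ha.mem_W.2
      ⟨hFU (hKF (hXK hy)), (((hKmem y).1 (hXK hy)).2).symm⟩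
    by_cases hsW : c.Qc s ≤ c.W a
    · -- the part of `F` in `O_s(C)` would be a centralised normal subgroup
      exact (ha.no_normal hC hq2 hm (Y := F ⊓ c.Qc s) (s := s)
        (fun e => hX1 (le_bot_iff.1 (e ▸ le_inf (hXK.trans hKF) hXQ)))
        (le_inf inf_le_right (inf_le_right.trans hsW))
        ((le_inf hFn (normalizes_coreIn s c.C)).trans inf_normalizer_le_normalizer_inf)).elim
    obtain ⟨cr⟩ := ha.exists_cross hs2 hsW
    set H' := normalizer (X : Set G) with hH'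
    obtain ⟨hI, hO⟩ := cr.local_inner ha hs2 hC hX1 (le_inf hXQ hXW) (H := H')
      (centralizer_le_normalizer _) le_rfl
    obtain ⟨T', cc, hT', hT'mem, -, -, hinv, -⟩ := hS a H' ha hI hO
    have hbF : ∀ y ∈ F, b * y * b⁻¹ = y⁻¹ := fun y hy => ((hFmem y).1 hy).2
    have hbH : b ∈ H' ⊓ c.C := by
      refine ⟨mem_normalizer_fintype fun y hy => ?_, hb.mem_C⟩
      show b * y * b⁻¹ ∈ X
      rw [hbF y (hKF (hXK hy))]
      exact inv_mem hy
    -- some element of `F` is inverted by `a`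
    by_cases hne1 : ∀ y : F, φ y = 1
    · have hKeq : K = F := le_antisymm hKF fun y hy => ⟨⟨y, hy⟩, hne1 _, rfl⟩
      rw [hKeq]
      exact hFn (c.U_le hu)
    push Not at hne1
    obtain ⟨y, hy⟩ := hne1
    have hyF : φ y ∈ F := mul_mem y.2 (haF _ (inv_mem y.2))
    have hFH' : F ≤ H' := fun w hw => centralizer_le_normalizer _
      (mem_centralizer_iff.2 fun v hv => hcomm v (hKF (hXK hv)) w hw)
    have hyT : φ y ∈ T' := (hT'mem _).2 ⟨hFH' hyF, hFU hyF, hφinv y⟩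
    -- the product of the two reflections acts trivially
    set v := u * a * u⁻¹ * a with hv
    have hvU : v ∈ c.U := by
      have : u * (a * u⁻¹ * a⁻¹) ∈ c.U := mul_mem hu (c.U_conj a ha.mem_C _ (inv_mem hu))
      rw [ha.inv_eq] at this
      rwa [hv, show u * a * u⁻¹ * a = u * (a * u⁻¹ * a) by group]
    have hvi : a * v * a⁻¹ = v⁻¹ := by
      rw [hv]
      calc a * (u * a * u⁻¹ * a) * a⁻¹ = a * u * a * u⁻¹ := by group
        _ = (u * a * u⁻¹ * a)⁻¹ := by
          rw [mul_inv_rev, mul_inv_rev, mul_inv_rev, inv_inv, ha.inv_eq]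
          group
    have hvT : v ∈ T' := by
      refine (hT'mem v).2 ⟨centralizer_le_normalizer _ (mem_centralizer_iff.2 fun x hx => ?_), hvU, hvi⟩
      have h1 : Commute x a := (((hKmem x).1 (hXK hx)).2).symm
      obtain ⟨e, he, hex⟩ := hXK' hx
      have h2 : Commute x (u * a * u⁻¹) := by
        rw [← hex]
        show u * e * u⁻¹ * (u * a * u⁻¹) = u * a * u⁻¹ * (u * e * u⁻¹)
        rw [conj_mul, conj_mul, ((hKmem e).1 he).2]
      exact (h2.mul_right h1).eq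
    obtain ⟨o, ho, hov⟩ := hinv b hbH hb.sq (φ y) hyT hy (hbF _ hyF) v hvT
    have hoa : a * (o : G) * a⁻¹ = o := mul_inv_eq_iff_eq_mul.2 (hO o ho).2.symm
    -- `v` centralises `F`
    have hvF : ∀ w ∈ F, v * w * v⁻¹ = w := by
      have hbb : ∀ w ∈ F, (b * v * b⁻¹) * w * (b * v * b⁻¹)⁻¹ = v * w * v⁻¹ := fun w hw => by
        have h1 : b⁻¹ * w * b = w⁻¹ := by
          have := hbF w hw
          rwa [hb.inv_eq] at this ⊢
        have h2 : v * w⁻¹ * v⁻¹ ∈ F := (mem_normalizer_iff.1 (hFn (c.U_le hvU)) _).1 (inv_mem hw)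
        calc (b * v * b⁻¹) * w * (b * v * b⁻¹)⁻¹ = b * (v * (b⁻¹ * w * b) * v⁻¹) * b⁻¹ := by group
          _ = v * w * v⁻¹ := by rw [h1, hbF _ h2]; group
      have hoF : ∀ w ∈ F, (o : G) * w * (o : G)⁻¹ = v * v * w * (v * v)⁻¹ := fun w hw => by
        have h2 : v * w * v⁻¹ ∈ F := (mem_normalizer_iff.1 (hFn (c.U_le hvU)) _).1 hw
        rw [← hov, show b * v * b⁻¹ * v * w * (b * v * b⁻¹ * v)⁻¹ =
          (b * v * b⁻¹) * (v * w * v⁻¹) * (b * v * b⁻¹)⁻¹ by group, hbb _ h2]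
        group
      intro w hw
      have h4 : Commute ((v * v) * (v * v)) w := by
        have e1 := hoF _ (haF w hw)
        have e2 : (o : G) * (a * w * a⁻¹) * (o : G)⁻¹ = a * ((o : G) * w * (o : G)⁻¹) * a⁻¹ := by
          conv_lhs => rw [← hoa]
          group
        rw [e2, hoF w hw] at e1
        have e3 : a * (v * v * w * (v * v)⁻¹) * a⁻¹ =
            (a * v * a⁻¹) * (a * v * a⁻¹) * (a * w * a⁻¹) * ((a * v * a⁻¹) * (a * v * a⁻¹))⁻¹ := by
          group
        rw [e3, hvi] at e1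
        have e4 : Commute ((v * v) * (v * v)) (a * w * a⁻¹) := by
          refine mul_inv_eq_iff_eq_mul.1 ?_
          calc v * v * (v * v) * (a * w * a⁻¹) * (v * v * (v * v))⁻¹
              = v * v * (v * v * (a * w * a⁻¹) * (v * v)⁻¹) * (v * v)⁻¹ := by group
            _ = a * w * a⁻¹ := by rw [← e1]; group
        have e5 := e4
        have hv4 : a * (v * v * (v * v)) * a⁻¹ = (v * v * (v * v))⁻¹ := by
          rw [← conj_mul, ← conj_mul, hvi]; group
        have e6 : Commute (a * (v * v * (v * v)) * a⁻¹) (a * w * a⁻¹) := by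
          rw [hv4]; exact e5.inv_left
        show v * v * (v * v) * w = w * (v * v * (v * v))
        have e7 : a * (v * v * (v * v) * w) * a⁻¹ = a * (w * (v * v * (v * v))) * a⁻¹ := by
          have := e6.eq
          rwa [conj_mul, conj_mul] at this
        exact mul_left_cancel (mul_right_cancel e7)
      obtain ⟨j, hj⟩ := c.odd_of_mem_U hvU
      have e : v = ((v * v) * (v * v)) ^ ((j + 1) * (j + 1)) := by
        have h1 : v ^ (2 * (j + 1)) = v := by
          rw [show 2 * (j + 1) = orderOf v + 1 by omega, pow_succ, pow_orderOf_eq_one, one_mul]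
        symm
        calc (v * v * (v * v)) ^ ((j + 1) * (j + 1)) = (v ^ (2 * (j + 1))) ^ (2 * (j + 1)) := by
              rw [← pow_two v, ← pow_add, ← pow_mul, ← pow_mul]; ring_nf
          _ = v := by rw [h1, h1]
      have h5 : Commute v w := by rw [e]; exact h4.pow_left _
      rw [h5.eq, mul_inv_cancel_right]
    refine mem_normalizer_fintype fun w hw => ?_
    obtain ⟨hwF, hwa⟩ := (hKmem w).1 hw
    have huw : u * w * u⁻¹ ∈ F := (mem_normalizer_iff.1 (hFn (c.U_le hu)) w).1 hwF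
    refine (hKmem _).2 ⟨huw, ?_⟩
    have h1 : Commute (u * a * u⁻¹) (u * w * u⁻¹) := by
      show _ = _
      rw [conj_mul, conj_mul, hwa]
    have h2 : Commute v (u * w * u⁻¹) := mul_inv_eq_iff_eq_mul.1 (hvF _ huw)
    have h3 : Commute (v⁻¹ * (u * a * u⁻¹)) (u * w * u⁻¹) := h2.inv_left.mul_left h1
    have h4 : v⁻¹ * (u * a * u⁻¹) = a := by rw [hv, mul_inv_rev, ha.inv_eq]; group
    rw [h4] at h3
    exact h3.eq
  -- some conjugate meets `K` trivially, or `K` is normal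
  by_cases hex : ∃ u ∈ c.U, K ⊓ K.map (MulAut.conj u).toMonoidHom = ⊥
  · obtain ⟨u, hu, he⟩ := hex
    set K' := K.map (MulAut.conj u).toMonoidHom with hK'
    have hK'F : K' ≤ F := by
      rintro _ ⟨w, hw, rfl⟩
      exact (mem_normalizer_iff.1 (hFn (c.U_le hu)) w).1 (hKF hw)
    have hK'c : Nat.card K' = Nat.card K := card_map_of_injective (MulAut.conj u).injective
    let g : K × K' → F := fun p => ⟨p.1 * p.2, mul_mem (hKF p.1.2) (hK'F p.2.2)⟩
    have hg : Function.Injective g := by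
      rintro ⟨⟨p, hp⟩, ⟨p', hp'⟩⟩ ⟨⟨r, hr⟩, ⟨r', hr'⟩⟩ e
      have e' : p * p' = r * r' := congrArg Subtype.val e
      have h1 : r⁻¹ * p = r' * p'⁻¹ := by
        rw [eq_mul_inv_iff_mul_eq, mul_assoc, e', inv_mul_cancel_left]
      have hm : r⁻¹ * p ∈ K ⊓ K' :=
        ⟨K.mul_mem (K.inv_mem hr) hp, h1 ▸ K'.mul_mem hr' (K'.inv_mem hp')⟩
      rw [he, mem_bot, inv_mul_eq_one] at hm
      subst hm
      obtain rfl := mul_left_cancel e'
      rfl
    have := Nat.card_le_card_of_injective g hg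
    rw [Nat.card_prod, hK'c, hcard, ← hKcard] at this
    exact Nat.le_of_mul_le_mul_left this Nat.card_pos
  · push Not at hex
    have hbn : ∀ w ∈ K, b * w * b⁻¹ ∈ K := fun w hw => by
      rw [((hFmem w).1 (hKF hw)).2]
      exact inv_mem hw
    have han : a ∈ normalizer (K : Set G) := mem_normalizer_fintype fun w hw => by
      show a * w * a⁻¹ ∈ K
      rwa [((hKmem w).1 hw).2, mul_inv_cancel_right]
    have hxn : c.d.x ∈ normalizer (K : Set G) := by
      have e : c.d.x = b * a := by rw [hba, mul_assoc, ha.sq, mul_one]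
      rw [e]
      exact mul_mem (mem_normalizer_fintype hbn) han
    have hKn : c.C ≤ normalizer (K : Set G) := by
      intro g hg
      obtain ⟨u, hu, s, hs, rfl⟩ := c.U_sup g hg
      refine mul_mem (hdis u hu (hex u hu)) ?_
      by_cases hsx : s ∈ zpowers c.d.x
      · exact (zpowers_le.2 hxn) hsx
      · have h1 := mul_mem han ((zpowers_le.2 hxn) (c.d.idx a ha.1 s hs ha.2 hsx))
        rwa [mul_inv_cancel_left] at h1
    by_cases hK1 : K = ⊥
    · rw [hK1, card_bot]; exact Nat.card_pos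
    exfalso
    obtain ⟨⟨r, hr⟩, hr1⟩ := Subgroup.ne_bot_iff_exists_ne_one.1 hK1
    obtain ⟨s, hs, hdvd⟩ := Nat.exists_prime_and_dvd (n := Nat.card K) (fun e => hK1 (card_eq_one.1 e))
    haveI := Fact.mk hs
    obtain ⟨p, hp⟩ := exists_prime_orderOf_dvd_card' (G := K) s hdvd
    have hpo : orderOf (p : G) = s := by rw [orderOf_coe, hp]
    have hs2 : s ≠ 2 := by
      rintro rfl
      have := c.odd_of_mem_U (hFU (hKF p.2))
      rw [hpo] at this
      exact absurd this (by decide)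
    have hpQ : (p : G) ∈ c.Qc s := mem_Qc_of_pow ((hFZ.trans inf_le_left) (hKF p.2))
      (IsPGroup.of_card (n := 1) (by rw [Nat.card_zpowers, hpo, pow_one]))
    refine ha.no_normal hC hq2 hm (Y := K ⊓ c.Qc s) (s := s) (fun e => ?_) (le_inf inf_le_right
      (inf_le_left.trans fun w hw => ha.mem_W.2 ⟨hFU (hKF hw), (((hKmem w).1 hw).2).symm⟩))
      ((le_inf hKn (normalizes_coreIn s c.C)).trans inf_normalizer_le_normalizer_inf)
    have : (p : G) ∈ K ⊓ c.Qc s := ⟨p.2, hpQ⟩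
    rw [e, mem_bot] at this
    rw [this, orderOf_one] at hpo
    exact hs.one_lt.ne hpo

end Core

end Cfsg.Agent.GW
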