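import Cfsg.Agent.Lib.GW.Torus
import Cfsg.Agent.Lib.GW.OtherSide
import Cfsg.Agent.Lib.GW.NoNormal
import Cfsg.Agent.Lib.GW.SecFineDef

/-!
A Heisenberg configuration in `O_q(C)`: a fixed element moved by an inverted one into a normal line.
The section above the fixed element is not `A₇`.
-/

set_option autoImplicit false
set_option linter.unusedSectionVars false
set_option linter.style.haveILetI false

namespace Cfsg.Agent.GW

open Cfsg.Agent.TwoFus Cfsg.Agent.BenderUnique Subgroup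

universe u

theorem pow_conj_translate {Y : Type u} [Group Y] {y e d : Y} (h : y * e * y⁻¹ = e * d)
    (hyd : y * d = d * y) (n : ℕ) : y ^ n * e * (y ^ n)⁻¹ = e * d ^ n := by
  induction n with
  | zero => simp
  | succ n ih =>
    have hc : y ^ n * d = d * y ^ n := ((show Commute y d from hyd).pow_left n).eq
    calc y ^ (n + 1) * e * (y ^ (n + 1))⁻¹ = y ^ n * (y * e * y⁻¹) * (y ^ n)⁻¹ := by
          rw [pow_succ, mul_inv_rev]; group
      _ = y ^ n * e * (y ^ n)⁻¹ * (y ^ n * d * (y ^ n)⁻¹) := by rw [h]; group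
      _ = e * d ^ (n + 1) := by rw [ih, hc, mul_inv_cancel_right, mul_assoc, ← pow_succ]

/-- A nontrivial normal subgroup of the perfect residual gives the whole socle or lies in the odd core. -/
theorem Sock.odd_in_core {X : Type u} [Group X] [Finite X] (K : Sock X) {D : Subgroup X}
    (hD : D ≤ res X) (hn : ∀ g ∈ res X, ∀ d ∈ D, g * d * g⁻¹ ∈ D) (ho : Odd (Nat.card D)) :
    D ≤ Cfsg.oddCore X := by
  haveI := K.normal
  haveI := K.simple
  haveI := oddCore_normal (X := X)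
  have hDL : D.map (mo X) ≤ K.L := by
    rintro _ ⟨d, hd, rfl⟩
    exact K.mem_socPre.1 (Subgroup.mem_sup_left (hD hd))
  have hLres : ∀ w ∈ K.L, ∃ g ∈ res X, mo X g = w := by
    intro w hw
    have hwS : w ∈ (socPre X).map (mo X) := by
      obtain ⟨y, rfl⟩ := QuotientGroup.mk'_surjective (Cfsg.oddCore X) w
      exact ⟨y, K.mem_socPre.2 hw, rfl⟩
    rw [socPre, Subgroup.map_sup, (Subgroup.map_eq_bot_iff (Cfsg.oddCore X) (f := mo X)).2
      (QuotientGroup.ker_mk' _).ge, sup_bot_eq] at hwS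
    exact hwS
  haveI hnorm : ((D.map (mo X)).subgroupOf K.L).Normal := ⟨fun d hd w => by
    rw [mem_subgroupOf] at hd ⊢
    obtain ⟨d', hd', e⟩ := hd
    obtain ⟨g, hg, e'⟩ := hLres w w.2
    refine ⟨g * d' * g⁻¹, hn g hg d' hd', ?_⟩
    rw [map_mul, map_mul, map_inv, e, e']
    rfl⟩
  rcases hnorm.eq_bot_or_eq_top with e | e
  · intro d hd
    have : (⟨mo X d, hDL (mem_map_of_mem _ hd)⟩ : K.L) ∈ (D.map (mo X)).subgroupOf K.L :=
      mem_map_of_mem _ hd
    rw [e, mem_bot] at this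
    exact (mo_ker d).1 (congrArg Subtype.val this)
  · exfalso
    have hodd : Odd (Nat.card K.L) :=
      ho.of_dvd_nat ((card_dvd_of_le (subgroupOf_eq_top.1 e)).trans (D.card_map_dvd (mo X)))
    haveI : Group.IsSolvable K.L := OddChar.oddSolvable _ hodd
    exact K.noncomm ⟨⟨IsSimpleGroup.comm_iff_isSolvable.2 inferInstance⟩⟩

/-- An involution of the preimage of the socle centralising the odd core is in the residual. -/
theorem invol_mem_res {X : Type u} [Group X] [Finite X] {v : X} (hv : orderOf v = 2) (hv' : v ∈ socPre X)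
    (hc : ∀ r ∈ res X, ∀ o ∈ Cfsg.oddCore X, r * o = o * r) : v ∈ res X := by
  haveI := oddCore_normal (X := X)
  obtain ⟨r, hr, o, ho, e⟩ : ∃ r ∈ res X, ∃ o ∈ Cfsg.oddCore X, r * o = v := by
    rw [socPre, ← SetLike.mem_coe, Subgroup.mul_normal] at hv'
    exact Set.mem_mul.1 hv'
  obtain ⟨j, hj⟩ := odd_of_mem_core ho
  have h1 : v ^ orderOf o = v := by
    rw [hj, pow_succ, pow_mul, pow_two, sq_one hv, one_pow, one_mul]
  rw [← h1, ← e, (show Commute r o from hc r hr o ho).mul_pow, pow_orderOf_eq_one, mul_one]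
  exact pow_mem hr _

/-- In a cyclic group the elements of order dividing a prime are the powers of one of them. -/
theorem prime_pow_mem_zpowers {T : Type u} [Group T] [Finite T] [IsCyclic T] {q : ℕ} (hq : q.Prime)
    {f y : T} (hf : f ^ q = 1) (hf1 : f ≠ 1) (hy : y ^ q = 1) : y ∈ zpowers f := by
  classical
  haveI : Fintype T := Fintype.ofFinite T
  by_contra hne
  let s : Finset T := insert y (Finset.univ.filter fun t => t ∈ zpowers f)
  have hnot : y ∉ Finset.univ.filter fun t => t ∈ zpowers f := fun hm => hne (Finset.mem_filter.1 hm).2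
  have hs : s ⊆ Finset.univ.filter fun t : T => t ^ q = 1 := by
    intro t ht
    refine Finset.mem_filter.2 ⟨Finset.mem_univ _, ?_⟩
    rcases Finset.mem_insert.1 ht with rfl | ht
    · exact hy
    · obtain ⟨i, rfl⟩ := (Finset.mem_filter.1 ht).2
      show (f ^ i) ^ q = 1
      rw [← zpow_natCast, ← zpow_mul, mul_comm, zpow_mul, zpow_natCast, hf, one_zpow]
  have hsc : q + 1 ≤ s.card := by
    rw [Finset.card_insert_of_notMem hnot]
    refine Nat.succ_le_succ (le_of_eq ?_)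
    rw [← Fintype.card_subtype, ← Nat.card_eq_fintype_card]
    haveI := Fact.mk hq
    exact (orderOf_eq_prime hf hf1).symm.trans (Nat.card_zpowers f).symm
  have := (Finset.card_le_card hs).trans (IsCyclic.card_pow_eq_one_le (α := T) hq.pos)
  omega

namespace Core

variable {G : Type u} [Group G] [Finite G] {c : Core G} {a : G} {q : ℕ} [hq : Fact q.Prime]
  {e f y : G}

/-- The Heisenberg configuration. -/
structure Heis (c : Core G) (a : G) (q : ℕ) (e f y : G) : Prop where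
  refl : c.Refl a
  hC : IsCoatom c.C
  ne_two : q ≠ 2
  e_mem : e ∈ c.Qc q ⊓ c.W a
  e_ne : e ≠ 1
  e_pow : e ^ q = 1
  f_mem : f ∈ c.Qc q
  f_ne : f ≠ 1
  f_pow : f ^ q = 1
  f_inv : a * f * a⁻¹ = f⁻¹
  normal : c.C ≤ normalizer (zpowers f : Set G)
  y_mem : y ∈ c.Qc q
  y_pow : y ^ q = 1
  y_inv : a * y * a⁻¹ = y⁻¹
  ef : e * f = f * e
  yf : y * f = f * y
  conj : y * e * y⁻¹ = e * f
  W_y : ∀ w ∈ c.W a, w * y * w⁻¹ ∈ zpowers y ⊔ zpowers f

namespace Heis

variable (L : c.Heis a q e f y)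

include L

theorem e_order : orderOf e = q := orderOf_eq_prime L.e_pow L.e_ne

theorem f_order : orderOf f = q := orderOf_eq_prime L.f_pow L.f_ne

theorem f_U : f ∈ c.U := c.Qc_le_U L.ne_two L.f_mem

theorem y_U : y ∈ c.U := c.Qc_le_U L.ne_two L.y_mem

theorem mixed : c.Mixed a q := by
  refine ⟨fun e0 => L.e_ne (mem_bot.1 (e0 ▸ L.e_mem)), fun hle => L.f_ne ?_⟩
  have h2 : a * f * a⁻¹ = f := mul_inv_eq_iff_eq_mul.2 ((L.refl.mem_W.1 (hle L.f_mem)).2).symm
  exact eq_one_of_sq_odd (by nth_rewrite 1 [h2.symm.trans L.f_inv]; rw [inv_mul_cancel])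
    (c.odd_of_mem_U L.f_U)

theorem C_f {g : G} (hg : g * f = f * g) : g ∈ c.C := by
  have hne : zpowers f ≠ ⊥ := fun e0 => L.f_ne (mem_bot.1 (e0 ▸ mem_zpowers f))
  rw [← normalizer_eq_C L.hC (zpowers_le.2 (c.Qc_le_C q L.f_mem)) hne L.normal]
  exact centralizer_le_normalizer _ (mem_centralizer_iff.2 (by
    rintro _ ⟨i, rfl⟩; exact ((show Commute g f from hg).zpow_right i).eq.symm))

theorem local_H : c.Inner a (normalizer (zpowers e : Set G)) ∧
    ∀ o ∈ Cfsg.oddCore (normalizer (zpowers e : Set G)),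
      ((o : G)) * c.d.z = c.d.z * o ∧ (o : G) * a = a * o := by
  obtain ⟨cr⟩ := L.refl.exists_cross L.ne_two L.mixed.2
  exact cr.local_inner L.refl L.ne_two L.hC (fun e0 => L.e_ne (mem_bot.1 (e0 ▸ mem_zpowers e)))
    (zpowers_le.2 L.e_mem) (centralizer_le_normalizer _) le_rfl

theorem f_H : f ∈ normalizer (zpowers e : Set G) :=
  centralizer_le_normalizer _ (mem_centralizer_iff.2 (by
    rintro _ ⟨i, rfl⟩; exact ((show Commute e f from L.ef).zpow_left i).eq))

theorem f_not_core (hf : f ∈ normalizer (zpowers e : Set G)) :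
    (⟨f, hf⟩ : normalizer (zpowers e : Set G)) ∉ Cfsg.oddCore _ := by
  intro h
  have h2 : a * f * a⁻¹ = f := mul_inv_eq_iff_eq_mul.2 ((L.local_H.2 _ h).2).symm
  exact L.f_ne (eq_one_of_sq_odd (by nth_rewrite 1 [h2.symm.trans L.f_inv]; rw [inv_mul_cancel])
    (c.odd_of_mem_U L.f_U))

/-- The inverted element `f` lies in the residual of the section. -/
theorem f_res (hf : f ∈ normalizer (zpowers e : Set G)) :
    (⟨f, hf⟩ : normalizer (zpowers e : Set G)) ∈ res _ := by
  obtain ⟨⟨hz, haH, ⟨S⟩, s1, s2⟩, hO⟩ := L.local_H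
  set H := normalizer (zpowers e : Set G) with hH
  haveI := oddCore_normal (X := H)
  set aH : H := ⟨a, haH⟩
  set fH : H := ⟨f, hf⟩
  have hao : orderOf aH = 2 := by rw [← Subgroup.orderOf_coe]; exact L.refl.order
  have hfo : Odd (orderOf fH) := by rw [← Subgroup.orderOf_coe]; exact c.odd_of_mem_U L.f_U
  have hfi : aH * fH * aH⁻¹ = fH⁻¹ := Subtype.ext L.f_inv
  have hm : aH * fH * aH⁻¹ * fH⁻¹ ∈ socPre H := by
    rw [show aH * fH * aH⁻¹ * fH⁻¹ = aH * (fH * aH⁻¹ * fH⁻¹) by group]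
    exact mul_mem s2 ((socPre_normal (X := H)).conj_mem _ (inv_mem s2) fH)
  rw [hfi] at hm
  have hsoc : fH ∈ socPre H := by
    obtain ⟨j, hj⟩ := hfo
    have e1 : fH = (fH⁻¹ * fH⁻¹)⁻¹ ^ (j + 1) := by
      rw [mul_inv_rev, inv_inv, ← pow_two, ← pow_mul,
        show 2 * (j + 1) = orderOf fH + 1 by omega, pow_succ, pow_orderOf_eq_one, one_mul]
    rw [e1]
    exact pow_mem (inv_mem hm) _
  obtain ⟨r, hr, o, ho, e1⟩ : ∃ r ∈ res H, ∃ o ∈ Cfsg.oddCore H, r * o = fH := by
    rw [socPre, ← SetLike.mem_coe, Subgroup.mul_normal] at hsoc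
    exact Set.mem_mul.1 hsoc
  have hrO := S.res_comm_of_invol hao s2 fun o ho => Subtype.ext (hO o ho).2.symm
  have hoa : aH * o * aH⁻¹ = o := mul_inv_eq_iff_eq_mul.2 (Subtype.ext (hO o ho).2.symm)
  have hra : aH * r * aH⁻¹ ∈ res H := (res_normal (X := H)).conj_mem r hr aH
  have hro : r * o = o * r := hrO r hr o ho
  have hsq : o * o ∈ res H := by
    have h1 : aH * r * aH⁻¹ * o = (r * o)⁻¹ := by
      calc aH * r * aH⁻¹ * o = aH * r * aH⁻¹ * (aH * o * aH⁻¹) := by rw [hoa]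
        _ = aH * (r * o) * aH⁻¹ := by group
        _ = (r * o)⁻¹ := by rw [e1, hfi]
    have h2 : o * o = (r * (aH * r * aH⁻¹))⁻¹ := by
      rw [eq_inv_iff_mul_eq_one]
      calc o * o * (r * (aH * r * aH⁻¹)) = r * o * (o * (aH * r * aH⁻¹)) := by
            rw [show o * o * (r * (aH * r * aH⁻¹)) = o * (o * r) * (aH * r * aH⁻¹) by group, ← hro,
              ← mul_assoc o r o, ← hro]
            group
        _ = r * o * (aH * r * aH⁻¹ * o) := by rw [← hrO _ hra o ho]
        _ = 1 := by rw [h1, mul_inv_cancel]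
    rw [h2]
    exact inv_mem (mul_mem hr hra)
  obtain ⟨j, hj⟩ := odd_of_mem_core ho
  rw [← e1]
  refine mul_mem hr ?_
  have e2 : o = (o * o) ^ (j + 1) := by
    rw [← pow_two, ← pow_mul, show 2 * (j + 1) = orderOf o + 1 by omega, pow_succ, pow_orderOf_eq_one,
      one_mul]
  rw [e2]
  exact pow_mem hsq _

/-- The section is not `A₇`: its torus element has centraliser inside `C`. -/
theorem no_seven (g : normalizer (zpowers e : Set G)) (hg : (g : G) ∉ c.C)
    (o : normalizer (zpowers e : Set G)) (ho : o ∈ Cfsg.oddCore _)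
    (hgf : (g : G) * f * (g : G)⁻¹ = f * (o : G)) : False := by
  obtain ⟨⟨hzH, haH, ⟨S⟩, s1, s2⟩, hO⟩ := L.local_H
  have hfH := L.f_H
  revert g hg o ho hgf
  set H := normalizer (zpowers e : Set G) with hH
  intro g hg o ho hgf
  have ha := L.refl
  have hqp : q.Prime := hq.out
  have hoo : Odd (orderOf (o : G)) := by rw [Subgroup.orderOf_coe]; exact odd_of_mem_core ho
  obtain ⟨hoz, hoa⟩ := hO o ho
  have hoW : (o : G) ∈ c.W a := ha.mem_W.2 ⟨c.mem_U_of_odd (c.mem_C.2 hoz) hoo, hoa⟩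
  haveI := oddCore_normal (X := H)
  -- `o` commutes with `f`
  have hfo : Commute f (o : G) := by
    refine inverted_comm L.f_inv (c.odd_of_mem_U L.f_U) (mul_inv_eq_iff_eq_mul.2 hoa.symm) ?_
    exact mul_inv_eq_iff_eq_mul.2 (hO _ ((oddCore_normal (X := H)).conj_mem o ho ⟨f, hfH⟩)).2.symm
  have hoq : (o : G) ^ q = 1 := by
    have h1 : (f * (o : G)) ^ q = 1 := by rw [← hgf, conj_pow, L.f_pow, mul_one, mul_inv_cancel]
    rwa [hfo.mul_pow, L.f_pow, one_mul] at h1
  have ho1 : (o : G) ≠ 1 := fun e0 => hg (L.C_f (by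
    rw [e0, mul_one] at hgf
    exact mul_inv_eq_iff_eq_mul.1 hgf))
  have hzo : orderOf (⟨c.d.z, hzH⟩ : H) = 2 := by rw [← Subgroup.orderOf_coe]; exact c.z_order
  have hao : orderOf (⟨a, haH⟩ : H) = 2 := by rw [← Subgroup.orderOf_coe]; exact ha.order
  have hrO := S.res_comm_of_invol hzo s1 fun o ho => Subtype.ext (hO o ho).1.symm
  have hzres := invol_mem_res hzo s1 hrO
  have hares := invol_mem_res hao s2 hrO
  -- the residual sits in the centraliser of `o`
  set R := (res H).map H.subtype with hR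
  have hRperf : ⁅R, R⁆ = R := by rw [hR, ← map_commutator, res_commutator]
  have hzR : c.d.z ∈ R := ⟨_, hzres, rfl⟩
  set Ho := centralizer ({(o : G)} : Set G) with hHo
  have hRHo : R ≤ Ho := by
    rintro _ ⟨r, hr, rfl⟩
    exact mem_centralizer_singleton_iff.2 (congrArg Subtype.val (hrO r hr o ho))
  have hRsol : ¬ Group.IsSolvable R := by
    intro hsol
    haveI := hsol
    haveI : Nontrivial R := (nontrivial_iff_ne_bot _).2 fun e0 => c.d.z_ne (mem_bot.1 (e0 ▸ hzR))
    haveI : Group.IsPerfect R := Subgroup.isPerfect_iff.2 hRperf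
    exact (Group.IsSolvable.commutator_lt_top_of_nontrivial R).ne Group.IsPerfect.commutator_eq_top
  -- `o` commutes with `y`
  have hoy : Commute (o : G) y := by
    have hyne : y ∉ zpowers f := fun hy => L.f_ne (by
      obtain ⟨i, rfl⟩ := hy
      have h1 := L.conj
      have h2 : Commute (f ^ i) e := (show Commute f e from L.ef.symm).zpow_left i
      rw [h2.eq, mul_inv_cancel_right] at h1
      exact mul_eq_left.1 h1.symm)
    obtain ⟨d, hd, w, hw, hdw⟩ : ∃ d ∈ zpowers y, ∃ w ∈ zpowers f, d * w = (o : G) * y * (o : G)⁻¹ := by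
      have h1 := L.W_y _ hoW
      have hle : zpowers f ≤ normalizer (zpowers y : Set G) := le_trans (zpowers_le.2
        (mem_centralizer_iff.2 (by
          rintro _ ⟨i, rfl⟩; exact ((show Commute y f from L.yf).zpow_left i).eq)))
        (centralizer_le_normalizer _)
      rw [← SetLike.mem_coe, coe_mul_of_right_le_normalizer_left _ _ hle] at h1
      exact Set.mem_mul.1 h1
    obtain ⟨α, rfl⟩ := hd
    obtain ⟨β, rfl⟩ := hw
    simp only at hdw
    -- iterate
    have hiter : ∀ n : ℕ, ∃ b : ℤ, (o : G) ^ n * y * ((o : G) ^ n)⁻¹ = y ^ (α ^ n) * f ^ b := by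
      intro n
      induction n with
      | zero => exact ⟨0, by simp⟩
      | succ n ih =>
        obtain ⟨b, hb⟩ := ih
        refine ⟨β * α ^ n + b, ?_⟩
        have hof : (o : G) * f ^ b * (o : G)⁻¹ = f ^ b := by
          rw [((show Commute (o : G) f from hfo.symm).zpow_right b).eq, mul_inv_cancel_right]
        calc (o : G) ^ (n + 1) * y * ((o : G) ^ (n + 1))⁻¹
            = (o : G) * ((o : G) ^ n * y * ((o : G) ^ n)⁻¹) * (o : G)⁻¹ := by rw [pow_succ']; group
          _ = ((o : G) * y * (o : G)⁻¹) ^ (α ^ n) * ((o : G) * f ^ b * (o : G)⁻¹) := by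
              rw [hb, conj_zpow]; group
          _ = y ^ (α ^ (n + 1)) * f ^ (β * α ^ n + b) := by
              rw [hof, ← hdw, ((show Commute y f from L.yf).zpow_zpow α β).mul_zpow, ← zpow_mul,
                ← zpow_mul, mul_assoc, ← zpow_add, pow_succ' α n]
    obtain ⟨b, hb⟩ := hiter q
    rw [hoq, one_mul, inv_one, mul_one] at hb
    have hα : (q : ℤ) ∣ α ^ q - 1 := by
      by_contra hnd
      refine hyne ?_
      have h1 : y ^ (α ^ q - 1) ∈ zpowers f := by
        refine ⟨-b, ?_⟩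
        show f ^ (-b) = y ^ (α ^ q - 1)
        rw [zpow_sub, zpow_one, zpow_neg, eq_mul_inv_iff_mul_eq, inv_mul_eq_iff_eq_mul]
        nth_rewrite 1 [hb]
        exact ((show Commute y f from L.yf).zpow_zpow _ b).eq
      obtain ⟨s, t, hst⟩ := Int.isCoprime_iff_gcd_eq_one.2 (by
        rw [Int.gcd_comm]
        exact (Nat.Prime.coprime_iff_not_dvd hqp).2 (fun h => hnd (Int.natCast_dvd.2 h)) :
        Int.gcd (α ^ q - 1) q = 1)
      rw [← zpow_one y, ← hst, zpow_add, mul_comm s, zpow_mul, mul_comm t, zpow_mul, zpow_natCast, L.y_pow,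
        one_zpow, mul_one]
      exact zpow_mem h1 s
    have hα1 : (q : ℤ) ∣ α - 1 := by
      rw [← ZMod.intCast_zmod_eq_zero_iff_dvd] at hα ⊢
      push_cast at hα ⊢
      rwa [ZMod.pow_card] at hα
    have hy1 : y ^ α = y := by
      obtain ⟨t, ht⟩ := hα1
      rw [show α = (q : ℤ) * t + 1 by omega, zpow_add, zpow_mul, zpow_natCast, L.y_pow, one_zpow, one_mul,
        zpow_one]
    rw [hy1] at hdw
    by_cases hβ : (q : ℤ) ∣ β
    · obtain ⟨t, rfl⟩ := hβ
      rw [zpow_mul, zpow_natCast, L.f_pow, one_zpow, mul_one] at hdw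
      exact mul_inv_eq_iff_eq_mul.1 hdw.symm
    exfalso
    have hyo : y⁻¹ * (o : G) * y = (o : G) * f ^ β := by
      have h1 : (o : G) * y = y * f ^ β * o := by rw [hdw]; group
      have h2 : Commute (f ^ β) (o : G) := hfo.zpow_left β
      rw [mul_assoc, h1, mul_assoc y, inv_mul_cancel_left, h2.eq]
    -- choose the power of `y` moving `o * f` to `o`
    obtain ⟨s, t, hst⟩ := Int.isCoprime_iff_gcd_eq_one.2 (by
      rw [Int.gcd_comm]
      exact (Nat.Prime.coprime_iff_not_dvd hqp).2 (fun h => hβ (Int.natCast_dvd.2 h)) :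
      Int.gcd β q = 1)
    have hconj : y ^ s * ((o : G) * f) * (y ^ s)⁻¹ = o := by
      have hstep : ∀ n : ℕ, (y⁻¹) ^ n * (o : G) * ((y⁻¹) ^ n)⁻¹ = (o : G) * (f ^ β) ^ n :=
        pow_conj_translate (by rw [inv_inv]; exact hyo)
          (((show Commute y f from L.yf).zpow_right β).inv_left).eq
      obtain ⟨n, hn⟩ : ∃ n : ℕ, (n : ℤ) % q = (-s) % q := ⟨((-s) % q).toNat, by
        rw [Int.toNat_of_nonneg (Int.emod_nonneg (-s) (by exact_mod_cast hqp.ne_zero)), Int.emod_emod_of_dvd _ dvd_rfl]⟩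
      have hys : y ^ s = (y⁻¹) ^ n := by
        rw [← zpow_natCast, inv_zpow', zpow_eq_zpow_iff_modEq, orderOf_eq_prime L.y_pow
          (fun e0 => hyne (e0 ▸ one_mem _))]
        have h1 := Int.ModEq.neg (Int.ModEq.symm (hn : (n : ℤ) ≡ -s [ZMOD q]))
        rwa [neg_neg] at h1
      have hff : (y⁻¹) ^ n * f * ((y⁻¹) ^ n)⁻¹ = f := by
        rw [(((show Commute y f from L.yf).inv_left).pow_left n).eq, mul_inv_cancel_right]
      rw [hys, show (y⁻¹) ^ n * ((o : G) * f) * ((y⁻¹) ^ n)⁻¹ =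
        (y⁻¹) ^ n * (o : G) * ((y⁻¹) ^ n)⁻¹ * ((y⁻¹) ^ n * f * ((y⁻¹) ^ n)⁻¹) by group, hff, hstep,
        mul_assoc, ← zpow_natCast, ← zpow_mul, ← zpow_add_one]
      have hd : (q : ℤ) ∣ β * n + 1 := by
        have h1 : (q : ℤ) ∣ -s - n := Int.ModEq.dvd hn
        have : β * (n : ℤ) + 1 = -β * (-s - n) + (1 - s * β) := by ring
        rw [this]
        exact dvd_add (Dvd.dvd.mul_left h1 _) ⟨t, by linarith⟩
      obtain ⟨d, hd⟩ := hd
      rw [hd, zpow_mul, zpow_natCast, L.f_pow, one_zpow, mul_one]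
    set m := y ^ s * (g : G) with hm
    have hmo : m * f * m⁻¹ = o := by
      rw [hm]
      calc y ^ s * (g : G) * f * (y ^ s * (g : G))⁻¹
          = y ^ s * ((g : G) * f * (g : G)⁻¹) * (y ^ s)⁻¹ := by group
        _ = o := by rw [hgf, hfo.eq, hconj]
    haveI := c.C_solvable
    have hle : R ≤ c.C.map (MulAut.conj m).toMonoidHom := by
      intro r hr
      refine ⟨m⁻¹ * r * m, L.C_f ?_, by simp [mul_assoc]⟩
      have h1 := mem_centralizer_singleton_iff.1 (hRHo hr)
      rw [← hmo] at h1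
      calc m⁻¹ * r * m * f = m⁻¹ * (r * (m * f * m⁻¹)) * m := by group
        _ = f * (m⁻¹ * r * m) := by rw [h1]; group
    haveI : Group.IsSolvable (c.C.map (MulAut.conj m).toMonoidHom) :=
      Group.isSolvable_of_surjective ((MulAut.conj m).toMonoidHom.subgroupMap_surjective c.C)
    exact hRsol (Components.isSolvable_mono hle)
  -- the centraliser of `o` has an inner four-group and a torus containing `y` and `f`
  have hHot : Ho ≠ ⊤ := by
    intro et
    haveI := c.simple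
    have hmem : (o : G) ∈ center G := mem_center_iff.2 fun x =>
      mem_centralizer_singleton_iff.1 (show x ∈ centralizer ({(o : G)} : Set G) by rw [← hHo, et]; trivial)
    rcases (center G).normal_of_characteristic.eq_bot_or_eq_top with h | h
    · rw [h, mem_bot] at hmem; exact ho1 hmem
    · exact c.noncomm (center_eq_top_iff.1 h)
  have hzHo : c.d.z ∈ Ho := mem_centralizer_singleton_iff.2 hoz.symm
  have haHo : a ∈ Ho := mem_centralizer_singleton_iff.2 hoa.symm
  have hlift : ∀ (r : H) (hr : r ∈ res H), (⟨(r : G), hRHo ⟨r, hr, rfl⟩⟩ : Ho) ∈ res Ho := by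
    intro r hr
    have hperf : ⁅R.subgroupOf Ho, R.subgroupOf Ho⁆ = R.subgroupOf Ho := by
      apply map_injective Ho.subtype_injective
      rw [map_commutator, subgroupOf_map_subtype, inf_eq_left.2 hRHo, hRperf]
    exact perfect_le_res hperf (show (⟨(r : G), _⟩ : Ho) ∈ R.subgroupOf Ho from ⟨r, hr, rfl⟩)
  have hnsol : ¬ Group.IsSolvable Ho := fun hs => hRsol (by haveI := hs; exact Components.isSolvable_mono hRHo)
  obtain ⟨So⟩ := sock_of_not_solvable (ha.shape Ho hHot hzHo haHo) hnsol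
  have hzo' : orderOf (⟨c.d.z, hzHo⟩ : Ho) = 2 := by rw [← Subgroup.orderOf_coe]; exact c.z_order
  obtain ⟨T, hT, hTmem⟩ := So.exists_torus (ha.dihSylow Ho hzHo haHo) hzo'
    (Subgroup.mem_sup_left (hlift _ hzres))
  have hyHo : y ∈ Ho := mem_centralizer_singleton_iff.2 hoy.symm.eq
  have hfHo : f ∈ Ho := mem_centralizer_singleton_iff.2 hfo.eq
  have heHo : e ∈ Ho := by
    refine mem_centralizer_singleton_iff.2 ?_
    have h1 : (⟨e, le_normalizer (mem_zpowers e)⟩ : H) ∈ Cfsg.oddCore H := by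
      haveI : ((zpowers e).subgroupOf H).Normal := normal_in_normalizer
      have hodd : (Nat.card ((zpowers e).subgroupOf H)).Coprime 2 := by
        rw [Nat.card_congr (subgroupOfEquivOfLe le_normalizer).toEquiv, Nat.card_zpowers, L.e_order]
        exact Nat.coprime_two_right.2 (hqp.odd_of_ne_two L.ne_two)
      exact (le_sSup (show _ ∈ {N : Subgroup H | N.Normal ∧ (Nat.card N).Coprime 2} from ⟨inferInstance, hodd⟩) :
        (zpowers e).subgroupOf H ≤ Cfsg.oddCore H) (show (⟨e, _⟩ : H) ∈ (zpowers e).subgroupOf H from mem_zpowers e)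
    obtain ⟨i, hi⟩ : (o : G) * e * (o : G)⁻¹ ∈ zpowers e :=
      (mem_normalizer_iff.1 o.2 e).1 (mem_zpowers e)
    simp only at hi
    have hye : y * (e ^ i) * y⁻¹ = e ^ i * f := by
      rw [hi]
      calc y * ((o : G) * e * (o : G)⁻¹) * y⁻¹ = (y * (o : G)) * e * (y * (o : G))⁻¹ := by group
        _ = (o : G) * (y * e * y⁻¹) * (o : G)⁻¹ := by rw [← hoy.eq]; group
        _ = (o : G) * e * (o : G)⁻¹ * ((o : G) * f * (o : G)⁻¹) := by rw [L.conj]; group
        _ = _ := by rw [← hfo.eq, mul_inv_cancel_right]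
    rw [← conj_zpow, L.conj, (show Commute e f from L.ef).mul_zpow, mul_right_inj] at hye
    have h2 : (q : ℤ) ∣ i - 1 := by
      rw [← L.f_order, orderOf_dvd_iff_zpow_eq_one, zpow_sub, zpow_one, hye, mul_inv_cancel]
    obtain ⟨t, ht⟩ := h2
    rw [show i = (q : ℤ) * t + 1 by omega, zpow_add, zpow_mul, zpow_natCast, L.e_pow, one_zpow, one_mul,
      zpow_one] at hi
    exact (mul_inv_eq_iff_eq_mul.1 hi.symm).symm
  have hYT : ∀ r, r ∈ c.U → a * r * a⁻¹ = r⁻¹ → ∀ hr : r ∈ Ho, mo Ho ⟨r, hr⟩ ∈ T := by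
    intro r hrU hri hr
    refine hTmem ⟨a, haHo⟩ _ (Subtype.ext ha.sq) ?_ (Subtype.ext (c.mem_C.1 (c.U_le hrU))) (Subtype.ext hri)
    rw [← Subgroup.orderOf_coe]; exact c.odd_of_mem_U hrU
  set yo : Ho := ⟨y, hyHo⟩
  set fo : Ho := ⟨f, hfHo⟩
  set eo : Ho := ⟨e, heHo⟩
  haveI := oddCore_normal (X := Ho)
  -- `f` is not in the odd core
  have hfcore : fo ∉ Cfsg.oddCore Ho := by
    intro hcore
    set ι : res H →* Ho := MonoidHom.mk' (fun r => ⟨((r : H) : G), hRHo ⟨r, r.2, rfl⟩⟩) fun r r' => rfl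
    set D : Subgroup H := ((Cfsg.oddCore Ho).comap ι).map (res H).subtype with hD
    have hDodd : Odd (Nat.card D) := by
      rw [hD, card_map_of_injective (res H).subtype_injective]
      refine oddCore_odd.of_dvd_nat (card_comap_dvd_of_injective _ ι fun r r' e0 => ?_)
      exact Subtype.ext (Subtype.ext (congrArg (fun x : Ho => (x : G)) e0))
    have hDn : ∀ x ∈ res H, ∀ d ∈ D, x * d * x⁻¹ ∈ D := by
      rintro x hx _ ⟨d, hd, rfl⟩
      refine ⟨⟨x, hx⟩ * d * ⟨x, hx⟩⁻¹, ?_, rfl⟩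
      show ι (⟨x, hx⟩ * d * ⟨x, hx⟩⁻¹) ∈ Cfsg.oddCore Ho
      rw [map_mul, map_mul, map_inv]
      exact (oddCore_normal (X := Ho)).conj_mem _ hd _
    have := S.odd_in_core (map_subtype_le _) hDn hDodd
      (show (⟨f, hfH⟩ : H) ∈ D from ⟨⟨_, L.f_res hfH⟩, hcore, rfl⟩)
    exact L.f_not_core hfH this
  -- so the images of `y` and `f` generate a noncyclic subgroup of the torus
  have hfT := hYT f L.f_U L.f_inv hfHo
  have hyT := hYT y L.y_U L.y_inv hyHo
  haveI := hT
  have hfq : (⟨mo Ho fo, hfT⟩ : T) ^ q = 1 := Subtype.ext (by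
    show (mo Ho fo) ^ q = 1
    rw [← map_pow, show fo ^ q = 1 from Subtype.ext L.f_pow, map_one])
  have hfne : (⟨mo Ho fo, hfT⟩ : T) ≠ 1 := fun e0 => hfcore ((mo_ker _).1 (congrArg Subtype.val e0))
  have hyq : (⟨mo Ho yo, hyT⟩ : T) ^ q = 1 := Subtype.ext (by
    show (mo Ho yo) ^ q = 1
    rw [← map_pow, show yo ^ q = 1 from Subtype.ext L.y_pow, map_one])
  obtain ⟨i, hi⟩ := prime_pow_mem_zpowers hqp hfq hfne hyq
  have hyi : yo * (fo ^ i)⁻¹ ∈ Cfsg.oddCore Ho := (mo_ker _).1 (by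
    rw [map_mul, map_inv, map_zpow, show mo Ho fo ^ i = mo Ho yo from congrArg Subtype.val hi, mul_inv_cancel])
  refine hfcore ?_
  have h1 : eo * (yo * (fo ^ i)⁻¹) * eo⁻¹ * (yo * (fo ^ i)⁻¹)⁻¹ ∈ Cfsg.oddCore Ho :=
    mul_mem ((oddCore_normal (X := Ho)).conj_mem _ hyi eo) (inv_mem hyi)
  suffices h2 : eo * (yo * (fo ^ i)⁻¹) * eo⁻¹ * (yo * (fo ^ i)⁻¹)⁻¹ = fo⁻¹ by
    rw [h2] at h1; exact inv_mem_iff.1 h1
  refine Subtype.ext ?_
  show e * (y * (f ^ i)⁻¹) * e⁻¹ * (y * (f ^ i)⁻¹)⁻¹ = f⁻¹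
  have hef1 : Commute e f⁻¹ := (show Commute e f from L.ef).inv_right
  have hef : Commute e ((f ^ i)⁻¹) := ((show Commute e f from L.ef).zpow_right i).inv_right
  calc e * (y * (f ^ i)⁻¹) * e⁻¹ * (y * (f ^ i)⁻¹)⁻¹
      = e * y * ((f ^ i)⁻¹ * e⁻¹) * f ^ i * y⁻¹ := by group
    _ = e * y * (e⁻¹ * (f ^ i)⁻¹) * f ^ i * y⁻¹ := by rw [hef.inv_left.eq]
    _ = e * (y * e * y⁻¹)⁻¹ := by group
    _ = e * (e * f)⁻¹ := by rw [L.conj]
    _ = f⁻¹ := by rw [mul_inv_rev, ← mul_assoc, hef1.eq, mul_inv_cancel_right]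

end Heis

end Core

end Cfsg.Agent.GW
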