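import Cfsg.Agent.Lib.GW.Heis

/-!
The facts on the section of a Heisenberg configuration, with `A₇` excluded.
-/

set_option autoImplicit false
set_option linter.unusedSectionVars false
set_option linter.style.haveILetI false

namespace Cfsg.Agent.GW

open Subgroup

universe u

namespace Core

variable {G : Type u} [Group G] [Finite G] {c : Core G}

/-- The facts on a section with socle over a field. -/
structure Socle (c : Core G) (a : G) (H : Subgroup G) (T : Subgroup G) (cc : ℕ) : Prop where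
  cyc : IsCyclic T
  mem : ∀ y, y ∈ T ↔ y ∈ H ∧ y ∈ c.U ∧ a * y * a⁻¹ = y⁻¹
  card_T : 4 * Nat.card T ≤ cc
  orb : 2 * (centralizer ({a} : Set G)).relIndex (H ⊓ c.C) ≤ cc
  many : (cc - 1) * (cc - 2) ≤ 2 * c.C.relIndex H
  fix : ∀ y ∈ T, y ≠ 1 → ∀ g ∈ H, Commute (g * y * g⁻¹) y → g ∈ c.C
  invol : ∀ w ∈ H ⊓ c.C, w * w = 1 → ∀ y ∈ T, y ≠ 1 → w * y = y * w → w = 1 ∨ w = c.d.z
  inverted : ∀ w ∈ H, w * w = 1 → ∀ r ∈ H ⊓ c.U, w * r * w⁻¹ = r⁻¹ →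
    ∃ t ∈ T, ∃ o ∈ Cfsg.oddCore H, r = t * (o : G)
  pairs : ∀ y ∈ T, y ≠ 1 →
    Nat.card {v : G // ∃ g ∈ H, g * c.d.z * g⁻¹ = v ∧
      Odd (Nat.card (closure ({y, g * y * g⁻¹} : Set G)))} ≤ 2 * cc + 5

variable {a : G} {q : ℕ} [hq : Fact q.Prime] {e f y : G}

theorem Heis.exists_socle (L : c.Heis a q e f y) (hF : c.SecFineAll) :
    ∃ (T : Subgroup G) (cc : ℕ), c.Socle a (normalizer (zpowers e : Set G)) T cc ∧ f ∈ T ∧
      4 * q ≤ cc := by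
  obtain ⟨hI, hO⟩ := L.local_H
  obtain ⟨T, cc, hT, hmem, hcard, horb, hbr⟩ := hF a _ L.refl hI hO
  have hfT : f ∈ T := (hmem f).2 ⟨L.f_H, L.f_U, L.f_inv⟩
  have hqT : q ≤ Nat.card T := by
    rw [← L.f_order, ← Nat.card_zpowers]
    exact card_le_of_le (zpowers_le.2 hfT)
  rcases hbr with ⟨h1, h2, h3, h4, h5⟩ | ⟨-, h7⟩
  · exact ⟨T, cc, ⟨hT, hmem, hcard, horb, h1, h2, h3, h4, h5⟩, hfT,
      le_trans (Nat.mul_le_mul_left 4 hqT) hcard⟩
  · obtain ⟨g, hg, -, o, ho, hgf⟩ := h7 f hfT L.f_ne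
    exact (L.no_seven g hg o ho hgf).elim

end Core

end Cfsg.Agent.GW
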