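import Cfsg.Agent.Lib.GW.Split
import Cfsg.Agent.Lib.GW.Planar
import Mathlib.Algebra.Group.Subgroup.Map

/-!
Counting the conjugates of the fixed line of an irreducible configuration along paths of length two.
-/

set_option autoImplicit false
set_option linter.unusedSectionVars false
set_option linter.style.haveILetI false

namespace Cfsg.Agent.GW

open Cfsg.Agent.TwoFus Cfsg.Agent.BenderUnique Subgroup

universe u

theorem mem_zpowers_zpow {G : Type u} [Group G] {q : ℕ} [hq : Fact q.Prime] {v : G} {n : ℤ}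
    (hv : v ^ q = 1) (hn : ¬ (q : ℤ) ∣ n) : v ∈ zpowers (v ^ n) := by
  obtain ⟨s, t, hst⟩ := Int.isCoprime_iff_gcd_eq_one.2 (by
    rw [Int.gcd_comm]
    exact (Nat.Prime.coprime_iff_not_dvd hq.out).2 (fun h => hn (Int.natCast_dvd.2 h)) :
    Int.gcd n q = 1)
  refine ⟨s, ?_⟩
  show (v ^ n) ^ s = v
  conv_rhs => rw [← zpow_one v, ← hst, zpow_add, mul_comm t, zpow_mul v (q : ℤ), zpow_natCast, hv,
    one_zpow, mul_one]
  rw [← zpow_mul, mul_comm]

namespace Core

variable {G : Type u} [Group G] [Finite G] {c : Core G} {a : G} {q : ℕ} [hq : Fact q.Prime] {e f y : G}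
  {N : Subgroup G}

/-- The elements attached to the conjugates of `z` in a subgroup. -/
theorem card_orbit_z (c : Core G) (H : Subgroup G) :
    Nat.card {v : G // ∃ g ∈ H, g * c.d.z * g⁻¹ = v} = c.C.relIndex H := by
  have hiff : ∀ g g' : H, g⁻¹ * g' ∈ c.C.subgroupOf H ↔
      (g : G) * c.d.z * (g : G)⁻¹ = (g' : G) * c.d.z * (g' : G)⁻¹ := by
    intro g g'
    rw [mem_subgroupOf, c.mem_C, coe_mul, coe_inv]
    constructor
    · intro h
      calc (g : G) * c.d.z * (g : G)⁻¹ = (g : G) * (c.d.z * ((g : G)⁻¹ * g')) * (g' : G)⁻¹ := by group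
        _ = _ := by rw [← h]; group
    · intro h
      calc (g : G)⁻¹ * g' * c.d.z = (g : G)⁻¹ * ((g' : G) * c.d.z * (g' : G)⁻¹) * g' := by group
        _ = c.d.z * ((g : G)⁻¹ * g') := by rw [← h]; group
  let F : H ⧸ c.C.subgroupOf H → {v : G // ∃ g ∈ H, g * c.d.z * g⁻¹ = v} :=
    Quotient.lift (fun g : H => ⟨_, g, g.2, rfl⟩) fun g g' h =>
      Subtype.ext ((hiff g g').1 (QuotientGroup.leftRel_apply.1 h))
  refine (Nat.card_eq_of_bijective F ⟨?_, ?_⟩).symm
  · intro p p'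
    induction p using QuotientGroup.induction_on with
    | _ g =>
      induction p' using QuotientGroup.induction_on with
      | _ g' => exact fun h => QuotientGroup.eq.2 ((hiff g g').2 (congrArg Subtype.val h))
  · rintro ⟨_, g, hg, rfl⟩
    exact ⟨QuotientGroup.mk (⟨g, hg⟩ : H), rfl⟩

namespace Heis

variable (L : c.Heis a q e f y)

include L

theorem z_comm_f : f * c.d.z = c.d.z * f := c.mem_C.1 (c.U_le L.f_U)

theorem e_H : e ∈ normalizer (zpowers e : Set G) := le_normalizer (mem_zpowers e)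

/-- Conjugates of `f` in the local subgroup commute with `e`. -/
theorem e_comm_conj {g : G} (hg : g ∈ normalizer (zpowers e : Set G)) : Commute e (g * f * g⁻¹) := by
  obtain ⟨i, hi⟩ : g⁻¹ * e * g ∈ zpowers e := by
    have := (mem_normalizer_iff.1 (inv_mem hg) e).1 (mem_zpowers e)
    rwa [inv_inv] at this
  simp only at hi
  have h1 : Commute (g⁻¹ * e * g) f := hi ▸ (show Commute e f from L.ef).zpow_left i
  show e * (g * f * g⁻¹) = g * f * g⁻¹ * e
  calc e * (g * f * g⁻¹) = g * ((g⁻¹ * e * g) * f) * g⁻¹ := by group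
    _ = g * f * g⁻¹ * e := by rw [h1.eq]; group

theorem e_comm_self {g : G} (hg : g ∈ normalizer (zpowers e : Set G)) : Commute e (g * e * g⁻¹) := by
  obtain ⟨i, hi⟩ := (mem_normalizer_iff.1 hg e).1 (mem_zpowers e)
  simp only at hi
  rw [← hi]
  exact (Commute.refl e).zpow_right i

theorem e_core (he : e ∈ normalizer (zpowers e : Set G)) :
    (⟨e, he⟩ : normalizer (zpowers e : Set G)) ∈ Cfsg.oddCore _ := by
  set H := normalizer (zpowers e : Set G) with hH
  haveI : ((zpowers e).subgroupOf H).Normal := normal_in_normalizer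
  have hodd : (Nat.card ((zpowers e).subgroupOf H)).Coprime 2 := by
    rw [Nat.card_congr (subgroupOfEquivOfLe le_normalizer).toEquiv, Nat.card_zpowers, L.e_order]
    exact Nat.coprime_two_right.2 (hq.out.odd_of_ne_two L.ne_two)
  exact (le_sSup (show _ ∈ {N : Subgroup H | N.Normal ∧ (Nat.card N).Coprime 2} from ⟨inferInstance, hodd⟩) :
    (zpowers e).subgroupOf H ≤ Cfsg.oddCore H) (show (⟨e, he⟩ : H) ∈ (zpowers e).subgroupOf H from mem_zpowers e)

theorem move (n : ℕ) : y ^ n * e * (y ^ n)⁻¹ = e * f ^ n := pow_conj_translate L.conj L.yf n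

variable (hF : c.SecFineAll)

include hF

/-- Commuting translates of fixed lines come from one coset of `C`. -/
theorem same_of_comm {g g' : G} (hg : g ∈ normalizer (zpowers e : Set G))
    (hg' : g' ∈ normalizer (zpowers e : Set G)) {n n' : ℕ} (hn : ¬ q ∣ n) (hn' : ¬ q ∣ n')
    (h : Commute (g * (e * f ^ n) * g⁻¹) (g' * (e * f ^ n') * g'⁻¹)) : g⁻¹ * g' ∈ c.C := by
  obtain ⟨T, cc, hS, hfT, -⟩ := L.exists_socle hF
  have hee : ∀ {r : G}, r ∈ normalizer (zpowers e : Set G) → ∀ s, Commute (g * e * g⁻¹) (r * f ^ s * r⁻¹) ∧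
      Commute (g' * e * g'⁻¹) (r * f ^ s * r⁻¹) ∧ Commute (g * e * g⁻¹) (r * e * r⁻¹) ∧
      Commute (g' * e * g'⁻¹) (r * e * r⁻¹) := by
    intro r hr s
    have key : ∀ {p : G}, p ∈ normalizer (zpowers e : Set G) → ∀ {v : G}, Commute e v →
        Commute (p * e * p⁻¹) v := by
      intro p hp v hv
      obtain ⟨i, hi⟩ := (mem_normalizer_iff.1 hp e).1 (mem_zpowers e)
      simp only at hi
      rw [← hi]
      exact hv.zpow_left i
    have h1 : Commute e (r * f ^ s * r⁻¹) := by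
      rw [← conj_pow]; exact (L.e_comm_conj hr).pow_right s
    exact ⟨key hg h1, key hg' h1, key hg (L.e_comm_self hr), key hg' (L.e_comm_self hr)⟩
  have e1 : g * (e * f ^ n) * g⁻¹ = g * e * g⁻¹ * (g * f ^ n * g⁻¹) := by group
  have e2 : g' * (e * f ^ n') * g'⁻¹ = g' * e * g'⁻¹ * (g' * f ^ n' * g'⁻¹) := by group
  rw [e1, e2] at h
  obtain ⟨hA1, hA1', hA2, -⟩ := hee hg' n'
  obtain ⟨hB1, hB1', -, -⟩ := hee hg n
  have h3 : Commute (g * f ^ n * g⁻¹) (g' * e * g'⁻¹ * (g' * f ^ n' * g'⁻¹)) := by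
    have := ((hA2.mul_right hA1).inv_left).mul_left h
    rwa [inv_mul_cancel_left] at this
  have h4 : Commute (g * f ^ n * g⁻¹) (g' * f ^ n' * g'⁻¹) := by
    have := hB1'.symm.inv_right.mul_right h3
    rwa [inv_mul_cancel_left] at this
  obtain ⟨s, hs⟩ := mem_zpowers_zpow L.f_pow (n := (n : ℤ)) (fun h => hn (Int.natCast_dvd_natCast.1 h))
  obtain ⟨s', hs'⟩ := mem_zpowers_zpow L.f_pow (n := (n' : ℤ)) (fun h => hn' (Int.natCast_dvd_natCast.1 h))
  simp only [zpow_natCast] at hs hs'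
  have h5 : Commute (g * f * g⁻¹) (g' * f * g'⁻¹) := by
    have := (h4.zpow_left s).zpow_right s'
    rw [conj_zpow, conj_zpow, hs, hs'] at this
    exact this
  refine hS.fix f hfT L.f_ne _ (mul_mem (inv_mem hg) hg') ?_
  show g⁻¹ * g' * f * (g⁻¹ * g')⁻¹ * f = f * (g⁻¹ * g' * f * (g⁻¹ * g')⁻¹)
  calc g⁻¹ * g' * f * (g⁻¹ * g')⁻¹ * f = g⁻¹ * ((g' * f * g'⁻¹) * (g * f * g⁻¹)) * g := by group
    _ = f * (g⁻¹ * g' * f * (g⁻¹ * g')⁻¹) := by rw [← h5.eq]; group

end Heis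

/-- A path: a choice of the middle and of the end. -/
structure Path (e f : G) (q : ℕ) (g : G) (n : ℕ) (g₂ : G) (j : ℕ) : Prop where
  g_mem : g ∈ normalizer (zpowers e : Set G)
  g₂_mem : g₂ ∈ normalizer (zpowers e : Set G)
  n_ne : ¬ q ∣ n
  j_ne : ¬ q ∣ j
  not_odd : ¬ Odd (Nat.card (closure ({f, g₂ * f * g₂⁻¹} : Set G)))

namespace Irr

variable (R : c.Irr a q e f y N) (hF : c.SecFineAll)

include R

/-- The group spanned by the ends of a path. -/
theorem span_eq {g g₂ : G} {n j : ℕ} (p : Path e f q g n g₂ j) :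
    (zpowers (e * (f ^ n)⁻¹) ⊔ zpowers (g₂ * (e * f ^ j) * g₂⁻¹)).map
        (MulAut.conj (g * y ^ n)).toMonoidHom =
      zpowers e ⊔ (zpowers e).map (MulAut.conj (g * y ^ n * g₂ * y ^ j)).toMonoidHom := by
  rw [Subgroup.map_sup, MonoidHom.map_zpowers, MonoidHom.map_zpowers, MonoidHom.map_zpowers]
  congr 1
  · have h1 : (MulAut.conj (g * y ^ n)).toMonoidHom (e * (f ^ n)⁻¹) = (MulAut.conj g).toMonoidHom e := by
      show g * y ^ n * (e * (f ^ n)⁻¹) * (g * y ^ n)⁻¹ = g * e * g⁻¹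
      have hc : Commute (y ^ n) ((f ^ n)⁻¹) := ((show Commute y f from R.yf).pow_pow n n).inv_right
      calc g * y ^ n * (e * (f ^ n)⁻¹) * (g * y ^ n)⁻¹
          = g * (y ^ n * e * (y ^ n)⁻¹ * (y ^ n * (f ^ n)⁻¹ * (y ^ n)⁻¹)) * g⁻¹ := by group
        _ = g * e * g⁻¹ := by rw [R.toHeis.move, hc.eq, mul_inv_cancel_right, mul_inv_cancel_right]
    rw [h1, ← MonoidHom.map_zpowers, map_conj_eq_self p.g_mem]
  · congr 1
    show g * y ^ n * (g₂ * (e * f ^ j) * g₂⁻¹) * (g * y ^ n)⁻¹ =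
      g * y ^ n * g₂ * y ^ j * e * (g * y ^ n * g₂ * y ^ j)⁻¹
    rw [← R.toHeis.move j]
    group

/-- The properties of a path. -/
theorem path_spec {g g₂ : G} {n j : ℕ} (p : Path e f q g n g₂ j) :
    2 ∣ Nat.card (zpowers e ⊔ (zpowers e).map (MulAut.conj (g * y ^ n * g₂ * y ^ j)).toMonoidHom : Subgroup G) ∧
    (∀ v ∈ zpowers e ⊔ (zpowers e).map (MulAut.conj (g * y ^ n * g₂ * y ^ j)).toMonoidHom, orderOf v = 2 →
      ∃ h ∈ normalizer (zpowers e : Set G), v = g * y ^ n * h * c.d.z * (g * y ^ n * h)⁻¹) ∧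
    ∀ v ∈ zpowers e ⊔ (zpowers e).map (MulAut.conj (g * y ^ n * g₂ * y ^ j)).toMonoidHom,
      Commute (g * y ^ n * e * (g * y ^ n)⁻¹) v := by
  classical
  have L := R.toHeis
  rw [← R.span_eq p]
  set w := g * y ^ n with hw
  set M := zpowers (e * (f ^ n)⁻¹) ⊔ zpowers (g₂ * (e * f ^ j) * g₂⁻¹) with hM
  set X := zpowers e with hX
  set H := normalizer (X : Set G) with hH
  have hcen : M ≤ centralizer (X : Set G) := by
    refine sup_le (zpowers_le.2 ?_) (zpowers_le.2 ?_) <;>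
      refine mem_centralizer_iff.2 ?_ <;> rintro _ ⟨i, rfl⟩
    · exact (((Commute.refl e).mul_right ((show Commute e f from L.ef).pow_right n).inv_right).zpow_left i).eq
    · refine (Commute.zpow_left ?_ i).eq
      rw [show g₂ * (e * f ^ j) * g₂⁻¹ = g₂ * e * g₂⁻¹ * (g₂ * f ^ j * g₂⁻¹) by group, ← conj_pow]
      exact (L.e_comm_self p.g₂_mem).mul_right ((L.e_comm_conj p.g₂_mem).pow_right j)
  have hXM : X ≤ normalizer (M : Set G) :=
    (le_centralizer_iff.1 hcen).trans (centralizer_le_normalizer _)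
  -- an involution of the product lies in `M`
  have hMX : ∀ v ∈ M ⊔ X, orderOf v = 2 → v ∈ M := by
    intro v hv hv2
    rw [← SetLike.mem_coe, coe_mul_of_right_le_normalizer_left M X hXM] at hv
    obtain ⟨m, hm, x, hx, rfl⟩ := Set.mem_mul.1 hv
    have hc : Commute m x := (mem_centralizer_iff.1 (hcen hm) x hx).symm
    have hxq : x ^ q = 1 := by
      obtain ⟨i, rfl⟩ := hx
      show (e ^ i) ^ q = 1
      rw [← zpow_natCast, ← zpow_mul, mul_comm, zpow_mul, zpow_natCast, L.e_pow, one_zpow]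
    obtain ⟨t, ht⟩ := hq.out.odd_of_ne_two L.ne_two
    have h1 : (m * x) ^ q = m * x := by
      rw [ht, pow_succ, pow_mul, pow_two, sq_one hv2, one_pow, one_mul]
    rw [hc.mul_pow, hxq, mul_one] at h1
    exact h1 ▸ pow_mem hm q
  have hclo : closure ({f, g₂ * f * g₂⁻¹} : Set G) ≤ M ⊔ X := by
    refine (closure_le _).2 ?_
    intro v hv
    simp only [Set.mem_insert_iff, Set.mem_singleton_iff] at hv
    rcases hv with hv | hv <;> rw [hv]
    · have h1 : f ^ n ∈ M ⊔ X := by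
        have := mul_mem (mem_sup_right (S := M) (mem_zpowers e))
          (inv_mem (mem_sup_left (T := X) (mem_sup_left (T := zpowers (g₂ * (e * f ^ j) * g₂⁻¹))
            (mem_zpowers (e * (f ^ n)⁻¹)))))
        have e0 : e * (e * (f ^ n)⁻¹)⁻¹ = f ^ n := by
          rw [mul_inv_rev, inv_inv, ← mul_assoc, ((show Commute e f from L.ef).pow_right n).eq,
            mul_inv_cancel_right]
        rwa [e0] at this
      have h2 := mem_zpowers_zpow L.f_pow (n := (n : ℤ)) (fun h => p.n_ne (Int.natCast_dvd_natCast.1 h))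
      rw [zpow_natCast] at h2
      exact (zpowers_le.2 h1) h2
    · have h1 : g₂ * f ^ j * g₂⁻¹ ∈ M ⊔ X := by
        have hge : g₂ * e * g₂⁻¹ ∈ M ⊔ X :=
          mem_sup_right ((mem_normalizer_iff.1 p.g₂_mem e).1 (mem_zpowers e))
        have := mul_mem (inv_mem hge) (mem_sup_left (T := X)
          (mem_sup_right (S := zpowers (e * (f ^ n)⁻¹)) (mem_zpowers (g₂ * (e * f ^ j) * g₂⁻¹))))
        rwa [show (g₂ * e * g₂⁻¹)⁻¹ * (g₂ * (e * f ^ j) * g₂⁻¹) = g₂ * f ^ j * g₂⁻¹ by group] at this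
      have h2 : g₂ * f * g₂⁻¹ ∈ zpowers (g₂ * f ^ j * g₂⁻¹) := by
        obtain ⟨s, hs⟩ := mem_zpowers_zpow L.f_pow (n := (j : ℤ)) (fun h => p.j_ne (Int.natCast_dvd_natCast.1 h))
        simp only [zpow_natCast] at hs
        exact ⟨s, by show (g₂ * f ^ j * g₂⁻¹) ^ s = _; rw [conj_zpow, hs]⟩
      exact (zpowers_le.2 h1) h2
  haveI : Fact (Nat.Prime 2) := ⟨Nat.prime_two⟩
  obtain ⟨⟨v₀, hv₀⟩, hv₀o⟩ := exists_prime_orderOf_dvd_card' (G := closure ({f, g₂ * f * g₂⁻¹} : Set G)) 2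
    (even_iff_two_dvd.1 (Nat.not_odd_iff_even.1 p.not_odd))
  rw [Subgroup.orderOf_mk] at hv₀o
  refine ⟨?_, ?_, ?_⟩
  · rw [card_map_of_injective (MulAut.conj w).injective, ← hv₀o]
    exact orderOf_dvd_natCard _ (hMX v₀ (hclo hv₀) hv₀o)
  · rintro _ ⟨v, hv, rfl⟩ hv2
    have hv2' : orderOf v = 2 := by
      rwa [show (MulAut.conj w).toMonoidHom v = MulAut.conj w v from rfl, MulEquiv.orderOf_eq] at hv2
    obtain ⟨⟨hzH, haH, ⟨S⟩, hzs, -⟩, -⟩ := L.local_H
    have hvH : v ∈ H := (hcen.trans (centralizer_le_normalizer _)) hv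
    haveI := oddCore_normal (X := H)
    have hsoc : M.subgroupOf H ≤ socPre H := by
      have hfs : (⟨f, L.f_H⟩ : H) ∈ socPre H := mem_sup_left (L.f_res L.f_H)
      have hes : (⟨e, L.e_H⟩ : H) ∈ socPre H := mem_sup_right (L.e_core L.e_H)
      have hle : M ≤ (socPre H).map H.subtype := by
        refine sup_le (zpowers_le.2 ?_) (zpowers_le.2 ?_)
        · exact ⟨⟨e, L.e_H⟩ * (⟨f, L.f_H⟩ ^ n)⁻¹, mul_mem hes (inv_mem (pow_mem hfs n)), rfl⟩
        · exact ⟨⟨g₂, p.g₂_mem⟩ * (⟨e, L.e_H⟩ * ⟨f, L.f_H⟩ ^ j) * ⟨g₂, p.g₂_mem⟩⁻¹,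
            (socPre_normal (X := H)).conj_mem _ (mul_mem hes (pow_mem hfs j)) _, rfl⟩
      rintro r hr
      obtain ⟨r', hr', e0⟩ := hle (mem_subgroupOf.1 hr)
      exact Subtype.ext e0 ▸ hr'
    obtain ⟨h, -, hh⟩ := S.one_class (L.refl.dihSylow H hzH haH) (u := (⟨c.d.z, hzH⟩ : H))
      (v := (⟨v, hvH⟩ : H)) (by rw [← Subgroup.orderOf_coe]; exact c.z_order)
      (by rw [← Subgroup.orderOf_coe]; exact hv2') hzs (hsoc hv)
    refine ⟨h, h.2, ?_⟩
    have hh' : (h : G) * c.d.z * (h : G)⁻¹ = v := congrArg Subtype.val hh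
    show w * v * w⁻¹ = w * h * c.d.z * (w * h)⁻¹
    rw [← hh']; group
  · rintro _ ⟨v, hv, rfl⟩
    have hc : Commute e v := mem_centralizer_iff.1 (hcen hv) e (mem_zpowers e)
    show w * e * w⁻¹ * (w * v * w⁻¹) = w * v * w⁻¹ * (w * e * w⁻¹)
    rw [conj_mul, conj_mul, hc.eq]

theorem comm_mem {r s : G} (hr : r ∈ N) (hs : s ∈ N) : r * s * r⁻¹ * s⁻¹ ∈ zpowers f := by
  have L := R.toHeis
  haveI hn : ((zpowers f).subgroupOf N).Normal := ⟨fun v hv g => by
    rw [mem_subgroupOf] at hv ⊢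
    exact (mem_normalizer_iff.1 (L.normal ((R.N_le.trans (c.Qc_le_C q)) g.2)) v).1 hv⟩
  set π := QuotientGroup.mk' ((zpowers f).subgroupOf N) with hπ
  have hgen : ∀ {u : G}, u ∈ ({e, y, f} : Set G) → u ∈ N := by
    intro u hu
    simp only [Set.mem_insert_iff, Set.mem_singleton_iff] at hu
    rw [R.N_eq]
    rcases hu with hu | hu | hu <;> rw [hu]
    exacts [mem_sup_left (mem_sup_left (mem_zpowers _)), mem_sup_left (mem_sup_right (mem_zpowers _)),
      mem_sup_right (mem_zpowers _)]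
  have key : ∀ u v : N, π u * π v = π v * π u := by
    have hle : N ≤ closure ({e, y, f} : Set G) := by
      rw [R.N_eq]
      refine sup_le (sup_le ?_ ?_) ?_ <;> exact zpowers_le.2 (subset_closure (by simp))
    have hbase : ∀ u ∈ ({e, y, f} : Set G), ∀ v ∈ ({e, y, f} : Set G), ∀ (hu : u ∈ N) (hv : v ∈ N),
        π ⟨u, hu⟩ * π ⟨v, hv⟩ = π ⟨v, hv⟩ * π ⟨u, hu⟩ := by
      intro u hu v hv huN hvN
      have hcl : u * v * u⁻¹ * v⁻¹ ∈ zpowers f := by
        have hye : y * e * y⁻¹ * e⁻¹ = f := by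
          rw [L.conj, (show Commute e f from L.ef).eq, mul_inv_cancel_right]
        have hey : e * y * e⁻¹ * y⁻¹ = f⁻¹ := by
          rw [show e * y * e⁻¹ * y⁻¹ = (y * e * y⁻¹ * e⁻¹)⁻¹ by group, hye]
        have hcm : ∀ {p r : G}, Commute p r → p * r * p⁻¹ * r⁻¹ = 1 := fun h => by
          rw [h.eq, mul_inv_cancel_right, mul_inv_cancel]
        simp only [Set.mem_insert_iff, Set.mem_singleton_iff] at hu hv
        rcases hu with hu | hu | hu <;> rcases hv with hv | hv | hv <;> rw [hu, hv]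
        · rw [hcm (Commute.refl _)]; exact one_mem _
        · rw [hey]; exact inv_mem (mem_zpowers _)
        · rw [hcm L.ef]; exact one_mem _
        · rw [hye]; exact mem_zpowers _
        · rw [hcm (Commute.refl _)]; exact one_mem _
        · rw [hcm L.yf]; exact one_mem _
        · rw [hcm (show Commute f e from L.ef.symm)]; exact one_mem _
        · rw [hcm (show Commute f y from L.yf.symm)]; exact one_mem _
        · rw [hcm (Commute.refl _)]; exact one_mem _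
      rw [← map_mul, ← map_mul, hπ, QuotientGroup.mk'_apply, QuotientGroup.mk'_apply, QuotientGroup.eq,
        mem_subgroupOf]
      show (u * v)⁻¹ * (v * u) ∈ zpowers f
      have h1 := (mem_normalizer_iff.1 (L.normal ((R.N_le.trans (c.Qc_le_C q))
        (inv_mem (mul_mem huN hvN)))) _).1 (inv_mem hcl)
      rwa [show (u * v)⁻¹ * (u * v * u⁻¹ * v⁻¹)⁻¹ * (u * v)⁻¹⁻¹ = (u * v)⁻¹ * (v * u) by group] at h1
    have h1 : ∀ u ∈ ({e, y, f} : Set G), ∀ (hu : u ∈ N) (v : N), π ⟨u, hu⟩ * π v = π v * π ⟨u, hu⟩ := by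
      intro u hu huN v
      obtain ⟨v, hv⟩ := v
      have := hle hv
      induction this using Subgroup.closure_induction with
      | mem v hvs => exact hbase u hu v hvs huN hv
      | one => rw [show (⟨1, hv⟩ : N) = 1 from rfl, map_one, one_mul, mul_one]
      | mul p r hp hr ihp ihr =>
        have hpN : p ∈ N := (closure_le N).2 (fun _ h => hgen h) hp
        have hrN : r ∈ N := (closure_le N).2 (fun _ h => hgen h) hr
        rw [show (⟨p * r, hv⟩ : N) = ⟨p, hpN⟩ * ⟨r, hrN⟩ from rfl, map_mul]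
        exact (show Commute _ _ from ihp hpN).mul_right (ihr hrN)
      | inv p hp ihp =>
        have hpN : p ∈ N := (closure_le N).2 (fun _ h => hgen h) hp
        rw [show (⟨p⁻¹, hv⟩ : N) = ⟨p, hpN⟩⁻¹ from rfl, map_inv]
        exact (show Commute _ _ from ihp hpN).inv_right
    intro u v
    obtain ⟨u, hu⟩ := u
    have := hle hu
    induction this using Subgroup.closure_induction with
    | mem u hus => exact h1 u hus hu v
    | one => rw [show (⟨1, hu⟩ : N) = 1 from rfl, map_one, one_mul, mul_one]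
    | mul p r hp hr ihp ihr =>
      have hpN : p ∈ N := (closure_le N).2 (fun _ h => hgen h) hp
      have hrN : r ∈ N := (closure_le N).2 (fun _ h => hgen h) hr
      rw [show (⟨p * r, hu⟩ : N) = ⟨p, hpN⟩ * ⟨r, hrN⟩ from rfl, map_mul]
      exact (show Commute _ _ from ihp hpN).mul_left (ihr hrN)
    | inv p hp ihp =>
      have hpN : p ∈ N := (closure_le N).2 (fun _ h => hgen h) hp
      rw [show (⟨p⁻¹, hu⟩ : N) = ⟨p, hpN⟩⁻¹ from rfl, map_inv]
      exact (show Commute _ _ from ihp hpN).inv_left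
  have h := key ⟨r, hr⟩ ⟨s, hs⟩
  rw [← map_mul, ← map_mul, eq_comm] at h
  have h2 : π (⟨r, hr⟩ * ⟨s, hs⟩ * (⟨r, hr⟩ : N)⁻¹ * (⟨s, hs⟩ : N)⁻¹) = 1 := by
    rw [map_mul, map_mul, ← h, map_mul, map_inv, map_inv, mul_inv_cancel_right, mul_inv_cancel]
  exact mem_subgroupOf.1 ((QuotientGroup.eq_one_iff _).1 h2)

include hF

/-- A path is determined by its end. -/
theorem path_unique {g g₂ g' g₂' : G} {n j n' j' : ℕ} (p : Path e f q g n g₂ j)
    (p' : Path e f q g' n' g₂' j')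
    (h : (zpowers e).map (MulAut.conj (g * y ^ n * g₂ * y ^ j)).toMonoidHom =
      (zpowers e).map (MulAut.conj (g' * y ^ n' * g₂' * y ^ j')).toMonoidHom) :
    g⁻¹ * g' ∈ c.C ∧ (g = g' → (n : ℤ) ≡ n' [ZMOD q] ∧
      (n = n' → g₂⁻¹ * g₂' ∈ c.C ∧ (g₂ = g₂' → (j : ℤ) ≡ j' [ZMOD q]))) := by
  classical
  have L := R.toHeis
  obtain ⟨T, cc, hS, hfT, -⟩ := L.exists_socle hF
  obtain ⟨s1, s2, s3⟩ := R.path_spec p
  obtain ⟨-, t2, t3⟩ := R.path_spec p'
  rw [← h] at t2 t3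
  set M := zpowers e ⊔ (zpowers e).map (MulAut.conj (g * y ^ n * g₂ * y ^ j)).toMonoidHom with hM
  have hX1 : ∀ (g : G) (n : ℕ), g * y ^ n * e * (g * y ^ n)⁻¹ = g * (e * f ^ n) * g⁻¹ := fun g n => by
    rw [← L.move n]; group
  -- the middles commute
  have hcomm : Commute (g * y ^ n * e * (g * y ^ n)⁻¹) (g' * y ^ n' * e * (g' * y ^ n')⁻¹) := by
    set x1 := g * y ^ n * e * (g * y ^ n)⁻¹ with hx1
    set x2 := g' * y ^ n' * e * (g' * y ^ n')⁻¹ with hx2
    by_contra hnc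
    haveI : Fact (Nat.Prime 2) := ⟨Nat.prime_two⟩
    obtain ⟨⟨v, hv⟩, hvo⟩ := exists_prime_orderOf_dvd_card' (G := M) 2 s1
    rw [Subgroup.orderOf_mk] at hvo
    obtain ⟨h1, hh1, e1⟩ := s2 v hv hvo
    obtain ⟨h2, hh2, e2⟩ := t2 v hv hvo
    set w1 := g * y ^ n * h1 with hw1
    set w2 := g' * y ^ n' * h2 with hw2
    have hC12 : w1⁻¹ * w2 ∈ c.C := c.mem_C.2 (by
      calc w1⁻¹ * w2 * c.d.z = w1⁻¹ * (w2 * c.d.z * w2⁻¹) * w2 := by group
        _ = c.d.z * (w1⁻¹ * w2) := by rw [← e2, e1]; group)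
    have hN : ∀ {w h : G} {r : G}, h ∈ normalizer (zpowers e : Set G) →
        r = w * e * w⁻¹ → (w * h)⁻¹ * r * (w * h) ∈ N := by
      intro w h r hh hr
      have h3 : h⁻¹ * e * h ∈ zpowers e := by
        have := (mem_normalizer_iff.1 (inv_mem hh) e).1 (mem_zpowers e)
        rwa [inv_inv] at this
      rw [hr, show (w * h)⁻¹ * (w * e * w⁻¹) * (w * h) = h⁻¹ * e * h by group]
      refine (zpowers_le.2 ?_) h3
      rw [R.N_eq]; exact mem_sup_left (mem_sup_left (mem_zpowers e))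
    have hr1 : w1⁻¹ * x1 * w1 ∈ N := hN hh1 hx1
    have hr2 : w1⁻¹ * x2 * w1 ∈ N := by
      have := (mem_normalizer_iff.1 (R.N_norm hC12) _).1 (hN hh2 hx2)
      rwa [← hw2, show w1⁻¹ * w2 * (w2⁻¹ * x2 * w2) * (w1⁻¹ * w2)⁻¹ = w1⁻¹ * x2 * w1 by group] at this
    have hd := R.comm_mem hr1 hr2
    set d := w1⁻¹ * x1 * w1 * (w1⁻¹ * x2 * w1) * (w1⁻¹ * x1 * w1)⁻¹ * (w1⁻¹ * x2 * w1)⁻¹ with hdd
    have hde : d = w1⁻¹ * (x1 * x2 * x1⁻¹ * x2⁻¹) * w1 := by rw [hdd]; group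
    have hd1 : d ≠ 1 := by
      intro e0
      apply hnc
      rw [hde] at e0
      have e3 : x1 * x2 * x1⁻¹ * x2⁻¹ = 1 := by
        calc x1 * x2 * x1⁻¹ * x2⁻¹ = w1 * (w1⁻¹ * (x1 * x2 * x1⁻¹ * x2⁻¹) * w1) * w1⁻¹ := by group
          _ = 1 := by rw [e0, mul_one, mul_inv_cancel]
      rw [mul_inv_eq_one, mul_inv_eq_iff_eq_mul] at e3
      exact e3
    have hz : zpowers d = zpowers f := eq_of_le_of_card_ge (zpowers_le.2 hd) (by
      rw [Nat.card_zpowers, Nat.card_zpowers, L.f_order]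
      refine le_of_eq (orderOf_eq_prime ?_ hd1).symm
      obtain ⟨i, hi⟩ := hd
      rw [← hi]
      show (f ^ i) ^ q = 1
      rw [← zpow_natCast, ← zpow_mul, mul_comm, zpow_mul, zpow_natCast, L.f_pow, one_zpow])
    have hfM : ∀ r ∈ M, w1⁻¹ * r * w1 ∈ c.C := by
      intro r hr
      refine L.C_f ?_
      obtain ⟨i, hi⟩ : f ∈ zpowers d := hz.symm ▸ mem_zpowers f
      have hc : Commute (x1 * x2 * x1⁻¹ * x2⁻¹) r :=
        ((((s3 r hr).mul_left (t3 r hr)).mul_left (s3 r hr).inv_left).mul_left (t3 r hr).inv_left)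
      have hc2 : Commute (w1⁻¹ * r * w1) d := by
        rw [hde]
        show _ = _
        calc w1⁻¹ * r * w1 * (w1⁻¹ * (x1 * x2 * x1⁻¹ * x2⁻¹) * w1)
            = w1⁻¹ * (r * (x1 * x2 * x1⁻¹ * x2⁻¹)) * w1 := by group
          _ = _ := by rw [← hc.eq]; group
      simp only at hi
      rw [← hi]
      exact (hc2.zpow_right i).eq
    -- so the span is odd
    have hle : M ≤ c.U.map (MulAut.conj w1).toMonoidHom := by
      have key : ∀ r ∈ M, orderOf r = q → r ∈ c.U.map (MulAut.conj w1).toMonoidHom := by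
        intro r hr hro
        refine ⟨w1⁻¹ * r * w1, c.mem_U_of_odd (hfM r hr) ?_, by simp [mul_assoc]⟩
        have : orderOf (w1⁻¹ * r * w1) = q := by
          rw [show w1⁻¹ * r * w1 = MulAut.conj w1⁻¹ r by simp, MulEquiv.orderOf_eq, hro]
        rw [this]; exact hq.out.odd_of_ne_two L.ne_two
      refine sup_le (zpowers_le.2 (key e (mem_sup_left (mem_zpowers e)) L.e_order)) ?_
      rw [MonoidHom.map_zpowers, zpowers_le]
      refine key _ ?_ ((MulEquiv.orderOf_eq (MulAut.conj (g * y ^ n * g₂ * y ^ j)) e).trans L.e_order)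
      exact mem_sup_right (by rw [MonoidHom.map_zpowers]; exact mem_zpowers _)
    have := s1.trans (card_dvd_of_le hle)
    rw [card_map_of_injective (MulAut.conj w1).injective] at this
    exact Nat.not_even_iff_odd.2 c.U_odd (even_iff_two_dvd.2 this)
  rw [hX1, hX1] at hcomm
  refine ⟨L.same_of_comm hF p.g_mem p'.g_mem p.n_ne p'.n_ne hcomm, fun hgg => ?_⟩
  subst hgg
  refine ⟨?_, fun hnn => ?_⟩
  · by_contra hne
    have hne' : ¬ (q : ℤ) ∣ (n' : ℤ) - n := fun hd => hne (Int.modEq_iff_dvd.2 hd)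
    obtain ⟨i, hi⟩ := mem_zpowers_zpow L.f_pow hne'
    simp only at hi
    -- the line in the middle commutes with the end
    set v := g₂ * (e * f ^ j) * g₂⁻¹ with hv
    have hvM : g * y ^ n * v * (g * y ^ n)⁻¹ ∈ M := by
      rw [hM, ← R.span_eq p]
      exact mem_map_of_mem _ (mem_sup_right (mem_zpowers v))
    have c1 : Commute (g * (e * f ^ n) * g⁻¹) (g * y ^ n * v * (g * y ^ n)⁻¹) := hX1 g n ▸ s3 _ hvM
    have c2 : Commute (g * (e * f ^ n') * g⁻¹) (g * y ^ n * v * (g * y ^ n)⁻¹) := hX1 g n' ▸ t3 _ hvM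
    have c3 : Commute (g * f * g⁻¹) (g * y ^ n * v * (g * y ^ n)⁻¹) := by
      have h1 := (c1.inv_left.mul_left c2).zpow_left i
      have h2 : (g * (e * f ^ n) * g⁻¹)⁻¹ * (g * (e * f ^ n') * g⁻¹) = g * f ^ ((n' : ℤ) - n) * g⁻¹ := by
        rw [zpow_sub, zpow_natCast, zpow_natCast, ((Commute.refl f).pow_pow n' n).inv_right.eq]
        group
      rwa [h2, conj_zpow, hi] at h1
    have c4 : Commute f v := by
      have hcy : Commute (y ^ n) f := (show Commute y f from L.yf).pow_left n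
      show f * v = v * f
      calc f * v = (y ^ n)⁻¹ * (g⁻¹ * ((g * f * g⁻¹) * (g * y ^ n * v * (g * y ^ n)⁻¹)) * g) * y ^ n := by
            rw [show (y ^ n)⁻¹ * (g⁻¹ * ((g * f * g⁻¹) * (g * y ^ n * v * (g * y ^ n)⁻¹)) * g) * y ^ n =
              (y ^ n)⁻¹ * f * y ^ n * v by group, mul_assoc ((y ^ n)⁻¹) f, ← hcy.eq, inv_mul_cancel_left]
        _ = v * f := by
            rw [c3.eq, show (y ^ n)⁻¹ * (g⁻¹ * ((g * y ^ n * v * (g * y ^ n)⁻¹) * (g * f * g⁻¹)) * g) * y ^ n =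
              v * ((y ^ n)⁻¹ * f * y ^ n) by group, mul_assoc ((y ^ n)⁻¹) f, ← hcy.eq, inv_mul_cancel_left]
    have hc5 : Commute (1 * (e * f ^ 1) * (1 : G)⁻¹) v := by
      rw [one_mul, inv_one, mul_one, pow_one]
      refine Commute.mul_left ?_ c4
      rw [hv, show g₂ * (e * f ^ j) * g₂⁻¹ = g₂ * e * g₂⁻¹ * (g₂ * f ^ j * g₂⁻¹) by group, ← conj_pow]
      exact (L.e_comm_self p.g₂_mem).mul_right ((L.e_comm_conj p.g₂_mem).pow_right j)
    have hgC := L.same_of_comm hF (one_mem _) p.g₂_mem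
      (fun h => hq.out.one_lt.ne' (Nat.dvd_one.1 h)) p.j_ne hc5
    rw [inv_one, one_mul] at hgC
    refine p.not_odd (Odd.of_dvd_nat (by rw [Nat.card_zpowers, L.f_order]; exact hq.out.odd_of_ne_two L.ne_two)
      (card_dvd_of_le ((closure_le (zpowers f)).2 ?_)))
    intro r hr
    simp only [Set.mem_insert_iff, Set.mem_singleton_iff] at hr
    rcases hr with hr | hr <;> rw [hr]
    · exact mem_zpowers _
    · exact (mem_normalizer_iff.1 (L.normal hgC) f).1 (mem_zpowers f)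
  subst hnn
  have hY : (zpowers e).map (MulAut.conj (g₂ * y ^ j)).toMonoidHom =
      (zpowers e).map (MulAut.conj (g₂' * y ^ j')).toMonoidHom := by
    apply map_conj_injective (g * y ^ n)
    show ((zpowers e).map _).map _ = ((zpowers e).map _).map _
    rw [map_conj_mul, map_conj_mul]
    simpa [mul_assoc] using h
  rw [MonoidHom.map_zpowers, MonoidHom.map_zpowers] at hY
  have hconj : ∀ (g : G) (j : ℕ), (MulAut.conj (g * y ^ j)).toMonoidHom e = g * (e * f ^ j) * g⁻¹ :=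
    fun g j => by
      show g * y ^ j * e * (g * y ^ j)⁻¹ = _
      rw [← L.move j]; group
  rw [hconj, hconj] at hY
  obtain ⟨α, hα⟩ : g₂' * (e * f ^ j') * g₂'⁻¹ ∈ zpowers (g₂ * (e * f ^ j) * g₂⁻¹) := hY ▸ mem_zpowers _
  simp only at hα
  have hc : Commute (g₂ * (e * f ^ j) * g₂⁻¹) (g₂' * (e * f ^ j') * g₂'⁻¹) :=
    hα ▸ (Commute.refl _).zpow_right α
  refine ⟨L.same_of_comm hF p.g₂_mem p'.g₂_mem p.j_ne p'.j_ne hc, fun hgg => ?_⟩
  subst hgg
  rw [conj_zpow, ((show Commute e f from L.ef).pow_right j).mul_zpow] at hα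
  have hα' : e ^ α * (f ^ j) ^ α = e * f ^ j' := mul_left_cancel (mul_right_cancel hα)
  set r := e⁻¹ * e ^ α with hr
  have hr1 : r = f ^ j' * ((f ^ j) ^ α)⁻¹ := by
    rw [hr, eq_mul_inv_iff_mul_eq, mul_assoc, hα', inv_mul_cancel_left]
  have hrW : r ∈ c.W a := (c.W a).mul_mem ((c.W a).inv_mem L.e_mem.2) ((c.W a).zpow_mem L.e_mem.2 α)
  have hrf : r ∈ zpowers f := by
    rw [hr1]
    exact mul_mem (pow_mem (mem_zpowers f) _) (inv_mem (zpow_mem (pow_mem (mem_zpowers f) _) α))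
  have hr0 : r = 1 := by
    obtain ⟨i, hi⟩ := hrf
    simp only at hi
    have h1 : a * r * a⁻¹ = r⁻¹ := by rw [← hi, ← conj_zpow, L.f_inv, inv_zpow]
    have h2 : a * r * a⁻¹ = r := mul_inv_eq_iff_eq_mul.2 ((L.refl.mem_W.1 hrW).2).symm
    exact eq_one_of_sq_odd (by nth_rewrite 1 [h2.symm.trans h1]; rw [inv_mul_cancel])
      (c.odd_of_mem_U (L.refl.W_le hrW))
  have hα1 : (q : ℤ) ∣ α - 1 := by
    rw [← L.e_order, orderOf_dvd_iff_zpow_eq_one, zpow_sub_one, ← hr0, hr]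
    exact ((Commute.refl e).zpow_left α).inv_right.eq
  have hj : (q : ℤ) ∣ (j' : ℤ) - j * α := by
    rw [← L.f_order, orderOf_dvd_iff_zpow_eq_one, zpow_sub, zpow_mul, zpow_natCast, zpow_natCast, ← hr1, hr0]
  rw [Int.modEq_iff_dvd]
  have : (j' : ℤ) - j = (j' - j * α) + j * (α - 1) := by ring
  rw [this]
  exact dvd_add hj (dvd_mul_of_dvd_right hα1 _)

/-- The count of paths. -/
theorem index_ge : ∀ {T : Subgroup G} {cc : ℕ}, c.Socle a (normalizer (zpowers e : Set G)) T cc → f ∈ T →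
    (q - 1) ^ 2 * c.C.relIndex (normalizer (zpowers e : Set G)) *
      (c.C.relIndex (normalizer (zpowers e : Set G)) - (2 * cc + 5)) ≤
      (normalizer (zpowers e : Set G)).index := by
  intro T cc hS hfT
  classical
  haveI : Finite (Subgroup G) :=
    Finite.of_injective (fun H : Subgroup G => (H : Set G)) SetLike.coe_injective
  have L := R.toHeis
  set H := normalizer (zpowers e : Set G) with hH
  let V := {v : G // ∃ g ∈ H, g * c.d.z * g⁻¹ = v}
  let Bad : V → Prop := fun v => ∃ g ∈ H, g * c.d.z * g⁻¹ = v.1 ∧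
    Odd (Nat.card (closure ({f, g * f * g⁻¹} : Set G)))
  have hJ : Nat.card V = c.C.relIndex H := c.card_orbit_z H
  have hbad : Nat.card {v : V // Bad v} ≤ 2 * cc + 5 := by
    refine le_trans (Nat.card_le_card_of_injective
      (fun v : {v : V // Bad v} => (⟨v.1.1, v.2⟩ : {v : G // ∃ g ∈ H, g * c.d.z * g⁻¹ = v ∧
        Odd (Nat.card (closure ({f, g * f * g⁻¹} : Set G)))})) ?_) (hS.pairs f hfT L.f_ne)
    intro v v' e0
    have h1 := congrArg Subtype.val e0
    exact Subtype.ext (Subtype.ext h1)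
  have hgood : c.C.relIndex H - (2 * cc + 5) ≤ Nat.card {v : V // ¬ Bad v} := by
    have h1 := Nat.card_congr (Equiv.sumCompl Bad)
    rw [Nat.card_sum, hJ] at h1
    omega
  have hrep : ∀ v : V, ∃ g ∈ H, g * c.d.z * g⁻¹ = v.1 := fun v => v.2
  choose rep hrepH hrepz using hrep
  have hpath : ∀ (v : V) (i : Fin (q - 1)) (v' : {v : V // ¬ Bad v}) (i' : Fin (q - 1)),
      Path e f q (rep v) (i.1 + 1) (rep v'.1) (i'.1 + 1) := fun v i v' i' =>
    ⟨hrepH v, hrepH v'.1,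
      fun hd => by have := Nat.le_of_dvd (Nat.succ_pos _) hd; omega,
      fun hd => by have := Nat.le_of_dvd (Nat.succ_pos _) hd; omega,
      fun ho => v'.2 ⟨rep v'.1, hrepH v'.1, hrepz v'.1, ho⟩⟩
  let Φ : (V × Fin (q - 1)) × {v : V // ¬ Bad v} × Fin (q - 1) →
      {Q : Subgroup G // ∃ g : G, Q = (zpowers e).map (MulAut.conj g).toMonoidHom} := fun d =>
    ⟨_, rep d.1.1 * y ^ (d.1.2.1 + 1) * rep d.2.1.1 * y ^ (d.2.2.1 + 1), rfl⟩
  have hrepinj : ∀ v v' : V, (rep v)⁻¹ * rep v' ∈ c.C → v = v' := by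
    intro v v' hC
    refine Subtype.ext ?_
    rw [← hrepz v, ← hrepz v']
    calc rep v * c.d.z * (rep v)⁻¹ = rep v * (c.d.z * ((rep v)⁻¹ * rep v')) * (rep v')⁻¹ := by group
      _ = _ := by rw [← c.mem_C.1 hC]; group
  have hfin : ∀ i i' : Fin (q - 1), ((i.1 + 1 : ℕ) : ℤ) ≡ ((i'.1 + 1 : ℕ) : ℤ) [ZMOD q] → i = i' := by
    intro i i' hm
    have h1 := Int.natCast_modEq_iff.1 hm
    have hi := i.2
    have hi' := i'.2
    exact Fin.ext (by
      have := Nat.ModEq.eq_of_lt_of_lt h1 (by omega) (by omega)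
      omega)
  have hinj : Function.Injective Φ := by
    rintro ⟨⟨v, i⟩, w, j⟩ ⟨⟨v', i'⟩, w', j'⟩ e0
    obtain ⟨h1, h2⟩ := R.path_unique hF (hpath v i w j) (hpath v' i' w' j') (congrArg Subtype.val e0)
    obtain rfl := hrepinj v v' h1
    obtain ⟨h3, h4⟩ := h2 rfl
    obtain rfl := hfin i i' h3
    obtain ⟨h5, h6⟩ := h4 rfl
    obtain rfl : w = w' := Subtype.ext (hrepinj _ _ h5)
    obtain rfl := hfin j j' (h6 rfl)
    rfl
  have hle := Nat.card_le_card_of_injective Φ hinj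
  rw [card_conjugates, Nat.card_prod, Nat.card_prod, Nat.card_prod, hJ, Nat.card_eq_fintype_card (α := Fin (q - 1)),
    Fintype.card_fin] at hle
  refine le_trans ?_ hle
  calc (q - 1) ^ 2 * c.C.relIndex H * (c.C.relIndex H - (2 * cc + 5))
      ≤ (q - 1) ^ 2 * c.C.relIndex H * Nat.card {v : V // ¬ Bad v} := Nat.mul_le_mul_left _ hgood
    _ = _ := by ring

/-- The irreducible configuration is impossible once its number of conjugate lines is bounded. -/
theorem false_of_orbit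
    (hk : (5 ≤ q ∧ (normalizer (zpowers e : Set G)).relIndex c.C ≤ q * (q + 1)) ∨
      (q = 3 ∧ (normalizer (zpowers e : Set G)).relIndex c.C ≤ 6))
    (hfix : N ⊓ c.W a = zpowers e)
    (hside : (c.W (c.d.x * a)).relIndex c.U ≤ (c.W a).relIndex c.U) : False := by
  have L := R.toHeis
  have ha := L.refl
  obtain ⟨T, cc, hS, hfT, hqc⟩ := L.exists_socle hF
  set H := normalizer (zpowers e : Set G) with hH
  set k := H.relIndex c.C with hkd
  obtain ⟨hI, -⟩ := L.local_H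
  have hWH : c.W a ≤ H := by
    intro w hw
    refine mem_normalizer_fintype fun r hr => ?_
    show w * r * w⁻¹ ∈ zpowers e
    rw [← hfix] at hr ⊢
    have hwU := ha.mem_W.1 hw
    refine ⟨(mem_normalizer_iff.1 (R.N_norm (c.U_le hwU.1)) r).1 hr.1, ha.mem_W.2 ⟨?_, ?_⟩⟩
    · exact mul_mem (mul_mem hwU.1 (ha.W_le hr.2)) (inv_mem hwU.1)
    · exact (((show Commute w a from hwU.2).mul_left (ha.mem_W.1 hr.2).2).mul_left
        (show Commute w a from hwU.2).inv_left).eq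
  have hna : c.d.m * (c.W a).relIndex c.U ≤ k * cc := by
    rw [c.m_mul_relIndex ha hI.z_mem hI.a_mem hWH, inf_relIndex_right, ← hkd, mul_comm 2 k, mul_assoc]
    exact Nat.mul_le_mul_left k hS.orb
  have hM : c.d.m * ((c.W a).relIndex c.U + (c.W (c.d.x * a)).relIndex c.U) ≤ 2 * k * cc :=
    calc _ ≤ c.d.m * ((c.W a).relIndex c.U + (c.W a).relIndex c.U) :=
          Nat.mul_le_mul_left _ (Nat.add_le_add_left hside _)
      _ = 2 * (c.d.m * (c.W a).relIndex c.U) := by ring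
      _ ≤ 2 * (k * cc) := Nat.mul_le_mul_left _ hna
      _ = 2 * k * cc := by ring
  have hq3 : 3 ≤ q := by
    have := hq.out.two_le
    have := L.ne_two
    omega
  have hk0 : 0 < k := Nat.pos_of_ne_zero (FiniteIndex.index_ne_zero (H := H.subgroupOf c.C))
  have hnum := num_symp (c.index_bound ha) hS.many hq3 hqc hk0 hk hM
  refine absurd hnum (not_lt.2 ?_)
  set J := c.C.relIndex H with hJ
  calc (q - 1) ^ 2 * (J - 1) * (J - (2 * cc + 5)) * J ≤ (q - 1) ^ 2 * J * (J - (2 * cc + 5)) * J :=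
        Nat.mul_le_mul_right _ (Nat.mul_le_mul_right _ (Nat.mul_le_mul_left _ (Nat.sub_le J 1)))
    _ ≤ H.index * J := Nat.mul_le_mul_right _ (R.index_ge hF hS hfT)
    _ = c.C.index * k := index_mul_relIndex H c.C

end Irr

end Core

end Cfsg.Agent.GW
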