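import Cfsg.Agent.Lib.Blocks.DihedralBlock
import Cfsg.Agent.Lib.BrauerPairs.RealBlock
import Cfsg.Agent.Lib.Blocks.KernelBlock
import Cfsg.Agent.Lib.Star.Sections

/-!
The block of the centralizer of the central involution attached to a linear character that is
trivial on a dihedral Sylow 2-subgroup: under coherent fusion it is the only block inducing its
block, so a character that does not vanish on it is a multiple of the linear character on the
section of the involution.
-/

set_option linter.unusedSectionVars false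
set_option linter.style.haveILetI false

namespace Cfsg.Agent.GW

open Cfsg MonoidAlgebra Cfsg.Agent.Blocks Cfsg.Agent.BrauerPairs Cfsg.Agent.Char Cfsg.Agent.Star
open scoped ComplexConjugate

universe u

/-! ## Twisting by linear characters -/

section Abstract

variable {H : Type u} [Group H] [Fintype H] {M : Ideal AlgInt} [M.IsPrime]

theorem lin_mem_locRing (l : H →* ℂˣ) (g : H) : ((l g : ℂ)) ∈ locRing M := by
  refine mem_locRing_of_isIntegral (IsIntegral.of_pow (Nat.card_pos (α := H)) ?_)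
  rw [← Units.val_pow_eq_pow_val, ← map_pow, pow_card_eq_one', map_one, Units.val_one]
  exact isIntegral_one

/-- Multiplication by a linear character. -/
noncomputable def twist (l : H →* ℂˣ) (χ : IrrCharacter H) : IrrCharacter H :=
  ⟨fun g => (χ : H → ℂ) g * (l g : ℂ), isIrr_mul_linear χ.2 l⟩

theorem twist_apply (l : H →* ℂˣ) (χ : IrrCharacter H) (g : H) :
    (twist l χ : H → ℂ) g = (χ : H → ℂ) g * (l g : ℂ) := rfl

theorem twist_twist_inv (l : H →* ℂˣ) (χ : IrrCharacter H) : twist l (twist l⁻¹ χ) = χ := by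
  refine Subtype.ext (funext fun g => ?_)
  simp [twist_apply, mul_assoc]

theorem twist_inv_twist (l : H →* ℂˣ) (χ : IrrCharacter H) : twist l⁻¹ (twist l χ) = χ := by
  refine Subtype.ext (funext fun g => ?_)
  simp [twist_apply, mul_assoc]

theorem sameBlock_twist (l : H →* ℂˣ) {χ ψ : IrrCharacter H}
    (h : SameBlock M (χ : H → ℂ) (ψ : H → ℂ)) :
    SameBlock M (twist l χ : H → ℂ) (twist l ψ : H → ℂ) := fun g => by
  have h1 := MemLocalIdeal.mul_left (mem_locRing.1 (lin_mem_locRing (M := M) l g)) (h g)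
  convert h1 using 1
  simp only [centralChar, twist_apply, map_one, Units.val_one, mul_one]
  ring

/-- The linear character as an irreducible character. -/
noncomputable def linIrr (l : H →* ℂˣ) : IrrCharacter H :=
  ⟨fun g => (l g : ℂ), isIrrCharacter_linear l⟩

/-- The block of a linear character. -/
noncomputable def linBlock (M : Ideal AlgInt) (l : H →* ℂˣ) : Set (IrrCharacter H) :=
  blockOf M (linIrr l : H → ℂ)

theorem isPBlock_linBlock (l : H →* ℂˣ) : IsPBlock M (linBlock M l) :=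
  isPBlock_blockOf (linIrr l)

variable (hM : IsPModular 2 M) (N : Subgroup H) [N.Normal] (hN : Odd (Nat.card N))
  (hidx : ∃ k, N.index = 2 ^ k)

include hM hN hidx

theorem mem_linBlock (l : H →* ℂˣ) (χ : IrrCharacter H) :
    χ ∈ linBlock M l ↔ ∀ n ∈ N, (χ : H → ℂ) n = (χ : H → ℂ) 1 * (l n : ℂ) := by
  have hp : ¬ 2 ∣ Nat.card N := hN.not_two_dvd_nat
  have h1 : χ ∈ linBlock M l ↔ twist l⁻¹ χ ∈ principalBlock M H := by
    have e : twist l⁻¹ (linIrr l) = principal H := by
      refine Subtype.ext (funext fun g => ?_)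
      show (l g : ℂ) * ((l⁻¹) g : ℂ) = 1
      simp
    constructor
    · intro h
      have := sameBlock_twist l⁻¹ (h : SameBlock M (linIrr l : H → ℂ) (χ : H → ℂ))
      rw [e] at this
      exact this
    · intro h
      have h' : SameBlock M (principal H : H → ℂ) (twist l⁻¹ χ : H → ℂ) := h
      have := sameBlock_twist l h'
      rw [← e, twist_twist_inv, twist_twist_inv] at this
      exact this
  rw [h1, principalBlock_eq_trivialOn hM N hp hidx, Set.mem_setOf_eq]
  refine forall₂_congr fun n _ => ?_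
  simp only [twist_apply, map_one, Units.val_one, mul_one, MonoidHom.inv_apply]
  rw [Units.val_inv_eq_inv_val, mul_inv_eq_iff_eq_mul₀ (l n).ne_zero]

theorem blockCoeff_linBlock (l : H →* ℂˣ) (g : H) [Decidable (g ∈ N)] :
    blockCoeff (linBlock M l) g =
      if g ∈ N then conj ((l g : ℂ)) * (Nat.card N : ℂ)⁻¹ else 0 := by
  classical
  haveI : Fintype (H ⧸ N) := Fintype.ofFinite _
  set A := Finset.univ.filter
    (fun χ : IrrCharacter H => ∀ n ∈ N, (χ : H → ℂ) n = (χ : H → ℂ) 1) with hA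
  rw [blockCoeff_eq_sum,
    Finset.sum_nbij' (t := A) (g := fun ψ => conj ((l g : ℂ)) * ((ψ : H → ℂ) 1 * conj ((ψ : H → ℂ) g)))
      (twist l⁻¹) (twist l) ?_ ?_ (fun χ _ => twist_twist_inv l χ)
      (fun χ _ => twist_inv_twist l χ) ?_]
  · rw [← Finset.mul_sum, Cfsg.Agent.CharX.sum_trivialOn' N A (fun χ => by simp [hA])
      (fun f => f 1 * conj (f g))]
    simp only [Cfsg.Agent.CharX.infl_apply]
    rw [show ((1 : H) : H ⧸ N) = 1 from rfl, sum_irr_one_mul]
    simp only [QuotientGroup.eq_one_iff]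
    split_ifs
    · have h2 : (Nat.card H : ℂ) = Nat.card (H ⧸ N) * Nat.card N := by
        exact_mod_cast Subgroup.card_eq_card_quotient_mul_card_subgroup N
      rw [h2]
      have : (Nat.card (H ⧸ N) : ℂ) ≠ 0 := Nat.cast_ne_zero.2 Nat.card_pos.ne'
      have : (Nat.card N : ℂ) ≠ 0 := Nat.cast_ne_zero.2 Nat.card_pos.ne'
      field_simp
    · simp
  · intro χ hχ
    refine Finset.mem_filter.2 ⟨Finset.mem_univ _, fun n hn => ?_⟩
    have h1 := (mem_linBlock hM N hN hidx l χ).1 (Finset.mem_filter.1 hχ).2 n hn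
    simp [twist_apply, h1, mul_assoc]
  · intro ψ hψ
    refine Finset.mem_filter.2 ⟨Finset.mem_univ _, (mem_linBlock hM N hN hidx l _).2 fun n hn => ?_⟩
    simp [twist_apply, (Finset.mem_filter.1 hψ).2 n hn]
  · intro χ _
    simp only [twist_apply, MonoidHom.inv_apply, map_one, inv_one, Units.val_one, mul_one, map_mul,
      Units.val_inv_eq_inv_val, map_inv₀]
    have : conj ((l g : ℂ)) ≠ 0 := (map_ne_zero _).2 (l g).ne_zero
    field_simp

theorem coeff_Ek_linBlock (l : H →* ℂˣ) (g : H) [Decidable (g ∈ N)] :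
    (Ek M (linBlock M l)).coeff g =
      if g ∈ N then res M ⟨(l g⁻¹ : ℂ), lin_mem_locRing l g⁻¹⟩ else 0 := by
  haveI : CharP (resField M) 2 := resField_charP hM
  haveI : Fact (Nat.Prime 2) := ⟨Nat.prime_two⟩
  rw [coeff_Ek (isPBlock_linBlock l)]
  have hb := blockCoeff_linBlock hM N hN hidx l g
  split_ifs with h
  · rw [if_pos h] at hb
    let c : locRing M := ⟨(Nat.card N : ℂ)⁻¹, inv_natCast_memLocalRing hM hN.not_two_dvd_nat⟩
    have hc : res M c = 1 := by
      have e : c * (Nat.card N : locRing M) = 1 := Subtype.ext (by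
        push_cast
        exact inv_mul_cancel₀ (Nat.cast_ne_zero.2 Nat.card_pos.ne'))
      have e2 := congrArg (res M) e
      rwa [map_mul, map_natCast, map_one, CharP.cast_eq_mod (resField M) 2,
        Nat.odd_iff.1 hN, Nat.cast_one, mul_one] at e2
    have e3 : (⟨blockCoeff (linBlock M l) g, blockCoeff_memLocalRing (isPBlock_linBlock l) g⟩ :
        locRing M) = ⟨(l g⁻¹ : ℂ), lin_mem_locRing l g⁻¹⟩ * c := Subtype.ext (by
      show blockCoeff (linBlock M l) g = (l g⁻¹ : ℂ) * (Nat.card N : ℂ)⁻¹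
      rw [hb, conj_linear, map_inv, Units.val_inv_eq_inv_val])
    rw [e3, map_mul, hc, mul_one]
  · rw [if_neg h] at hb
    rw [res_eq_zero_iff]
    show MemLocalIdeal M (blockCoeff (linBlock M l) g)
    rw [hb]
    exact memLocalIdeal_zero

end Abstract

/-! ## The configuration -/

open Cfsg.Agent.TwoFus

variable {G : Type u} [Group G] [Fintype G]

/-- The odd core of the centralizer of the central involution and a linear character of the
centralizer trivial on the Sylow 2-subgroup. -/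
structure LinBase (P : Sylow 2 G) (d : Dih (P : Subgroup G)) where
  U : Subgroup G
  le : U ≤ secC d.z
  conj_mem : ∀ c ∈ secC d.z, ∀ w ∈ U, c * w * c⁻¹ ∈ U
  odd : Odd (Nat.card U)
  card_eq : Nat.card (secC d.z) = Nat.card U * Nat.card (P : Subgroup G)
  lin : secC d.z →* ℂˣ
  lin_P : ∀ s : secC d.z, (s : G) ∈ (P : Subgroup G) → lin s = 1

/-- The odd core of the centralizer of the central involution, a linear character of the
centralizer trivial on the Sylow 2-subgroup, and coherent fusion of the reflections. -/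
structure LinCtx (P : Sylow 2 G) (d : Dih (P : Subgroup G)) extends LinBase P d where
  coh : ∀ v ∈ (P : Subgroup G), v * v = 1 → v ≠ 1 → v ≠ d.z → ∃ k : G, k * d.z * k⁻¹ = v ∧
    k ∈ Subgroup.normalizer (Subgroup.closure ({d.z, v} : Set G) : Set G) ∧
    ∀ w w' : secC d.z, (w : G) ∈ U → (w' : G) ∈ U → Commute (w : G) v →
      (w' : G) = k * (w : G) * k⁻¹ → lin w' = lin w

namespace LinBase

variable {P : Sylow 2 G} {d : Dih (P : Subgroup G)} (c : LinBase P d)

/-- The linear character, extended by zero. -/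
noncomputable def lamF (g : G) : ℂ := by
  classical
  exact if h : g ∈ secC d.z then (c.lin ⟨g, h⟩ : ℂ) else 0

theorem lamF_mem {g : G} (h : g ∈ secC d.z) : c.lamF g = (c.lin ⟨g, h⟩ : ℂ) := by
  classical rw [lamF, dif_pos h]

theorem lamF_mem_locRing (M : Ideal AlgInt) [M.IsPrime] (g : G) : c.lamF g ∈ locRing M := by
  classical
  rw [lamF]
  split_ifs with h
  · exact lin_mem_locRing c.lin ⟨g, h⟩
  · exact zero_mem _

/-- The value in the local ring. -/
noncomputable def lamR (M : Ideal AlgInt) [M.IsPrime] (g : G) : locRing M :=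
  ⟨c.lamF g, c.lamF_mem_locRing M g⟩

theorem P_le : (P : Subgroup G) ≤ secC d.z := fun _ hs => mem_secC.2 (d.z_comm hs)

theorem dz_mem : d.z ∈ (P : Subgroup G) := Subgroup.zpowers_le.2 d.hx d.z_mem

theorem normal : (c.U.subgroupOf (secC d.z)).Normal :=
  ⟨fun w hw g => Subgroup.mem_subgroupOf.2 (by simpa using c.conj_mem g g.2 w hw)⟩

theorem index_eq : ∃ k, (c.U.subgroupOf (secC d.z)).index = 2 ^ k := by
  haveI : Fact (Nat.Prime 2) := ⟨Nat.prime_two⟩
  obtain ⟨k, hk⟩ := IsPGroup.iff_card.1 P.2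
  refine ⟨k, ?_⟩
  have h1 := (c.U.subgroupOf (secC d.z)).index_mul_card
  rw [Nat.card_congr (Subgroup.subgroupOfEquivOfLe c.le).toEquiv, c.card_eq, hk,
    mul_comm (Nat.card c.U)] at h1
  exact Nat.eq_of_mul_eq_mul_right Nat.card_pos h1

theorem mem_U_iff {g : G} (hg : g ∈ secC d.z) : g ∈ c.U ↔ ¬ 2 ∣ orderOf g := by
  constructor
  · intro h h2
    exact c.odd.not_two_dvd_nat (h2.trans (by
      rw [← Subgroup.orderOf_mk g h]; exact orderOf_dvd_natCard _))
  · intro h
    haveI := c.normal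
    obtain ⟨k, hk⟩ := c.index_eq
    refine Subgroup.mem_subgroupOf.1 ((QuotientGroup.eq_one_iff (⟨g, hg⟩ : secC d.z)).1
      (orderOf_eq_one_iff.1 (Nat.eq_one_of_dvd_coprimes (a := 2 ^ k) (b := orderOf g)
        ((Nat.prime_two.coprime_iff_not_dvd.2 h).pow_left k) ?_ ?_)))
    · rw [← hk, Subgroup.index]; exact orderOf_dvd_natCard _
    · have := orderOf_map_dvd (QuotientGroup.mk' (c.U.subgroupOf (secC d.z))) ⟨g, hg⟩
      rwa [Subgroup.orderOf_mk] at this

/-- The idempotent of the linear character at the centralizer of `Q`. -/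
noncomputable def eLin (M : Ideal AlgInt) [M.IsPrime] (Q : Subgroup G) :
    MonoidAlgebra (resField M) G := gaOfFun fun g => by
  classical exact if g ∈ c.U ∧ g ∈ Subgroup.centralizer (Q : Set G) then res M (c.lamR M g⁻¹) else 0

theorem coeff_eLin (M : Ideal AlgInt) [M.IsPrime] (Q : Subgroup G) (g : G)
    [Decidable (g ∈ c.U ∧ g ∈ Subgroup.centralizer (Q : Set G))] :
    (c.eLin M Q).coeff g =
      if g ∈ c.U ∧ g ∈ Subgroup.centralizer (Q : Set G) then res M (c.lamR M g⁻¹) else 0 := by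
  unfold eLin
  rw [coeff_gaOfFun]
  split_ifs <;> rfl

variable {M : Ideal AlgInt} [M.IsPrime] (hM : IsPModular 2 M)

/-- The block of the linear character at a subgroup of the centralizer. -/
noncomputable def bLin (M : Ideal AlgInt) [M.IsPrime] {K : Subgroup G} (hK : K ≤ secC d.z) :
    Set (IrrCharacter K) := linBlock M (c.lin.comp (Subgroup.inclusion hK))

theorem normalK {K : Subgroup G} (hK : K ≤ secC d.z) : (c.U.subgroupOf K).Normal :=
  ⟨fun w hw g => Subgroup.mem_subgroupOf.2 (by simpa using c.conj_mem g (hK g.2) w hw)⟩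

theorem oddK (K : Subgroup G) : Odd (Nat.card (c.U.subgroupOf K)) :=
  c.odd.of_dvd_nat (Subgroup.card_comap_dvd_of_injective c.U K.subtype K.subtype_injective)

theorem indexK {K : Subgroup G} (hK : K ≤ secC d.z) :
    ∃ k, (c.U.subgroupOf K).index = 2 ^ k := by
  haveI := c.normal
  haveI := c.normalK hK
  let f : K →* secC d.z ⧸ c.U.subgroupOf (secC d.z) :=
    (QuotientGroup.mk' _).comp (Subgroup.inclusion hK)
  have hker : f.ker = c.U.subgroupOf K := by
    ext g
    rw [MonoidHom.mem_ker, MonoidHom.comp_apply, QuotientGroup.mk'_apply, QuotientGroup.eq_one_iff,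
      Subgroup.mem_subgroupOf, Subgroup.mem_subgroupOf]
    rfl
  obtain ⟨k, hk⟩ := c.index_eq
  obtain ⟨j, -, hj⟩ := (Nat.dvd_prime_pow Nat.prime_two).1
    (show Nat.card f.range ∣ 2 ^ k by rw [← hk, Subgroup.index]; exact Subgroup.card_subgroup_dvd_card _)
  exact ⟨j, by rw [← hker, Subgroup.index_ker, hj]⟩

theorem inf_centralizer_le {Q : Subgroup G} (hz : d.z ∈ Q) :
    (⊤ : Subgroup G) ⊓ Subgroup.centralizer (Q : Set G) ≤ secC d.z := fun g hg =>
  mem_secC.2 (Subgroup.mem_centralizer_iff.1 hg.2 d.z hz).symm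

include hM in
theorem zB_bLin {Q : Subgroup G} (hz : d.z ∈ Q) :
    zB M _ (c.bLin M (inf_centralizer_le hz)) = c.eLin M Q := by
  classical
  set K := (⊤ : Subgroup G) ⊓ Subgroup.centralizer (Q : Set G) with hK
  haveI := c.normalK (inf_centralizer_le hz)
  refine gaExt fun g => ?_
  rw [zB, coeff_eLin]
  by_cases hg : g ∈ K
  · rw [coeff_emb_mem K _ hg, bLin, coeff_Ek_linBlock hM (c.U.subgroupOf K) (c.oddK K)
      (c.indexK (inf_centralizer_le hz))]
    refine if_congr ⟨fun h => ⟨Subgroup.mem_subgroupOf.1 h, hg.2⟩,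
      fun h => Subgroup.mem_subgroupOf.2 h.1⟩ (congrArg _ (Subtype.ext ?_)) rfl
    show _ = c.lamF g⁻¹
    rw [c.lamF_mem (inf_centralizer_le hz (inv_mem hg))]
    rfl
  · rw [coeff_emb_notMem K _ hg, if_neg fun h => hg ⟨Subgroup.mem_top g, h.2⟩]

include hM in
theorem isBlk_eLin {Q : Subgroup G} (hz : d.z ∈ Q) :
    IsBlk ((⊤ : Subgroup G) ⊓ Subgroup.centralizer (Q : Set G)) (c.eLin M Q) := by
  rw [← c.zB_bLin hM hz]
  exact isBlk_zB _ (isPBlock_linBlock _)

theorem brTrunc_eLin {Q R : Subgroup G} (h : Q ≤ R) :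
    brTrunc R (c.eLin M Q) = c.eLin M R := by
  classical
  refine gaExt fun g => ?_
  by_cases hg : g ∈ Subgroup.centralizer (R : Set G)
  · rw [coeff_brTrunc_pos hg, coeff_eLin, coeff_eLin]
    simp [hg, Subgroup.centralizer_le (SetLike.coe_subset_coe.2 h) hg]
  · rw [coeff_brTrunc_neg hg, coeff_eLin, if_neg fun hh => hg hh.2]

include hM in
/-- The pair of the linear character at a Sylow subgroup, above the central involution. -/
theorem nsub_top : NSub 2 ⊤ (Subgroup.zpowers d.z, c.eLin M (Subgroup.zpowers d.z))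
    ((P : Subgroup G), c.eLin M (P : Subgroup G)) := by
  have hz := c.isBlk_eLin hM (Subgroup.mem_zpowers d.z)
  have hP := c.isBlk_eLin hM dz_mem
  refine ⟨⟨P.2.to_le (Subgroup.zpowers_le.2 dz_mem), le_top, hz⟩, ⟨P.2, le_top, hP⟩,
    Subgroup.zpowers_le.2 dz_mem,
    P_le.trans (inf_le_right.trans (Subgroup.centralizer_le_normalizer _)),
    hz.inZ.isInvElt P_le, ?_⟩
  show brTrunc (P : Subgroup G) (c.eLin M (Subgroup.zpowers d.z)) * c.eLin M (P : Subgroup G) = _
  rw [c.brTrunc_eLin (Subgroup.zpowers_le.2 dz_mem), hP.idem]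

include hM in
theorem isMax {B : Set (IrrCharacter G)}
    (hpair : IsPairOf 2 ⊤ (Ek M B) (Subgroup.zpowers d.z, c.eLin M (Subgroup.zpowers d.z))) :
    haveI : Fact (Nat.Prime 2) := ⟨Nat.prime_two⟩
    IsMax 2 (Ek M B) ((P : Subgroup G), c.eLin M (P : Subgroup G)) := by
  haveI : Fact (Nat.Prime 2) := ⟨Nat.prime_two⟩
  haveI : CharP (resField M) 2 := resField_charP hM
  have hp := (c.nsub_top hM).pairOf_right hpair
  refine ⟨hp, NoExt.isDefGrp (fun b hb => ?_) hp⟩
  exact P.is_maximal' hb.right.pgroup hb.le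

theorem lamF_coh {v k : G}
    (h : ∀ w w' : secC d.z, (w : G) ∈ c.U → (w' : G) ∈ c.U → Commute (w : G) v →
      (w' : G) = k * (w : G) * k⁻¹ → c.lin w' = c.lin w)
    {w : G} (hw : w ∈ c.U) (hw' : k * w * k⁻¹ ∈ c.U) (hc : Commute w v) :
    c.lamF (k * w * k⁻¹) = c.lamF w := by
  rw [c.lamF_mem (c.le hw), c.lamF_mem (c.le hw')]
  exact congrArg Units.val (h ⟨w, c.le hw⟩ ⟨_, c.le hw'⟩ hw hw' hc rfl)

/-- Coherence fixes the idempotent at a four group. -/
theorem cj_eLin_eq {v k : G} (hk : k ∈ Subgroup.normalizer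
      (Subgroup.closure ({d.z, v} : Set G) : Set G))
    (h : ∀ w w' : secC d.z, (w : G) ∈ c.U → (w' : G) ∈ c.U → Commute (w : G) v →
      (w' : G) = k * (w : G) * k⁻¹ → c.lin w' = c.lin w) :
    cj k (c.eLin M (Subgroup.closure {d.z, v})) = c.eLin M (Subgroup.closure {d.z, v}) := by
  classical
  set V := Subgroup.closure ({d.z, v} : Set G) with hV
  set W := Subgroup.centralizer (V : Set G) with hW
  have hzV : d.z ∈ V := Subgroup.subset_closure (Set.mem_insert _ _)
  have hvV : v ∈ V := Subgroup.subset_closure (Set.mem_insert_of_mem _ rfl)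
  have hWC : W ≤ secC d.z := fun g hg => inf_centralizer_le hzV ⟨Subgroup.mem_top g, hg⟩
  have hWk : cjS k W = W := by rw [hW, cjS_centralizer, cjS_eq_of_mem_normalizer hk]
  have hmem : ∀ g, k⁻¹ * g * k ∈ W ↔ g ∈ W := fun g => by rw [← mem_cjS, hWk]
  have hord : ∀ g, orderOf (k⁻¹ * g * k) = orderOf g := fun g => by
    simpa using (MulAut.conj k⁻¹).orderOf_eq g
  refine gaExt fun g => ?_
  rw [coeff_cj, coeff_eLin, coeff_eLin]
  by_cases hg : g ∈ W
  · have hgk := (hmem g).2 hg
    have hUiff : k⁻¹ * g * k ∈ c.U ↔ g ∈ c.U := by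
      rw [c.mem_U_iff (hWC hgk), c.mem_U_iff (hWC hg), hord]
    refine ite_congr (propext ⟨fun hh => ⟨hUiff.1 hh.1, hg⟩, fun hh => ⟨hUiff.2 hh.1, hgk⟩⟩)
      (fun hh => congrArg _ (Subtype.ext ?_)) (fun _ => rfl)
    show c.lamF (k⁻¹ * g * k)⁻¹ = c.lamF g⁻¹
    have hgU : g ∈ c.U := hh.1
    have hwU : (k⁻¹ * g * k)⁻¹ ∈ c.U := inv_mem (hUiff.2 hgU)
    have hwc : Commute (k⁻¹ * g * k)⁻¹ v :=
      (Subgroup.mem_centralizer_iff.1 (inv_mem hgk) v hvV).symm
    have h1 := c.lamF_coh h hwU (by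
      rw [show k * (k⁻¹ * g * k)⁻¹ * k⁻¹ = g⁻¹ by group]; exact inv_mem hgU) hwc
    rw [← h1, show k * (k⁻¹ * g * k)⁻¹ * k⁻¹ = g⁻¹ by group]
  · rw [if_neg fun hh => hg ((hmem g).1 hh.2), if_neg fun hh => hg hh.2]

end LinBase

namespace LinCtx

open LinBase (dz_mem P_le inf_centralizer_le bLin)

variable {P : Sylow 2 G} {d : Dih (P : Subgroup G)} (c : LinCtx P d)
variable {M : Ideal AlgInt} [M.IsPrime] (hM : IsPModular 2 M)

include hM in
/-- The only block of the centralizer inducing the block of the linear character. -/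
theorem eq_eLin_of_pairOf {B : Set (IrrCharacter G)}
    (hpair : IsPairOf 2 ⊤ (Ek M B) (Subgroup.zpowers d.z, c.eLin M (Subgroup.zpowers d.z)))
    {f : MonoidAlgebra (resField M) G}
    (hf : IsPairOf 2 ⊤ (Ek M B) (Subgroup.zpowers d.z, f)) :
    f = c.eLin M (Subgroup.zpowers d.z) := by
  classical
  haveI : Fact (Nat.Prime 2) := ⟨Nat.prime_two⟩
  haveI : CharP (resField M) 2 := resField_charP hM
  set eb := c.eLin M (Subgroup.zpowers d.z) with heb
  have hmax := c.isMax hM hpair
  have hN := c.nsub_top hM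
  have ha : IsPair 2 ⊤ ((P : Subgroup G), c.eLin M (P : Subgroup G)) := hN.right
  have heb' : IsBlk (secC d.z) eb := c.isBlk_eLin hM (Subgroup.mem_zpowers d.z)
  have hf' : IsBlk (secC d.z) f := hf.pair.blk
  obtain ⟨g, hg⟩ := exists_subLE_of_pairOf hmax hf
  have hgz : cjS g (Subgroup.zpowers d.z) = Subgroup.zpowers (g * d.z * g⁻¹) := cjS_zpowers g d.z
  have hvP : g * d.z * g⁻¹ ∈ (P : Subgroup G) := hg.le (mem_cjS_of_eq (Subgroup.mem_zpowers _))
  set v := g * d.z * g⁻¹ with hv
  have hle : Subgroup.zpowers v ≤ (P : Subgroup G) := Subgroup.zpowers_le.2 hvP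
  have hgf : SubLE 2 ⊤ (Subgroup.zpowers v, cj g f)
      ((P : Subgroup G), c.eLin M (P : Subgroup G)) := by
    simpa only [cjP, hgz] using hg
  by_cases hvz : v = d.z
  · have h1 : cj g f = eb := (existsUnique_below ha hle).unique hgf
      (by rw [hvz]; exact Relation.ReflTransGen.single hN)
    have hgC : g ∈ secC d.z := mem_secC.2 (mul_inv_eq_iff_eq_mul.1 hvz)
    rwa [cj_eq_of_inZ hf'.inZ hgC] at h1
  · have hv1 : v ≠ 1 := fun e => d.z_ne (by
      rw [hv, mul_inv_eq_one, mul_eq_left] at e; exact e)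
    have hvv : v * v = 1 := by
      rw [hv, show g * d.z * g⁻¹ * (g * d.z * g⁻¹) = g * (d.z * d.z) * g⁻¹ by group, d.zz,
        mul_one, mul_inv_cancel]
    obtain ⟨k, hkz, hkN, hkcoh⟩ := c.coh v hvP hvv hv1 hvz
    set V := Subgroup.closure ({d.z, v} : Set G) with hVdef
    have hzV : d.z ∈ V := Subgroup.subset_closure (Set.mem_insert _ _)
    have hvV : v ∈ V := Subgroup.subset_closure (Set.mem_insert_of_mem _ rfl)
    have hVP : V ≤ (P : Subgroup G) := (Subgroup.closure_le _).2 (by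
      rintro w (rfl | rfl)
      · exact dz_mem
      · exact hvP)
    obtain ⟨h, hh, -⟩ := existsUnique_below ha hVP
    have hzh : SubLE 2 ⊤ (Subgroup.zpowers d.z, eb) (V, h) :=
      SubLE.of_le ha hh (Relation.ReflTransGen.single hN) (Subgroup.zpowers_le.2 hzV)
    have hzN := hzh.nsub (hh.left ha) ((hVP.trans P_le).trans
      (inf_le_right.trans (Subgroup.centralizer_le_normalizer _)))
    have hocc := hzN.occ
    change brTrunc V eb * h = h at hocc
    rw [heb, c.brTrunc_eLin (Subgroup.zpowers_le.2 hzV)] at hocc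
    have hhb := hzN.right.blk
    obtain rfl : c.eLin M V = h := (c.isBlk_eLin hM hzV).eq_of_mul_ne_zero hhb (by
      rw [hocc]; exact hhb.ne_zero)
    have hkf : SubLE 2 ⊤ (Subgroup.zpowers v, cj k eb)
        ((P : Subgroup G), c.eLin M (P : Subgroup G)) := by
      have h1 := hzh.cjT k
      have e1 : cjP k ((V, c.eLin M V) : Pr (resField M) G) = (V, c.eLin M V) :=
        Prod.ext (cjS_eq_of_mem_normalizer hkN) (c.cj_eLin_eq hkN hkcoh)
      rw [e1] at h1
      simp only [cjP, cjS_zpowers, hkz] at h1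
      exact h1.trans hh
    have e : cj g f = cj k eb := (existsUnique_below ha hle).unique hgf hkf
    have e2 := congrArg (cj g⁻¹) e
    rw [cj_inv_cj, cj_cj] at e2
    rw [e2]
    refine cj_eq_of_inZ heb'.inZ (mem_secC.2 ?_)
    calc g⁻¹ * k * d.z = g⁻¹ * (k * d.z * k⁻¹) * k := by group
      _ = g⁻¹ * v * k := by rw [hkz]
      _ = d.z * (g⁻¹ * k) := by rw [hv]; group

include hM in
/-- The value on the section of the central involution. -/
theorem section_value (χ : IrrCharacter G)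
    (hne : ∑ u : c.U, (χ : G → ℂ) (d.z * (u : G)) * conj (c.lamF u) ≠ 0) :
    ∀ u ∈ c.U, (χ : G → ℂ) (d.z * u) = (χ : G → ℂ) d.z * c.lamF u := by
  classical
  haveI : Fact (Nat.Prime 2) := ⟨Nat.prime_two⟩
  haveI : CharP (resField M) 2 := resField_charP hM
  haveI := c.normal
  have hord : ∃ k, orderOf d.z = 2 ^ k :=
    ⟨1, by rw [pow_one]; exact orderOf_eq_prime (by rw [pow_two]; exact d.zz) d.z_ne⟩
  set C := secC d.z with hC
  have hzz : d.z ∈ C := mem_secC.2 rfl
  set b : Set (IrrCharacter C) := c.bLin M (inf_centralizer_le (Subgroup.mem_zpowers d.z)) with hb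
  have hbB : IsPBlock M b := isPBlock_linBlock _
  have hzB : zB M C b = c.eLin M (Subgroup.zpowers d.z) := c.zB_bLin hM (Subgroup.mem_zpowers d.z)
  have hincl : c.lin.comp (Subgroup.inclusion (inf_centralizer_le (Subgroup.mem_zpowers d.z))) =
      c.lin := MonoidHom.ext fun s => rfl
  have hmem : ∀ θ : IrrCharacter C, θ ∈ b ↔ ∀ n ∈ c.U.subgroupOf C,
      (θ : C → ℂ) n = (θ : C → ℂ) 1 * (c.lin n : ℂ) := fun θ => by
    rw [hb, bLin, hincl]
    exact mem_linBlock hM _ (c.oddK C) c.index_eq c.lin θ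
  set f := secFun d.z C (χ : G → ℂ) with hfdef
  have hf : IsClassFunction C f :=
    isClassFunction_secFun (secC_eq _) (IsCharacter.isClassFunction (irr_isCharacter χ))
  have hreg : ∀ s : C, ¬ 2 ∣ orderOf s ↔ (s : G) ∈ c.U := fun s => by
    rw [c.mem_U_iff s.2, Subgroup.orderOf_coe]
  have hconv : ∀ F : C → ℂ, ∑ s ∈ Finset.univ.filter (fun s : C => ¬ 2 ∣ orderOf s), F s =
      ∑ u : c.U, F ⟨u, c.le u.2⟩ := fun F => by
    refine Finset.sum_bij' (fun s hs => (⟨s, (hreg s).1 (Finset.mem_filter.1 hs).2⟩ : c.U))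
      (fun u _ => ⟨u, c.le u.2⟩) (fun _ _ => Finset.mem_univ _)
      (fun u _ => Finset.mem_filter.2 ⟨Finset.mem_univ _, (hreg _).2 u.2⟩)
      (fun _ _ => rfl) (fun _ _ => rfl) (fun _ _ => rfl)
  have hlam : ∀ s : C, blockPart b (linIrr c.lin : C → ℂ) s = (c.lin s : ℂ) := fun s => by
    have hl : linIrr c.lin ∈ b := by rw [hb, bLin, hincl]; exact self_mem_blockOf _
    rw [blockPart_eq_sum, Finset.sum_eq_single (linIrr c.lin)]
    · rw [classInner_self_irr (linIrr c.lin).2, one_mul]; rfl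
    · intro θ _ hne'
      rw [classInner_irr_of_ne (linIrr c.lin).2 θ.2 fun e => hne' (Subtype.ext e.symm), zero_mul]
    · exact fun h => absurd (Finset.mem_filter.2 ⟨Finset.mem_univ _, hl⟩) h
  -- the block of `χ`
  set B := blockOf M (χ : G → ℂ) with hBdef
  have hB : IsPBlock M B := isPBlock_blockOf χ
  have hχ : χ ∈ B := self_mem_blockOf χ
  have hind : IsInducedBlock M C b B := by
    by_contra hnot
    refine hne ?_
    rw [← hconv (fun s => (χ : G → ℂ) (d.z * (s : G)) * conj (c.lamF (s : G)))]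
    rw [Finset.sum_congr rfl fun s hs => show _ =
        ∑ b' ∈ blocks M C, blockPart b' f s * conj (blockPart b (linIrr c.lin : C → ℂ) s) by
      rw [hlam, ← Finset.sum_mul, sum_blockPart hf, c.lamF_mem s.2]; rfl, Finset.sum_comm]
    refine Finset.sum_eq_zero fun b' hb' => ?_
    by_cases he : b' = b
    · refine Finset.sum_eq_zero fun s hs => ?_
      rw [he, hfdef, blockPart_secFun_eq_zero hM hord (secC_eq _) hB hχ hbB hnot
        (Finset.mem_filter.1 hs).2, zero_mul]
    · exact blockPart_regular_orth hM (mem_blocks.1 hb') hbB he _ _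
  have hpair := (induced_iff_pairOf hM hB hord (secC_eq _) hbB).1 hind
  rw [hzB] at hpair
  have hval : ∀ u (hu : u ∈ c.U), (χ : G → ℂ) (d.z * u) =
      (∑ θ ∈ Finset.univ.filter (· ∈ b), classInner f (θ : C → ℂ) * (θ : C → ℂ) 1) * c.lamF u := by
    intro u hu
    set s : C := ⟨u, c.le hu⟩ with hs
    have hsr : ¬ 2 ∣ orderOf s := (hreg s).2 hu
    show f s = _
    rw [← sum_blockPart (M := M) hf s, Finset.sum_eq_single b, blockPart_eq_sum, Finset.sum_mul]
    · refine Finset.sum_congr rfl fun θ hθ => ?_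
      rw [(hmem θ).1 (Finset.mem_filter.1 hθ).2 s (Subgroup.mem_subgroupOf.2 hu),
        c.lamF_mem (c.le hu), mul_assoc]
    · intro b' hb' hne'
      refine blockPart_secFun_eq_zero hM hord (secC_eq _) hB hχ (mem_blocks.1 hb') (fun hi => hne' ?_) hsr
      have h1 := c.eq_eLin_of_pairOf hM hpair
        ((induced_iff_pairOf hM hB hord (secC_eq _) (mem_blocks.1 hb')).1 hi)
      exact zB_injective C (mem_blocks.1 hb') hbB (h1.trans hzB.symm)
    · exact fun h => absurd (mem_blocks.2 hbB) h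
  intro u hu
  have h1 := hval 1 (one_mem _)
  rw [mul_one, c.lamF_mem (one_mem C), show (⟨1, one_mem C⟩ : C) = 1 from rfl, map_one,
    Units.val_one, mul_one] at h1
  rw [hval u hu, h1]

end LinCtx

end Cfsg.Agent.GW
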