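import Cfsg.Agent.Lib.GW.LinearBlock
import Cfsg.Agent.Lib.Char.Complete

/-!
The virtual characters induced from the elements of the centralizer of the central involution
whose 2-part is a nontrivial rotation: integrality, inner products, degree relation and the class
multiplication identity that does not see the linear character.
-/

set_option linter.unusedSectionVars false
set_option linter.style.haveILetI false

namespace Cfsg.Agent.GW

open Cfsg Cfsg.Agent.Blocks Cfsg.Agent.Char Cfsg.Agent.Star Cfsg.Agent.TwoFus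
open scoped ComplexConjugate

universe u

variable {G : Type u} [Group G] [Fintype G] {P : Sylow 2 G} {d : Dih (P : Subgroup G)}

namespace LinCtx

open LinBase (P_le dz_mem inf_centralizer_le lamF bLin)

variable (c : LinCtx P d)

/-- The same data with the trivial linear character. -/
def triv : LinCtx P d :=
  { U := c.U, le := c.le, conj_mem := c.conj_mem, odd := c.odd, card_eq := c.card_eq
    lin := 1, lin_P := fun _ _ => rfl
    coh := fun v hv h1 h2 h3 => by
      obtain ⟨k, hk, hk', -⟩ := c.coh v hv h1 h2 h3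
      exact ⟨k, hk, hk', fun _ _ _ _ _ _ => rfl⟩ }

/-! ## The projection on the Sylow subgroup -/

theorem U_inf_P {g : G} (hg : g ∈ c.U) (hg' : g ∈ (P : Subgroup G)) : g = 1 := by
  obtain ⟨k, hk⟩ := IsPGroup.iff_orderOf.1 P.2 ⟨g, hg'⟩
  rw [Subgroup.orderOf_mk] at hk
  have h := (c.mem_U_iff (c.le hg)).1 hg
  rw [hk] at h
  cases k with
  | zero => exact orderOf_eq_one_iff.1 (by rw [hk, pow_zero])
  | succ k => exact absurd (dvd_pow_self 2 k.succ_ne_zero) h

/-- The quotient map restricted to the Sylow subgroup. -/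
noncomputable def toQuot :
    haveI := c.normal
    (P : Subgroup G) →* secC d.z ⧸ c.U.subgroupOf (secC d.z) :=
  haveI := c.normal
  (QuotientGroup.mk' _).comp (Subgroup.inclusion P_le)

theorem toQuot_bijective : Function.Bijective c.toQuot := by
  haveI := c.normal
  rw [Nat.bijective_iff_injective_and_card]
  refine ⟨(injective_iff_map_eq_one c.toQuot).2 fun s hs => Subtype.ext
    (c.U_inf_P (Subgroup.mem_subgroupOf.1
      ((QuotientGroup.eq_one_iff (Subgroup.inclusion P_le s)).1 hs)) s.2), ?_⟩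
  rw [← Subgroup.index_eq_card]
  have h1 := (c.U.subgroupOf (secC d.z)).index_mul_card
  rw [Nat.card_congr (Subgroup.subgroupOfEquivOfLe c.le).toEquiv, c.card_eq,
    mul_comm (Nat.card c.U)] at h1
  exact (Nat.eq_of_mul_eq_mul_right Nat.card_pos h1).symm

/-- The projection on the Sylow subgroup with kernel `U`. -/
noncomputable def pi : secC d.z →* (P : Subgroup G) :=
  haveI := c.normal
  (MulEquiv.ofBijective c.toQuot c.toQuot_bijective).symm.toMonoidHom.comp (QuotientGroup.mk' _)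

theorem pi_eq {g : secC d.z} {s : (P : Subgroup G)} (h : (g : G) * (s : G)⁻¹ ∈ c.U) :
    c.pi g = s := by
  haveI := c.normal
  show (MulEquiv.ofBijective c.toQuot c.toQuot_bijective).symm (QuotientGroup.mk' _ g) = s
  rw [MulEquiv.symm_apply_eq]
  show QuotientGroup.mk' _ g = QuotientGroup.mk' _ (Subgroup.inclusion P_le s)
  refine (eq_of_mul_inv_eq_one ?_)
  rw [← map_inv, ← map_mul]
  exact (QuotientGroup.eq_one_iff _).2 (Subgroup.mem_subgroupOf.2 h)

theorem pi_U {g : secC d.z} (h : (g : G) ∈ c.U) : c.pi g = 1 := c.pi_eq (by simpa using h)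

theorem pi_P {g : secC d.z} (h : (g : G) ∈ (P : Subgroup G)) : c.pi g = ⟨g, h⟩ :=
  c.pi_eq (by simp)

theorem div_pi_mem (g : secC d.z) : (g : G) * ((c.pi g : (P : Subgroup G)) : G)⁻¹ ∈ c.U := by
  haveI := c.normal
  have h : QuotientGroup.mk' (c.U.subgroupOf (secC d.z)) g =
      QuotientGroup.mk' _ (Subgroup.inclusion P_le (c.pi g)) := by
    show _ = c.toQuot ((MulEquiv.ofBijective c.toQuot c.toQuot_bijective).symm _)
    exact ((MulEquiv.ofBijective c.toQuot c.toQuot_bijective).apply_symm_apply _).symm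
  have h2 := mul_inv_eq_one.2 h
  rw [← map_inv, ← map_mul] at h2
  exact Subgroup.mem_subgroupOf.1 ((QuotientGroup.eq_one_iff _).1 h2)

theorem lin_mul_P {u s : G} (hu : u ∈ c.U) (hs : s ∈ (P : Subgroup G)) :
    c.lamF (u * s) = c.lamF u := by
  rw [c.lamF_mem (mul_mem (c.le hu) (P_le hs)), c.lamF_mem (c.le hu),
    show (⟨u * s, mul_mem (c.le hu) (P_le hs)⟩ : secC d.z) = ⟨u, c.le hu⟩ * ⟨s, P_le hs⟩ from rfl,
    map_mul, c.lin_P ⟨s, P_le hs⟩ hs, mul_one]

theorem lin_pow_card (g : secC d.z) : c.lin g ^ Nat.card c.U = 1 := by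
  have h := c.div_pi_mem g
  have e : g = ⟨_, c.le h⟩ * ⟨((c.pi g : (P : Subgroup G)) : G), P_le (c.pi g).2⟩ :=
    Subtype.ext (by simp)
  rw [e, map_mul, c.lin_P ⟨_, _⟩ (c.pi g).2, mul_one, ← map_pow]
  have e2 : (⟨_, c.le h⟩ : secC d.z) ^ Nat.card c.U = 1 := Subtype.ext (by
    rw [SubgroupClass.coe_pow]
    exact congrArg Subtype.val (pow_card_eq_one' (G := c.U) (x := ⟨_, h⟩)))
  rw [e2, map_one]

theorem lin_involution {g : secC d.z} (hg : g * g = 1) : c.lin g = 1 := by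
  have h1 : c.lin g ^ 2 = 1 := by rw [pow_two, ← map_mul, hg, map_one]
  have h2 := orderOf_dvd_of_pow_eq_one h1
  have h3 := orderOf_dvd_of_pow_eq_one (c.lin_pow_card g)
  exact orderOf_eq_one_iff.1 (Nat.eq_one_of_dvd_coprimes
    ((Nat.prime_two.coprime_iff_not_dvd).2 c.odd.not_two_dvd_nat) h2 h3)

theorem lamF_conj {g h : G} (hh : h ∈ secC d.z) : c.lamF (h * g * h⁻¹) = c.lamF g := by
  by_cases hg : g ∈ secC d.z
  · rw [c.lamF_mem hg, c.lamF_mem (mul_mem (mul_mem hh hg) (inv_mem hh))]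
    congr 1
    rw [show (⟨h * g * h⁻¹, mul_mem (mul_mem hh hg) (inv_mem hh)⟩ : secC d.z) =
      ⟨h, hh⟩ * ⟨g, hg⟩ * ⟨h, hh⟩⁻¹ from rfl, map_mul, map_mul, map_inv, mul_comm (c.lin ⟨h, hh⟩),
      mul_inv_cancel_right]
  · have hg' : h * g * h⁻¹ ∉ secC d.z := fun H => hg (by
      have := mul_mem (mul_mem (inv_mem hh) H) hh
      rwa [show h⁻¹ * (h * g * h⁻¹) * h = g by group] at this)
    rw [lamF, lamF, dif_neg hg, dif_neg hg']

theorem conj_lamF {g : G} (hg : g ∈ secC d.z) : conj (c.lamF g) = c.lamF g⁻¹ := by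
  rw [c.lamF_mem hg, c.lamF_mem (inv_mem hg), Cfsg.Agent.BrauerPairs.conj_linear,
    show (⟨g⁻¹, inv_mem hg⟩ : secC d.z) = ⟨g, hg⟩⁻¹ from rfl, map_inv, Units.val_inv_eq_inv_val]

theorem lamF_mul_conj {g : G} (hg : g ∈ secC d.z) : c.lamF g * conj (c.lamF g) = 1 := by
  rw [c.lamF_mem hg, Cfsg.Agent.BrauerPairs.conj_linear, mul_inv_cancel₀ (c.lin ⟨g, hg⟩).ne_zero]

end LinCtx

/-! ## Characters of the rotations -/

theorem dvd_sub_iff {m j k : ℕ} (hj : j < m) (hk : k < m) : m ∣ j + (m - k) ↔ j = k := by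
  constructor
  · intro h
    obtain ⟨q, hq⟩ := h
    have : q = 1 := by
      rcases q with _ | _ | q
      · omega
      · rfl
      · have : m * 2 ≤ m * (q + 1 + 1) := Nat.mul_le_mul_left m (by omega)
        omega
    subst this; omega
  · rintro rfl
    exact ⟨1, by omega⟩

theorem dvd_add_iff_eq {m j k : ℕ} (h0 : 0 < j) (hj : j < m) (hk : k < m) : m ∣ j + k ↔ j + k = m := by
  constructor
  · intro h
    obtain ⟨q, hq⟩ := h
    have : q = 1 := by
      rcases q with _ | _ | q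
      · omega
      · rfl
      · have : m * 2 ≤ m * (q + 1 + 1) := Nat.mul_le_mul_left m (by omega)
        omega
    subst this; omega
  · intro h; exact ⟨1, by omega⟩

/-- The primitive root used on the rotations. -/
noncomputable def zeta (d : Dih (P : Subgroup G)) : ℂ :=
  Complex.exp (2 * Real.pi * Complex.I / d.m)

theorem zeta_spec (d : Dih (P : Subgroup G)) : IsPrimitiveRoot (zeta d) d.m :=
  Complex.isPrimitiveRoot_exp _ (by have := d.two_le; omega)

/-- `2 - θ - θ̄` for the `j`-th character of the rotations, at `x ^ l`. -/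
noncomputable def fval (d : Dih (P : Subgroup G)) (j l : ℕ) : ℂ :=
  2 - zeta d ^ (j * l) - zeta d ^ ((d.m - j) * l)

theorem fval_zero (d : Dih (P : Subgroup G)) (j : ℕ) : fval d j 0 = 0 := by
  simp [fval]; norm_num

theorem fval_real (d : Dih (P : Subgroup G)) {j : ℕ} (hj : j ≤ d.m) (l : ℕ) :
    conj (fval d j l) = fval d j l := by
  have h1 : conj (zeta d ^ (j * l)) = zeta d ^ ((d.m - j) * l) :=
    DihBlock.conj_zeta d (zeta_spec d) hj l
  have h2 : conj (zeta d ^ ((d.m - j) * l)) = zeta d ^ (j * l) := by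
    rw [← h1, Complex.conj_conj]
  simp only [fval, map_sub, h1, h2, map_ofNat]
  ring

theorem sum_fval_mul (d : Dih (P : Subgroup G)) {j k : ℕ} (hj : 0 < j) (hjm : j < d.m) (hk : 0 < k)
    (hkm : k < d.m) :
    ∑ l ∈ Finset.range d.m, fval d j l * fval d k l =
      (d.m : ℂ) * (4 + 2 * (if j = k then 1 else 0) + 2 * (if j + k = d.m then 1 else 0)) := by
  have hg := DihBlock.geom_sum d (zeta_spec d)
  have e : ∀ l, fval d j l * fval d k l = 4 * zeta d ^ (0 * l) - 2 * zeta d ^ (j * l) -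
      2 * zeta d ^ ((d.m - j) * l) - 2 * zeta d ^ (k * l) - 2 * zeta d ^ ((d.m - k) * l) +
      zeta d ^ ((j + k) * l) + zeta d ^ ((j + (d.m - k)) * l) + zeta d ^ (((d.m - j) + k) * l) +
      zeta d ^ (((d.m - j) + (d.m - k)) * l) := fun l => by
    simp only [fval, add_mul, pow_add, zero_mul, pow_zero]
    ring
  simp only [e, Finset.sum_add_distrib, Finset.sum_sub_distrib, ← Finset.mul_sum, hg]
  have n1 : ¬ d.m ∣ j := Nat.not_dvd_of_pos_of_lt hj hjm
  have n2 : ¬ d.m ∣ d.m - j := Nat.not_dvd_of_pos_of_lt (by omega) (by omega)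
  have n3 : ¬ d.m ∣ k := Nat.not_dvd_of_pos_of_lt hk hkm
  have n4 : ¬ d.m ∣ d.m - k := Nat.not_dvd_of_pos_of_lt (by omega) (by omega)
  have a1 : d.m ∣ j + k ↔ j + k = d.m := dvd_add_iff_eq hj hjm hkm
  have a2 : d.m ∣ j + (d.m - k) ↔ j = k := dvd_sub_iff hjm hkm
  have a3 : d.m ∣ d.m - j + k ↔ j = k := by rw [add_comm, dvd_sub_iff hkm hjm]; exact eq_comm
  have a4 : d.m ∣ d.m - j + (d.m - k) ↔ j + k = d.m := by
    rw [dvd_add_iff_eq (by omega) (by omega) (by omega)]; omega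
  simp only [n1, n2, n3, n4, a1, a2, a3, a4, dvd_zero, if_true, if_false]
  split_ifs <;> ring

theorem sum_rot (d : Dih (P : Subgroup G)) {A : Type*} [AddCommMonoid A] (φ : G → A) :
    ∑ a : Subgroup.zpowers d.x, φ (a : G) = ∑ l ∈ Finset.range d.m, φ (d.x ^ l) := by
  classical
  refine (Finset.sum_bij (fun l _ => (⟨d.x ^ l, Subgroup.npow_mem_zpowers _ _⟩ :
    Subgroup.zpowers d.x)) (fun _ _ => Finset.mem_univ _) ?_ ?_ (fun _ _ => rfl)).symm
  · intro a ha b hb e
    exact pow_injOn_Iio_orderOf (by rw [Set.mem_Iio, d.hm]; exact Finset.mem_range.1 ha)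
      (by rw [Set.mem_Iio, d.hm]; exact Finset.mem_range.1 hb) (congrArg Subtype.val e)
  · rintro ⟨a, ha⟩ -
    obtain ⟨l, rfl⟩ := mem_powers_iff_mem_zpowers.2 ha
    refine ⟨l % d.m, Finset.mem_range.2 (Nat.mod_lt _ (by have := d.two_le; omega)), ?_⟩
    exact Subtype.ext (by
      show d.x ^ (l % d.m) = d.x ^ l
      rw [← d.hm, pow_mod_orderOf])

/-- The index of a rotation. -/
noncomputable def rotLog (d : Dih (P : Subgroup G)) (a : G) : ℕ := by
  classical exact if h : ∃ l, d.x ^ l = a then h.choose % d.m else 0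

theorem rotLog_pow (d : Dih (P : Subgroup G)) (l : ℕ) : rotLog d (d.x ^ l) = l % d.m := by
  classical
  have h : ∃ l', d.x ^ l' = d.x ^ l := ⟨l, rfl⟩
  rw [rotLog, dif_pos h]
  have h2 := pow_eq_pow_iff_modEq.1 h.choose_spec
  rwa [d.hm] at h2

theorem fval_mod (d : Dih (P : Subgroup G)) (j l : ℕ) : fval d j (l % d.m) = fval d j l := by
  have hm := (zeta_spec d).pow_eq_one
  have e : ∀ i, zeta d ^ (i * (l % d.m)) = zeta d ^ (i * l) := fun i => by
    conv_rhs => rw [← Nat.mod_add_div l d.m, mul_add, pow_add, ← mul_assoc, mul_comm i d.m,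
      mul_assoc, pow_mul (zeta d) d.m, hm, one_pow, mul_one]
  simp only [fval, e]

/-- `2 - θ - θ̄` on the rotations, zero elsewhere. -/
noncomputable def fRot (d : Dih (P : Subgroup G)) (j : ℕ) (a : G) : ℂ := by
  classical exact if a ∈ Subgroup.zpowers d.x then fval d j (rotLog d a) else 0

theorem fRot_pow (d : Dih (P : Subgroup G)) (j l : ℕ) : fRot d j (d.x ^ l) = fval d j l := by
  classical rw [fRot, if_pos (Subgroup.npow_mem_zpowers _ _), rotLog_pow, fval_mod]

theorem fRot_one (d : Dih (P : Subgroup G)) (j : ℕ) : fRot d j 1 = 0 := by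
  rw [← pow_zero d.x, fRot_pow, fval_zero]

theorem fRot_inv (d : Dih (P : Subgroup G)) {j : ℕ} (hj : j ≤ d.m) {a : G} :
    fRot d j a⁻¹ = fRot d j a := by
  classical
  by_cases h : a ∈ Subgroup.zpowers d.x
  · obtain ⟨l, hl⟩ := mem_powers_iff_mem_zpowers.2 h
    replace hl : d.x ^ l = a := hl
    subst hl
    have hm0 : 0 < d.m := by have := d.two_le; omega
    set l' := l % d.m with hl'
    have hlm : l' < d.m := Nat.mod_lt _ hm0
    have e1 : d.x ^ l = d.x ^ l' := by rw [hl', ← d.hm, pow_mod_orderOf]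
    have e2 : (d.x ^ l')⁻¹ = d.x ^ (d.m - l') := inv_eq_of_mul_eq_one_right (by
      rw [← pow_add, Nat.add_sub_cancel' hlm.le, ← d.hm, pow_orderOf_eq_one])
    rw [e1, e2, fRot_pow, fRot_pow]
    have hm := (zeta_spec d).pow_eq_one
    have e : ∀ s t : ℕ, s + t = d.m → zeta d ^ (s * (d.m - l')) = zeta d ^ (t * l') := fun s t hst => by
      have h1 : zeta d ^ (s * (d.m - l')) * zeta d ^ (s * l') = 1 := by
        rw [← pow_add, ← mul_add, Nat.sub_add_cancel hlm.le, mul_comm, pow_mul, hm, one_pow]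
      have h2 : zeta d ^ (t * l') * zeta d ^ (s * l') = 1 := by
        rw [← pow_add, ← add_mul, add_comm t, hst, pow_mul, hm, one_pow]
      exact mul_right_cancel₀ (pow_ne_zero _ ((zeta_spec d).ne_zero hm0.ne')) (h1.trans h2.symm)
    simp only [fval, e j (d.m - j) (by omega), e (d.m - j) j (by omega)]
    ring
  · simp [fRot, h]

theorem fRot_conj (d : Dih (P : Subgroup G)) {j : ℕ} (hj : j ≤ d.m) {a s : G}
    (hs : s ∈ (P : Subgroup G)) : fRot d j (s * a * s⁻¹) = fRot d j a := by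
  classical
  by_cases h : a ∈ Subgroup.zpowers d.x
  · rcases d.cases s hs with ⟨i, rfl⟩ | ⟨i, rfl⟩
    · obtain ⟨l, rfl⟩ := Subgroup.mem_zpowers_iff.1 h
      rw [(Commute.zpow_zpow_self d.x i l).eq, mul_inv_cancel_right]
    · obtain ⟨l, rfl⟩ := Subgroup.mem_zpowers_iff.1 h
      rw [← fRot_inv d hj (a := d.x ^ l)]
      congr 1
      have hy : d.y * d.x ^ l * d.y⁻¹ = (d.x ^ l)⁻¹ := by
        rw [← conj_zpow, d.inv, inv_zpow]
      calc d.x ^ i * d.y * d.x ^ l * (d.x ^ i * d.y)⁻¹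
          = d.x ^ i * (d.y * d.x ^ l * d.y⁻¹) * (d.x ^ i)⁻¹ := by group
        _ = (d.x ^ l)⁻¹ := by rw [hy]; group
  · have h' : s * a * s⁻¹ ∉ Subgroup.zpowers d.x := fun H => h (by
      obtain ⟨l, hl⟩ := Subgroup.mem_zpowers_iff.1 H
      rcases d.cases s hs with ⟨i, rfl⟩ | ⟨i, rfl⟩
      · refine Subgroup.mem_zpowers_iff.2 ⟨l, ?_⟩
        have : a = (d.x ^ i)⁻¹ * d.x ^ l * d.x ^ i := by rw [hl]; group
        rw [this]; group
      · have : a = d.y⁻¹ * d.x ^ l * d.y := by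
          rw [show d.x ^ l = (d.x ^ i)⁻¹ * d.x ^ l * d.x ^ i by group, hl]; group
        rw [this]
        refine Subgroup.mem_zpowers_iff.2 ⟨-l, ?_⟩
        have hy : d.y * d.x ^ (-l) * d.y⁻¹ = d.x ^ l := by
          rw [← conj_zpow, d.inv, inv_zpow, zpow_neg, inv_inv]
        rw [← hy]; group)
    simp [fRot, h, h']

namespace LinCtx

open LinBase (P_le dz_mem inf_centralizer_le lamF bLin)

variable (c : LinCtx P d)

/-- The function induced to a virtual character of `G`. -/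
noncomputable def F (j : ℕ) (g : G) : ℂ := by
  classical
  exact if h : g ∈ secC d.z then c.lamF g * fRot d j (c.pi ⟨g, h⟩ : (P : Subgroup G)) else 0

theorem F_mem {j : ℕ} {g : G} (h : g ∈ secC d.z) :
    c.F j g = c.lamF g * fRot d j (c.pi ⟨g, h⟩ : (P : Subgroup G)) := by
  classical rw [F, dif_pos h]

theorem F_one (j : ℕ) : c.F j 1 = 0 := by
  rw [c.F_mem (one_mem _), show (⟨1, one_mem (secC d.z)⟩ : secC d.z) = 1 from rfl, map_one,
    OneMemClass.coe_one, fRot_one, mul_zero]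

theorem F_conj {j : ℕ} (hj : j ≤ d.m) {g h : G} (hh : h ∈ secC d.z) :
    c.F j (h * g * h⁻¹) = c.F j g := by
  by_cases hg : g ∈ secC d.z
  · have hg' : h * g * h⁻¹ ∈ secC d.z := mul_mem (mul_mem hh hg) (inv_mem hh)
    rw [c.F_mem hg, c.F_mem hg', c.lamF_conj hh,
      show (⟨h * g * h⁻¹, hg'⟩ : secC d.z) = ⟨h, hh⟩ * ⟨g, hg⟩ * ⟨h, hh⟩⁻¹ from rfl, map_mul,
      map_mul, map_inv, Subgroup.coe_mul, Subgroup.coe_mul, Subgroup.coe_inv,
      fRot_conj d hj (c.pi ⟨h, hh⟩).2]
  · have hg' : h * g * h⁻¹ ∉ secC d.z := fun H => hg (by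
      have := mul_mem (mul_mem (inv_mem hh) H) hh
      rwa [show h⁻¹ * (h * g * h⁻¹) * h = g by group] at this)
    rw [F, F, dif_neg hg, dif_neg hg']

theorem F_ne_zero {j : ℕ} {g : G} (h : c.F j g ≠ 0) :
    ∃ hg : g ∈ secC d.z, ((c.pi ⟨g, hg⟩ : (P : Subgroup G)) : G) ∈ Subgroup.zpowers d.x ∧
      ((c.pi ⟨g, hg⟩ : (P : Subgroup G)) : G) ≠ 1 := by
  classical
  by_cases hg : g ∈ secC d.z
  · rw [c.F_mem hg] at h
    refine ⟨hg, ?_, fun e => h (by rw [e, fRot_one, mul_zero])⟩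
    by_contra hx
    exact h (by simp [fRot, hx])
  · exact absurd (by rw [F, dif_neg hg]) h

theorem pow_half_eq_z {g : G} (hg : g ∈ secC d.z)
    (hx : ((c.pi ⟨g, hg⟩ : (P : Subgroup G)) : G) ∈ Subgroup.zpowers d.x)
    (h1 : ((c.pi ⟨g, hg⟩ : (P : Subgroup G)) : G) ≠ 1) :
    g ^ (orderOf g / 2) = d.z := by
  set s := c.pi ⟨g, hg⟩ with hs
  set w := g ^ (orderOf g / 2) with hw
  have hgo : orderOf (⟨g, hg⟩ : secC d.z) = orderOf g := Subgroup.orderOf_mk ..
  have hdvd : orderOf (s : G) ∣ orderOf g := by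
    rw [Subgroup.orderOf_coe, hs, ← hgo]
    exact orderOf_map_dvd c.pi _
  have h2s : 2 ∣ orderOf (s : G) := by
    obtain ⟨k, hk⟩ := IsPGroup.iff_orderOf.1 P.2 s
    rw [← Subgroup.orderOf_coe] at hk
    rw [hk]
    exact dvd_pow_self 2 fun e => h1 (orderOf_eq_one_iff.1 (by rw [hk, e, pow_zero]))
  have h2 : 2 ∣ orderOf g := h2s.trans hdvd
  have hwo : orderOf w = 2 := by
    rw [hw, orderOf_pow_orderOf_div (orderOf_pos g).ne' h2]
  have hwC : w ∈ secC d.z := pow_mem hg _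
  set t := c.pi ⟨w, hwC⟩ with ht
  have htx : (t : G) ∈ Subgroup.zpowers d.x := by
    rw [ht, show (⟨w, hwC⟩ : secC d.z) = ⟨g, hg⟩ ^ (orderOf g / 2) from rfl, map_pow,
      SubgroupClass.coe_pow]
    exact pow_mem hx _
  have htt : (t : G) * t = 1 := by
    rw [← Subgroup.coe_mul, ← map_mul]
    have : (⟨w, hwC⟩ : secC d.z) * ⟨w, hwC⟩ = 1 := Subtype.ext (by
      show w * w = 1
      rw [← pow_two, ← hwo, pow_orderOf_eq_one])
    rw [this, map_one, OneMemClass.coe_one]
  rcases d.sq_cases htx htt with e | e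
  · have := c.div_pi_mem ⟨w, hwC⟩
    rw [← ht, e, inv_one, mul_one] at this
    exact absurd (by rw [hwo]) ((c.mem_U_iff hwC).1 this)
  · have hu := c.div_pi_mem ⟨w, hwC⟩
    rw [← ht, e] at hu
    set u := w * d.z⁻¹ with hu'
    have hc : Commute w d.z := mem_secC.1 hwC
    have huu : u * u = 1 := by
      rw [hu', (hc.inv_right.symm).mul_mul_mul_comm, ← mul_inv_rev, d.zz, inv_one, mul_one,
        ← pow_two, ← hwo, pow_orderOf_eq_one]
    by_contra hne
    have hu1 : u ≠ 1 := fun e1 => hne (mul_inv_eq_one.1 e1)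
    exact (c.mem_U_iff (c.le hu)).1 hu (by rw [orderOf_eq_prime (by rw [pow_two]; exact huu) hu1])

/-- The trivial intersection property. -/
theorem F_ti {i j : ℕ} {g k : G} (h : c.F i g ≠ 0) (h' : c.F j (k * g * k⁻¹) ≠ 0) :
    k ∈ secC d.z := by
  obtain ⟨hg, h1, h2⟩ := c.F_ne_zero h
  obtain ⟨hg', h1', h2'⟩ := c.F_ne_zero h'
  have e := c.pow_half_eq_z hg h1 h2
  have e' := c.pow_half_eq_z hg' h1' h2'
  rw [show orderOf (k * g * k⁻¹) = orderOf g from (MulAut.conj k).orderOf_eq g, conj_pow, e] at e'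
  exact mem_secC.2 (mul_inv_eq_iff_eq_mul.1 e')

/-- The pairing with a function, as a sum over `U` and the rotations. -/
theorem sum_F_mul (j : ℕ) (φ : G → ℂ) :
    ∑ g : G, c.F j g * φ g =
      ∑ w : c.U, ∑ l ∈ Finset.range d.m, c.lamF w * fval d j l * φ ((w : G) * d.x ^ l) := by
  classical
  have hx : ∀ a : Subgroup.zpowers d.x, (a : G) ∈ (P : Subgroup G) :=
    fun a => Subgroup.zpowers_le.2 d.hx a.2
  set e : c.U × Subgroup.zpowers d.x → G := fun q => (q.1 : G) * (q.2 : G) with he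
  have hmem : ∀ q : c.U × Subgroup.zpowers d.x, e q ∈ secC d.z :=
    fun q => mul_mem (c.le q.1.2) (P_le (hx q.2))
  have hpi : ∀ q, c.pi ⟨e q, hmem q⟩ = ⟨(q.2 : G), hx q.2⟩ := fun q => c.pi_eq (by simp [he])
  have hinj : Function.Injective e := fun q q' h => by
    have h2 : (q.2 : G) = q'.2 := by
      have := congrArg Subtype.val ((hpi q).symm.trans
        ((congrArg c.pi (Subtype.ext h)).trans (hpi q')))
      exact this
    refine Prod.ext (Subtype.ext ?_) (Subtype.ext h2)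
    have h' : (q.1 : G) * q.2 = q'.1 * q'.2 := h
    rw [h2] at h'
    exact mul_right_cancel h'
  rw [← Finset.sum_subset (Finset.subset_univ (Finset.univ.image e)) (fun g _ hg => ?_),
    Finset.sum_image fun a _ b _ h => hinj h, Fintype.sum_prod_type]
  · refine Finset.sum_congr rfl fun w _ => ?_
    rw [← Finset.sum_congr rfl (s₁ := Finset.range d.m) (fun l _ => show
      c.lamF w * fRot d j (d.x ^ l) * φ ((w : G) * d.x ^ l) = _ by rw [fRot_pow]),
      ← sum_rot d (fun a => c.lamF w * fRot d j a * φ ((w : G) * a))]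
    refine Finset.sum_congr rfl fun a _ => ?_
    rw [c.F_mem (hmem (w, a)), hpi (w, a)]
    show c.lamF ((w : G) * a) * _ * _ = _
    rw [c.lin_mul_P w.2 (hx a)]
  · by_contra hne
    obtain ⟨hgC, h1, -⟩ := c.F_ne_zero (j := j) (g := g) (fun e => hne (by rw [e, zero_mul]))
    exact hg (Finset.mem_image.2 ⟨(⟨_, c.div_pi_mem ⟨g, hgC⟩⟩, ⟨_, h1⟩), Finset.mem_univ _,
      by simp [he]⟩)

/-- The Fourier coefficient on `U` times the rotations. -/
noncomputable def coef (j : ℕ) (χ : IrrCharacter G) : ℂ :=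
  ((Nat.card c.U : ℂ) * d.m)⁻¹ * ∑ w : c.U, ∑ l ∈ Finset.range d.m,
    c.lamF w * zeta d ^ (j * l) * conj ((χ : G → ℂ) ((w : G) * d.x ^ l))

theorem exists_coef (j : ℕ) (χ : IrrCharacter G) : ∃ n : ℕ, c.coef j χ = n := by
  classical
  have hm : d.m ≠ 0 := by have := d.two_le; omega
  set X := Subgroup.zpowers d.x with hX
  have hxP : X ≤ (P : Subgroup G) := Subgroup.zpowers_le.2 d.hx
  let H : Subgroup (secC d.z) := (X.subgroupOf (P : Subgroup G)).comap c.pi
  haveI : Fintype H := Fintype.ofFinite H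
  set gen : X := ⟨d.x, Subgroup.mem_zpowers d.x⟩ with hgen
  have hgenmem : ∀ a : X, a ∈ Subgroup.zpowers gen := by
    rintro ⟨_, i, rfl⟩
    exact ⟨i, Subtype.ext (by simp [hgen])⟩
  have hζ := zeta_spec d
  have hu : (Units.mk0 (zeta d ^ j) (pow_ne_zero _ (hζ.ne_zero hm))) ^ orderOf gen = 1 := by
    rw [hgen, Subgroup.orderOf_mk, d.hm]
    refine Units.ext ?_
    simp only [Units.val_pow_eq_pow_val, Units.val_mk0, Units.val_one]
    rw [← pow_mul, mul_comm, pow_mul, hζ.pow_eq_one, one_pow]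
  set th := monoidHomOfForallMemZpowers hgenmem (orderOf_dvd_of_pow_eq_one hu) with hth
  let toX : H →* X := MonoidHom.codRestrict
    ((((P : Subgroup G).subtype.comp c.pi).comp H.subtype)) X (fun a => a.2)
  let lam : H →* ℂˣ := (c.lin.comp H.subtype) * (th.comp toX)
  obtain ⟨n, hn⟩ := IsCharacter.exists_classInner_nat
    (IsIrrCharacter.isCharacter (isIrrCharacter_linear lam))
    (IsCharacter.restrict (IsCharacter.restrict (irr_isCharacter χ) (secC d.z)) H)
  refine ⟨n, ?_⟩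
  have hmul : ∀ (w : c.U) (l : ℕ), (w : G) * d.x ^ l ∈ secC d.z := fun w l =>
    mul_mem (c.le w.2) (P_le (pow_mem d.hx l))
  have hpi : ∀ (w : c.U) (l : ℕ),
      c.pi ⟨(w : G) * d.x ^ l, hmul w l⟩ = ⟨d.x ^ l, pow_mem d.hx l⟩ :=
    fun w l => c.pi_eq (by simp)
  have hH : ∀ (w : c.U) (l : ℕ), (⟨(w : G) * d.x ^ l, hmul w l⟩ : secC d.z) ∈ H := fun w l => by
    show c.pi _ ∈ X.subgroupOf _
    rw [hpi, Subgroup.mem_subgroupOf]
    exact Subgroup.npow_mem_zpowers _ _
  set e : c.U × Fin d.m → H := fun q => ⟨⟨(q.1 : G) * d.x ^ (q.2 : ℕ), hmul _ _⟩, hH _ _⟩ with he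
  have hbij : Function.Bijective e := by
    refine ⟨fun q q' h => ?_, fun a => ?_⟩
    · have h1 : (⟨(q.1 : G) * d.x ^ (q.2 : ℕ), hmul _ _⟩ : secC d.z) =
          ⟨(q'.1 : G) * d.x ^ (q'.2 : ℕ), hmul _ _⟩ := congrArg Subtype.val h
      have h2 := congrArg (fun s : (P : Subgroup G) => (s : G))
        ((hpi q.1 q.2).symm.trans ((congrArg c.pi h1).trans (hpi q'.1 q'.2)))
      have h3 : (q.2 : ℕ) = q'.2 := pow_injOn_Iio_orderOf
        (by rw [Set.mem_Iio, d.hm]; exact q.2.2) (by rw [Set.mem_Iio, d.hm]; exact q'.2.2) h2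
      refine Prod.ext (Subtype.ext ?_) (Fin.ext h3)
      have h4 := congrArg Subtype.val h1
      simp only [h3] at h4
      exact mul_right_cancel h4
    · obtain ⟨l, hl⟩ := mem_powers_iff_mem_zpowers.2 (Subgroup.mem_subgroupOf.1 a.2)
      refine ⟨(⟨_, c.div_pi_mem a.1⟩, ⟨l % d.m, Nat.mod_lt _ (Nat.pos_of_ne_zero hm)⟩), ?_⟩
      refine Subtype.ext (Subtype.ext ?_)
      simp only [he]
      rw [show d.x ^ (l % d.m) = d.x ^ l by rw [← d.hm, pow_mod_orderOf],
        show d.x ^ l = ((c.pi a.1 : (P : Subgroup G)) : G) from hl, inv_mul_cancel_right]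
  have hcard : Nat.card H = Nat.card c.U * d.m := by
    rw [← Nat.card_congr (Equiv.ofBijective e hbij), Nat.card_prod, Nat.card_fin]
  rw [← hn, classInner, hcard, coef, Nat.cast_mul]
  congr 1
  rw [← (Equiv.ofBijective e hbij).sum_comp, Fintype.sum_prod_type]
  refine Finset.sum_congr rfl fun w _ => ?_
  rw [Finset.sum_range]
  refine Finset.sum_congr rfl fun l _ => ?_
  simp only [Equiv.ofBijective_apply, he]
  congr 1
  show _ = ((c.lin ⟨(w : G) * d.x ^ (l : ℕ), hmul _ _⟩ * th (toX _) : ℂˣ) : ℂ)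
  have hto : toX (e (w, l)) = gen ^ (l : ℕ) := Subtype.ext (by
    show ((c.pi ⟨(w : G) * d.x ^ (l : ℕ), hmul w l⟩ : (P : Subgroup G)) : G) = _
    rw [hpi]
    simp [hgen])
  simp only [he] at hto
  rw [hto, Units.val_mul, map_pow, Units.val_pow_eq_pow_val, hth,
    monoidHomOfForallMemZpowers_apply_gen, Units.val_mk0, ← pow_mul,
    ← c.lamF_mem (hmul w l), c.lin_mul_P w.2 (pow_mem d.hx _)]

/-- The coefficient as a natural number. -/
noncomputable def num (j : ℕ) (χ : IrrCharacter G) : ℕ := (c.exists_coef j χ).choose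

theorem coef_eq (j : ℕ) (χ : IrrCharacter G) : c.coef j χ = (c.num j χ : ℂ) :=
  (c.exists_coef j χ).choose_spec

theorem num_symm {j : ℕ} (hj : j ≤ d.m) (χ : IrrCharacter G) :
    c.num (d.m - j) χ = c.num j χ := by
  classical
  have hm0 : 0 < d.m := by have := d.two_le; omega
  have hyC : d.y ∈ secC d.z := P_le d.hy
  let σ : c.U ≃ c.U :=
    { toFun := fun w => ⟨d.y * w * d.y⁻¹, c.conj_mem _ hyC _ w.2⟩
      invFun := fun w => ⟨d.y⁻¹ * w * d.y, by
        simpa using c.conj_mem _ (inv_mem hyC) _ w.2⟩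
      left_inv := fun w => Subtype.ext (by simp [mul_assoc])
      right_inv := fun w => Subtype.ext (by simp [mul_assoc]) }
  have key : c.coef (d.m - j) χ = c.coef j χ := by
    rw [coef, coef]
    congr 1
    refine Fintype.sum_equiv σ _ _ fun w => ?_
    refine Finset.sum_nbij' (fun l => (d.m - l) % d.m) (fun l => (d.m - l) % d.m) ?_ ?_ ?_ ?_ ?_
    · exact fun l _ => Finset.mem_range.2 (Nat.mod_lt _ hm0)
    · exact fun l _ => Finset.mem_range.2 (Nat.mod_lt _ hm0)
    · intro l hl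
      rw [Finset.mem_range] at hl
      rcases Nat.eq_zero_or_pos l with rfl | h
      · simp
      · rw [Nat.mod_eq_of_lt (show d.m - l < d.m by omega), Nat.mod_eq_of_lt (by omega)]
        omega
    · intro l hl
      rw [Finset.mem_range] at hl
      rcases Nat.eq_zero_or_pos l with rfl | h
      · simp
      · rw [Nat.mod_eq_of_lt (show d.m - l < d.m by omega), Nat.mod_eq_of_lt (by omega)]
        omega
    · intro l hl
      rw [Finset.mem_range] at hl
      have hy : d.y * d.x ^ l * d.y⁻¹ = d.x ^ ((d.m - l) % d.m) := by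
        rw [← conj_pow, d.inv, ← d.hm, pow_mod_orderOf, d.hm, inv_pow]
        exact inv_eq_of_mul_eq_one_right (by
          rw [← pow_add, Nat.add_sub_cancel' hl.le, ← d.hm, pow_orderOf_eq_one])
      have hz : zeta d ^ (j * ((d.m - l) % d.m)) = zeta d ^ ((d.m - j) * l) := by
        have hm := (zeta_spec d).pow_eq_one
        have h0 : zeta d ^ (j * ((d.m - l) % d.m)) = zeta d ^ (j * (d.m - l)) := by
          conv_rhs => rw [← Nat.mod_add_div (d.m - l) d.m, mul_add, pow_add, ← mul_assoc,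
            mul_comm j d.m, mul_assoc, pow_mul (zeta d) d.m, hm, one_pow, mul_one]
        rw [h0]
        refine mul_right_cancel₀ (pow_ne_zero (j * l) ((zeta_spec d).ne_zero hm0.ne')) ?_
        rw [← pow_add, ← pow_add, ← mul_add, Nat.sub_add_cancel hl.le, ← add_mul,
          Nat.sub_add_cancel hj, mul_comm j d.m, pow_mul, hm, one_pow, pow_mul, hm, one_pow]
      show _ = c.lamF (d.y * w * d.y⁻¹) * _ * conj ((χ : G → ℂ) (d.y * w * d.y⁻¹ * _))
      rw [hz, c.lamF_conj hyC, ← hy,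
        show d.y * (w : G) * d.y⁻¹ * (d.y * d.x ^ l * d.y⁻¹) = d.y * ((w : G) * d.x ^ l) * d.y⁻¹ by
          group, irr_conj_invariant]
  rw [c.coef_eq, c.coef_eq] at key
  exact_mod_cast key

/-- The multiplicity in the induced virtual character. -/
noncomputable def v (j : ℕ) (χ : IrrCharacter G) : ℤ := (c.num 0 χ : ℤ) - c.num j χ

theorem v_zero (χ : IrrCharacter G) : c.v 0 χ = 0 := sub_self _

theorem v_symm {j : ℕ} (hj : j ≤ d.m) (χ : IrrCharacter G) : c.v (d.m - j) χ = c.v j χ := by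
  rw [v, v, c.num_symm hj]

theorem card_C : (Nat.card (secC d.z) : ℂ) = 2 * ((Nat.card c.U : ℂ) * d.m) := by
  rw [c.card_eq, d.card]
  push_cast
  ring

theorem sum_F_conj {j : ℕ} (hj : j ≤ d.m) (χ : IrrCharacter G) :
    ∑ g : G, c.F j g * conj ((χ : G → ℂ) g) = (Nat.card (secC d.z) : ℂ) * (c.v j χ : ℂ) := by
  rw [c.sum_F_mul, c.card_C]
  have hU : (Nat.card c.U : ℂ) * d.m ≠ 0 :=
    mul_ne_zero (Nat.cast_ne_zero.2 Nat.card_pos.ne') (Nat.cast_ne_zero.2 (by have := d.two_le; omega))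
  have h : ∀ i, ∑ w : c.U, ∑ l ∈ Finset.range d.m,
      c.lamF w * zeta d ^ (i * l) * conj ((χ : G → ℂ) ((w : G) * d.x ^ l)) =
      ((Nat.card c.U : ℂ) * d.m) * (c.num i χ : ℂ) := fun i => by
    rw [← c.coef_eq, coef, mul_inv_cancel_left₀ hU]
  calc _ = ∑ w : c.U, ∑ l ∈ Finset.range d.m,
        (2 * (c.lamF w * zeta d ^ (0 * l) * conj ((χ : G → ℂ) ((w : G) * d.x ^ l))) -
          c.lamF w * zeta d ^ (j * l) * conj ((χ : G → ℂ) ((w : G) * d.x ^ l)) -
          c.lamF w * zeta d ^ ((d.m - j) * l) * conj ((χ : G → ℂ) ((w : G) * d.x ^ l))) :=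
        Finset.sum_congr rfl fun w _ => Finset.sum_congr rfl fun l _ => by
          simp only [fval, zero_mul, pow_zero]; ring
    _ = _ := by
      simp only [Finset.sum_sub_distrib, ← Finset.mul_sum, h, c.num_symm hj, v]
      push_cast
      ring

theorem sum_conj_F_mul {j : ℕ} (hj : j ≤ d.m) (χ : IrrCharacter G) :
    ∑ g : G, conj (c.F j g) * (χ : G → ℂ) g = (Nat.card (secC d.z) : ℂ) * (c.v j χ : ℂ) := by
  have h := congrArg conj (c.sum_F_conj hj χ)
  simp only [map_sum, map_mul, Complex.conj_conj, map_natCast, map_intCast] at h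
  exact h

theorem gram {j k : ℕ} (hj : 0 < j) (hjm : j < d.m) (hk : 0 < k) (hkm : k < d.m) :
    ∑ χ : IrrCharacter G, c.v j χ * c.v k χ =
      2 + (if j = k then 1 else 0) + (if j + k = d.m then 1 else 0) := by
  classical
  have hC : (Nat.card (secC d.z) : ℂ) ≠ 0 := Nat.cast_ne_zero.2 Nat.card_pos.ne'
  have h1 : ∀ a : G, ∑ b : G, conj (c.F k b) *
      ((Finset.univ.filter fun r : G => r * a * r⁻¹ = b).card : ℂ) =
      ∑ r : G, conj (c.F k (r * a * r⁻¹)) := fun a => by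
    simp only [Finset.natCast_card_filter, Finset.mul_sum, mul_ite, mul_one, mul_zero]
    rw [Finset.sum_comm]
    simp
  have h2 : ∀ a : G, c.F j a * ∑ r : G, conj (c.F k (r * a * r⁻¹)) =
      (Nat.card (secC d.z) : ℂ) * (c.F j a * conj (c.F k a)) := fun a => by
    by_cases ha : c.F j a = 0
    · simp [ha]
    rw [← Finset.sum_subset (Finset.subset_univ (Finset.univ.filter (· ∈ secC d.z)))
      (fun r _ hr => ?_), Finset.sum_congr rfl (g := fun _ => conj (c.F k a))
      (fun r hr => by rw [c.F_conj hkm.le (Finset.mem_filter.1 hr).2]), Finset.sum_const, nsmul_eq_mul,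
      Nat.card_eq_fintype_card, Fintype.card_subtype]
    · ring
    · by_contra hne
      exact hr (Finset.mem_filter.2 ⟨Finset.mem_univ _,
        c.F_ti ha fun e => hne (by rw [e, map_zero])⟩)
  have h3 : (Nat.card (secC d.z) : ℂ) ^ 2 * ∑ χ : IrrCharacter G, (c.v j χ : ℂ) * (c.v k χ : ℂ) =
      (Nat.card (secC d.z) : ℂ) * ∑ a : G, c.F j a * conj (c.F k a) := by
    rw [Finset.mul_sum, Finset.mul_sum,
      Finset.sum_congr rfl fun (χ : IrrCharacter G) _ => show (Nat.card (secC d.z) : ℂ) ^ 2 * (_ * _) =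
        (∑ a : G, c.F j a * conj ((χ : G → ℂ) a)) * ∑ b : G, conj (c.F k b) * (χ : G → ℂ) b by
        rw [c.sum_F_conj hjm.le, c.sum_conj_F_mul hkm.le]; ring]
    simp only [Finset.sum_mul_sum]
    rw [Finset.sum_comm]
    refine Finset.sum_congr rfl fun a _ => ?_
    rw [Finset.sum_comm, ← h2, ← h1, Finset.mul_sum]
    refine Finset.sum_congr rfl fun b _ => ?_
    rw [← column_orth_count b a, Finset.mul_sum, Finset.mul_sum]
    exact Finset.sum_congr rfl fun χ _ => by ring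
  have h4 : ∑ a : G, c.F j a * conj (c.F k a) =
      (Nat.card c.U : ℂ) * ((d.m : ℂ) *
        (4 + 2 * (if j = k then 1 else 0) + 2 * (if j + k = d.m then 1 else 0))) := by
    rw [c.sum_F_mul j (fun a => conj (c.F k a)), ← sum_fval_mul d hj hjm hk hkm,
      Finset.sum_congr rfl (g := fun _ => ∑ l ∈ Finset.range d.m, fval d j l * fval d k l),
      Finset.sum_const, Finset.card_univ, nsmul_eq_mul, Nat.card_eq_fintype_card]
    intro w _
    refine Finset.sum_congr rfl fun l _ => ?_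
    have hmem : (w : G) * d.x ^ l ∈ secC d.z := mul_mem (c.le w.2) (P_le (pow_mem d.hx l))
    rw [c.F_mem hmem, c.pi_eq (g := ⟨_, hmem⟩) (s := ⟨d.x ^ l, pow_mem d.hx l⟩) (by simp),
      c.lin_mul_P w.2 (pow_mem d.hx l), fRot_pow, map_mul, fval_real d hkm.le]
    linear_combination (fval d j l * fval d k l) * c.lamF_mul_conj (c.le w.2)
  rw [h4, pow_two, mul_assoc] at h3
  have h5 := mul_left_cancel₀ hC h3
  rw [c.card_C] at h5
  have hU : (Nat.card c.U : ℂ) * d.m ≠ 0 :=
    mul_ne_zero (Nat.cast_ne_zero.2 Nat.card_pos.ne') (Nat.cast_ne_zero.2 (by omega))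
  have h6 : (((∑ χ : IrrCharacter G, c.v j χ * c.v k χ : ℤ)) : ℂ) =
      (((2 + (if j = k then 1 else 0) + (if j + k = d.m then 1 else 0) : ℤ)) : ℂ) := by
    refine mul_left_cancel₀ (mul_ne_zero two_ne_zero hU) ?_
    push_cast
    rw [h5]
    ring
  exact_mod_cast h6

theorem sum_v_deg {j : ℕ} (hj : j ≤ d.m) :
    ∑ χ : IrrCharacter G, c.v j χ * (charDegree (χ : G → ℂ) : ℤ) = 0 := by
  classical
  have hC : (Nat.card (secC d.z) : ℂ) ≠ 0 := Nat.cast_ne_zero.2 Nat.card_pos.ne'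
  have h : (Nat.card (secC d.z) : ℂ) *
      ∑ χ : IrrCharacter G, (c.v j χ : ℂ) * (χ : G → ℂ) 1 = 0 := by
    rw [Finset.mul_sum, Finset.sum_congr rfl fun (χ : IrrCharacter G) _ => show _ =
      ∑ g : G, c.F j g * ((χ : G → ℂ) 1 * conj ((χ : G → ℂ) g)) by
      rw [← mul_assoc, ← c.sum_F_conj hj, Finset.sum_mul]
      exact Finset.sum_congr rfl fun g _ => by ring, Finset.sum_comm]
    refine Finset.sum_eq_zero fun g _ => ?_
    rw [← Finset.mul_sum, sum_irr_one_mul]
    split_ifs with hg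
    · rw [hg, c.F_one, zero_mul]
    · rw [mul_zero]
  have h2 := (mul_eq_zero.1 h).resolve_left hC
  simp only [irr_one_eq_charDegree] at h2
  exact_mod_cast h2

/-- The projection of a character on the linear character in the section of the involution. -/
noncomputable def psi (χ : IrrCharacter G) : ℂ :=
  (Nat.card c.U : ℂ)⁻¹ * ∑ w : c.U, (χ : G → ℂ) (d.z * (w : G)) * conj (c.lamF w)

/-- The projection as an integer. -/
noncomputable def psiZ (χ : IrrCharacter G) : ℤ := -∑ j ∈ Finset.range d.m, (-1) ^ j * c.v j χ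

theorem psi_eq {h : ℕ} (hh : d.m = 2 * h) (χ : IrrCharacter G) :
    c.psi χ = (c.psiZ χ : ℂ) := by
  classical
  have hm0 : 0 < d.m := by have := d.two_le; omega
  have hζ := zeta_spec d
  have hzh : zeta d ^ h = -1 := by
    have h2 : zeta d ^ h * zeta d ^ h = 1 := by rw [← pow_add, ← two_mul, ← hh, hζ.pow_eq_one]
    rcases mul_self_eq_one_iff.1 h2 with e | e
    · exact absurd ((hζ.pow_eq_one_iff_dvd h).1 e) (Nat.not_dvd_of_pos_of_lt (by omega) (by omega))
    · exact e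
  have halt : ∑ j ∈ Finset.range d.m, ((-1 : ℂ) ^ j) = 0 := by
    rw [neg_one_geom_sum, if_pos (even_iff_two_dvd.2 d.even)]
  have hinner : ∀ l ∈ Finset.range d.m,
      ∑ j ∈ Finset.range d.m, (-1 : ℂ) ^ j * zeta d ^ (j * l) = if l = h then (d.m : ℂ) else 0 := by
    intro l hl
    rw [Finset.mem_range] at hl
    rw [Finset.sum_congr rfl fun j _ => show (-1 : ℂ) ^ j * zeta d ^ (j * l) = zeta d ^ ((h + l) * j) by
      rw [← hzh, ← pow_mul, ← pow_add]; ring_nf, DihBlock.geom_sum d hζ]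
    refine if_congr ⟨fun hd => ?_, fun e => ⟨1, by omega⟩⟩ rfl rfl
    rcases hd with ⟨q, hq⟩
    rcases q with _ | _ | q
    · omega
    · omega
    · nlinarith
  have hU : (Nat.card c.U : ℂ) ≠ 0 := Nat.cast_ne_zero.2 Nat.card_pos.ne'
  have hmC : (d.m : ℂ) ≠ 0 := Nat.cast_ne_zero.2 hm0.ne'
  have h1 : conj (c.psi χ) = ∑ j ∈ Finset.range d.m, (-1 : ℂ) ^ j * c.coef j χ := by
    simp only [coef, Finset.mul_sum]
    rw [Finset.sum_comm, psi, map_mul, map_inv₀, map_natCast, map_sum, Finset.mul_sum]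
    refine Finset.sum_congr rfl fun w _ => ?_
    rw [Finset.sum_comm, Finset.sum_congr rfl fun l hl => show _ =
      ((Nat.card c.U : ℂ) * d.m)⁻¹ * (c.lamF w * conj ((χ : G → ℂ) ((w : G) * d.x ^ l))) *
        (if l = h then (d.m : ℂ) else 0) by
      rw [← hinner l hl, Finset.mul_sum]
      exact Finset.sum_congr rfl fun j _ => by ring, Finset.sum_eq_single_of_mem h
        (Finset.mem_range.2 (by omega)) (fun l _ hl => by rw [if_neg hl, mul_zero]), if_pos rfl,
      map_mul, Complex.conj_conj, ← DihBlock.z_eq d hh,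
      show (d.z : G) * (w : G) = (w : G) * d.z from (mem_secC.1 (c.le w.2)).symm]
    field_simp
  have h2 : ∑ j ∈ Finset.range d.m, (-1 : ℂ) ^ j * c.coef j χ = (c.psiZ χ : ℂ) := by
    simp only [psiZ, v, c.coef_eq]
    push_cast
    simp only [mul_sub, Finset.sum_sub_distrib, ← Finset.sum_mul, halt, zero_mul, zero_sub, neg_neg]
  have h3 := congrArg conj (h1.trans h2)
  rwa [Complex.conj_conj, map_intCast] at h3

/-- On a character with nonzero projection the section is a multiple of the linear character. -/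
theorem value_of_psi {M : Ideal AlgInt} [M.IsPrime] (hM : IsPModular 2 M) {h : ℕ}
    (hh : d.m = 2 * h) {χ : IrrCharacter G} (hne : c.psiZ χ ≠ 0) :
    (χ : G → ℂ) d.z = (c.psiZ χ : ℂ) ∧
      ∀ w ∈ c.U, (χ : G → ℂ) (d.z * w) = (c.psiZ χ : ℂ) * c.lamF w := by
  have hU : (Nat.card c.U : ℂ) ≠ 0 := Nat.cast_ne_zero.2 Nat.card_pos.ne'
  have hsec := c.section_value hM χ (fun e => hne (by
    have h1 := c.psi_eq hh χ
    rw [psi, e, mul_zero] at h1
    exact_mod_cast h1.symm))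
  have hz : (χ : G → ℂ) d.z = (c.psiZ χ : ℂ) := by
    rw [← c.psi_eq hh χ, psi, Finset.sum_congr rfl (g := fun _ => (χ : G → ℂ) d.z) fun w _ => by
      rw [hsec w w.2, mul_assoc, c.lamF_mul_conj (c.le w.2), mul_one], Finset.sum_const,
      Finset.card_univ, nsmul_eq_mul, ← Nat.card_eq_fintype_card, inv_mul_cancel_left₀ hU]
  exact ⟨hz, fun w hw => by rw [hsec w hw, hz]⟩

/-- A product of two conjugates of the central involution only sees the trivial character. -/
theorem F_eq_triv {j : ℕ} {a b : G} (ha : a * a = 1) (hb : b * b = 1) :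
    c.F j (a * b) = c.triv.F j (a * b) := by
  classical
  by_cases hab : a * b ∈ secC d.z
  · rw [c.F_mem hab, c.triv.F_mem hab]
    show c.lamF (a * b) * _ = c.triv.lamF (a * b) * fRot d j (c.pi ⟨a * b, hab⟩ : (P : Subgroup G))
    by_cases hf : fRot d j (c.pi ⟨a * b, hab⟩ : (P : Subgroup G)) = 0
    · rw [hf, mul_zero, mul_zero]
    · congr 1
      have hx : ((c.pi ⟨a * b, hab⟩ : (P : Subgroup G)) : G) ∈ Subgroup.zpowers d.x := by
        by_contra hx; exact hf (by simp [fRot, hx])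
      have hne : ((c.pi ⟨a * b, hab⟩ : (P : Subgroup G)) : G) ≠ 1 := fun e =>
        hf (by rw [e, fRot_one])
      have hz := c.pow_half_eq_z hab hx hne
      have hainv : a⁻¹ = a := inv_eq_of_mul_eq_one_right ha
      have hbinv : b⁻¹ = b := inv_eq_of_mul_eq_one_right hb
      have e1 : a * (a * b) * a⁻¹ = (a * b)⁻¹ := by
        rw [mul_inv_rev, hbinv, hainv, ← mul_assoc a a b, ha, one_mul]
      have e2 : a * d.z * a⁻¹ = d.z := by
        rw [← hz, ← conj_pow, e1, inv_pow, hz]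
        exact inv_eq_of_mul_eq_one_right d.zz
      have haC : a ∈ secC d.z := mem_secC.2 (mul_inv_eq_iff_eq_mul.1 e2)
      have hbC : b ∈ secC d.z := by simpa using mul_mem (inv_mem haC) hab
      rw [c.lamF_mem hab, c.triv.lamF_mem hab,
        show (⟨a * b, hab⟩ : secC d.z) = ⟨a, haC⟩ * ⟨b, hbC⟩ from rfl, map_mul,
        c.lin_involution (g := ⟨a, haC⟩) (Subtype.ext ha),
        c.lin_involution (g := ⟨b, hbC⟩) (Subtype.ext hb), one_mul]
      rfl
  · rw [F, F, dif_neg hab, dif_neg hab]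

theorem class_sum {j : ℕ} (hj : j ≤ d.m) :
    (Nat.card G : ℂ) * (Nat.card (secC d.z) : ℂ) *
      ∑ χ : IrrCharacter G, (c.v j χ : ℂ) * (χ : G → ℂ) d.z ^ 2 / (χ : G → ℂ) 1 =
      ∑ k : G, ∑ r : G, c.F j (r⁻¹ * (k⁻¹ * d.z * k) * r * (r⁻¹ * d.z * r)) := by
  classical
  rw [Finset.mul_sum, Finset.sum_congr rfl fun χ _ => show
    (Nat.card G : ℂ) * (Nat.card (secC d.z) : ℂ) *
        ((c.v j χ : ℂ) * (χ : G → ℂ) d.z ^ 2 / (χ : G → ℂ) 1) =
      ∑ k : G, ∑ g : G, c.F j g * ((χ : G → ℂ) (k⁻¹ * d.z * k * d.z) * conj ((χ : G → ℂ) g)) by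
    rw [Finset.sum_congr rfl fun k _ => show ∑ g : G, c.F j g *
        ((χ : G → ℂ) (k⁻¹ * d.z * k * d.z) * conj ((χ : G → ℂ) g)) =
        (χ : G → ℂ) (k⁻¹ * d.z * k * d.z) * ∑ g : G, c.F j g * conj ((χ : G → ℂ) g) by
      rw [Finset.mul_sum]; exact Finset.sum_congr rfl fun g _ => by ring,
      ← Finset.sum_mul, irr_sum_conj_mul, c.sum_F_conj hj]
    ring, Finset.sum_comm]
  refine Finset.sum_congr rfl fun k _ => ?_
  rw [Finset.sum_comm, Finset.sum_congr rfl fun g _ => show _ = ∑ r : G,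
      if r * g * r⁻¹ = k⁻¹ * d.z * k * d.z then c.F j g else 0 by
    rw [← Finset.mul_sum, column_orth_count, Finset.natCast_card_filter, Finset.mul_sum]
    simp only [mul_ite, mul_one, mul_zero], Finset.sum_comm]
  refine Finset.sum_congr rfl fun r _ => ?_
  rw [Finset.sum_eq_single_of_mem (r⁻¹ * (k⁻¹ * d.z * k * d.z) * r) (Finset.mem_univ _)
    (fun g _ hg => if_neg fun e => hg (by rw [← e]; group)), if_pos (by group)]
  congr 1
  group

/-- The class multiplication identity does not see the linear character. -/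
theorem key_indep {j : ℕ} (hj : j ≤ d.m) :
    ∑ χ : IrrCharacter G, (c.v j χ : ℂ) * (χ : G → ℂ) d.z ^ 2 / (χ : G → ℂ) 1 =
      ∑ χ : IrrCharacter G, (c.triv.v j χ : ℂ) * (χ : G → ℂ) d.z ^ 2 / (χ : G → ℂ) 1 := by
  have h0 : (Nat.card G : ℂ) * (Nat.card (secC d.z) : ℂ) ≠ 0 :=
    mul_ne_zero (Nat.cast_ne_zero.2 Nat.card_pos.ne') (Nat.cast_ne_zero.2 Nat.card_pos.ne')
  refine mul_left_cancel₀ h0 ?_
  rw [c.class_sum hj, c.triv.class_sum hj]
  refine Finset.sum_congr rfl fun k _ => Finset.sum_congr rfl fun r _ => c.F_eq_triv ?_ ?_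
  · calc r⁻¹ * (k⁻¹ * d.z * k) * r * (r⁻¹ * (k⁻¹ * d.z * k) * r)
        = r⁻¹ * (k⁻¹ * (d.z * d.z) * k) * r := by group
      _ = 1 := by rw [d.zz]; group
  · calc r⁻¹ * d.z * r * (r⁻¹ * d.z * r) = r⁻¹ * (d.z * d.z) * r := by group
      _ = 1 := by rw [d.zz]; group

theorem triv_v_principal {j : ℕ} (hj : 0 < j) (hjm : j < d.m) :
    c.triv.v j (principal G) = 1 := by
  have hm : (d.m : ℂ) ≠ 0 := Nat.cast_ne_zero.2 (by omega)
  have hU : (Nat.card c.U : ℂ) ≠ 0 := Nat.cast_ne_zero.2 Nat.card_pos.ne'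
  have h : ∀ i, c.triv.coef i (principal G) = if d.m ∣ i then 1 else 0 := fun i => by
    have e : ∀ (w : c.U) (l : ℕ), c.triv.lamF (w : G) * zeta d ^ (i * l) *
        conj ((principal G : G → ℂ) ((w : G) * d.x ^ l)) = zeta d ^ (i * l) := fun w l => by
      rw [c.triv.lamF_mem (c.le w.2)]
      show ((1 : ℂˣ) : ℂ) * _ * conj (1 : ℂ) = _
      rw [Units.val_one, one_mul, map_one, mul_one]
    show ((Nat.card c.U : ℂ) * d.m)⁻¹ * ∑ w : c.U, ∑ l ∈ Finset.range d.m, _ = _
    simp only [e, DihBlock.geom_sum d (zeta_spec d), Finset.sum_const, Finset.card_univ,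
      nsmul_eq_mul, ← Nat.card_eq_fintype_card]
    split_ifs <;> field_simp <;> ring
  have h0 := (c.triv.coef_eq 0 (principal G)).symm.trans (h 0)
  have h1 := (c.triv.coef_eq j (principal G)).symm.trans (h j)
  rw [if_pos (dvd_zero _)] at h0
  rw [if_neg (Nat.not_dvd_of_pos_of_lt hj hjm)] at h1
  have e0 : c.triv.num 0 (principal G) = 1 := by exact_mod_cast h0
  have e1 : c.triv.num j (principal G) = 0 := by exact_mod_cast h1
  rw [v, e0, e1]
  norm_num

theorem mod_four {M : Ideal AlgInt} [M.IsPrime] (hM : IsPModular 2 M) {h : ℕ}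
    (hh : d.m = 2 * h) {χ : IrrCharacter G} (hne : c.psiZ χ ≠ 0) :
    (4 : ℤ) ∣ (charDegree (χ : G → ℂ) : ℤ) - c.psiZ χ := by
  classical
  have hz := (c.value_of_psi hM hh hne).1
  have hyz : d.y ≠ d.z := fun e => d.ynot (e ▸ d.z_mem)
  have hzy : d.z * d.y ∈ (P : Subgroup G) := mul_mem dz_mem d.hy
  have hy1 : d.y ≠ 1 := fun e => d.ynot (e ▸ one_mem _)
  have hval : ∀ v ∈ (P : Subgroup G), v * v = 1 → v ≠ 1 →
      (χ : G → ℂ) v = (c.psiZ χ : ℂ) := fun v hv h1 h2 => by
    by_cases h3 : v = d.z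
    · rw [h3, hz]
    · obtain ⟨k, hk, -⟩ := c.coh v hv h1 h2 h3
      rw [← hk, irr_conj_invariant, hz]
  set V := Subgroup.closure ({d.z, d.y} : Set G) with hV
  have hK : IsKleinFour V := isKleinFour_of_pair d.zz d.yy (d.z_comm d.hy) d.z_ne fun e =>
    d.ynot ((Subgroup.zpowers_le.2 d.z_mem) e)
  have hVP : V ≤ (P : Subgroup G) := (Subgroup.closure_le _).2 (by
    rintro w (rfl | rfl)
    · exact dz_mem
    · exact d.hy)
  haveI : Fintype V := Fintype.ofFinite V
  obtain ⟨k, hk⟩ := exists_sum_subgroup_eq V χ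
  have hrest : ∀ w ∈ Finset.univ.erase (1 : V), (χ : G → ℂ) (w : G) = (c.psiZ χ : ℂ) := fun w hw =>
    hval _ (hVP w.2) (by
      have := congrArg Subtype.val (hK.mul_self w)
      simpa using this) (fun e => (Finset.mem_erase.1 hw).1 (Subtype.ext e))
  rw [← Finset.add_sum_erase _ _ (Finset.mem_univ (1 : V)), Finset.sum_congr rfl hrest,
    Finset.sum_const, Finset.card_erase_of_mem (Finset.mem_univ _), Finset.card_univ,
    ← Nat.card_eq_fintype_card, hK.card_four, OneMemClass.coe_one, irr_one_eq_charDegree,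
    nsmul_eq_mul] at hk
  norm_num at hk
  have : (charDegree (χ : G → ℂ) : ℤ) + 3 * c.psiZ χ = 4 * (k : ℤ) := by exact_mod_cast hk
  omega

end LinCtx

end Cfsg.Agent.GW
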