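import Cfsg.Agent.Lib.GW.Residual
import Cfsg.Agent.Lib.GW.OddInvariant
import Cfsg.Agent.Lib.BSW.Dihedral

/-!
Subgroups with dihedral Sylow 2-subgroups and a simple socle modulo the odd core: four-groups and
involutions of the preimage of the socle.
-/

set_option autoImplicit false
set_option linter.unusedSectionVars false
set_option linter.style.haveILetI false

namespace Cfsg.Agent.GW

open Cfsg.Agent.TwoFus

universe u

variable {X : Type u} [Group X] [Finite X]

/-- A subgroup containing a four-group inherits dihedral Sylow 2-subgroups. -/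
theorem DihSylow.sub (h : DihSylow X) (H : Subgroup X) {E : Subgroup X} (hE : IsKleinFour E)
    (hEH : E ≤ H) : DihSylow H := by
  haveI : Fact (Nat.Prime 2) := ⟨Nat.prime_two⟩
  haveI := hE
  obtain ⟨R, hR⟩ := ((IsPGroup.of_card (p := 2) (n := 2) hE.card_four).comap_of_injective H.subtype
    H.subtype_injective).exists_le_sylow
  obtain ⟨Q, hQ⟩ := (R.isPGroup'.map H.subtype).exists_le_sylow
  obtain ⟨k, hk, ⟨e⟩⟩ := h.two_pow Q
  let f : (R : Subgroup H) →* DihedralGroup (2 ^ k) :=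
    e.toMonoidHom.comp ((Subgroup.inclusion hQ).comp
      ((R : Subgroup H).equivMapOfInjective H.subtype H.subtype_injective).toMonoidHom)
  have hf : Function.Injective f := e.injective.comp ((Subgroup.inclusion_injective hQ).comp
    (MulEquiv.injective _))
  rcases PByCyclic.dihedral_two_subgroup f.range with hc | ⟨j, hj, ⟨e'⟩⟩
  · exfalso
    haveI : IsCyclic (R : Subgroup H) :=
      isCyclic_of_surjective (MonoidHom.ofInjective hf).symm.toMonoidHom (MulEquiv.surjective _)
    haveI : IsCyclic (E.subgroupOf H) := Subgroup.isCyclic_of_le hR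
    exact IsKleinFour.not_isCyclic (isCyclic_of_surjective
      (Subgroup.subgroupOfEquivOfLe hEH).toMonoidHom (MulEquiv.surjective _) : IsCyclic E)
  · exact ⟨R, 2 ^ j, by
      calc 2 = 2 ^ 1 := rfl
        _ ≤ 2 ^ j := Nat.pow_le_pow_right two_pos hj, ⟨(MonoidHom.ofInjective hf).trans e'⟩⟩

/-- A simple socle modulo the odd core. -/
structure Sock (X : Type u) [Group X] [Finite X] where
  L : Subgroup (X ⧸ Cfsg.oddCore X)
  normal : L.Normal
  simple : IsSimpleGroup L
  noncomm : ¬ IsMulCommutative L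
  target : IsTarget L
  cent : Subgroup.centralizer (L : Set (X ⧸ Cfsg.oddCore X)) = ⊥

theorem sq_one {Y : Type u} [Group Y] {v : Y} (hv : orderOf v = 2) : v * v = 1 := by
  have h := pow_orderOf_eq_one v
  rwa [hv, pow_two] at h

/-- The quotient map. -/
abbrev mo (X : Type u) [Group X] : X →* X ⧸ Cfsg.oddCore X := QuotientGroup.mk' (Cfsg.oddCore X)

theorem Sock.mem_socPre (K : Sock X) {x : X} : x ∈ socPre X ↔ mo X x ∈ K.L := by
  rw [socPre_eq K.normal K.simple K.noncomm K.target K.cent, Subgroup.mem_comap]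

theorem mo_ker (x : X) : mo X x = 1 ↔ x ∈ Cfsg.oddCore X := QuotientGroup.eq_one_iff x

theorem odd_of_mem_core {x : X} (hx : x ∈ Cfsg.oddCore X) : Odd (orderOf x) :=
  oddCore_odd.of_dvd_nat (Subgroup.orderOf_dvd_natCard _ hx)

theorem invol_mo {v : X} (hv : orderOf v = 2) : orderOf (mo X v) = 2 := by
  refine Invol.order_two_of_sq ?_ fun e => ?_
  · rw [← map_mul, sq_one hv, map_one]
  · have := odd_of_mem_core ((mo_ker v).1 e)
    rw [hv] at this
    exact absurd this (by decide)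

theorem sock_of_not_solvable (hs : Shape (X ⧸ Cfsg.oddCore X)) (hn : ¬ Group.IsSolvable X) :
    Nonempty (Sock X) := by
  rcases shape_solvable_or hs with h | ⟨L, h1, h2, h3, h4, h5⟩
  · haveI := h
    haveI := oddCore_solvable (X := X)
    exact absurd (Group.isSolvable_of_ker_le_range (Cfsg.oddCore X).subtype (mo X)
      (by rw [QuotientGroup.ker_mk', Subgroup.range_subtype])) hn
  · exact ⟨⟨L, h1, h2, h3, h4, h5⟩⟩

/-- The elements of a four-group. -/
theorem klein_cases {Y : Type u} [Group Y] [Finite Y] {V : Subgroup Y} (hV : IsKleinFour V) {v w : Y}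
    (hv : v ∈ V) (hw : w ∈ V) (hv1 : v ≠ 1) (hw1 : w ≠ 1) (hne : v ≠ w) {p : Y} (hp : p ∈ V) :
    p = 1 ∨ p = v ∨ p = w ∨ p = v * w := by
  classical
  haveI := hV
  haveI : Fintype V := Fintype.ofFinite V
  have hvw : v * w ≠ 1 := fun e => hne ((inv_eq_of_mul_eq_one_right e ▸
    (inv_eq_of_mul_eq_one_right (congrArg Subtype.val (IsKleinFour.mul_self (⟨v, hv⟩ : V)) :
      v * v = 1)).symm))
  by_contra hno
  push Not at hno
  have hsub : ({1, ⟨v, hv⟩, ⟨w, hw⟩, ⟨v * w, mul_mem hv hw⟩, ⟨p, hp⟩} : Finset V).card ≤ 4 := by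
    rw [← hV.card_four, Nat.card_eq_fintype_card]
    exact Finset.card_le_univ _
  rw [Finset.card_insert_of_notMem (by
      simp [Subtype.ext_iff, hv1.symm, hw1.symm, hvw.symm, hno.1.symm]),
    Finset.card_insert_of_notMem (by
      simp [Subtype.ext_iff, hne, hw1, hno.2.1.symm]),
    Finset.card_insert_of_notMem (by simp [Subtype.ext_iff, hv1, hno.2.2.1.symm]),
    Finset.card_insert_of_notMem (by simp [Subtype.ext_iff, hno.2.2.2.symm])] at hsub
  simp at hsub

/-- The square of an element fixing an involution of a normal four-group centralises it. -/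
theorem klein_sq_comm {Y : Type u} [Group Y] [Finite Y] {V : Subgroup Y} (hVn : V.Normal)
    (hV : IsKleinFour V) {v g : Y} (hv : v ∈ V) (hv1 : v ≠ 1) (hg : g * v = v * g) :
    g * g ∈ Subgroup.centralizer (V : Set Y) := by
  haveI := hV
  have hgv : g * v * g⁻¹ = v := by rw [hg, mul_inv_cancel_right]
  refine Subgroup.mem_centralizer_iff.2 fun w hw => (mul_inv_eq_iff_eq_mul.1 ?_).symm
  rw [show g * g * w * (g * g)⁻¹ = g * (g * w * g⁻¹) * g⁻¹ by group]
  by_cases hw1 : w = 1
  · simp [hw1]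
  by_cases hwv : w = v
  · rw [hwv, hgv, hgv]
  rcases klein_cases hV hv hw hv1 hw1 (Ne.symm hwv) (hVn.conj_mem w hw g) with e | e | e | e
  · exact absurd (conj_eq_one_iff.1 e) hw1
  · exact absurd (mul_left_cancel (mul_right_cancel (e.trans hgv.symm))) hwv
  · rw [e, e]
  · have hvv : v * v = 1 := congrArg Subtype.val (IsKleinFour.mul_self (⟨v, hv⟩ : V))
    rw [e, show g * (v * w) * g⁻¹ = g * v * g⁻¹ * (g * w * g⁻¹) by group, hgv, e, ← mul_assoc,
      hvv, one_mul]

/-- An element of odd order outside the odd core centralised by an involution forces a socle. -/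
theorem sock_of_odd_commute (hs : Shape (X ⧸ Cfsg.oddCore X)) {u t : X} (hu : Odd (orderOf u))
    (ht : orderOf t = 2) (hc : u * t = t * u) (hn : u ∉ Cfsg.oddCore X) : Nonempty (Sock X) := by
  have hy1 : mo X u ≠ 1 := fun e => hn ((mo_ker u).1 e)
  have hyo : Odd (orderOf (mo X u)) := hu.of_dvd_nat (orderOf_map_dvd _ u)
  have hto := invol_mo ht
  have hyt : mo X u * mo X t = mo X t * mo X u := by rw [← map_mul, ← map_mul, hc]
  rcases hs with h2 | ⟨V, hVn, hV, hVc, -⟩ | ⟨L, h1, h2, h3, h4, h5⟩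
  · exfalso
    haveI : Fact (Nat.Prime 2) := ⟨Nat.prime_two⟩
    obtain ⟨k, hk⟩ := IsPGroup.iff_orderOf.1 h2 (mo X u)
    rw [hk] at hyo
    rcases k with _ | k
    · rw [pow_zero] at hk; exact hy1 (orderOf_eq_one_iff.1 hk)
    · exact Nat.not_odd_iff_even.2 (Even.pow_of_ne_zero (by norm_num) (by omega)) hyo
  · exfalso
    haveI := hV
    set y := mo X u
    set s := mo X t
    have hsq : ∀ a ∈ V, a * a = 1 := fun a ha =>
      congrArg Subtype.val (IsKleinFour.mul_self (⟨a, ha⟩ : V))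
    have hcm : ∀ a ∈ V, ∀ b ∈ V, a * b = b * a := fun a ha b hb =>
      congrArg Subtype.val ((klein_comm hV).is_comm.comm (⟨a, ha⟩ : V) ⟨b, hb⟩)
    have hss : s * s = 1 := sq_one hto
    have hs1 : s ≠ 1 := fun e => by rw [e, orderOf_one] at hto; omega
    suffices hyV : ∃ v ∈ V, v ≠ 1 ∧ y * v = v * y by
      obtain ⟨v, hv, hv1, hyv⟩ := hyV
      have hy2 : y * y ∈ V := hVc ▸ klein_sq_comm hVn hV hv hv1 hyv
      exact hy1 (eq_one_of_sq_odd (eq_one_of_sq_odd (hsq _ hy2)
        (hyo.of_dvd_nat (by rw [← pow_two]; exact orderOf_pow_dvd 2))) hyo)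
    by_cases hsV : s ∈ V
    · exact ⟨s, hsV, hs1, hyt⟩
    have hne : V ≠ ⊥ := fun e => by
      have := hV.card_four
      rw [e, Subgroup.card_bot] at this; omega
    obtain ⟨v, hvV, hv1, hsv⟩ : ∃ v ∈ V, v ≠ 1 ∧ s * v = v * s := by
      obtain ⟨⟨a, ha⟩, ha1⟩ := Subgroup.ne_bot_iff_exists_ne_one.1 hne
      have ha' : s * a * s⁻¹ ∈ V := hVn.conj_mem a ha s
      by_cases hp : a * (s * a * s⁻¹) = 1
      · refine ⟨a, ha, fun e => ha1 (Subtype.ext e), mul_inv_eq_iff_eq_mul.1 ?_⟩
        exact (eq_inv_of_mul_eq_one_right hp).trans (inv_eq_of_mul_eq_one_right (hsq a ha))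
      · refine ⟨_, mul_mem ha ha', hp, mul_inv_eq_iff_eq_mul.1 ?_⟩
        calc s * (a * (s * a * s⁻¹)) * s⁻¹ = s * a * s⁻¹ * (s * s * a * (s * s)⁻¹) := by group
          _ = s * a * s⁻¹ * a := by rw [hss, one_mul, inv_one, mul_one]
          _ = a * (s * a * s⁻¹) := hcm _ ha' _ ha
    refine ⟨v, hvV, hv1, by_contra fun hne' => hsV ?_⟩
    have hsyv : s * (y * v * y⁻¹) = y * v * y⁻¹ * s :=
      ((show Commute s y from hyt.symm).mul_right hsv).mul_right
        ((show Commute s y from hyt.symm).inv_right)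
    have hd : v ≠ y * v * y⁻¹ := fun e => hne' (mul_inv_eq_iff_eq_mul.1 e.symm)
    rw [← hVc]
    refine Subgroup.mem_centralizer_iff.2 fun w hw => ?_
    rcases klein_cases hV hvV (hVn.conj_mem v hvV y) hv1 (fun e => hv1 (conj_eq_one_iff.1 e)) hd hw
      with e | e | e | e
    · rw [e, one_mul, mul_one]
    · rw [e, hsv]
    · rw [e, hsyv]
    · rw [e]
      exact ((show Commute s v from hsv).mul_right hsyv).symm.eq
  · exact ⟨⟨L, h1, h2, h3, h4, h5⟩⟩

/-- One involution of a four-group lies in the preimage of the socle. -/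
theorem Sock.exists_inner (K : Sock X) (h : DihSylow X) {u v : X} (hu : orderOf u = 2)
    (hv : orderOf v = 2) (hne : u ≠ v) (hc : u * v = v * u) :
    u ∈ socPre X ∨ v ∈ socPre X ∨ u * v ∈ socPre X := by
  haveI := K.normal
  haveI : Fact (Nat.Prime 2) := ⟨Nat.prime_two⟩
  have huu : u * u = 1 := sq_one hu
  have hvv : v * v = 1 := sq_one hv
  have hbar : mo X u ≠ mo X v := by
    intro e
    refine hne (mul_inv_eq_one.1 ?_)
    have hm : u * v⁻¹ ∈ Cfsg.oddCore X := (mo_ker _).1 (by rw [map_mul, map_inv, e, mul_inv_cancel])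
    refine eq_one_of_sq_odd ?_ (odd_of_mem_core hm)
    rw [inv_eq_of_mul_eq_one_right hvv, mul_assoc, ← mul_assoc v u v, ← hc, mul_assoc u v v, hvv,
      mul_one, huu]
  have hq : DihSylow (X ⧸ Cfsg.oddCore X) := h.quotient _ oddCore_odd
  have hcb : mo X u * mo X v = mo X v * mo X u := by rw [← map_mul, ← map_mul, hc]
  set A := Subgroup.zpowers (mo X u) ⊔ Subgroup.zpowers (mo X v) with hA
  have hA2 : IsPGroup 2 A := by
    refine IsPGroup.to_sup_of_normal_right' (IsPGroup.of_card (n := 1) ?_)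
      (IsPGroup.of_card (n := 1) ?_) (Subgroup.zpowers_le.2 ?_)
    · rw [Nat.card_zpowers, invol_mo hu, pow_one]
    · rw [Nat.card_zpowers, invol_mo hv, pow_one]
    · refine Subgroup.centralizer_le_normalizer _ (Subgroup.mem_centralizer_iff.2 ?_)
      rintro _ ⟨i, rfl⟩
      exact ((show Commute (mo X v) (mo X u) from hcb.symm).zpow_left i).eq
  obtain ⟨w, hwL, hw, hwc⟩ := socle_involution K.L K.simple K.noncomm hA2
  rcases comm_involution_cases hq (invol_mo hu) (invol_mo hv) hw hbar hcb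
    (hwc _ (Subgroup.mem_sup_left (Subgroup.mem_zpowers _)))
    (hwc _ (Subgroup.mem_sup_right (Subgroup.mem_zpowers _))) with e | e | e
  · exact Or.inl (K.mem_socPre.2 (e ▸ hwL))
  · exact Or.inr (Or.inl (K.mem_socPre.2 (e ▸ hwL)))
  · exact Or.inr (Or.inr (K.mem_socPre.2 (by rw [map_mul, ← e]; exact hwL)))

/-- The involutions of the preimage of the socle are conjugate in it. -/
theorem Sock.one_class (K : Sock X) (h : DihSylow X) {u v : X} (hu : orderOf u = 2)
    (hv : orderOf v = 2) (hu' : u ∈ socPre X) (hv' : v ∈ socPre X) :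
    ∃ g ∈ socPre X, g * u * g⁻¹ = v := by
  haveI := K.normal
  haveI := K.simple
  obtain ⟨Q, n, hn, ⟨e⟩⟩ := (h.quotient _ oddCore_odd).of_normal K.L K.simple K.noncomm
  obtain ⟨d, -⟩ := exists_dih Q hn e
  obtain ⟨⟨g', hg'⟩, hg⟩ := isConj_iff.1 (BSW.dih_simple_one_class K.noncomm Q d
    ⟨mo X u, K.mem_socPre.1 hu'⟩ ⟨mo X v, K.mem_socPre.1 hv'⟩
    (by rw [Subgroup.orderOf_mk]; exact invol_mo hu) (by rw [Subgroup.orderOf_mk]; exact invol_mo hv))
  obtain ⟨g, rfl⟩ := QuotientGroup.mk'_surjective (Cfsg.oddCore X) g'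
  have hgv : mo X (g * u * g⁻¹) = mo X v := by
    rw [map_mul, map_mul, map_inv]; exact congrArg Subtype.val hg
  set w := g * u * g⁻¹ with hw
  have hww : w * w = 1 := by
    rw [hw, show g * u * g⁻¹ * (g * u * g⁻¹) = g * (u * u) * g⁻¹ by group,
      sq_one hu, mul_one, mul_inv_cancel]
  have hvv : v * v = 1 := sq_one hv
  have hm : v * w ∈ Cfsg.oddCore X := (mo_ker _).1 (by rw [map_mul, hgv, ← map_mul, hvv, map_one])
  obtain ⟨j, hj⟩ := odd_of_mem_core hm
  have hinv : w * (v * w) * w⁻¹ = (v * w)⁻¹ := by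
    calc w * (v * w) * w⁻¹ = w * v := by group
      _ = w⁻¹ * v⁻¹ := by
        rw [inv_eq_of_mul_eq_one_right hww, inv_eq_of_mul_eq_one_right hvv]
      _ = (v * w)⁻¹ := (mul_inv_rev v w).symm
  set d' := v * w with hd
  have hwd : w * d' ^ (j + 1) * w⁻¹ = (d' ^ (j + 1))⁻¹ := by rw [← conj_pow, hinv, inv_pow]
  have hsoc : d' ^ (j + 1) ∈ socPre X :=
    Subgroup.mem_sup_right (pow_mem hm _)
  refine ⟨d' ^ (j + 1) * g, mul_mem hsoc (K.mem_socPre.2 hg'), ?_⟩
  rw [show d' ^ (j + 1) * g * u * (d' ^ (j + 1) * g)⁻¹ = d' ^ (j + 1) * w * (d' ^ (j + 1))⁻¹ by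
    rw [hw]; group, ← hwd]
  calc d' ^ (j + 1) * w * (w * d' ^ (j + 1) * w⁻¹) = d' ^ (j + 1) * (w * w) * d' ^ (j + 1) * w⁻¹ := by
        group
    _ = d' ^ (orderOf d') * d' * w⁻¹ := by
        rw [hww, mul_one, ← pow_add, ← pow_succ]; congr 2; omega
    _ = v := by rw [pow_orderOf_eq_one, one_mul, hd]; group

/-- If an involution of the preimage of the socle centralises the odd core, all of them do. -/
theorem Sock.core_cent (K : Sock X) (h : DihSylow X) {u v : X} (hu : orderOf u = 2)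
    (hv : orderOf v = 2) (hu' : u ∈ socPre X) (hv' : v ∈ socPre X)
    (hc : ∀ o ∈ Cfsg.oddCore X, u * o = o * u) : ∀ o ∈ Cfsg.oddCore X, v * o = o * v := by
  obtain ⟨g, -, rfl⟩ := K.one_class h hu hv hu' hv'
  intro o ho
  have h1 := hc (g⁻¹ * o * g) (by
    have := (oddCore_normal (X := X)).conj_mem o ho g⁻¹
    rwa [inv_inv] at this)
  calc g * u * g⁻¹ * o = g * (u * (g⁻¹ * o * g)) * g⁻¹ := by group
    _ = o * (g * u * g⁻¹) := by rw [h1]; group

end Cfsg.Agent.GW
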