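import Cfsg.Agent.Lib.GW.Setup
import Cfsg.Agent.Lib.GW.Sock
import Cfsg.Agent.Lib.Components.BenderUnique

/-!
The local analysis around a subgroup of `O_q(C) ∩ W`: sections containing the four-group of a reflection
have it inside the preimage of the socle and centralising the odd core.
-/

set_option autoImplicit false
set_option linter.unusedSectionVars false
set_option linter.style.haveILetI false

namespace Cfsg.Agent.GW

open Cfsg.Agent.TwoFus Cfsg.Agent.BenderUnique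

universe u

section

variable {X : Type u} [Group X] [Finite X]

theorem map_oddCore_le {Y : Type u} [Group Y] [Finite Y] (φ : X ≃* Y) :
    (Cfsg.oddCore X).map φ.toMonoidHom ≤ Cfsg.oddCore Y := by
  haveI := oddCore_normal (X := X)
  exact le_sSup (show _ ∈ {N : Subgroup Y | N.Normal ∧ (Nat.card N).Coprime 2} from
    ⟨Subgroup.Normal.map inferInstance _ φ.surjective, Nat.coprime_two_right.2 (by
      rw [Subgroup.card_map_of_injective φ.injective]; exact oddCore_odd)⟩)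

/-- With a nontrivial layer, the residual centralises the odd core. -/
theorem Sock.res_comm_core (K : Sock X) (hl : Cfsg.layer X ≠ ⊥) :
    ∀ r ∈ res X, ∀ o ∈ Cfsg.oddCore X, r * o = o * r := by
  haveI hEn : (Cfsg.layer X).Normal := Components.layer_normal
  haveI := oddCore_normal (X := X)
  haveI := K.normal
  haveI := K.simple
  set E := Cfsg.layer X with hE
  have hEO : ⁅E, Cfsg.oddCore X⁆ = ⊥ := Components.layer_commute_solvable oddCore_solvable (by
    rw [Subgroup.normalizer_eq_top]; exact le_top)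
  haveI : (E.map (mo X)).Normal := Subgroup.Normal.map hEn _ (QuotientGroup.mk'_surjective _)
  have hLE : K.L ≤ E.map (mo X) := by
    rcases (Subgroup.Normal.subgroupOf (inferInstance : (E.map (mo X)).Normal) K.L).eq_bot_or_eq_top
      with e | e
    · exfalso
      have hdis : E.map (mo X) ⊓ K.L = ⊥ := by
        rw [← le_bot_iff]
        rintro y ⟨hy, hyL⟩
        have : (⟨y, hyL⟩ : K.L) ∈ (E.map (mo X)).subgroupOf K.L := hy
        rw [e, Subgroup.mem_bot] at this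
        exact Subgroup.mem_bot.2 (congrArg Subtype.val this)
      have hc : E.map (mo X) ≤ Subgroup.centralizer (K.L : Set _) :=
        Subgroup.commutator_eq_bot_iff_le_centralizer.1 (le_bot_iff.1
          ((Subgroup.commutator_le_inf _ _).trans hdis.le))
      rw [K.cent, le_bot_iff, Subgroup.map_eq_bot_iff, QuotientGroup.ker_mk'] at hc
      refine hl (le_bot_iff.1 ?_)
      calc E = ⁅E, E⁆ := Components.layer_commutator_eq.symm
        _ ≤ ⁅E, Cfsg.oddCore X⁆ := Subgroup.commutator_mono le_rfl hc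
        _ = ⊥ := hEO
    · exact Subgroup.subgroupOf_eq_top.1 e
  haveI := quotient_solvable K.cent K.target
  have hres : res X ≤ E ⊔ Cfsg.oddCore X := by
    have h := ((res_map_le (mo X)).trans (res_le_of_solvable K.L)).trans hLE
    rwa [Subgroup.map_le_iff_le_comap, Subgroup.comap_map_eq, QuotientGroup.ker_mk'] at h
  have hrE : res X ≤ E := by
    set f := QuotientGroup.mk' E with hf
    haveI := oddCore_solvable (X := X)
    haveI : Group.IsSolvable ((Cfsg.oddCore X).map f) :=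
      Group.isSolvable_of_surjective (f.subgroupMap_surjective (Cfsg.oddCore X))
    have hle : (res X).map f ≤ (Cfsg.oddCore X).map f := by
      refine (Subgroup.map_mono hres).trans ?_
      rw [Subgroup.map_sup]
      refine sup_le ?_ le_rfl
      rw [(Subgroup.map_eq_bot_iff _).2 (QuotientGroup.ker_mk' E).ge]
      exact bot_le
    haveI : Group.IsSolvable ((res X).map f) := Components.isSolvable_mono hle
    have hp : ⁅(res X).map f, (res X).map f⁆ = (res X).map f := by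
      rw [← Subgroup.map_commutator, res_commutator]
    have hb : (res X).map f = ⊥ := by
      by_contra hne
      haveI : Nontrivial ((res X).map f) := (Subgroup.nontrivial_iff_ne_bot _).2 hne
      haveI : Group.IsPerfect ((res X).map f) := Subgroup.isPerfect_iff.2 hp
      exact (Group.IsSolvable.commutator_lt_top_of_nontrivial ((res X).map f)).ne
        Group.IsPerfect.commutator_eq_top
    rwa [Subgroup.map_eq_bot_iff, QuotientGroup.ker_mk'] at hb
  intro r hr o ho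
  exact (Subgroup.mem_centralizer_iff.1
    (Subgroup.commutator_eq_bot_iff_le_centralizer.1 hEO (hrE hr)) o ho).symm

/-- With a nontrivial layer, an involution of the preimage of the socle centralises the odd core. -/
theorem Sock.invol_comm_core (K : Sock X) (hl : Cfsg.layer X ≠ ⊥) {v : X} (hv : orderOf v = 2)
    (hv' : v ∈ socPre X) : ∀ o ∈ Cfsg.oddCore X, v * o = o * v := by
  haveI := oddCore_normal (X := X)
  obtain ⟨r, hr, o₀, ho₀, e⟩ : ∃ r ∈ res X, ∃ o ∈ Cfsg.oddCore X, r * o = v := by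
    rw [socPre, ← SetLike.mem_coe, Subgroup.mul_normal] at hv'
    exact Set.mem_mul.1 hv'
  have hc : Commute r o₀ := K.res_comm_core hl r hr o₀ ho₀
  obtain ⟨j, hj⟩ := odd_of_mem_core ho₀
  have h1 : v ^ orderOf o₀ = v := by
    rw [hj, pow_succ, pow_mul, pow_two, sq_one hv, one_pow, one_mul]
  have h2 : v ∈ res X := by
    rw [← h1, ← e, hc.mul_pow, pow_orderOf_eq_one, mul_one]
    exact pow_mem hr _
  exact K.res_comm_core hl v h2

end

namespace Core

variable {G : Type u} [Group G] [Finite G] (c : Core G)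

/-- `O_q(C)`. -/
abbrev Qc (q : ℕ) : Subgroup G := coreIn q c.C

theorem C_ne_top : c.C ≠ ⊤ := by
  intro e
  haveI := c.simple
  have hmem : c.d.z ∈ Subgroup.center G := Subgroup.mem_center_iff.2 fun g =>
    c.mem_C.1 (e ▸ Subgroup.mem_top g)
  rcases (Subgroup.center G).normal_of_characteristic.eq_bot_or_eq_top with h | h
  · rw [h, Subgroup.mem_bot] at hmem; exact c.d.z_ne hmem
  · exact c.noncomm (Subgroup.center_eq_top_iff.1 h)

theorem z_mem_C : c.d.z ∈ c.C := c.P_le c.z_mem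

theorem Qc_le_C (q : ℕ) : c.Qc q ≤ c.C := Subgroup.map_subtype_le _

theorem Qc_le_U {q : ℕ} [Fact q.Prime] (hq : q ≠ 2) : c.Qc q ≤ c.U := by
  intro x hx
  obtain ⟨k, hk⟩ := IsPGroup.iff_orderOf.1 (coreIn_pGroup q c.C) ⟨x, hx⟩
  refine c.mem_U_of_odd (c.Qc_le_C q hx) ?_
  rw [← Subgroup.orderOf_mk x hx, hk]
  exact ((Fact.out : q.Prime).odd_of_ne_two hq).pow

theorem z_core_two : c.d.z ∈ c.Qc 2 := by
  haveI : Fact (Nat.Prime 2) := ⟨Nat.prime_two⟩
  refine pSub_le_coreIn (H := Subgroup.zpowers c.d.z)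
    (IsPGroup.of_card (n := 1) (by rw [Nat.card_zpowers, c.z_order, pow_one])) ?_ (Subgroup.mem_zpowers _)
  rw [Subgroup.zpowers_le]
  refine ⟨⟨c.d.z, c.z_mem_C⟩, ?_, rfl⟩
  have hmem : (⟨c.d.z, c.z_mem_C⟩ : c.C) ∈ Subgroup.center c.C :=
    Subgroup.mem_center_iff.2 fun g => Subtype.ext (c.mem_C.1 g.2)
  haveI : Group.IsNilpotent (Subgroup.center c.C) := by
    letI : CommGroup (Subgroup.center c.C) :=
      { (inferInstance : Group (Subgroup.center c.C)) with
        mul_comm := fun a b => Subtype.ext (Subgroup.mem_center_iff.1 b.2 a) }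
    infer_instance
  exact Cfsg.Agent.Components.le_fittingSubgroup inferInstance inferInstance hmem

variable {c} {a : G}

namespace Refl

variable (ha : c.Refl a)

include ha

theorem z_mul_order : orderOf (c.d.z * a) = 2 := ha.mul_z.order

theorem dihSylow (H : Subgroup G) (hz : c.d.z ∈ H) (haH : a ∈ H) : DihSylow H := by
  obtain ⟨V, -, hV, hzV, haV, hall⟩ := ha.exists_klein
  refine c.dih.sub H hV fun v hv => ?_
  rcases hall v hv with rfl | rfl | rfl | rfl
  · exact one_mem H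
  · exact hz
  · exact haH
  · exact mul_mem hz haH

theorem shape (H : Subgroup G) (hH : H ≠ ⊤) (hz : c.d.z ∈ H) (haH : a ∈ H) :
    Shape (H ⧸ Cfsg.oddCore H) := by
  refine shape_mod_core c.known (ha.dihSylow H hz haH) (lt_of_le_of_ne H.card_le_card_group fun e => ?_)
  exact hH (Subgroup.eq_top_of_card_eq H e)

theorem W_comm {w : G} (hw : w ∈ c.W a) :
    w * c.d.z = c.d.z * w ∧ w * a = a * w ∧ w * (c.d.z * a) = c.d.z * a * w :=
  ⟨c.mem_C.1 (c.U_le (ha.mem_W.1 hw).1), (ha.mem_W.1 hw).2,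
    ((show Commute w c.d.z from c.mem_C.1 (c.U_le (ha.mem_W.1 hw).1)).mul_right (ha.mem_W.1 hw).2).eq⟩

end Refl

/-- A Sylow subgroup `R` of `W` with a rotation normalising it and an element of `U` inverted by the
reflection and centralising `R`. -/
structure Cross (c : Core G) (a : G) (q : ℕ) where
  R : Subgroup G
  g : G
  u : G
  R_le : R ≤ c.W a
  R_pg : IsPGroup q R
  R_max : ∀ S : Subgroup G, R ≤ S → S ≤ c.W a → IsPGroup q S → S = R
  g_norm : g ∈ Subgroup.normalizer (R : Set G)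
  g_z : g * c.d.z * g⁻¹ = a
  g_a : g * a * g⁻¹ = c.d.z * a
  g_za : g * (c.d.z * a) * g⁻¹ = c.d.z
  u_mem : u ∈ c.U
  u_ne : u ≠ 1
  u_inv : a * u * a⁻¹ = u⁻¹
  u_cent : u ∈ Subgroup.centralizer (R : Set G)
  u_pow : ∃ k, orderOf u = q ^ k

theorem Refl.exists_cross (ha : c.Refl a) {q : ℕ} [hq : Fact q.Prime] (hq2 : q ≠ 2)
    (hQ : ¬ c.Qc q ≤ c.W a) : Nonempty (c.Cross a q) := by
  classical
  obtain ⟨R, g, hR, hRp, hRmax, hgR, g1, g2, g3⟩ := ha.exists_sylow_rot q
  have hRC : R ≤ c.C := (hR.trans ha.W_le).trans c.U_le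
  have hRn : R ≤ Subgroup.normalizer (c.Qc q : Set G) := hRC.trans (normalizes_coreIn q c.C)
  set T := c.Qc q ⊔ R with hT
  have hTp : IsPGroup q T := IsPGroup.to_sup_of_normal_left' (coreIn_pGroup q c.C) hRp hRn
  have hTU : T ≤ c.U := sup_le (c.Qc_le_U hq2) (hR.trans ha.W_le)
  have hTW : T ⊓ c.W a = R :=
    hRmax _ (le_inf le_sup_right hR) inf_le_right (hTp.to_le inf_le_left)
  have hlt : R < T := lt_of_le_of_ne le_sup_right fun e => hQ
    (fun x hx => hR (e.symm ▸ Subgroup.mem_sup_left hx))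
  haveI : Group.IsNilpotent T := hTp.isNilpotent
  have hltT : R.subgroupOf T < ⊤ := lt_top_iff_ne_top.2 fun e => hlt.2 (Subgroup.subgroupOf_eq_top.1 e)
  obtain ⟨x, hx, hxR⟩ := SetLike.exists_of_lt (Group.normalizerCondition_of_isNilpotent (R.subgroupOf T) hltT)
  have hxW : (x : G) ∉ c.W a := fun h => hxR (Subgroup.mem_subgroupOf.2 (hTW ▸ ⟨x.2, h⟩))
  have hxn : ∀ r ∈ R, (x : G)⁻¹ * r * x ∈ R := by
    intro r hr
    have := (Subgroup.mem_normalizer_iff.1 (inv_mem hx) ⟨r, Subgroup.mem_sup_right hr⟩).1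
      (Subgroup.mem_subgroupOf.2 hr)
    simpa [Subgroup.mem_subgroupOf] using this
  have hRa : ∀ r ∈ R, a * r = r * a := fun r hr => ((ha.mem_W.1 (hR hr)).2).symm
  have haT : ∀ y ∈ T, a * y * a⁻¹ ∈ T := by
    have : T ≤ T.comap (MulAut.conj a).toMonoidHom := sup_le
      (fun y hy => Subgroup.mem_sup_left ((Subgroup.mem_normalizer_iff.1
        (normalizes_coreIn q c.C ha.mem_C) y).1 hy))
      (fun y hy => Subgroup.mem_sup_right (by
        show a * y * a⁻¹ ∈ R
        rwa [hRa y hy, mul_inv_cancel_right]))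
    exact fun y hy => this hy
  set u : G := (x : G) * (a * (x : G)⁻¹ * a⁻¹) with hu
  have huT : u ∈ T := mul_mem x.2 (haT _ (inv_mem x.2))
  have hai : a⁻¹ = a := ha.inv_eq
  refine ⟨⟨R, g, u, hR, hRp, hRmax, hgR, g1, g2, g3, hTU huT, fun e => hxW ?_, ?_, ?_, ?_⟩⟩
  · refine ha.mem_W.2 ⟨hTU x.2, ?_⟩
    have e' : (x : G) * a * (x : G)⁻¹ = a := by
      rw [hu] at e
      calc (x : G) * a * (x : G)⁻¹ = (x : G) * (a * (x : G)⁻¹ * a⁻¹) * a := by group
        _ = a := by rw [e, one_mul]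
    exact mul_inv_eq_iff_eq_mul.1 e'
  · rw [hu]
    calc a * ((x : G) * (a * (x : G)⁻¹ * a⁻¹)) * a⁻¹ = a * (x : G) * (a * (x : G)⁻¹) * (a⁻¹ * a⁻¹) := by
          group
      _ = a * (x : G) * a⁻¹ * (x : G)⁻¹ := by rw [hai, ha.sq]; simp [mul_assoc]
      _ = ((x : G) * (a * (x : G)⁻¹ * a⁻¹))⁻¹ := by group
  · refine Subgroup.mem_centralizer_iff.2 fun r hr => ?_
    have h1 := hRa _ (hxn r hr)
    have h1' : (x : G)⁻¹ * r * x = a * ((x : G)⁻¹ * r * x) * a⁻¹ := by rw [h1, mul_inv_cancel_right]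
    rw [hu]
    calc r * ((x : G) * (a * (x : G)⁻¹ * a⁻¹))
        = (x : G) * ((x : G)⁻¹ * r * x) * (a * (x : G)⁻¹ * a⁻¹) := by group
      _ = (x : G) * (a * ((x : G)⁻¹ * r * x) * a⁻¹) * (a * (x : G)⁻¹ * a⁻¹) := by rw [← h1']
      _ = (x : G) * a * (x : G)⁻¹ * (r * a⁻¹) := by group
      _ = (x : G) * a * (x : G)⁻¹ * (a⁻¹ * r) := by rw [hai, hRa r hr]
      _ = (x : G) * (a * (x : G)⁻¹ * a⁻¹) * r := by group
  · obtain ⟨k, hk⟩ := IsPGroup.iff_orderOf.1 hTp ⟨u, huT⟩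
    exact ⟨k, by rw [← Subgroup.orderOf_mk u huT, hk]⟩

namespace Cross

variable {q : ℕ} (cr : c.Cross a q)

/-- The first translate of `u` by the rotation. -/
def h : G := cr.g * cr.u * cr.g⁻¹

/-- The second translate of `u` by the rotation. -/
def h2 : G := cr.g * cr.h * cr.g⁻¹

theorem u_z : c.d.z * cr.u * c.d.z⁻¹ = cr.u := by
  rw [← c.mem_C.1 (c.U_le cr.u_mem), mul_inv_cancel_right]

theorem conj_rel {v v' y : G} (e : cr.g * v * cr.g⁻¹ = v') :
    v' * (cr.g * y * cr.g⁻¹) * v'⁻¹ = cr.g * (v * y * v⁻¹) * cr.g⁻¹ := by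
  rw [← e]; group

theorem u_za (ha : c.Refl a) : c.d.z * a * cr.u * (c.d.z * a)⁻¹ = cr.u⁻¹ := by
  rw [show c.d.z * a * cr.u * (c.d.z * a)⁻¹ = c.d.z * (a * cr.u * a⁻¹) * c.d.z⁻¹ by group, cr.u_inv,
    show c.d.z * cr.u⁻¹ * c.d.z⁻¹ = (c.d.z * cr.u * c.d.z⁻¹)⁻¹ by group, cr.u_z]

theorem h_a : a * cr.h * a⁻¹ = cr.h := by rw [h, cr.conj_rel cr.g_z, cr.u_z]

theorem h_za : c.d.z * a * cr.h * (c.d.z * a)⁻¹ = cr.h⁻¹ := by
  rw [h, cr.conj_rel cr.g_a, cr.u_inv, conj_inv]

theorem h_z (ha : c.Refl a) : c.d.z * cr.h * c.d.z⁻¹ = cr.h⁻¹ := by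
  rw [h, cr.conj_rel cr.g_za, cr.u_za ha, conj_inv]

theorem h2_za : c.d.z * a * cr.h2 * (c.d.z * a)⁻¹ = cr.h2 := by rw [h2, cr.conj_rel cr.g_a, cr.h_a]

theorem h2_a (ha : c.Refl a) : a * cr.h2 * a⁻¹ = cr.h2⁻¹ := by
  rw [h2, cr.conj_rel cr.g_z, cr.h_z ha, conj_inv]

theorem h2_z : c.d.z * cr.h2 * c.d.z⁻¹ = cr.h2⁻¹ := by
  rw [h2, cr.conj_rel cr.g_za, cr.h_za, conj_inv]

theorem g_cent {y : G} (hy : y ∈ Subgroup.centralizer (cr.R : Set G)) :
    cr.g * y * cr.g⁻¹ ∈ Subgroup.centralizer (cr.R : Set G) :=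
  (Subgroup.mem_normalizer_iff.1 ((Cfsg.Agent.Components.normalizer_le_normalizer_centralizer _) cr.g_norm) y).1 hy

theorem h_cent : cr.h ∈ Subgroup.centralizer (cr.R : Set G) := cr.g_cent cr.u_cent

theorem h2_cent : cr.h2 ∈ Subgroup.centralizer (cr.R : Set G) := cr.g_cent cr.h_cent

theorem h_order : orderOf cr.h = orderOf cr.u := MulEquiv.orderOf_eq (MulAut.conj cr.g) cr.u

theorem h2_order : orderOf cr.h2 = orderOf cr.u :=
  (MulEquiv.orderOf_eq (MulAut.conj cr.g) cr.h).trans cr.h_order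

theorem u_odd : Odd (orderOf cr.u) := c.odd_of_mem_U cr.u_mem

theorem h_ne : cr.h ≠ 1 := fun e => cr.u_ne (conj_eq_one_iff.1 e)

theorem h2_ne : cr.h2 ≠ 1 := fun e => cr.h_ne (conj_eq_one_iff.1 e)

theorem not_fixed_inverted {v y : G} (hy : y ≠ 1) (ho : Odd (orderOf y)) (h1 : v * y * v⁻¹ = y)
    (h2 : v * y * v⁻¹ = y⁻¹) : False :=
  hy (eq_one_of_sq_odd (by nth_rewrite 1 [h1.symm.trans h2]; rw [inv_mul_cancel]) ho)

theorem z_cent_R (ha : c.Refl a) : c.d.z ∈ Subgroup.centralizer (cr.R : Set G) :=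
  Subgroup.mem_centralizer_iff.2 fun _ hr => (ha.W_comm (cr.R_le hr)).1

theorem a_cent_R (ha : c.Refl a) : a ∈ Subgroup.centralizer (cr.R : Set G) :=
  Subgroup.mem_centralizer_iff.2 fun _ hr => (ha.W_comm (cr.R_le hr)).2.1

/-- `O_q(C) ∩ W` lies in the Sylow subgroup. -/
theorem le_R [Fact q.Prime] (ha : c.Refl a) {X : Subgroup G} (hX : X ≤ c.Qc q ⊓ c.W a) : X ≤ cr.R := by
  have hWC : c.W a ≤ c.C := ha.W_le.trans c.U_le
  have hn : cr.R ≤ Subgroup.normalizer ((c.Qc q ⊓ c.W a : Subgroup G) : Set G) :=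
    (le_inf ((cr.R_le.trans hWC).trans (normalizes_coreIn q c.C))
      (cr.R_le.trans Subgroup.le_normalizer)).trans Subgroup.inf_normalizer_le_normalizer_inf
  have hp := IsPGroup.to_sup_of_normal_left' ((coreIn_pGroup q c.C).to_le
    (inf_le_left : c.Qc q ⊓ c.W a ≤ _)) cr.R_pg hn
  exact hX.trans ((le_sup_left).trans
    (cr.R_max _ le_sup_right (sup_le inf_le_right cr.R_le) hp).le)

end Cross

/-- The four-group of `a` is inside the preimage of a socle of `H`. -/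
structure Inner (c : Core G) (a : G) (H : Subgroup G) : Prop where
  z_mem : c.d.z ∈ H
  a_mem : a ∈ H
  sock : Nonempty (Sock H)
  z_soc : (⟨c.d.z, z_mem⟩ : H) ∈ socPre H
  a_soc : (⟨a, a_mem⟩ : H) ∈ socPre H

variable {q : ℕ} [hq : Fact q.Prime] {X : Subgroup G}

theorem Refl.normalizer_ne_top (ha : c.Refl a) (hX0 : X ≠ ⊥) (hX : X ≤ c.W a) :
    Subgroup.normalizer (X : Set G) ≠ ⊤ := by
  intro e
  haveI := c.simple
  haveI : X.Normal := Subgroup.normalizer_eq_top_iff.1 e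
  rcases (inferInstance : X.Normal).eq_bot_or_eq_top with h | h
  · exact hX0 h
  · exact c.C_ne_top (top_le_iff.1 (h ▸ ((hX.trans ha.W_le).trans c.U_le)))

/-- An overgroup of the normaliser of a subgroup of `O_q(C) ∩ W` has a layer. -/
theorem Cross.layer_ne_bot (cr : c.Cross a q) (ha : c.Refl a) (hq2 : q ≠ 2) (hC : IsCoatom c.C)
    (hX0 : X ≠ ⊥) (hX : X ≤ c.Qc q ⊓ c.W a) {N : Subgroup G} (hN : IsCoatom N)
    (hXN : Subgroup.normalizer (X : Set G) ≤ N) : Cfsg.layer N ≠ ⊥ := by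
  haveI := c.simple
  intro hl
  have hXR := cr.le_R ha hX
  have hcN : Subgroup.centralizer (cr.R : Set G) ≤ N :=
    ((Subgroup.centralizer_le hXR).trans (Subgroup.centralizer_le_normalizer _)).trans hXN
  have hzN : c.d.z ∈ N := hcN (cr.z_cent_R ha)
  have hQF : X ≤ fitIn c.C := (hX.trans inf_le_left).trans (coreIn_le_fit hq.out _)
  have hQN : (Cfsg.generalizedFittingSubgroup ↥c.C).map c.C.subtype ⊓
      Subgroup.normalizer (X : Set G) ≤ N := inf_le_right.trans hXN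
  have h2 : coreIn 2 c.C ≠ ⊥ := fun e => c.d.z_ne (Subgroup.mem_bot.1 (e ▸ c.z_core_two))
  have hqne : coreIn q c.C ≠ ⊥ := fun e => hX0 (le_bot_iff.1 (e ▸ hX.trans inf_le_left))
  haveI : Fact (Nat.Prime 2) := ⟨Nat.prime_two⟩
  have hin : ∀ s : ℕ, s.Prime → coreIn s c.C ≠ ⊥ → coreIn s N ≤ c.C := by
    intro s hs hne
    haveI := Fact.mk hs
    by_cases h : s = 2
    · exact part_i hC hQF hQN (fun e => hq2 (e.trans h)) hqne hne
    · exact part_i hC hQF hQN (Ne.symm h) h2 hne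
  set h := cr.h with hh
  have hhN : h ∈ N := hcN cr.h_cent
  have hhz : c.d.z * h * c.d.z⁻¹ = h⁻¹ := cr.h_z ha
  have key : ∀ s : ℕ, s.Prime → ∀ y ∈ coreIn s N, h * h * y = y * (h * h) := by
    intro s hs y hy
    haveI := Fact.mk hs
    have hy' : h * y * h⁻¹ ∈ coreIn s N :=
      (Subgroup.mem_normalizer_iff.1 (normalizes_coreIn s N hhN) y).1 hy
    have e1 : c.d.z * (h * y * h⁻¹) * c.d.z⁻¹ = h⁻¹ * (c.d.z * y * c.d.z⁻¹) * h := by
      calc c.d.z * (h * y * h⁻¹) * c.d.z⁻¹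
          = c.d.z * h * c.d.z⁻¹ * (c.d.z * y * c.d.z⁻¹) * (c.d.z * h * c.d.z⁻¹)⁻¹ := by group
        _ = h⁻¹ * (c.d.z * y * c.d.z⁻¹) * h := by rw [hhz, inv_inv]
    suffices h⁻¹ * y * h = h * y * h⁻¹ by
      calc h * h * y = h * (h * y * h⁻¹) * h := by group
        _ = h * (h⁻¹ * y * h) * h := by rw [this]
        _ = y * (h * h) := by group
    by_cases hne : coreIn s c.C = ⊥
    · have hd := part_ii hC hQF hQN hne
      have hinv := inverts_of_fpf c.z_order (D := coreIn s N)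
        (fun w hw => (Subgroup.mem_normalizer_iff.1 (normalizes_coreIn s N hzN) w).1 hw)
        (fun w hw hwz => Subgroup.mem_bot.1 (hd ▸ ⟨hw, c.mem_C.2 hwz.symm⟩))
      rw [hinv _ hy', hinv _ hy] at e1
      exact inv_injective (by rw [e1]; group)
    · have hcent : ∀ w ∈ coreIn s N, c.d.z * w * c.d.z⁻¹ = w := fun w hw => by
        rw [← c.mem_C.1 (hin s hs hne hw), mul_inv_cancel_right]
      rw [hcent _ hy', hcent _ hy] at e1
      exact e1.symm
  have hfit : (⟨h * h, mul_mem hhN hhN⟩ : N) ∈ Cfsg.fittingSubgroup N := by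
    have h1 : (⟨h * h, mul_mem hhN hhN⟩ : N) ∈
        Subgroup.centralizer (Cfsg.fittingSubgroup N : Set N) := by
      refine Subgroup.mem_centralizer_iff.2 fun y hy => Subtype.ext ?_
      have hle : fitIn N ≤ Subgroup.centralizer ({h * h} : Set G) := fitIn_le_iff.2 fun s hs w hw =>
        Subgroup.mem_centralizer_singleton_iff.2 (key s hs w hw).symm
      exact Subgroup.mem_centralizer_singleton_iff.1 (hle ⟨y, hy, rfl⟩)
    have h3 := Components.centralizer_generalizedFitting_le (G := N) (by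
      rw [Cfsg.generalizedFittingSubgroup, hl, bot_sup_eq]; exact h1)
    rwa [Cfsg.generalizedFittingSubgroup, hl, bot_sup_eq] at h3
  have hho : Odd (orderOf h) := cr.h_order ▸ cr.u_odd
  have hmem : h ∈ fitIn N := by
    obtain ⟨j, hj⟩ := hho
    have : h = (h * h) ^ (j + 1) := by
      rw [← pow_two, ← pow_mul, show 2 * (j + 1) = orderOf h + 1 by omega, pow_succ, pow_orderOf_eq_one,
        one_mul]
    rw [this]
    exact pow_mem (show h * h ∈ fitIn N from ⟨_, hfit, rfl⟩) _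
  obtain ⟨k, hk⟩ := cr.u_pow
  have hhC : h ∈ c.C := hin q hq.out hqne (pSub_le_coreIn
    (IsPGroup.of_card (n := k) (by rw [Nat.card_zpowers, cr.h_order, hk]))
    (Subgroup.zpowers_le.2 hmem) (Subgroup.mem_zpowers h))
  exact Cross.not_fixed_inverted cr.h_ne hho (by rw [← c.mem_C.1 hhC, mul_inv_cancel_right]) hhz

theorem sock_of_layer {N : Subgroup G} (hs : Shape (N ⧸ Cfsg.oddCore N)) (hl : Cfsg.layer N ≠ ⊥) :
    Nonempty (Sock N) := by
  refine sock_of_not_solvable hs fun hsol => ?_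
  haveI := hsol
  haveI : Nontrivial (Cfsg.layer N) := (Subgroup.nontrivial_iff_ne_bot _).2 hl
  haveI : Group.IsPerfect (Cfsg.layer N) := Subgroup.isPerfect_iff.2 Components.layer_commutator_eq
  exact (Group.IsSolvable.commutator_lt_top_of_nontrivial (Cfsg.layer N)).ne
    Group.IsPerfect.commutator_eq_top

/-- Some involution of the four-group centralises the odd core of a subgroup of `N` modulo that
of `N`. -/
theorem Refl.four_core (ha : c.Refl a) {H N : Subgroup G} (hle : H ≤ N) (hN : N ≠ ⊤) (hz : c.d.z ∈ H)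
    (haH : a ∈ H) : ∃ v : G, (v = c.d.z ∨ v = a ∨ v = c.d.z * a) ∧ ∀ o ∈ Cfsg.oddCore H,
      ∃ y ∈ Cfsg.oddCore N, (y : G) = v * (o : G) * v⁻¹ * (o : G)⁻¹ := by
  haveI := oddCore_normal (X := H)
  set zN : N := ⟨c.d.z, hle hz⟩
  set aN : N := ⟨a, hle haH⟩
  have hzo : orderOf zN = 2 := by rw [← Subgroup.orderOf_coe]; exact c.z_order
  have hao : orderOf aN = 2 := by rw [← Subgroup.orderOf_coe]; exact ha.order
  have hd : DihSylow N := ha.dihSylow N (hle hz) (hle haH)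
  have hne : mo N zN ≠ mo N aN := by
    intro e
    have hm : zN⁻¹ * aN ∈ Cfsg.oddCore N :=
      (mo_ker _).1 (by rw [map_mul, map_inv, e, inv_mul_cancel])
    have := eq_one_of_sq_odd (z := zN⁻¹ * aN) (Subtype.ext (by
      show (c.d.z⁻¹ * a) * (c.d.z⁻¹ * a) = 1
      rw [inv_eq_of_mul_eq_one_right c.d.zz, ha.mul_z.sq])) (odd_of_mem_core hm)
    exact ha.ne_z (congrArg Subtype.val (inv_mul_eq_one.1 this)).symm
  set D := (Cfsg.oddCore H).map ((mo N).comp (Subgroup.inclusion hle)) with hD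
  have hDo : Odd (Nat.card D) := oddCore_odd.of_dvd_nat (Subgroup.card_map_dvd _ _)
  have hnorm : ∀ w : H, ∀ x ∈ D, mo N (Subgroup.inclusion hle w) * x *
      (mo N (Subgroup.inclusion hle w))⁻¹ ∈ D := by
    rintro w _ ⟨o, ho, rfl⟩
    refine ⟨w * o * w⁻¹, (oddCore_normal (X := H)).conj_mem o ho w, ?_⟩
    simp only [map_mul, map_inv, MonoidHom.comp_apply]
  have hcv : ∀ w : H, (∀ x ∈ D, mo N (Subgroup.inclusion hle w) * x = x * mo N (Subgroup.inclusion hle w)) →
      ∀ o ∈ Cfsg.oddCore H, ∃ y ∈ Cfsg.oddCore N, (y : G) = (w : G) * (o : G) * (w : G)⁻¹ * (o : G)⁻¹ := by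
    intro w hw o ho
    refine ⟨Subgroup.inclusion hle (w * o * w⁻¹ * o⁻¹), (mo_ker _).1 ?_, rfl⟩
    have := hw _ ⟨o, ho, rfl⟩
    simp only [map_mul, map_inv, MonoidHom.comp_apply] at this ⊢
    rw [this, mul_inv_cancel_right, mul_inv_cancel]
  rcases four_odd (hd.quotient _ oddCore_odd) (ha.shape N hN (hle hz) (hle haH)) (invol_mo hzo)
    (invol_mo hao) hne (by rw [← map_mul, ← map_mul]; exact congrArg _ (Subtype.ext ha.comm.symm)) hDo
    (hnorm ⟨c.d.z, hz⟩) (hnorm ⟨a, haH⟩) with h | h | h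
  · exact ⟨_, Or.inl rfl, hcv ⟨c.d.z, hz⟩ h⟩
  · exact ⟨_, Or.inr (Or.inl rfl), hcv ⟨a, haH⟩ h⟩
  · refine ⟨_, Or.inr (Or.inr rfl), hcv ⟨c.d.z * a, mul_mem hz haH⟩ fun x hx => ?_⟩
    have := h x hx
    rwa [← map_mul] at this

/-- The four-group is inner in the centraliser of the Sylow subgroup and centralises the odd core of
every overgroup with a layer. -/
theorem Cross.inner (cr : c.Cross a q) (ha : c.Refl a) {N : Subgroup G} (hN : N ≠ ⊤)
    (hcN : Subgroup.centralizer (cr.R : Set G) ≤ N) (hl : Cfsg.layer N ≠ ⊥) :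
    c.Inner a (Subgroup.centralizer (cr.R : Set G)) := by
  classical
  set H := Subgroup.centralizer (cr.R : Set G) with hH
  have hzH := cr.z_cent_R ha
  have haH := cr.a_cent_R ha
  have hHt : H ≠ ⊤ := fun e => hN (top_le_iff.1 (e ▸ hcN))
  have hd := ha.dihSylow H hzH haH
  have hu' : orderOf (⟨cr.u, cr.u_cent⟩ : H) = orderOf cr.u := by rw [← Subgroup.orderOf_coe]
  -- the conjugation by the rotation
  let φ : H ≃* H :=
    { toFun := fun y => ⟨cr.g * (y : G) * cr.g⁻¹, cr.g_cent y.2⟩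
      invFun := fun y => ⟨cr.g⁻¹ * (y : G) * cr.g, by
        have := (Subgroup.mem_normalizer_iff.1 (inv_mem
          ((Cfsg.Agent.Components.normalizer_le_normalizer_centralizer _) cr.g_norm)) (y : G)).1 y.2
        rwa [inv_inv] at this⟩
      left_inv := fun y => Subtype.ext (by simp [mul_assoc])
      right_inv := fun y => Subtype.ext (by simp [mul_assoc])
      map_mul' := fun y y' => Subtype.ext (by simp [mul_assoc]) }
  have hnotO : (⟨cr.u, cr.u_cent⟩ : H) ∉ Cfsg.oddCore H := by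
    intro hu
    have hh : (⟨cr.h, cr.h_cent⟩ : H) ∈ Cfsg.oddCore H :=
      map_oddCore_le φ ⟨_, hu, rfl⟩
    have hh2 : (⟨cr.h2, cr.h2_cent⟩ : H) ∈ Cfsg.oddCore H := map_oddCore_le φ ⟨_, hh, rfl⟩
    obtain ⟨v, hv, hcore⟩ := ha.four_core hcN hN hzH haH
    obtain ⟨SN⟩ := sock_of_layer (ha.shape N hN (hcN hzH) (hcN haH)) hl
    have hzo : orderOf (⟨c.d.z, hcN hzH⟩ : N) = 2 := by rw [← Subgroup.orderOf_coe]; exact c.z_order
    have hao : orderOf (⟨a, hcN haH⟩ : N) = 2 := by rw [← Subgroup.orderOf_coe]; exact ha.order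
    have hzao : orderOf (⟨c.d.z, hcN hzH⟩ * ⟨a, hcN haH⟩ : N) = 2 := by
      rw [← Subgroup.orderOf_coe]; exact ha.z_mul_order
    -- squares of inverted elements lie in the odd core
    have hmem : ∀ y : H, y ∈ Cfsg.oddCore H → v * (y : G) * v⁻¹ = (y : G)⁻¹ →
        Subgroup.inclusion hcN y ∈ Cfsg.oddCore N := by
      intro y hy hinv
      obtain ⟨w, hw, hwy⟩ := hcore y hy
      rw [hinv] at hwy
      have hw' : Subgroup.inclusion hcN (y * y) ∈ Cfsg.oddCore N := by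
        have e : Subgroup.inclusion hcN (y * y) = w⁻¹ := Subtype.ext (by
          show (y : G) * (y : G) = (w : G)⁻¹
          rw [hwy, mul_inv_rev, inv_inv])
        rw [e]; exact inv_mem hw
      obtain ⟨j, hj⟩ := odd_of_mem_core hy
      have e : y = (y * y) ^ (j + 1) := by
        rw [← pow_two, ← pow_mul, show 2 * (j + 1) = orderOf y + 1 by omega, pow_succ, pow_orderOf_eq_one,
          one_mul]
      rw [e, map_pow]
      exact pow_mem hw' _
    have huo := cr.u_odd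
    obtain ⟨v0, hv0, hv0c⟩ : ∃ v0 : G, (v0 = c.d.z ∨ v0 = a ∨ v0 = c.d.z * a) ∧
        ∀ y : H, Subgroup.inclusion hcN y ∈ Cfsg.oddCore N → v0 * (y : G) * v0⁻¹ = y := by
      rcases SN.exists_inner (ha.dihSylow N (hcN hzH) (hcN haH)) hzo hao
        (fun e => ha.ne_z (congrArg Subtype.val e).symm) (Subtype.ext ha.comm.symm) with h | h | h
      · exact ⟨_, Or.inl rfl, fun y hy => mul_inv_eq_iff_eq_mul.2
          (congrArg Subtype.val (SN.invol_comm_core hl hzo h _ hy))⟩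
      · exact ⟨_, Or.inr (Or.inl rfl), fun y hy => mul_inv_eq_iff_eq_mul.2
          (congrArg Subtype.val (SN.invol_comm_core hl hao h _ hy))⟩
      · exact ⟨_, Or.inr (Or.inr rfl), fun y hy => mul_inv_eq_iff_eq_mul.2
          (congrArg Subtype.val (SN.invol_comm_core hl hzao h _ hy))⟩
    rcases hv with rfl | rfl | rfl
    · have f1 := hv0c _ (hmem _ hh (cr.h_z ha))
      have f2 := hv0c _ (hmem _ hh2 cr.h2_z)
      rcases hv0 with rfl | rfl | rfl
      · exact Cross.not_fixed_inverted cr.h_ne (cr.h_order ▸ huo) f1 (cr.h_z ha)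
      · exact Cross.not_fixed_inverted cr.h2_ne (cr.h2_order ▸ huo) f2 (cr.h2_a ha)
      · exact Cross.not_fixed_inverted cr.h_ne (cr.h_order ▸ huo) f1 cr.h_za
    · have f1 := hv0c _ (hmem _ hu cr.u_inv)
      have f2 := hv0c _ (hmem _ hh2 (cr.h2_a ha))
      rcases hv0 with rfl | rfl | rfl
      · exact Cross.not_fixed_inverted cr.h2_ne (cr.h2_order ▸ huo) f2 cr.h2_z
      · exact Cross.not_fixed_inverted cr.u_ne huo f1 cr.u_inv
      · exact Cross.not_fixed_inverted cr.u_ne huo f1 (cr.u_za ha)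
    · have f1 := hv0c _ (hmem _ hu (cr.u_za ha))
      have f2 := hv0c _ (hmem _ hh cr.h_za)
      rcases hv0 with rfl | rfl | rfl
      · exact Cross.not_fixed_inverted cr.h_ne (cr.h_order ▸ huo) f2 (cr.h_z ha)
      · exact Cross.not_fixed_inverted cr.u_ne huo f1 cr.u_inv
      · exact Cross.not_fixed_inverted cr.u_ne huo f1 (cr.u_za ha)
  set zH : H := ⟨c.d.z, hzH⟩ with hzHd
  set aH : H := ⟨a, haH⟩ with haHd
  have hzo : orderOf zH = 2 := by rw [← Subgroup.orderOf_coe]; exact c.z_order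
  have hao : orderOf aH = 2 := by rw [← Subgroup.orderOf_coe]; exact ha.order
  obtain ⟨S⟩ := sock_of_odd_commute (ha.shape H hHt hzH haH) (u := (⟨cr.u, cr.u_cent⟩ : H))
    (by rw [hu']; exact cr.u_odd) hzo (Subtype.ext (c.mem_C.1 (c.U_le cr.u_mem))) hnotO
  have e1 : φ zH = aH := Subtype.ext cr.g_z
  have e2 : φ aH = zH * aH := Subtype.ext cr.g_a
  have e3 : φ (zH * aH) = zH := Subtype.ext cr.g_za
  have step : ∀ y : H, y * y = 1 → y ∈ socPre H → φ y ∈ socPre H := fun y hy h =>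
    socPre_mono φ.toMonoidHom hy h
  have hz2 : zH * zH = 1 := sq_one hzo
  have ha2 : aH * aH = 1 := sq_one hao
  have hza2 : zH * aH * (zH * aH) = 1 := Subtype.ext ha.mul_z.sq
  rcases S.exists_inner hd hzo hao (fun e => ha.ne_z (congrArg Subtype.val e).symm)
    (Subtype.ext ha.comm.symm) with h | h | h
  · exact ⟨hzH, haH, ⟨S⟩, h, (congrArg (· ∈ socPre H) e1).mp (step _ hz2 h)⟩
  · have h' := e3 ▸ step _ hza2 (e2 ▸ step _ ha2 h)
    exact ⟨hzH, haH, ⟨S⟩, h', h⟩
  · have h' := e3 ▸ step _ hza2 h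
    exact ⟨hzH, haH, ⟨S⟩, h', (congrArg (· ∈ socPre H) e1).mp (step _ hz2 h')⟩

theorem Inner.mono {H N : Subgroup G} (h : c.Inner a H) (ha : c.Refl a) (hle : H ≤ N) (hN : N ≠ ⊤) :
    c.Inner a N := by
  obtain ⟨hzH, haH, ⟨S⟩, h1, h2⟩ := h
  refine ⟨hle hzH, hle haH, sock_of_not_solvable (ha.shape N hN (hle hzH) (hle haH)) (fun hsol => ?_),
    socPre_mono (Subgroup.inclusion hle) (Subtype.ext c.d.zz) h1,
    socPre_mono (Subgroup.inclusion hle) (Subtype.ext ha.sq) h2⟩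
  haveI := hsol
  haveI : Group.IsSolvable H := Components.isSolvable_mono hle
  haveI := S.simple
  exact S.noncomm ⟨⟨IsSimpleGroup.comm_iff_isSolvable.2 (inferInstance : Group.IsSolvable S.L)⟩⟩

/-- The local structure: between centraliser and normaliser of a subgroup of `O_q(C) ∩ W` the four-group
is inner and centralises the odd core. -/
theorem Cross.local_inner (cr : c.Cross a q) (ha : c.Refl a) (hq2 : q ≠ 2) (hC : IsCoatom c.C)
    (hX0 : X ≠ ⊥) (hX : X ≤ c.Qc q ⊓ c.W a) {H : Subgroup G}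
    (h1 : Subgroup.centralizer (X : Set G) ≤ H) (h2 : H ≤ Subgroup.normalizer (X : Set G)) :
    c.Inner a H ∧ ∀ o ∈ Cfsg.oddCore H, (o : G) * c.d.z = c.d.z * o ∧ (o : G) * a = a * o := by
  haveI := c.simple
  obtain ⟨N, hN, hXN⟩ : ∃ N, IsCoatom N ∧ Subgroup.normalizer (X : Set G) ≤ N :=
    (eq_top_or_exists_le_coatom _).resolve_left (ha.normalizer_ne_top hX0 (hX.trans inf_le_right))
  have hl := cr.layer_ne_bot ha hq2 hC hX0 hX hN hXN
  have hRH : Subgroup.centralizer (cr.R : Set G) ≤ H :=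
    (Subgroup.centralizer_le (cr.le_R ha hX)).trans h1
  have hHN : H ≤ N := h2.trans hXN
  have hK := cr.inner ha hN.1 (hRH.trans hHN) hl
  have hIH := hK.mono ha hRH (fun e => hN.1 (top_le_iff.1 (e ▸ hHN)))
  refine ⟨hIH, ?_⟩
  obtain ⟨hzH, haH, ⟨S⟩, s1, s2⟩ := hIH
  obtain ⟨hzN, haN, ⟨SN⟩, n1, n2⟩ := hK.mono ha (hRH.trans hHN) hN.1
  have hzo : orderOf (⟨c.d.z, hzN⟩ : N) = 2 := by rw [← Subgroup.orderOf_coe]; exact c.z_order
  have hao : orderOf (⟨a, haN⟩ : N) = 2 := by rw [← Subgroup.orderOf_coe]; exact ha.order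
  have hNz : ∀ y ∈ Cfsg.oddCore N, c.d.z * (y : G) = y * c.d.z := fun y hy =>
    congrArg Subtype.val (SN.invol_comm_core hl hzo n1 y hy)
  have hNa : ∀ y ∈ Cfsg.oddCore N, a * (y : G) = y * a := fun y hy =>
    congrArg Subtype.val (SN.invol_comm_core hl hao n2 y hy)
  have hd := ha.dihSylow H hzH haH
  have hzo' : orderOf (⟨c.d.z, hzH⟩ : H) = 2 := by rw [← Subgroup.orderOf_coe]; exact c.z_order
  have hao' : orderOf (⟨a, haH⟩ : H) = 2 := by rw [← Subgroup.orderOf_coe]; exact ha.order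
  have hzao' : orderOf (⟨c.d.z, hzH⟩ * ⟨a, haH⟩ : H) = 2 := by
    rw [← Subgroup.orderOf_coe]; exact ha.z_mul_order
  obtain ⟨v, hv, hvs, hvo, hvc⟩ : ∃ v : H, v * v = 1 ∧ v ∈ socPre H ∧ orderOf v = 2 ∧
      ∀ o ∈ Cfsg.oddCore H, v * o = o * v := by
    obtain ⟨v, hv, hcore⟩ := ha.four_core hHN hN.1 hzH haH
    have hvH : v ∈ H := by rcases hv with rfl | rfl | rfl <;> [exact hzH; exact haH; exact mul_mem hzH haH]
    have hvs : (⟨v, hvH⟩ : H) ∈ socPre H ∧ orderOf (⟨v, hvH⟩ : H) = 2 ∧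
        ∀ y ∈ Cfsg.oddCore N, v * (y : G) = y * v := by
      rcases hv with rfl | rfl | rfl
      · exact ⟨s1, hzo', hNz⟩
      · exact ⟨s2, hao', hNa⟩
      · refine ⟨mul_mem s1 s2, hzao', fun y hy => ?_⟩
        exact ((show Commute c.d.z (y : G) from hNz y hy).mul_left (hNa y hy)).eq
    refine ⟨⟨v, hvH⟩, sq_one hvs.2.1, hvs.1, hvs.2.1, fun o ho => Subtype.ext ?_⟩
    obtain ⟨y, hy, e⟩ := hcore o ho
    have hvv : v * v = 1 := congrArg Subtype.val (sq_one hvs.2.1)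
    have hfix : v * (y : G) * v⁻¹ = y := by rw [hvs.2.2 y hy, mul_inv_cancel_right]
    have hinv : v * (y : G) * v⁻¹ = (y : G)⁻¹ := by
      rw [e]
      calc v * (v * (o : G) * v⁻¹ * (o : G)⁻¹) * v⁻¹
          = (v * v) * (o : G) * v⁻¹ * (o : G)⁻¹ * v⁻¹ := by group
        _ = (o : G) * v * (o : G)⁻¹ * v⁻¹ := by
          rw [hvv, one_mul, inv_eq_of_mul_eq_one_right hvv]
        _ = (v * (o : G) * v⁻¹ * (o : G)⁻¹)⁻¹ := by group
    have hy1 : (y : G) = 1 := eq_one_of_sq_odd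
      (by nth_rewrite 1 [hfix.symm.trans hinv]; rw [inv_mul_cancel])
      (by rw [Subgroup.orderOf_coe]; exact odd_of_mem_core hy)
    rw [hy1, eq_comm, mul_inv_eq_one, mul_inv_eq_iff_eq_mul] at e
    exact e
  intro o ho
  exact ⟨(congrArg Subtype.val (S.core_cent hd hvo hzo' hvs s1 hvc o ho)).symm,
    (congrArg Subtype.val (S.core_cent hd hvo hao' hvs s2 hvc o ho)).symm⟩

end Core

end Cfsg.Agent.GW
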