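import Cfsg.Agent.Lib.GW.NoNormal

/-!
A reflection mixed on an elementary abelian normal subgroup of `C`: the inverted part is a line, and
either it is normal in `C` or the subgroup is a plane.
-/

set_option autoImplicit false
set_option linter.unusedSectionVars false
set_option linter.style.haveILetI false

namespace Cfsg.Agent.GW

open Cfsg.Agent.TwoFus Cfsg.Agent.BenderUnique Subgroup

universe u

namespace Core

variable {G : Type u} [Group G] [Finite G] (c : Core G)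

/-- The numerical facts of a section containing the four-group of `a` in the preimage of its socle. -/
def SecData (a : G) (H : Subgroup G) : Prop :=
  ∃ (T : Subgroup G) (cc : ℕ), IsCyclic T ∧
    (∀ y, y ∈ T ↔ y ∈ H ∧ y ∈ c.U ∧ a * y * a⁻¹ = y⁻¹) ∧ 4 * Nat.card T ≤ cc ∧
    2 * (centralizer ({a} : Set G)).relIndex (H ⊓ c.C) ≤ cc ∧
    (∀ w ∈ H ⊓ c.C, w * w = 1 → ∀ y ∈ T, y ≠ 1 → w * y * w⁻¹ = y⁻¹ →
      ∀ y' ∈ T, ∃ o ∈ Cfsg.oddCore H, w * y' * w⁻¹ * y' = (o : G)) ∧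
    (((cc - 1) * (cc - 2) ≤ 2 * c.C.relIndex H ∧
        ∀ y ∈ T, y ≠ 1 → ∀ g ∈ H, Commute (g * y * g⁻¹) y → g ∈ c.C) ∨
      (cc = 12 ∧ c.C.relIndex H = 105 ∧ ∀ y ∈ T, y ≠ 1 →
        Nat.card {v : G // ∃ g ∈ H, g * c.d.z * g⁻¹ = v ∧ Commute (g * y * g⁻¹) y} ≤ 75))

/-- All sections have these facts. -/
def SecAll : Prop :=
  ∀ (a : G) (H : Subgroup G), c.Refl a → c.Inner a H →
    (∀ o ∈ Cfsg.oddCore H, (o : G) * c.d.z = c.d.z * o ∧ (o : G) * a = a * o) → c.SecData a H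

/-- A reflection mixed on an elementary abelian normal subgroup of `C` inside `O_q(C)`. -/
structure MixAb (a : G) (q : ℕ) (A : Subgroup G) : Prop where
  le : A ≤ c.Qc q
  comm : A ≤ centralizer (A : Set G)
  pow : ∀ y ∈ A, y ^ q = 1
  norm : c.C ≤ normalizer (A : Set G)
  fix : A ⊓ c.W a ≠ ⊥
  move : ¬ A ≤ c.W a

/-- A minimal one. -/
structure MinMix (a : G) (q : ℕ) (A : Subgroup G) : Prop extends c.MixAb a q A where
  min : ∀ Y : Subgroup G, Y < A → Y ≠ ⊥ → c.C ≤ normalizer (Y : Set G) → Y ⊓ c.W a = ⊥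

variable {c} {a : G} {q : ℕ} [hq : Fact q.Prime] {A : Subgroup G}

/-- A reflection inverts the rotations. -/
theorem Refl.inv_x (ha : c.Refl a) : a * c.d.x * a⁻¹ = c.d.x⁻¹ := by
  obtain ⟨i, hi⟩ : ∃ i : ℤ, a = c.d.x ^ i * c.d.y := by
    rcases c.d.cases a ha.1 with ⟨i, hi⟩ | hi
    · exact absurd (hi ▸ zpow_mem (Subgroup.mem_zpowers _) i) ha.2
    · exact hi
  calc a * c.d.x * a⁻¹ = c.d.x ^ i * (c.d.y * c.d.x * c.d.y⁻¹) * (c.d.x ^ i)⁻¹ := by rw [hi]; group
    _ = c.d.x⁻¹ := by rw [c.d.inv]; group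

namespace MixAb

variable (h : c.MixAb a q A)

include h

theorem conj_mem {g : G} (hg : g ∈ c.C) {y : G} (hy : y ∈ A) : g * y * g⁻¹ ∈ A :=
  (mem_normalizer_iff.1 (h.norm hg) y).1 hy

theorem le_C : A ≤ c.C := h.le.trans (c.Qc_le_C q)

theorem le_U (hq2 : q ≠ 2) : A ≤ c.U := h.le.trans (c.Qc_le_U hq2)

theorem mixed : c.Mixed a q :=
  ⟨fun e => h.fix (le_bot_iff.1 (e ▸ inf_le_inf_right _ h.le)), fun e => h.move (h.le.trans e)⟩

theorem exists_cross (ha : c.Refl a) (hq2 : q ≠ 2) : Nonempty (c.Cross a q) :=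
  ha.exists_cross hq2 h.mixed.2

theorem order {y : G} (hy : y ∈ A) (hy1 : y ≠ 1) : orderOf y = q :=
  orderOf_eq_prime (h.pow y hy) hy1

theorem exists_min (ha : c.Refl a) (hC : IsCoatom c.C) (hq2 : q ≠ 2) :
    ∃ B, c.MinMix a q B := by
  classical
  induction hn : Nat.card A using Nat.strong_induction_on generalizing A with
  | _ n ih =>
    subst hn
    by_cases hmin : ∀ Y : Subgroup G, Y < A → Y ≠ ⊥ → c.C ≤ normalizer (Y : Set G) → Y ⊓ c.W a = ⊥
    · exact ⟨A, h, hmin⟩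
    push Not at hmin
    obtain ⟨Y, hYA, hY0, hYn, hYW⟩ := hmin
    refine ih _ ?_ (A := Y) ⟨hYA.le.trans h.le, hYA.le.trans (h.comm.trans (centralizer_le hYA.le)),
      fun y hy => h.pow y (hYA.le hy), hYn, hYW, fun hle => ?_⟩ rfl
    · exact lt_of_le_of_ne (card_le_of_le hYA.le) fun e => hYA.ne (eq_of_le_of_card_ge hYA.le e.ge)
    · exact ha.no_normal hC hq2 h.mixed hY0 (le_inf (hYA.le.trans h.le) hle) hYn

/-- Sections above a part of the fixed subgroup. -/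
theorem local_inner (ha : c.Refl a) (hC : IsCoatom c.C) (hq2 : q ≠ 2) {X H : Subgroup G}
    (hX0 : X ≠ ⊥) (hX : X ≤ A ⊓ c.W a) (h1 : centralizer (X : Set G) ≤ H)
    (h2 : H ≤ normalizer (X : Set G)) :
    c.Inner a H ∧ ∀ o ∈ Cfsg.oddCore H, (o : G) * c.d.z = c.d.z * o ∧ (o : G) * a = a * o := by
  obtain ⟨cr⟩ := h.exists_cross ha hq2
  exact cr.local_inner ha hq2 hC hX0 (hX.trans (inf_le_inf_right _ h.le)) h1 h2

/-- An element of `A` is a product of an inverted and a fixed one. -/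
theorem split (ha : c.Refl a) (hq2 : q ≠ 2) {y : G} (hy : y ∈ A) :
    ∃ r ∈ A, a * r * a⁻¹ = r⁻¹ ∧ r⁻¹ * y ∈ A ⊓ c.W a := by
  obtain ⟨r, -, hr, hw, hrz⟩ := ha.decomp (h.le_U hq2 hy)
  have hrA : r ∈ A := (zpowers_le.2 (A.mul_mem hy (h.conj_mem ha.mem_C (A.inv_mem hy)))) hrz
  exact ⟨r, hrA, hr, A.mul_mem (A.inv_mem hrA) hy, hw⟩

/-- The inverted part is a line. -/
theorem exists_line (ha : c.Refl a) (hC : IsCoatom c.C) (hq2 : q ≠ 2) (hS : c.SecAll) :
    ∃ f ∈ A, f ≠ 1 ∧ a * f * a⁻¹ = f⁻¹ ∧ ∀ y ∈ A, a * y * a⁻¹ = y⁻¹ → y ∈ zpowers f := by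
  obtain ⟨hI, hO⟩ := h.local_inner ha hC hq2 (X := A ⊓ c.W a) h.fix le_rfl le_rfl
    (centralizer_le_normalizer _)
  obtain ⟨T, cc, hT, hmem, -⟩ := hS a _ ha hI hO
  obtain ⟨y, hy, hyW⟩ := SetLike.not_le_iff_exists.1 h.move
  obtain ⟨f, hfA, hf, hw⟩ := h.split ha hq2 hy
  have hf1 : f ≠ 1 := fun e => hyW (by rw [e, inv_one, one_mul] at hw; exact hw.2)
  refine ⟨f, hfA, hf1, hf, fun r hrA hr => ?_⟩
  have hAT : ∀ r ∈ A, a * r * a⁻¹ = r⁻¹ → r ∈ T := fun r hr hi =>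
    (hmem r).2 ⟨(h.comm.trans (centralizer_le inf_le_left)) hr, h.le_U hq2 hr, hi⟩
  haveI := hT
  obtain ⟨⟨g, hgT⟩, hg⟩ := IsCyclic.exists_generator (α := T)
  have key : ∀ r ∈ A, a * r * a⁻¹ = r⁻¹ → ∀ z : T, (z : G) = r → ∃ i : ℤ, g ^ i = r := by
    intro r _ _ z hz
    obtain ⟨i, hi⟩ := hg z
    exact ⟨i, by rw [← hz, ← hi]; rfl⟩
  classical
  haveI : Fintype T := Fintype.ofFinite T
  by_contra hne
  have hcard := IsCyclic.card_pow_eq_one_le (α := T) (n := q) (Fact.out : q.Prime).pos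
  have hfr : zpowers (⟨f, hAT f hfA hf⟩ : T) ≤ zpowers (⟨f, hAT f hfA hf⟩ : T) := le_rfl
  let s : Finset T := insert ⟨r, hAT r hrA hr⟩ (Finset.univ.filter fun t => t ∈ zpowers (⟨f, hAT f hfA hf⟩ : T))
  have hnot : (⟨r, hAT r hrA hr⟩ : T) ∉ Finset.univ.filter fun t => t ∈ zpowers (⟨f, hAT f hfA hf⟩ : T) := by
    intro hm
    obtain ⟨i, hi⟩ := (Finset.mem_filter.1 hm).2
    exact hne ⟨i, congrArg Subtype.val hi⟩
  have hs : s ⊆ Finset.univ.filter fun t : T => t ^ q = 1 := by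
    intro t ht
    refine Finset.mem_filter.2 ⟨Finset.mem_univ _, Subtype.ext ?_⟩
    rcases Finset.mem_insert.1 ht with rfl | ht
    · exact h.pow r hrA
    · obtain ⟨i, rfl⟩ := (Finset.mem_filter.1 ht).2
      exact h.pow _ (zpow_mem hfA i)
  have hsc : q + 1 ≤ s.card := by
    rw [Finset.card_insert_of_notMem hnot]
    refine Nat.succ_le_succ (le_of_eq ?_)
    rw [← Fintype.card_subtype, ← Nat.card_eq_fintype_card]
    exact ((orderOf_coe _).symm.trans (h.order hfA hf1)).symm.trans (Nat.card_zpowers _).symm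
  have := (Finset.card_le_card hs).trans hcard
  omega

theorem card_eq (ha : c.Refl a) (hq2 : q ≠ 2) {f : G} (hfA : f ∈ A) (hf1 : f ≠ 1)
    (hf : a * f * a⁻¹ = f⁻¹) (hline : ∀ y ∈ A, a * y * a⁻¹ = y⁻¹ → y ∈ zpowers f) :
    Nat.card A = q * Nat.card (A ⊓ c.W a : Subgroup G) := by
  let φ : zpowers f × (A ⊓ c.W a : Subgroup G) → A := fun p =>
    ⟨p.1 * p.2, mul_mem ((zpowers_le.2 hfA) p.1.2) p.2.2.1⟩
  have hφ : Function.Bijective φ := by
    constructor
    · rintro ⟨⟨r, hr⟩, ⟨e, he⟩⟩ ⟨⟨r', hr'⟩, ⟨e', he'⟩⟩ heq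
      have heq' : r * e = r' * e' := congrArg Subtype.val heq
      have h1 : r'⁻¹ * r = e' * e⁻¹ := by
        rw [eq_mul_inv_iff_mul_eq, mul_assoc, heq', inv_mul_cancel_left]
      obtain ⟨i, hi⟩ := mul_mem (inv_mem hr') hr
      have hfix : a * (r'⁻¹ * r) = r'⁻¹ * r * a := by
        rw [h1]; exact ((ha.mem_W.1 (mul_mem he'.2 (inv_mem he.2))).2).symm
      have hinv : a * (r'⁻¹ * r) * a⁻¹ = (r'⁻¹ * r)⁻¹ := by
        rw [← hi, ← conj_zpow, hf, inv_zpow]
      rw [hfix, mul_inv_cancel_right] at hinv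
      have hrr : r = r' := (inv_mul_eq_one.1 (eq_one_of_sq_odd
        (by nth_rewrite 1 [hinv]; rw [inv_mul_cancel])
        (c.odd_of_mem_U (h.le_U hq2 (mul_mem (inv_mem ((zpowers_le.2 hfA) hr')) ((zpowers_le.2 hfA) hr)))))).symm
      subst hrr
      obtain rfl := mul_left_cancel heq'
      rfl
    · rintro ⟨y, hy⟩
      obtain ⟨r, hr, hri, hw⟩ := h.split ha hq2 hy
      exact ⟨(⟨r, hline r hr hri⟩, ⟨r⁻¹ * y, hw⟩), Subtype.ext (mul_inv_cancel_left r y)⟩
  rw [← Nat.card_eq_of_bijective φ hφ, Nat.card_prod, Nat.card_zpowers, h.order hfA hf1]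

end MixAb

/-- The inverted line is normal, or the fixed part is one as well. -/
theorem MinMix.plane_or_normal (hm : c.MinMix a q A) (ha : c.Refl a) (hC : IsCoatom c.C) (hq2 : q ≠ 2)
    (hS : c.SecAll) {f : G} (hfA : f ∈ A) (hf1 : f ≠ 1) (hf : a * f * a⁻¹ = f⁻¹)
    (hline : ∀ y ∈ A, a * y * a⁻¹ = y⁻¹ → y ∈ zpowers f)
    (hn : ¬ c.C ≤ normalizer (zpowers f : Set G)) : Nat.card (A ⊓ c.W a : Subgroup G) = q := by
  have h := hm.toMixAb
  by_contra hne
  set E := A ⊓ c.W a with hE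
  have hA := h.card_eq ha hq2 hfA hf1 hf hline
  rw [← hE] at hA
  have hq1 : 1 < q := (Fact.out : q.Prime).one_lt
  obtain ⟨k, hk⟩ : ∃ k, Nat.card E = q ^ k :=
    (((coreIn_pGroup q c.C).to_le (inf_le_left.trans h.le : E ≤ _))).exists_card_eq
  have hk2 : 2 ≤ k := by
    rcases k with _ | _ | k
    · exact absurd (card_eq_one.1 (by rw [hk, pow_zero])) h.fix
    · exact absurd (by rw [hk, zero_add, pow_one]) hne
    · omega
  have hEq : q * q ≤ Nat.card E := by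
    rw [hk, ← pow_two]; exact Nat.pow_le_pow_right (by omega) hk2
  -- every element of `U` normalises the line
  have hU : ∀ u ∈ c.U, u * f * u⁻¹ ∈ zpowers f := by
    intro u hu
    set E' := E.map (MulAut.conj u).toMonoidHom with hE'
    have hE'A : E' ≤ A := by
      rintro _ ⟨e, he, rfl⟩
      exact h.conj_mem (c.U_le hu) he.1
    have hE'card : Nat.card E' = Nat.card E := card_map_of_injective (MulAut.conj u).injective
    have hX0 : E ⊓ E' ≠ ⊥ := by
      intro hb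
      have h1 : E'.relIndex E ≤ E'.relIndex A :=
        relIndex_le_of_le_right inf_le_left (FiniteIndex.index_ne_zero (H := E'.subgroupOf A))
      have h2 : E'.relIndex A * Nat.card E' = Nat.card A := by
        rw [mul_comm, ← relIndex_bot_left, ← relIndex_bot_left]
        exact relIndex_mul_relIndex ⊥ E' A bot_le hE'A
      have h3 : E'.relIndex E = Nat.card E := by
        rw [← inf_relIndex_left, hb, relIndex_bot_left]
      rw [hE'card, hA] at h2
      rw [h3, Nat.eq_of_mul_eq_mul_right Nat.card_pos h2] at h1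
      nlinarith
    obtain ⟨hI, hO⟩ := h.local_inner ha hC hq2 hX0 inf_le_left le_rfl (centralizer_le_normalizer _)
    obtain ⟨T, cc, hT, hmem, -⟩ := hS a _ ha hI hO
    set v := u * a * u⁻¹ * a with hv
    have hvU : v ∈ c.U := by
      have : u * (a * u⁻¹ * a⁻¹) ∈ c.U := mul_mem hu (c.U_conj a ha.mem_C _ (inv_mem hu))
      rw [ha.inv_eq] at this
      rwa [hv, show u * a * u⁻¹ * a = u * (a * u⁻¹ * a) by group]
    have hvi : a * v * a⁻¹ = v⁻¹ := by
      rw [hv]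
      calc a * (u * a * u⁻¹ * a) * a⁻¹ = a * u * a * u⁻¹ := by group
        _ = (u * a * u⁻¹ * a)⁻¹ := by
          rw [mul_inv_rev, mul_inv_rev, mul_inv_rev, inv_inv, ha.inv_eq]
          group
    have hvT : v ∈ T := by
      refine (hmem v).2 ⟨mem_centralizer_iff.2 fun x hx => ?_, hvU, hvi⟩
      have h1 : Commute x a := (ha.mem_W.1 hx.1.2).2
      obtain ⟨e, he, hex⟩ := hx.2
      have h2 : Commute x (u * a * u⁻¹) := by
        rw [← hex]
        show u * e * u⁻¹ * (u * a * u⁻¹) = u * a * u⁻¹ * (u * e * u⁻¹)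
        rw [conj_mul, conj_mul, (ha.mem_W.1 he.2).2]
      exact (h2.mul_right h1).eq
    have hfT : f ∈ T :=
      (hmem f).2 ⟨(h.comm.trans (centralizer_le (inf_le_left.trans inf_le_left))) hfA, h.le_U hq2 hfA, hf⟩
    haveI := hT
    letI := IsCyclic.commGroup (α := T)
    have hcm : v * f = f * v := congrArg Subtype.val (mul_comm (⟨v, hvT⟩ : T) ⟨f, hfT⟩)
    -- the conjugate reflection inverts `f`
    have hua : u * a * u⁻¹ = v * a := by rw [hv, mul_assoc (u * a * u⁻¹), ha.sq, mul_one]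
    have hr : a * (u⁻¹ * f * u) * a⁻¹ = (u⁻¹ * f * u)⁻¹ := by
      calc a * (u⁻¹ * f * u) * a⁻¹ = u⁻¹ * ((u * a * u⁻¹) * f * (u * a * u⁻¹)⁻¹) * u := by group
        _ = u⁻¹ * (v * (a * f * a⁻¹) * v⁻¹) * u := by rw [hua]; group
        _ = u⁻¹ * (v * f * v⁻¹)⁻¹ * u := by rw [hf]; group
        _ = (u⁻¹ * f * u)⁻¹ := by rw [hcm, mul_inv_cancel_right]; group
    have hmem' : u⁻¹ * f * u ∈ A := by
      have := h.conj_mem (c.U_le (inv_mem hu)) hfA
      rwa [inv_inv] at this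
    obtain ⟨i, hi⟩ := hline _ hmem' hr
    have hor : orderOf (u⁻¹ * f * u) = q := by
      refine h.order hmem' fun e => hf1 ?_
      calc f = u * (u⁻¹ * f * u) * u⁻¹ := by group
        _ = 1 := by rw [e, mul_one, mul_inv_cancel]
    -- so `f` is a power of `u⁻¹ f u`
    have hz : zpowers (u⁻¹ * f * u) = zpowers f :=
      eq_of_le_of_card_ge (zpowers_le.2 (hline _ hmem' hr))
        (by rw [Nat.card_zpowers, Nat.card_zpowers, hor, h.order hfA hf1])
    obtain ⟨j, hj⟩ : f ∈ zpowers (u⁻¹ * f * u) := hz.symm ▸ mem_zpowers f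
    refine ⟨j, ?_⟩
    calc f ^ j = u * (u⁻¹ * f * u) ^ j * u⁻¹ := by
          rw [show u⁻¹ * f * u = u⁻¹ * f * u⁻¹⁻¹ by rw [inv_inv], conj_zpow]; group
      _ = u * f * u⁻¹ := by rw [show (u⁻¹ * f * u) ^ j = f from hj]
  -- the sum with its translate is normal in `C`
  set x := c.d.x with hx
  set f' := x * f * x⁻¹ with hf'
  set Z := zpowers f ⊔ zpowers f' with hZ
  have hxC : x ∈ c.C := c.P_le c.d.hx
  have hf'A : f' ∈ A := h.conj_mem hxC hfA
  have hZA : Z ≤ A := sup_le (zpowers_le.2 hfA) (zpowers_le.2 hf'A)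
  have hZf : f ∈ Z := mem_sup_left (mem_zpowers f)
  have hZf' : f' ∈ Z := mem_sup_right (mem_zpowers f')
  have hg : x⁻¹ * f * x ∈ Z := by
    have hA1 : x⁻¹ * f * x ∈ A := by
      have := h.conj_mem (inv_mem hxC) hfA
      rwa [inv_inv] at this
    have hax : a * x * a⁻¹ = x⁻¹ := ha.inv_x
    have hax' : a * x⁻¹ * a⁻¹ = x := by rw [← conj_inv, hax, inv_inv]
    set p := f' * (x⁻¹ * f * x) with hp
    have hpi : a * p * a⁻¹ = p⁻¹ := by
      rw [hp, hf']
      calc a * (x * f * x⁻¹ * (x⁻¹ * f * x)) * a⁻¹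
          = (a * x * a⁻¹) * (a * f * a⁻¹) * (a * x⁻¹ * a⁻¹) *
            ((a * x⁻¹ * a⁻¹) * (a * f * a⁻¹) * (a * x * a⁻¹)) := by group
        _ = x⁻¹ * f⁻¹ * x * (x * f⁻¹ * x⁻¹) := by rw [hax, hax', hf]
        _ = (x * f * x⁻¹ * (x⁻¹ * f * x))⁻¹ := by simp [mul_inv_rev, mul_assoc]
    have := mem_sup_left (T := zpowers f') (hline p (mul_mem hf'A hA1) hpi)
    have h2 := mul_mem (inv_mem hZf') this
    rwa [hp, inv_mul_cancel_left] at h2
  have hZn : c.C ≤ normalizer (Z : Set G) := by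
    intro g hg'
    obtain ⟨u, hu, s, hs, rfl⟩ := c.U_sup g hg'
    have hUn : ∀ u ∈ c.U, u ∈ normalizer (Z : Set G) := by
      intro u hu
      refine mem_normalizer_fintype fun y hy => ?_
      have hle : Z ≤ Z.comap (MulAut.conj u).toMonoidHom := by
        refine sup_le (zpowers_le.2 (mem_sup_left (hU u hu))) (zpowers_le.2 ?_)
        show u * f' * u⁻¹ ∈ Z
        have hu' : x⁻¹ * u * x ∈ c.U := by
          have := c.U_conj x⁻¹ (inv_mem hxC) u hu
          rwa [inv_inv] at this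
        obtain ⟨i, hi⟩ := hU _ hu'
        refine mem_sup_right ⟨i, ?_⟩
        show f' ^ i = u * f' * u⁻¹
        simp only at hi
        rw [hf', conj_zpow, hi]
        group
      exact hle hy
    have hxn : x ∈ normalizer (Z : Set G) := by
      have hle : Z ≤ Z.comap (MulAut.conj x⁻¹).toMonoidHom := by
        refine sup_le (zpowers_le.2 ?_) (zpowers_le.2 ?_)
        · show x⁻¹ * f * x⁻¹⁻¹ ∈ Z
          rwa [inv_inv]
        · show x⁻¹ * f' * x⁻¹⁻¹ ∈ Z
          rw [hf', show x⁻¹ * (x * f * x⁻¹) * x⁻¹⁻¹ = f by group]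
          exact hZf
      exact inv_mem_iff.1 (mem_normalizer_fintype fun y hy => hle hy)
    have han : a ∈ normalizer (Z : Set G) := by
      have hle : Z ≤ Z.comap (MulAut.conj a).toMonoidHom := by
        refine sup_le (zpowers_le.2 ?_) (zpowers_le.2 ?_)
        · show a * f * a⁻¹ ∈ Z
          rw [hf]; exact inv_mem hZf
        · show a * f' * a⁻¹ ∈ Z
          have hax : a * x * a⁻¹ = x⁻¹ := ha.inv_x
          rw [hf', show a * (x * f * x⁻¹) * a⁻¹ = (a * x * a⁻¹) * (a * f * a⁻¹) * (a * x * a⁻¹)⁻¹ by group,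
            hax, hf, inv_inv, show x⁻¹ * f⁻¹ * x = (x⁻¹ * f * x)⁻¹ by group]
          exact inv_mem hg
      exact mem_normalizer_fintype fun y hy => hle hy
    refine mul_mem (hUn u hu) ?_
    by_cases hsx : s ∈ zpowers x
    · exact (zpowers_le.2 hxn) hsx
    · have h1 := (zpowers_le.2 hxn) (c.d.idx a ha.1 s hs ha.2 hsx)
      have := mul_mem han h1
      rwa [mul_inv_cancel_left] at this
  have hZcard : Nat.card Z ≤ q * q := by
    have hle : zpowers f' ≤ normalizer (zpowers f : Set G) := by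
      refine le_trans ?_ (centralizer_le_normalizer _)
      exact (zpowers_le.2 hf'A).trans (h.comm.trans (centralizer_le (zpowers_le.2 hfA)))
    have := Set.natCard_mul_le (s := (zpowers f : Set G)) (t := (zpowers f' : Set G))
    rw [← coe_mul_of_right_le_normalizer_left _ _ hle, ← hZ] at this
    refine le_trans this (le_of_eq ?_)
    show Nat.card (zpowers f) * Nat.card (zpowers f') = q * q
    rw [Nat.card_zpowers, Nat.card_zpowers, h.order hfA hf1, h.order hf'A fun e => hf1 (conj_eq_one_iff.1 e)]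
  have hlt : Z < A := lt_of_le_of_ne hZA fun e => by rw [e, hA] at hZcard; nlinarith
  have hZW := hm.min Z hlt (fun e => hf1 (mem_bot.1 (e ▸ hZf))) hZn
  -- everything in `Z` is inverted
  refine hn (fun g hg' => ?_)
  have hZeq : Z = zpowers f := by
    refine le_antisymm (fun y hy => ?_) (zpowers_le.2 hZf)
    obtain ⟨r, hr, hri, hw⟩ := h.split ha hq2 (hZA hy)
    have hrZ : r ∈ Z := mem_sup_left (hline r hr hri)
    have : r⁻¹ * y ∈ Z ⊓ c.W a := ⟨Z.mul_mem (Z.inv_mem hrZ) hy, hw.2⟩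
    rw [hZW, mem_bot, inv_mul_eq_one] at this
    exact this ▸ hline r hr hri
  exact hZeq ▸ hZn hg'

end Core

end Cfsg.Agent.GW
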