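import Cfsg.Agent.Lib.GW.Inverted
import Cfsg.Agent.Lib.LocalEven.Coprime
import Cfsg.Agent.Lib.OddChar.OddTheorem
import Cfsg.Agent.Lib.GW.Index

/-!
The unmixed situation: when no reflection is mixed on some `O_q(C)`, the elements of `U` inverted by a
reflection lie in the Fitting subgroup and `U` is this times the fixed points of `P`.
-/

set_option autoImplicit false
set_option linter.unusedSectionVars false
set_option linter.style.haveILetI false

namespace Cfsg.Agent.GW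

open Cfsg.Agent.TwoFus Cfsg.Agent.BenderUnique

universe u

namespace Core

variable {G : Type u} [Group G] [Finite G] (c : Core G) {a : G}

/-- No reflection is mixed on some `O_q(C)`. -/
def NoMixed : Prop :=
  ∀ q : ℕ, q.Prime → q ≠ 2 → ∀ a : G, c.Refl a → c.Qc q ⊓ c.W a ≠ ⊥ → c.Qc q ≤ c.W a

/-- The configuration left open for a Sylow subgroup of order eight. -/
def Exotic (a : G) : Prop :=
  c.Refl a ∧ c.d.m = 4 ∧ ∃ s : ℕ, s.Prime ∧ s ≠ 2 ∧ c.Qc s ≠ ⊥ ∧ c.Qc s ≤ c.W a ∧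
    c.Qc s ⊓ c.W (c.d.x * a) = ⊥

/-- The Fitting subgroup of `U`. -/
def fit : Subgroup G := fitIn c.C ⊓ c.U

theorem fit_le : c.fit ≤ c.U := inf_le_right

theorem Qc_le_fit {q : ℕ} [Fact q.Prime] (hq : q ≠ 2) : c.Qc q ≤ c.fit :=
  le_inf (coreIn_le_fit Fact.out _) (c.Qc_le_U hq)

theorem Qc_conj (q : ℕ) {g : G} (hg : g ∈ c.C) {y : G} (hy : y ∈ c.Qc q) :
    g * y * g⁻¹ ∈ c.Qc q :=
  (Subgroup.mem_normalizer_iff.1 (normalizes_coreIn q c.C hg) y).1 hy

theorem fit_conj {g : G} (hg : g ∈ c.C) {f : G} (hf : f ∈ c.fit) : g * f * g⁻¹ ∈ c.fit := by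
  refine ⟨?_, c.U_conj g hg f hf.2⟩
  obtain ⟨f', hf', rfl⟩ := hf.1
  exact ⟨⟨g, hg⟩ * f' * ⟨g, hg⟩⁻¹,
    (Components.fittingSubgroup_normal (G := c.C)).conj_mem f' hf' _, rfl⟩

theorem C_le_normalizer_fit : c.C ≤ Subgroup.normalizer (c.fit : Set G) :=
  fun _ hg => Subgroup.mem_normalizer_fintype (S := (c.fit : Set G)) fun _ hf => c.fit_conj hg hf

theorem fit_nilpotent : Group.IsNilpotent c.fit := by
  haveI : Group.IsNilpotent (fittingSubgroup c.C) := Components.fittingSubgroup_nilpotent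
  haveI : Group.IsNilpotent (fitIn c.C) := Components.isNilpotent_map _ _
  have hle : c.fit ≤ fitIn c.C := inf_le_left
  exact (Group.isNilpotent_congr (Subgroup.subgroupOfEquivOfLe hle)).1 inferInstance

theorem fit_sub {q : ℕ} [Fact q.Prime] {H : Subgroup G} (hH : IsPGroup q H) (h : H ≤ c.fit) :
    H ≤ c.Qc q :=
  pSub_le_coreIn hH (h.trans inf_le_left)

theorem fit_le_of {X : Subgroup G} (h : ∀ q : ℕ, q.Prime → q ≠ 2 → c.Qc q ≤ X) : c.fit ≤ X := by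
  classical
  suffices hd : Nat.card c.fit ∣ Nat.card (c.fit ⊓ X : Subgroup G) by
    exact (Subgroup.eq_of_le_of_card_ge inf_le_left (Nat.le_of_dvd Nat.card_pos hd)).ge.trans
      inf_le_right
  refine (Nat.dvd_iff_prime_pow_dvd_dvd _ _).2 fun p k hp hpk => ?_
  haveI := Fact.mk hp
  obtain ⟨K, hK⟩ := Sylow.exists_subgroup_card_pow_prime p hpk
  have hKp : IsPGroup p (K.map c.fit.subtype) := (IsPGroup.of_card hK).map _
  have hcard : Nat.card (K.map c.fit.subtype) = p ^ k := by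
    rw [Subgroup.card_map_of_injective c.fit.subtype_injective, hK]
  have hle : K.map c.fit.subtype ≤ c.fit := Subgroup.map_subtype_le _
  rcases k with _ | k
  · simp
  have hp2 : p ≠ 2 := by
    rintro rfl
    have h2 : 2 ∣ Nat.card c.U :=
      ((dvd_pow_self 2 (Nat.succ_ne_zero k)).trans hpk).trans (Subgroup.card_dvd_of_le c.fit_le)
    exact Nat.not_even_iff_odd.2 c.U_odd (even_iff_two_dvd.2 h2)
  rw [← hcard]
  exact Subgroup.card_dvd_of_le (le_inf hle ((c.fit_sub hKp hle).trans (h p hp hp2)))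

theorem C_isSolvable : Group.IsSolvable c.C := by
  haveI : Fact (Nat.Prime 2) := ⟨Nat.prime_two⟩
  haveI hn : (c.U.subgroupOf c.C).Normal := ⟨fun u hu h => by
    rw [Subgroup.mem_subgroupOf] at hu ⊢
    exact c.U_conj h h.2 u hu⟩
  haveI : Group.IsSolvable (c.U.subgroupOf c.C) := OddChar.oddSolvable _ (by
    rw [Nat.card_congr (Subgroup.subgroupOfEquivOfLe c.U_le).toEquiv]; exact c.U_odd)
  haveI : Group.IsNilpotent (c.P : Subgroup G) := c.P.isPGroup'.isNilpotent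
  let f : (c.P : Subgroup G) →* c.C ⧸ c.U.subgroupOf c.C :=
    (QuotientGroup.mk' _).comp (Subgroup.inclusion c.P_le)
  have hf : Function.Surjective f := by
    intro q
    obtain ⟨⟨h, hh⟩, rfl⟩ := QuotientGroup.mk'_surjective _ q
    obtain ⟨u, hu, s, hs, e⟩ := c.U_sup h hh
    refine ⟨⟨s, hs⟩, ?_⟩
    show QuotientGroup.mk' (c.U.subgroupOf c.C) (Subgroup.inclusion c.P_le ⟨s, hs⟩) = _
    rw [QuotientGroup.mk'_eq_mk']
    refine ⟨⟨s⁻¹ * u * s, mul_mem (mul_mem (inv_mem (c.P_le hs)) (c.U_le hu)) (c.P_le hs)⟩, ?_,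
      Subtype.ext (show s * (s⁻¹ * u * s) = h by rw [e]; group)⟩
    rw [Subgroup.mem_subgroupOf]
    have := c.U_conj s⁻¹ (inv_mem (c.P_le hs)) u hu
    rwa [inv_inv] at this
  haveI : Group.IsSolvable (c.C ⧸ c.U.subgroupOf c.C) := Group.isSolvable_of_surjective hf
  exact Group.isSolvable_of_ker_le_range (c.U.subgroupOf c.C).subtype
    (QuotientGroup.mk' (c.U.subgroupOf c.C))
    (by rw [QuotientGroup.ker_mk', Subgroup.range_subtype])

theorem le_fit {Y : Subgroup G} (hY : Y ≤ c.U) (hn : c.U ≤ Subgroup.normalizer (Y : Set G))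
    (hnil : Group.IsNilpotent Y) : Y ≤ c.fit := by
  refine le_inf ?_ hY
  have hYC : Y ≤ c.C := hY.trans c.U_le
  set U' := c.U.subgroupOf c.C
  haveI hUn : U'.Normal := ⟨fun u hu h => by
    rw [Subgroup.mem_subgroupOf] at hu ⊢
    exact c.U_conj h h.2 u hu⟩
  have hle : Y.subgroupOf c.C ≤ U' := fun y hy => hY hy
  have hsub : (Y.subgroupOf c.C).IsSubnormal :=
    Subgroup.IsSubnormal.step _ U' hle hUn.isSubnormal ⟨fun y hy u => by
      rw [Subgroup.mem_subgroupOf, Subgroup.mem_subgroupOf] at hy ⊢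
      exact (Subgroup.mem_normalizer_iff.1 (hn u.2) _).1 hy⟩
  haveI := hnil
  have hnil' : Group.IsNilpotent (Y.subgroupOf c.C) :=
    (Group.isNilpotent_congr (Subgroup.subgroupOfEquivOfLe hYC)).2 hnil
  intro y hy
  exact ⟨⟨y, hYC hy⟩, Components.subnormal_nilpotent_le_fitting hsub hnil' hy, rfl⟩

/-- `U` commutes with `O_2(C)`. -/
theorem comm_Qc_two {u y : G} (hu : u ∈ c.U) (hy : y ∈ c.Qc 2) : u * y = y * u := by
  haveI : Fact (Nat.Prime 2) := ⟨Nat.prime_two⟩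
  have h1 : u * y * u⁻¹ * y⁻¹ ∈ c.U := by
    rw [show u * y * u⁻¹ * y⁻¹ = u * (y * u⁻¹ * y⁻¹) by group]
    exact mul_mem hu (c.U_conj y (c.Qc_le_C 2 hy) _ (inv_mem hu))
  have h2 : u * y * u⁻¹ * y⁻¹ ∈ c.Qc 2 := mul_mem (c.Qc_conj 2 (c.U_le hu) hy) (inv_mem hy)
  obtain ⟨k, hk⟩ := IsPGroup.iff_orderOf.1 (coreIn_pGroup 2 c.C) ⟨_, h2⟩
  rw [Subgroup.orderOf_mk] at hk
  have h3 : orderOf (u * y * u⁻¹ * y⁻¹) = 1 :=
    Nat.eq_one_of_dvd_coprimes (Nat.Coprime.pow_right k (Nat.coprime_two_right.2 (c.odd_of_mem_U h1)))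
      dvd_rfl (dvd_of_eq hk)
  exact mul_inv_eq_iff_eq_mul.1 (mul_inv_eq_one.1 (orderOf_eq_one_iff.1 h3))

/-- An element of `U` centralising every `O_q(C)`, `q` odd, lies in the Fitting subgroup. -/
theorem mem_fit_of_comm {u : G} (hu : u ∈ c.U)
    (h : ∀ q : ℕ, q.Prime → q ≠ 2 → ∀ y ∈ c.Qc q, u * y = y * u) : u ∈ c.fit := by
  refine ⟨?_, hu⟩
  have hle : fitIn c.C ≤ Subgroup.centralizer ({u} : Set G) :=
    fitIn_le_iff.2 fun s hs y hy => Subgroup.mem_centralizer_singleton_iff.2 (by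
      rcases eq_or_ne s 2 with rfl | hs2
      · exact (c.comm_Qc_two hu hy).symm
      · exact (h s hs hs2 y hy).symm)
  haveI := c.C_isSolvable
  have hc : (⟨u, c.U_le hu⟩ : c.C) ∈ Subgroup.centralizer (fittingSubgroup c.C : Set c.C) :=
    Subgroup.mem_centralizer_iff.2 fun f hf => Subtype.ext
      (Subgroup.mem_centralizer_singleton_iff.1 (hle ⟨f, hf, rfl⟩))
  exact ⟨⟨u, c.U_le hu⟩, FittingCores.centralizer_fitting_le hc, rfl⟩

variable {c}

/-- A reflection fixing no nontrivial element of a subgroup of `U` it normalises inverts it. -/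
theorem Refl.inverts (ha : c.Refl a) {D : Subgroup G} (hDU : D ≤ c.U)
    (hn : ∀ d ∈ D, a * d * a⁻¹ ∈ D) (h : D ⊓ c.W a = ⊥) {y : G} (hy : y ∈ D) :
    a * y * a⁻¹ = y⁻¹ :=
  inverts_of_fpf ha.order hn (fun x hx hxa => Subgroup.mem_bot.1
    (h ▸ ⟨hx, ha.mem_W.2 ⟨hDU hx, hxa.symm⟩⟩)) y hy

theorem Refl.inverted_mem_fit (hN : c.NoMixed) (ha : c.Refl a) {u : G} (hu : u ∈ c.U)
    (hinv : a * u * a⁻¹ = u⁻¹) : u ∈ c.fit := by
  refine c.mem_fit_of_comm hu fun q hq hq2 y hy => ?_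
  haveI := Fact.mk hq
  have huy : u * y * u⁻¹ ∈ c.Qc q := c.Qc_conj q (c.U_le hu) hy
  by_cases hb : c.Qc q ⊓ c.W a = ⊥
  · have hi : ∀ v ∈ c.Qc q, a * v * a⁻¹ = v⁻¹ := fun v hv =>
      ha.inverts (c.Qc_le_U hq2) (fun d hd => c.Qc_conj q ha.mem_C hd) hb hv
    have e1 : u⁻¹ * y * u = u * y * u⁻¹ := inv_injective (by
      calc (u⁻¹ * y * u)⁻¹ = u⁻¹ * y⁻¹ * u := by group
        _ = a * u * a⁻¹ * (a * y * a⁻¹) * (a * u * a⁻¹)⁻¹ := by rw [hinv, hi y hy, inv_inv]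
        _ = a * (u * y * u⁻¹) * a⁻¹ := by group
        _ = (u * y * u⁻¹)⁻¹ := hi _ huy)
    have h2 : Commute (u * u) y := by
      show u * u * y = y * (u * u)
      calc u * u * y = u * (u * y * u⁻¹) * u := by group
        _ = u * (u⁻¹ * y * u) * u := by rw [e1]
        _ = y * (u * u) := by group
    obtain ⟨r, hr, hru⟩ := exists_sqrt (c.odd_of_mem_U hu)
    obtain ⟨j, hj⟩ := c.odd_of_mem_U hu
    have e : u = (u * u) ^ (j + 1) := by
      rw [← pow_two, ← pow_mul, show 2 * (j + 1) = orderOf u + 1 by omega, pow_succ,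
        pow_orderOf_eq_one, one_mul]
    rw [e]
    exact (h2.pow_left _).eq
  · have hle := hN q hq hq2 a ha hb
    refine inverted_comm hinv (c.odd_of_mem_U hu) ?_ ?_
    · exact mul_inv_eq_iff_eq_mul.2 (ha.mem_W.1 (hle hy)).2.symm
    · exact mul_inv_eq_iff_eq_mul.2 (ha.mem_W.1 (hle huy)).2.symm

/-- Every element of `U` is one of the Fitting subgroup times one of `W`. -/
theorem Refl.fit_mul_W (hN : c.NoMixed) (ha : c.Refl a) {u : G} (hu : u ∈ c.U) :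
    ∃ r ∈ c.fit, a * r * a⁻¹ = r⁻¹ ∧ r⁻¹ * u ∈ c.W a := by
  obtain ⟨r, hr, hinv, hw, -⟩ := ha.decomp hu
  exact ⟨r, ha.inverted_mem_fit hN hr hinv, hinv, hw⟩

/-- A reflection centralises `U` modulo the Fitting subgroup. -/
theorem Refl.quot_comm (hN : c.NoMixed) (ha : c.Refl a) {u : G} (hu : u ∈ c.U) :
    u⁻¹ * (a * u * a⁻¹) ∈ c.fit := by
  obtain ⟨r, hr, hinv, hw⟩ := ha.fit_mul_W hN hu
  have hwa : a * (r⁻¹ * u) * a⁻¹ = r⁻¹ * u := by
    rw [← (ha.mem_W.1 hw).2, mul_inv_cancel_right]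
  have e : a * u * a⁻¹ = r⁻¹ * (r⁻¹ * u) := by
    calc a * u * a⁻¹ = a * r * a⁻¹ * (a * (r⁻¹ * u) * a⁻¹) := by group
      _ = r⁻¹ * (r⁻¹ * u) := by rw [hinv, hwa]
  rw [e, show u⁻¹ * (r⁻¹ * (r⁻¹ * u)) = u⁻¹ * (r * r)⁻¹ * u⁻¹⁻¹ by group]
  exact c.fit_conj (inv_mem (c.U_le hu)) (inv_mem (mul_mem hr hr))

theorem refl_y (c : Core G) : c.Refl c.d.y := ⟨c.d.hy, c.d.ynot⟩

/-- The Sylow subgroup centralises `U` modulo the Fitting subgroup. -/
theorem quot_comm (hN : c.NoMixed) {s : G} (hs : s ∈ (c.P : Subgroup G)) {u : G} (hu : u ∈ c.U) :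
    u⁻¹ * (s * u * s⁻¹) ∈ c.fit := by
  by_cases hsx : s ∈ Subgroup.zpowers c.d.x
  · have hy := c.refl_y
    have hb : c.Refl (s * c.d.y) :=
      ⟨mul_mem hs hy.1, fun h => hy.2 ((Subgroup.mul_mem_cancel_left _ hsx).1 h)⟩
    have hu' := c.U_conj c.d.y hy.mem_C u hu
    have h1 := hy.quot_comm hN hu
    have h2 := hb.quot_comm hN hu'
    have e : s * c.d.y * (c.d.y * u * c.d.y⁻¹) * (s * c.d.y)⁻¹ = s * u * s⁻¹ := by
      calc s * c.d.y * (c.d.y * u * c.d.y⁻¹) * (s * c.d.y)⁻¹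
          = s * (c.d.y * c.d.y) * u * (c.d.y * c.d.y)⁻¹ * s⁻¹ := by group
        _ = s * u * s⁻¹ := by rw [hy.sq]; group
    rw [e] at h2
    have := mul_mem h1 h2
    rwa [mul_assoc, mul_inv_cancel_left] at this
  · exact Refl.quot_comm hN ⟨hs, hsx⟩ hu

/-- `U` is the Fitting subgroup times the fixed points of `P`. -/
theorem exists_fixed (hN : c.NoMixed) {u : G} (hu : u ∈ c.U) :
    ∃ f ∈ c.fit, u * f ∈ Subgroup.centralizer ((c.P : Subgroup G) : Set G) := by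
  classical
  haveI : Fact (Nat.Prime 2) := ⟨Nat.prime_two⟩
  set B : Subgroup G := (c.P : Subgroup G) with hB
  set N := c.fit with hNd
  haveI := c.fit_nilpotent
  have hsolv : Group.IsSolvable N := inferInstance
  have hBN : B ≤ Subgroup.normalizer (N : Set G) := fun s hs => c.C_le_normalizer_fit (c.P_le hs)
  have hcop : (Nat.card B).Coprime (Nat.card N) := by
    obtain ⟨k, hk⟩ := IsPGroup.iff_card.1 c.P.isPGroup'
    rw [hB, hk]
    exact Nat.Coprime.pow_left k (Nat.coprime_two_left.2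
      (c.U_odd.of_dvd_nat (Subgroup.card_dvd_of_le c.fit_le)))
  have hle : B.map (MulAut.conj u⁻¹).toMonoidHom ≤ N ⊔ B := by
    rintro _ ⟨b, hb, rfl⟩
    have : (MulAut.conj u⁻¹).toMonoidHom b = u⁻¹ * (b * u * b⁻¹) * b := by simp [mul_assoc]
    rw [this]
    exact mul_mem (Subgroup.mem_sup_left (quot_comm hN hb hu)) (Subgroup.mem_sup_right hb)
  obtain ⟨n, hn, hnB⟩ := SchurZ.conj_in hBN hcop (Or.inr hsolv) hle (LEBasic.card_map_conj B u⁻¹)
  refine ⟨n, hn, ?_⟩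
  rw [Subgroup.pointwise_smul_def] at hnB
  have h1 : B.map (MulAut.conj (u * n)).toMonoidHom = B := by
    rw [← LEBasic.map_conj_map_conj B u n]
    conv_lhs => rw [show B.map (MulAut.conj n).toMonoidHom = B.map (MulAut.conj u⁻¹).toMonoidHom from hnB]
    rw [LEBasic.map_conj_map_conj, mul_inv_cancel, LEBasic.map_conj_one]
  rw [Subgroup.mem_centralizer_iff]
  intro b hb
  have hb' : (u * n)⁻¹ * b * (u * n) ∈ B := LEBasic.mem_map_conj.1 (h1.symm ▸ hb)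
  have hbC : b ∈ c.C := c.P_le hb
  have hun : u * n ∈ c.U := mul_mem hu (c.fit_le hn)
  have h2 : b⁻¹ * ((u * n)⁻¹ * b * (u * n)) ∈ c.U := by
    rw [show b⁻¹ * ((u * n)⁻¹ * b * (u * n)) = (b⁻¹ * (u * n)⁻¹ * b⁻¹⁻¹) * (u * n) by group]
    exact mul_mem (c.U_conj b⁻¹ (inv_mem hbC) _ (inv_mem hun)) hun
  have hP2 : b⁻¹ * ((u * n)⁻¹ * b * (u * n)) ∈ (c.P : Subgroup G) := mul_mem (inv_mem hb) hb'
  obtain ⟨e, -⟩ := c.mul_eq_mul_split h2 (one_mem _) (one_mem _) hP2 ((mul_one _).trans (one_mul _).symm)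
  rw [inv_mul_eq_one] at e
  calc b * (u * n) = (u * n) * ((u * n)⁻¹ * b * (u * n)) := by group
    _ = (u * n) * b := by rw [← e]

end Core

end Cfsg.Agent.GW
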