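import Cfsg.Agent.Lib.GW.Exotic
import Cfsg.Agent.Lib.GW.MixedFree

/-!
The configuration left open by the unmixed analysis does not occur.
-/

set_option autoImplicit false

namespace Cfsg.Agent.GW

universe u

namespace Core

variable {G : Type u} [Group G] [Finite G] {c : Core G}

theorem neverMixed_of_noMixed (hN : c.NoMixed) {r : G} (hr : c.Refl r) : c.NeverMixed r :=
  fun s hs hs2 hm => hm.2 (hN s hs.out hs2 r hr hm.1)

theorem not_exotic (hC : IsCoatom c.C) (hN : c.NoMixed) (a : G) : ¬ c.Exotic a := by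
  rintro ⟨ha, hm, s, hs, hs2, hY, hYW, hYb⟩
  haveI := Fact.mk hs
  exact exotic_false hC (fun r hr => neverMixed_of_noMixed hN hr) ha hm hs2 hY hYW hYb

end Core

end Cfsg.Agent.GW
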