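import Cfsg.Agent.Lib.GW.SectionFacts
import Cfsg.Agent.Lib.Solvable.Structure
import Cfsg.Agent.Lib.OddChar.OddTheorem

/-!
An odd subgroup normalised by the centraliser of an involution is centralised by it: the case of a
socle `PSL₂(q)`.
-/

set_option autoImplicit false

namespace Cfsg.Agent.GW

open Matrix Cfsg.Agent.AutPSL

universe u

/-- A nontrivial odd subgroup has a nontrivial commutative subgroup with at least the same normaliser. -/
theorem exists_char_comm {X : Type u} [Group X] [Finite X] {Q : Subgroup X}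
    (hQ : Odd (Nat.card Q)) (hne : Q ≠ ⊥) :
    ∃ R : Subgroup X, R ≤ Q ∧ R ≠ ⊥ ∧ IsMulCommutative R ∧
      Subgroup.normalizer (Q : Set X) ≤ Subgroup.normalizer (R : Set X) := by
  classical
  haveI : Group.IsSolvable Q := OddChar.oddSolvable Q hQ
  obtain ⟨n, hn⟩ := (Group.isSolvable_def Q).1 inferInstance
  have hex : ∃ k, derivedSeries Q k = ⊥ := ⟨n, hn⟩
  obtain ⟨k, hk⟩ : ∃ k, Nat.find hex = k + 1 := by
    rcases h : Nat.find hex with _ | k
    · exfalso
      have := Nat.find_spec hex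
      rw [h, derivedSeries_zero] at this
      haveI : Subsingleton Q := Subgroup.subsingleton_iff.1 (subsingleton_of_bot_eq_top this.symm)
      exact hne (Subgroup.eq_bot_of_subsingleton Q)
    · exact ⟨k, rfl⟩
  have h0 : derivedSeries Q k ≠ ⊥ := Nat.find_min hex (by omega)
  have h1 : derivedSeries Q (k + 1) = ⊥ := hk ▸ Nat.find_spec hex
  rw [derivedSeries_succ, Subgroup.commutator_eq_bot_iff_le_centralizer] at h1
  haveI hc := Subgroup.le_centralizer_iff_isMulCommutative.1 h1
  refine ⟨(derivedSeries Q k).map Q.subtype, Subgroup.map_subtype_le _, ?_,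
    Subgroup.map_isMulCommutative _ _, ?_⟩
  · rwa [ne_eq, Subgroup.map_eq_bot_iff_of_injective _ Q.subtype_injective]
  · intro g hg
    rw [Subgroup.mem_normalizer_iff_map_conj_eq] at hg ⊢
    let e : Q ≃* Q :=
      ((MulAut.conj g).subgroupMap Q).trans (MulEquiv.subgroupCongr hg)
    have he : Q.subtype.comp e.toMonoidHom = (↑(MulAut.conj g) : X →* X).comp Q.subtype := by
      ext x; rfl
    rw [Subgroup.map_map, ← he, ← Subgroup.map_map]
    exact congrArg (Subgroup.map Q.subtype)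
      ((Subgroup.characteristic_iff_map_eq.1 (derivedSeries_characteristic Q k)) e)

theorem comm_involution_cases {X : Type u} [Group X] [Finite X] (h : DihSylow X) {a b c : X}
    (ha : orderOf a = 2) (hb : orderOf b = 2) (hc : orderOf c = 2) (hab : a ≠ b)
    (h1 : a * b = b * a) (h2 : a * c = c * a) (h3 : b * c = c * b) :
    c = a ∨ c = b ∨ c = a * b := by
  classical
  haveI := Fintype.ofFinite X
  by_contra hno
  push Not at hno
  obtain ⟨n1, n2, n3⟩ := hno
  set B := Subgroup.closure ({a, b, c} : Set X) with hB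
  haveI : IsMulCommutative B := Subgroup.isMulCommutative_closure (by
    rintro x (rfl | rfl | rfl) y (rfl | rfl | rfl)
    all_goals first
      | rfl
      | exact h1
      | exact h1.symm
      | exact h2
      | exact h2.symm
      | exact h3
      | exact h3.symm)
  have hBc : ∀ x ∈ B, ∀ y ∈ B, x * y = y * x := fun x hx y hy =>
    congrArg Subtype.val (mul_comm' (⟨x, hx⟩ : B) ⟨y, hy⟩)
  have e2 : ∀ v : X, orderOf v = 2 → v * v = 1 := fun v hv => by
    rw [← pow_two, ← hv, pow_orderOf_eq_one]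
  have hsq : ∀ x ∈ B, x * x = 1 := by
    intro x hx
    induction hx using Subgroup.closure_induction with
    | mem x hx =>
      rcases hx with rfl | rfl | rfl
      exacts [e2 _ ha, e2 _ hb, e2 _ hc]
    | one => exact one_mul 1
    | mul x x' hx hx' ex ex' =>
      rw [mul_assoc, ← mul_assoc x' x x', hBc x' hx' x hx, mul_assoc x x' x', ex', mul_one, ex]
    | inv x _ ex => rw [← _root_.mul_inv_rev, ex, inv_one]
  have hle := h.elementary (A := B) inferInstance hsq
  have haB : a ∈ B := Subgroup.subset_closure (by simp)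
  have hbB : b ∈ B := Subgroup.subset_closure (by simp)
  have hcB : c ∈ B := Subgroup.subset_closure (by simp)
  have hsub : ({1, a, b, a * b, c} : Finset X) ⊆ Finset.univ.filter (fun x => x ∈ B) := by
    intro x hx
    simp only [Finset.mem_insert, Finset.mem_singleton] at hx
    rw [Finset.mem_filter]
    refine ⟨Finset.mem_univ _, ?_⟩
    rcases hx with rfl | rfl | rfl | rfl | rfl
    exacts [one_mem B, haB, hbB, mul_mem haB hbB, hcB]
  have ne1 : ∀ v : X, orderOf v = 2 → v ≠ 1 := fun v hv e => by rw [e, orderOf_one] at hv; omega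
  have hab1 : a * b ≠ 1 := fun e => hab (by
    rw [mul_eq_one_iff_eq_inv] at e; rw [e]; exact inv_eq_of_mul_eq_one_right (e2 b hb))
  have := Finset.card_le_card hsub
  rw [Finset.card_insert_of_notMem, Finset.card_insert_of_notMem, Finset.card_insert_of_notMem,
    Finset.card_pair, ← Fintype.card_subtype, ← Nat.card_eq_fintype_card] at this
  · omega
  · exact n3.symm
  · simp only [Finset.mem_insert, Finset.mem_singleton]
    rintro (e | e)
    · exact ne1 a ha (mul_eq_right.1 e.symm)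
    · exact n2 e.symm
  · simp only [Finset.mem_insert, Finset.mem_singleton]
    rintro (e | e | e)
    · exact hab e
    · exact ne1 b hb (mul_eq_left.1 e.symm)
    · exact n1 e.symm
  · simp only [Finset.mem_insert, Finset.mem_singleton]
    rintro (e | e | e | e)
    · exact ne1 a ha e.symm
    · exact ne1 b hb e.symm
    · exact hab1 e.symm
    · exact ne1 c hc e.symm

theorem orbit_bound {q C Lc k i n : ℕ} (hq : 5 ≤ q) (hn : n ≤ q * q + q + 1)
    (hC : C ≤ q + 1) (hiC : i * C = Lc) (hkn : k + i ≤ n)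
    (hL : 2 * Lc = q * (q - 1) * (q + 1)) (m : ℕ) (hm : k * m = Lc) : 2 < m := by
  by_contra hle
  push Not at hle
  obtain ⟨p, rfl⟩ : ∃ p, q = p + 5 := ⟨q - 5, by omega⟩
  rw [show p + 5 - 1 = p + 4 by omega] at hL
  have h1 : Lc ≤ 2 * k := by rw [← hm, mul_comm 2 k]; exact Nat.mul_le_mul_left k hle
  have h2 : Lc ≤ i * (p + 6) := by rw [← hiC]; exact Nat.mul_le_mul_left i hC
  nlinarith

variable {F : Type} [Field F] [Fintype F]

local notation "PSL2" => Matrix.ProjectiveSpecialLinearGroup (Fin 2) F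

theorem card_invol_inndiag :
    Nat.card {β : MulAut PSL2 // β ∈ Cfsg.inndiagPSL 2 F ∧ β * β = 1 ∧ β ≠ 1} ≤
      Fintype.card F * Fintype.card F + Fintype.card F + 1 := by
  classical
  set q := Fintype.card F with hq
  set I := {β : MulAut PSL2 // β ∈ Cfsg.inndiagPSL 2 F ∧ β * β = 1 ∧ β ≠ 1}
  have hrep : ∀ β : I, ∃ g : GL (Fin 2) F, β.1 = semi g 1 ∧ g.1 1 1 = -g.1 0 0 := by
    rintro ⟨β, hβ, hβ2, hβ1⟩
    obtain ⟨g, rfl⟩ := mem_inndiag.1 hβ
    refine ⟨g, rfl, ?_⟩
    rw [semi_mul', mapGL_one, one_mul, semi_eq_one_iff le_rfl] at hβ2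
    obtain ⟨-, c, hc⟩ := hβ2
    have hc' := congrArg Units.val hc
    rw [Units.val_mul, GeneralLinearGroup.coe_scalar, ← Matrix.ext_iff] at hc'
    simp [Fin.forall_fin_two, Matrix.mul_apply, Fin.sum_univ_two] at hc'
    obtain ⟨⟨e00, e01⟩, e10, e11⟩ := hc'
    by_contra htr
    have ht : g.1 0 0 + g.1 1 1 ≠ 0 := fun e => htr (by linear_combination e)
    have h01 : g.1 0 1 = 0 := by
      have : g.1 0 1 * (g.1 0 0 + g.1 1 1) = 0 := by linear_combination e01
      exact (mul_eq_zero.1 this).resolve_right ht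
    have h10 : g.1 1 0 = 0 := by
      have : g.1 1 0 * (g.1 0 0 + g.1 1 1) = 0 := by linear_combination e10
      exact (mul_eq_zero.1 this).resolve_right ht
    have hd : g.1 0 0 = g.1 1 1 := by
      have : (g.1 0 0 - g.1 1 1) * (g.1 0 0 + g.1 1 1) = 0 := by linear_combination e00 - e11
      exact sub_eq_zero.1 ((mul_eq_zero.1 this).resolve_right ht)
    refine hβ1 ((semi_eq_one_iff le_rfl).2 ⟨rfl, ?_⟩)
    have h00 : g.1 0 0 ≠ 0 := fun e0 =>
      ((Matrix.isUnit_iff_isUnit_det _).1 g.isUnit).ne_zero (by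
        rw [Matrix.det_fin_two, e0, h01]; ring)
    refine ⟨Units.mk0 _ h00, Units.ext (Matrix.ext fun a b => ?_)⟩
    fin_cases a <;> fin_cases b <;> simp [h01, h10, ← hd]
  choose g hg htr using hrep
  let f : Option (I × Fˣ) → F × F × F := fun o => o.elim (0, 0, 0) fun p =>
    ((p.2 : F) * (g p.1).1 0 0, (p.2 : F) * (g p.1).1 0 1, (p.2 : F) * (g p.1).1 1 0)
  have hfne : ∀ p, f (some p) ≠ (0, 0, 0) := by
    intro p e
    simp only [f, Option.elim_some, Prod.mk.injEq, mul_eq_zero, p.2.ne_zero, false_or] at e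
    obtain ⟨h00, h01, h10⟩ := e
    exact ((Matrix.isUnit_iff_isUnit_det _).1 (g p.1).isUnit).ne_zero (by
      rw [Matrix.det_fin_two, h00, h01]; ring)
  have hf : Function.Injective f := by
    rintro (_ | ⟨β, c⟩) (_ | ⟨γ, d⟩) e
    · rfl
    · exact absurd e.symm (hfne _)
    · exact absurd e (hfne _)
    simp only [f, Option.elim_some, Prod.mk.injEq] at e
    obtain ⟨e0, e1, e2⟩ := e
    have hm : ∀ a b, (c : F) * (g β).1 a b = (d : F) * (g γ).1 a b := by
      intro a b
      fin_cases a <;> fin_cases b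
      exacts [e0, e1, e2, by
        show (c : F) * (g β).1 1 1 = (d : F) * (g γ).1 1 1
        rw [htr β, htr γ]; linear_combination -e0]
    have hgg : g β = GeneralLinearGroup.scalar (Fin 2) (c⁻¹ * d) * g γ := by
      refine Units.ext (Matrix.ext fun a b => ?_)
      rw [Units.val_mul, GeneralLinearGroup.coe_scalar]
      rw [show (((c⁻¹ * d : Fˣ) : F)) = (c : F)⁻¹ * (d : F) by simp]
      simp [Matrix.diagonal_mul]
      rw [mul_assoc, ← hm a b, inv_mul_cancel_left₀ c.ne_zero]
    have hβγ : β = γ := Subtype.ext (by rw [hg β, hg γ, hgg, semi_scalar_mul])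
    subst hβγ
    have hcd : c = d := by
      by_contra hne
      have : ∀ a b, (g β).1 a b = 0 := fun a b => by
        have := hm a b
        have h' : ((c : F) - d) * (g β).1 a b = 0 := by linear_combination this
        exact (mul_eq_zero.1 h').resolve_left (sub_ne_zero.2 fun e => hne (Units.ext e))
      exact ((Matrix.isUnit_iff_isUnit_det _).1 (g β).isUnit).ne_zero (by
        rw [Matrix.det_fin_two, this, this 0 1]; ring)
    rw [hcd]
  haveI : Finite (MulAut PSL2) :=
    Finite.of_injective (fun e : MulAut PSL2 => (e : PSL2 → PSL2)) DFunLike.coe_injective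
  have h1 := Nat.card_le_card_of_injective f hf
  rw [Nat.card_prod, Nat.card_prod, Finite.card_option, Nat.card_prod, Nat.card_units,
    Nat.card_eq_fintype_card (α := F), ← hq] at h1
  have hq2 : 2 ≤ q := Fintype.one_lt_card
  obtain ⟨p, hp⟩ : ∃ p, q = p + 2 := ⟨q - 2, by omega⟩
  rw [hp, show p + 2 - 1 = p + 1 by omega] at h1
  rw [hp]
  by_contra hlt
  push Not at hlt
  nlinarith

/-- An involution of the socle commuting with a 2-subgroup. -/
theorem socle_involution {X : Type u} [Group X] [Finite X] (L : Subgroup X) [L.Normal]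
    (hLs : IsSimpleGroup L) (hLnc : ¬ IsMulCommutative L) {S : Subgroup X} (hS : IsPGroup 2 S) :
    ∃ w ∈ L, orderOf w = 2 ∧ ∀ a ∈ S, a * w = w * a := by
  classical
  haveI : Fact (Nat.Prime 2) := ⟨Nat.prime_two⟩
  haveI := hLs
  obtain ⟨P, hP⟩ := hS.exists_le_sylow
  obtain ⟨E, hE⟩ := S0204.result (G := L) fun hcyc => hLnc hcyc.isMulCommutative
  have hE' : IsKleinFour (E.map L.subtype) := TwoFus.map_klein hE
  obtain ⟨R0, hR0⟩ := (IsPGroup.of_card (p := 2) (n := 2) hE'.card_four).exists_le_sylow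
  obtain ⟨g, hg⟩ := MulAction.exists_smul_eq X R0 P
  have hne : L.subgroupOf (P : Subgroup X) ≠ ⊥ := by
    rw [ne_eq, Subgroup.subgroupOf_eq_bot, disjoint_iff]
    intro hbot
    have hle : (E.map L.subtype).map (MulAut.conj g).toMonoidHom ≤ L ⊓ (P : Subgroup X) := by
      refine le_inf ?_ ?_
      · rintro _ ⟨x, hx, rfl⟩
        exact (inferInstance : L.Normal).conj_mem x (Subgroup.map_subtype_le E hx) g
      · rw [← hg, Sylow.coe_subgroup_smul]
        exact Subgroup.map_mono hR0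
    rw [hbot] at hle
    have := Subgroup.card_dvd_of_le hle
    rw [(TwoFus.klein_map_conj hE' g).card_four, Subgroup.card_bot] at this
    norm_num at this
  haveI : Group.IsNilpotent (P : Subgroup X) := P.isPGroup'.isNilpotent
  obtain ⟨⟨c, hc⟩, hc1⟩ :=
    Subgroup.ne_bot_iff_exists_ne_one.1 (SolvStruct.inf_center_ne_bot hne)
  obtain ⟨hcL, hcZ⟩ := Subgroup.mem_inf.1 hc
  rw [Subgroup.mem_subgroupOf] at hcL
  obtain ⟨j, hj⟩ := IsPGroup.iff_orderOf.1 P.isPGroup' c
  rw [← Subgroup.orderOf_coe] at hj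
  have hj0 : j ≠ 0 := fun e => hc1 (Subtype.ext (Subtype.ext
    (orderOf_eq_one_iff.1 (by rw [hj, e, pow_zero]))))
  refine ⟨(c : X) ^ 2 ^ (j - 1), pow_mem hcL _, ?_, fun a ha => ?_⟩
  · rw [orderOf_pow' _ (by positivity), hj, Nat.gcd_eq_right (pow_dvd_pow 2 (by omega)),
      Nat.pow_div (by omega) two_pos, show j - (j - 1) = 1 by omega, pow_one]
  · have := congrArg Subtype.val (Subgroup.mem_center_iff.1 hcZ ⟨a, hP ha⟩)
    exact ((show Commute a (c : X) from this).pow_right _).eq

theorem no_four_cent {X : Type u} [Group X] [Finite X] [IsSimpleGroup PSL2]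
    (h : DihSylow X) (hnc : ¬ IsMulCommutative PSL2) (hodd : Odd (Fintype.card F))
    (L : Subgroup X) [L.Normal] (hLs : IsSimpleGroup L) (hLnc : ¬ IsMulCommutative L)
    (ι : X →* MulAut PSL2) (hι : Function.Injective ι) (hL : L.map ι = Cfsg.Inn PSL2)
    (hfld : ∀ x : X, Odd (orderOf (fldHom (ι x)))) {a b z : X} (ha : orderOf a = 2) (hb : orderOf b = 2)
    (hne : a ≠ b) (hab : a * b = b * a) (hzL : z ∈ L) (hzo : Odd (orderOf z)) (haz : a * z = z * a)
    (hbz : b * z = z * b) : z = 1 := by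
  classical
  have e2 : ∀ w : X, orderOf w = 2 → w * w = 1 := fun w hw => by
    rw [← pow_two, ← hw, pow_orderOf_eq_one]
  set S := Subgroup.zpowers a ⊔ Subgroup.zpowers b with hS
  have hzc : Subgroup.zpowers b ≤ Subgroup.centralizer (Subgroup.zpowers a : Set X) :=
    Subgroup.zpowers_le.2 (Subgroup.mem_centralizer_iff.2 fun c hc => by
      obtain ⟨i, rfl⟩ := hc
      exact ((show Commute a b from hab).zpow_left i).eq)
  have hS2 : IsPGroup 2 S := IsPGroup.to_sup_of_normal_left'
    (IsPGroup.of_card (n := 1) (by rw [Nat.card_zpowers, ha, pow_one]))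
    (IsPGroup.of_card (n := 1) (by rw [Nat.card_zpowers, hb, pow_one]))
    (hzc.trans (Subgroup.centralizer_le_normalizer _))
  obtain ⟨u, huL, huo, hu⟩ := socle_involution L hLs hLnc hS2
  have hau : a * u = u * a := hu a (Subgroup.mem_sup_left (Subgroup.mem_zpowers a))
  have hbu : b * u = u * b := hu b (Subgroup.mem_sup_right (Subgroup.mem_zpowers b))
  obtain ⟨w, hwo, hwu, hwuc, huz, hwz⟩ : ∃ w, orderOf w = 2 ∧ w ≠ u ∧ w * u = u * w ∧
      u * z = z * u ∧ w * z = z * w := by
    rcases comm_involution_cases h ha hb huo hne hab hau hbu with e | e | e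
    · exact ⟨b, hb, fun e' => hne (e ▸ e'.symm), hbu, e ▸ haz, hbz⟩
    · exact ⟨a, ha, fun e' => hne (e ▸ e'), hau, e ▸ hbz, haz⟩
    · exact ⟨a, ha, fun e' => by
        rw [e] at e'
        have hb1 := left_eq_mul.1 e'
        rw [hb1, orderOf_one] at hb; omega, hau,
        e ▸ ((show Commute a z from haz).mul_left (show Commute b z from hbz)).eq, haz⟩
  obtain ⟨Kd, hKn, hLK, hKi, -, A, s0, hAK, hAc, huA, hs0L, hs0u, hss, hs0A, hinvA, -, hall⟩ :=
    psl_centralizer (F := F) hnc hodd L ι hι hL hfld huL huo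
  have huniqA : ∀ c ∈ A, c * c = 1 → c = 1 ∨ c = u := by
    intro c hc hc2
    by_contra hno
    push Not at hno
    haveI := hAc
    haveI := Fintype.ofFinite A
    have := IsCyclic.card_pow_eq_one_le (α := A) (n := 2) two_pos
    have hsub : ({1, ⟨u, huA⟩, ⟨c, hc⟩} : Finset A) ⊆ Finset.univ.filter (fun d : A => d ^ 2 = 1) := by
      intro d hd
      simp only [Finset.mem_insert, Finset.mem_singleton] at hd
      rw [Finset.mem_filter]
      refine ⟨Finset.mem_univ _, Subtype.ext ?_⟩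
      rw [SubmonoidClass.coe_pow, pow_two, Subgroup.coe_one]
      rcases hd with rfl | rfl | rfl
      · exact one_mul 1
      · exact e2 u huo
      · exact hc2
    have hc3 := Finset.card_le_card hsub
    rw [Finset.card_insert_of_notMem, Finset.card_pair] at hc3
    · omega
    · intro e; exact hno.2 (congrArg Subtype.val e :).symm
    · simp only [Finset.mem_insert, Finset.mem_singleton, Subtype.ext_iff, Subgroup.coe_one]
      rintro (e | e)
      · rw [← e, orderOf_one] at huo; omega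
      · exact hno.1 e.symm
  have hs' : s0⁻¹ = s0 := inv_eq_of_mul_eq_one_right hss
  have hwK : w ∈ Kd := by
    haveI := hKn
    have h1 := Subgroup.pow_index_mem Kd w
    obtain ⟨k, hk⟩ := hKi
    rwa [hk, pow_succ, pow_mul, pow_two, e2 w hwo, one_pow, one_mul] at h1
  have hws : w * s0 ∈ A := by
    rcases hall w hwK hwuc with e | e
    · rcases huniqA w e (e2 w hwo) with e' | e'
      · rw [e', orderOf_one] at hwo; omega
      · exact absurd e' hwu
    · exact e
  rcases hall z (hLK hzL) huz.symm with hzA | hzA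
  · refine eq_one_of_sq_odd (mul_eq_one_iff_eq_inv.2 ?_) hzo
    have hAcomm : w * s0 * z = z * (w * s0) :=
      congrArg Subtype.val (hAc.isMulCommutative.is_comm.comm (⟨_, hws⟩ : A) ⟨z, hzA⟩)
    calc z = w * z * w⁻¹ := by rw [hwz, mul_inv_cancel_right]
      _ = w * s0 * (s0 * z * s0⁻¹) * (w * s0)⁻¹ := by
        rw [show w * s0 * (s0 * z * s0⁻¹) * (w * s0)⁻¹ =
          w * (s0 * s0) * z * (s0⁻¹ * s0⁻¹) * w⁻¹ by group, hs', hss, mul_one, mul_one]
      _ = w * s0 * z⁻¹ * (w * s0)⁻¹ := by rw [hinvA z hzA]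
      _ = z⁻¹ := by
        rw [(show Commute (w * s0) z from hAcomm).inv_right.eq, mul_inv_cancel_right]
  · refine eq_one_of_sq_odd ?_ hzo
    have h1 := hinvA _ hzA
    rw [hs'] at h1
    calc z * z = z * s0 * (s0 * (z * s0) * s0) := by
          rw [mul_assoc s0, mul_assoc z s0 s0, hss, mul_one, ← mul_assoc (z * s0), mul_assoc z s0 s0,
            hss, mul_one]
      _ = 1 := by rw [h1, mul_inv_cancel]

/-- The case of a socle `PSL₂(q)`. -/
theorem odd_invariant_psl {X : Type u} [Group X] [Finite X] [IsSimpleGroup PSL2]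
    (h : DihSylow X) (hnc : ¬ IsMulCommutative PSL2) (hodd : Odd (Fintype.card F))
    (h3 : 3 < Fintype.card F) (L : Subgroup X) (hLn : L.Normal) (hLs : IsSimpleGroup L)
    (hLnc : ¬ IsMulCommutative L) (ι : X →* MulAut PSL2) (hι : Function.Injective ι)
    (hL : L.map ι = Cfsg.Inn PSL2) (hfld : ∀ x : X, Odd (orderOf (fldHom (ι x))))
    {v : X} (hv : orderOf v = 2) {Q : Subgroup X} (hQ : Odd (Nat.card Q))
    (hN : Subgroup.centralizer ({v} : Set X) ≤ Subgroup.normalizer (Q : Set X))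
    {y : X} (hy : y ∈ Q) (hvy : v * y * v⁻¹ = y⁻¹) : y = 1 := by
  classical
  haveI : Fact (Nat.Prime 2) := ⟨Nat.prime_two⟩
  haveI := hLn
  by_contra hy1
  have facts := socleFacts h hnc hodd h3 L hLn hLs hLnc ι hι hL hfld
  have hord2 : ∀ w : X, orderOf w = 2 → w * w = 1 := fun w hw => by
    rw [← pow_two, ← hw, pow_orderOf_eq_one]
  have hne1 : ∀ w : X, orderOf w = 2 → w ≠ 1 := fun w hw e => by rw [e, orderOf_one] at hw; omega
  have hmemL : ∀ x : X, x ∈ L ↔ ι x ∈ Cfsg.Inn PSL2 := fun x => by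
    rw [← hL, Subgroup.mem_map_iff_mem hι]
  have hinL : ∀ x ∈ L, ι x ∈ Cfsg.inndiagPSL 2 F := fun x hx => by
    rw [mem_inndiag_iff_fld]; exact fldHom_inn ((hmemL x).1 hx)
  have hinv : ∀ w : X, orderOf w = 2 → ι w ∈ Cfsg.inndiagPSL 2 F := by
    intro w hw
    rw [mem_inndiag_iff_fld]
    refine eq_one_of_sq_odd ?_ (hfld w)
    rw [← map_mul, ← map_mul, hord2 w hw, map_one, map_one]
  have hcomm : ∀ z : X, z ∈ L → z ≠ 1 → Odd (orderOf z) → ∀ a b : X,
      ι a ∈ Cfsg.inndiagPSL 2 F → ι b ∈ Cfsg.inndiagPSL 2 F →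
      a * z = z * a → b * z = z * b → a * b = b * a := by
    intro z hz hz1 hzo a b ha hb haz hbz
    refine hι ?_
    rw [map_mul, map_mul]
    refine inndiag_centraliser_comm (hinL z hz)
      (fun e => hz1 (eq_one_of_sq_odd (hι (by rw [map_mul, e, map_one])) hzo)) ha hb ?_ ?_
    · rw [← map_mul, ← map_mul, haz]
    · rw [← map_mul, ← map_mul, hbz]
  -- the odd subgroup inside the socle
  have hyo : Odd (orderOf y) := hQ.of_dvd_nat (Subgroup.orderOf_dvd_natCard Q hy)
  have hyL : y ∈ L := facts.inverted_mem v y (hord2 v hv) hyo hvy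
  set Q0 := Q ⊓ L with hQ0
  have hQ0o : Odd (Nat.card Q0) :=
    hQ.of_dvd_nat (Subgroup.card_dvd_of_le inf_le_left)
  have hyQ0 : y ∈ Q0 := ⟨hy, hyL⟩
  have hQ0ne : Q0 ≠ ⊥ := fun e => hy1 (Subgroup.mem_bot.1 (e ▸ hyQ0))
  obtain ⟨R, hRQ, hRne, hRc, hNR⟩ := exists_char_comm hQ0o hQ0ne
  have hRL : R ≤ L := hRQ.trans inf_le_right
  have hRodd : ∀ r ∈ R, Odd (orderOf r) := fun r hr =>
    hQ0o.of_dvd_nat (Subgroup.orderOf_dvd_natCard Q0 (hRQ hr))
  have hRcomm : ∀ a ∈ R, ∀ b ∈ R, a * b = b * a := fun a ha b hb =>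
    congrArg Subtype.val (mul_comm' (⟨a, ha⟩ : R) ⟨b, hb⟩)
  have hCN : ∀ c : X, c * v = v * c → ∀ r ∈ R, c * r * c⁻¹ ∈ R := by
    intro c hc r hr
    have h1 := hN (Subgroup.mem_centralizer_singleton_iff.2 hc)
    have h2 : c ∈ Subgroup.normalizer (Q0 : Set X) := by
      rw [Subgroup.mem_normalizer_iff]
      intro x
      exact and_congr ((Subgroup.mem_normalizer_iff.1 h1) x)
        ⟨fun hx => hLn.conj_mem x hx c, fun hx => by simpa [mul_assoc] using hLn.conj_mem _ hx c⁻¹⟩
    exact ((Subgroup.mem_normalizer_iff.1 (hNR h2)) r).1 hr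
  have hvR : ∀ r ∈ R, v * r * v⁻¹ ∈ R := hCN v rfl
  have hv' : v⁻¹ = v := inv_eq_of_mul_eq_one_right (hord2 v hv)
  by_cases hfix : ∀ r ∈ R, v * r = r * v
  · obtain ⟨z, hzR, hz1⟩ := (Subgroup.ne_bot_iff_exists_ne_one.1 hRne) |> fun ⟨⟨z, hz⟩, hz1⟩ =>
      (⟨z, hz, fun e => hz1 (Subtype.ext e)⟩ : ∃ z, z ∈ R ∧ z ≠ 1)
    have hyR : y * z * y⁻¹ ∈ R :=
      ((Subgroup.mem_normalizer_iff.1 (hNR (Subgroup.le_normalizer hyQ0))) z).1 hzR
    set w := y * v * y⁻¹ with hw
    have hwo : orderOf w = 2 := by rw [hw, Invol.order_conj, hv]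
    have hz'1 : y * z * y⁻¹ ≠ 1 := fun e => hz1 (conj_eq_one_iff.1 e)
    have e1 := hcomm _ (hRL hyR) hz'1 (hRodd _ hyR) v w (hinv v hv) (hinv w hwo) (hfix _ hyR) (by
      rw [hw, show y * v * y⁻¹ * (y * z * y⁻¹) = y * (v * z) * y⁻¹ by group, hfix z hzR]; group)
    have hw2 : w = y * y * v := by
      calc w = y * (v * y⁻¹ * v⁻¹) * v := by rw [hw]; group
        _ = y * y * v := by
          rw [show v * y⁻¹ * v⁻¹ = (v * y * v⁻¹)⁻¹ by group, hvy, inv_inv]
    rw [hw2] at e1
    have e2 : y⁻¹ * y⁻¹ = y * y := by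
      have : v * (y * y * v) * v⁻¹ = y * y * v := by rw [e1, mul_inv_cancel_right]
      rw [show v * (y * y * v) * v⁻¹ = (v * y * v⁻¹) * (v * y * v⁻¹) * v by group, hvy,
        mul_left_inj] at this
      exact this
    have e3 : (y * y) * (y * y) = 1 := by
      nth_rewrite 1 [← e2]
      group
    have e4 : y * y = 1 := eq_one_of_sq_odd e3 (hyo.of_dvd_nat (by
      rw [← pow_two]; exact orderOf_pow_dvd 2))
    exact hy1 (eq_one_of_sq_odd e4 hyo)
  push Not at hfix
  obtain ⟨r, hr, hrv⟩ := hfix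
  -- an inner involution commuting with `v`
  obtain ⟨u, huL, huo, hune, huv⟩ : ∃ u, u ∈ L ∧ orderOf u = 2 ∧ u ≠ v ∧ u * v = v * u := by
    by_cases hvL : v ∈ L
    · obtain ⟨Kd, -, -, -, -, A, s, -, -, hvA, hsL, hsv, hss, hsA, -⟩ :=
        psl_centralizer (F := F) hnc hodd L ι hι hL hfld hvL hv
      exact ⟨s, hsL, Invol.order_two_of_sq hss (fun e => hsA (e ▸ one_mem A)),
        fun e => hsA (e ▸ hvA), hsv⟩
    · obtain ⟨w, hwL, hwo, hw⟩ := socle_involution L hLs hLnc
        (IsPGroup.of_card (n := 1) (by rw [Nat.card_zpowers, hv, pow_one]) :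
          IsPGroup 2 (Subgroup.zpowers v))
      exact ⟨w, hwL, hwo, fun e => hvL (e ▸ hwL), (hw v (Subgroup.mem_zpowers v)).symm⟩
  have hu' : u⁻¹ = u := inv_eq_of_mul_eq_one_right (hord2 u huo)
  have hu1 : u ≠ 1 := hne1 u huo
  -- the four-group acts without fixed points
  have hfpf : ∀ z, z ∈ L → Odd (orderOf z) → u * z = z * u → v * z = z * v → z = 1 :=
    fun z hz hzo huz hvz =>
      no_four_cent h hnc hodd L hLs hLnc ι hι hL hfld huo hv hune huv hz hzo huz hvz
  -- an element of `R` inverted by `v` and fixed by another involution `s`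
  have huR : ∀ r ∈ R, u * r * u⁻¹ ∈ R := hCN u huv
  have hvu : v * u = u * v := huv.symm
  set x := r * (v * r * v⁻¹)⁻¹ with hx
  have hxR : x ∈ R := mul_mem hr (inv_mem (hvR r hr))
  have hx1 : x ≠ 1 := fun e => hrv (by
    rw [hx, mul_inv_eq_one, eq_mul_inv_iff_mul_eq] at e; exact e.symm)
  have hvx : v * x * v⁻¹ = x⁻¹ := by
    rw [hx, hv']
    calc v * (r * (v * r * v)⁻¹) * v = v * r * v⁻¹ * r⁻¹ * (v⁻¹ * v) := by group
      _ = (r * (v * r * v)⁻¹)⁻¹ := by rw [inv_mul_cancel, mul_one, hv']; group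
  obtain ⟨s, z, hzR, hz1, hso, hsv, hscomm, hsz, hus⟩ : ∃ s z, z ∈ R ∧ z ≠ 1 ∧ orderOf s = 2 ∧
      s ≠ v ∧ s * v = v * s ∧ s * z = z * s ∧ (u = s ∨ u = s * v) := by
    by_cases hp : x * (u * x * u⁻¹) = 1
    · have hux : u * x * u⁻¹ = x⁻¹ := eq_inv_of_mul_eq_one_right hp
      refine ⟨u * v, x, hxR, hx1, ?_, fun e => hu1 (mul_eq_right.1 e), ?_, ?_, Or.inr ?_⟩
      · refine Invol.order_two_of_sq ?_ fun e => hune ?_
        · rw [mul_assoc, ← mul_assoc v, hvu, mul_assoc, hord2 v hv, mul_one, hord2 u huo]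
        · rw [mul_eq_one_iff_eq_inv] at e; rw [e, hv']
      · rw [mul_assoc, hord2 v hv, ← mul_assoc, hvu, mul_assoc, hord2 v hv]
      · have : u * v * x * (u * v)⁻¹ = x := by
          calc u * v * x * (u * v)⁻¹ = u * (v * x * v⁻¹) * u⁻¹ := by group
            _ = (u * x * u⁻¹)⁻¹ := by rw [hvx]; group
            _ = x := by rw [hux, inv_inv]
        exact mul_inv_eq_iff_eq_mul.1 this
      · rw [mul_assoc, hord2 v hv, mul_one]
    · refine ⟨u, x * (u * x * u⁻¹), mul_mem hxR (huR x hxR), hp, huo, hune, huv, ?_, Or.inl rfl⟩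
      refine mul_inv_eq_iff_eq_mul.1 ?_
      calc u * (x * (u * x * u⁻¹)) * u⁻¹ = u * x * u⁻¹ * (u * u * x * (u * u)⁻¹) := by group
        _ = u * x * u⁻¹ * x := by rw [hord2 u huo, one_mul, inv_one, mul_one]
        _ = x * (u * x * u⁻¹) := hRcomm _ (huR x hxR) _ hxR
  have hzL : z ∈ L := hRL hzR
  -- the centraliser of `v` in the socle is a 2-group
  have hno : ∀ c, c ∈ L → c * v = v * c → Odd (orderOf c) → c = 1 := by
    intro c hc hcv hco
    set z' := c * z * c⁻¹ with hz'
    have hz'R : z' ∈ R := hCN c hcv z hzR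
    have hz'1 : z' ≠ 1 := fun e => hz1 (conj_eq_one_iff.1 e)
    set s' := c * s * c⁻¹ with hs1
    have hs'o : orderOf s' = 2 := by rw [hs1, Invol.order_conj, hso]
    have e1 : s * z' = z' * s :=
      hcomm z hzL hz1 (hRodd z hzR) s z' (hinv s hso) (hinL z' (hRL hz'R)) hsz
        (hRcomm _ hz'R _ hzR)
    have e2 : s * s' = s' * s :=
      hcomm z' (hRL hz'R) hz'1 (hRodd z' hz'R) s s' (hinv s hso) (hinv s' hs'o) e1 (by
        rw [hs1, hz', show c * s * c⁻¹ * (c * z * c⁻¹) = c * (s * z) * c⁻¹ by group, hsz]; group)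
    have e3 : v * s' = s' * v := by
      have hcv' : c⁻¹ * v = v * c⁻¹ := ((show Commute c v from hcv).inv_left).eq
      calc v * s' = v * c * s * c⁻¹ := by rw [hs1]; group
        _ = c * (v * s) * c⁻¹ := by rw [← hcv]; group
        _ = c * s * (v * c⁻¹) := by rw [← hscomm]; group
        _ = s' * v := by rw [← hcv', hs1]; group
    have hfixc : c * v * c⁻¹ = v := by rw [hcv, mul_inv_cancel_right]
    have hc2 : (c * c) * s = s * (c * c) := by
      refine mul_inv_eq_iff_eq_mul.1 ?_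
      rw [show c * c * s * (c * c)⁻¹ = c * (c * s * c⁻¹) * c⁻¹ by group, ← hs1]
      rcases comm_involution_cases h hv hso hs'o hsv.symm hscomm.symm e3 e2 with e | e | e
      · exfalso
        rw [hs1, ← hfixc] at e
        exact hsv (mul_left_cancel (mul_right_cancel e))
      · rw [e, ← hs1, e]
      · rw [e, show c * (v * s) * c⁻¹ = c * v * c⁻¹ * (c * s * c⁻¹) by group, hfixc, ← hs1, e,
          ← mul_assoc, hord2 v hv, one_mul]
    have hcs : c * s = s * c := by
      obtain ⟨k, hk⟩ := hco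
      have e4 : c = (c * c) ^ (k + 1) := by
        rw [← pow_two, ← pow_mul, show 2 * (k + 1) = orderOf c + 1 by omega, pow_succ,
          pow_orderOf_eq_one, one_mul]
      rw [e4]
      exact ((show Commute (c * c) s from hc2).pow_left _).eq
    refine hfpf c hc hco ?_ hcv.symm
    rcases hus with e | e
    · rw [e]; exact hcs.symm
    · rw [e]; exact ((show Commute c s from hcs).mul_right (show Commute c v from hcv)).symm.eq
  by_cases hvL : v ∈ L
  · have hsL : s ∈ L := by
      rcases hus with e | e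
      · exact e ▸ huL
      · have := mul_mem huL hvL
        rwa [e, mul_assoc, hord2 v hv, mul_one] at this
    obtain ⟨g, hg, hgs⟩ := facts.one_class v s hvL hsL hv hso
    have hg1 : g⁻¹ * z * g = 1 := by
      refine hno _ (mul_mem (mul_mem (inv_mem hg) hzL) hg) ?_ ?_
      · rw [← hgs] at hsz
        calc g⁻¹ * z * g * v = g⁻¹ * (z * (g * v * g⁻¹)) * g := by group
          _ = g⁻¹ * (g * v * g⁻¹ * z) * g := by rw [hsz]
          _ = v * (g⁻¹ * z * g) := by group
      · rw [show g⁻¹ * z * g = MulAut.conj g⁻¹ z by simp, MulEquiv.orderOf_eq]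
        exact hRodd z hzR
    exact hz1 (by
      calc z = g * (g⁻¹ * z * g) * g⁻¹ := by group
        _ = 1 := by rw [hg1]; group)
  -- outer involutions
  haveI := Fintype.ofFinite X
  set T := L ⊓ Subgroup.centralizer ({v} : Set X) with hT
  have hT2 : IsPGroup 2 T := by
    intro c
    refine ⟨(orderOf (c : X)).factorization 2, Subtype.ext ?_⟩
    rw [SubmonoidClass.coe_pow, Subgroup.coe_one]
    have hcv : (c : X) * v = v * c := Subgroup.mem_centralizer_singleton_iff.1 c.2.2
    refine hno _ (pow_mem c.2.1 _) ((show Commute (c : X) v from hcv).pow_left _).eq ?_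
    rw [orderOf_pow, Nat.gcd_eq_right (Nat.ordProj_dvd _ 2)]
    exact Nat.odd_iff.2 (Nat.two_dvd_ne_zero.1 (Nat.not_dvd_ordCompl Nat.prime_two
      (orderOf_pos _).ne'))
  have hTgt : 2 < Nat.card T := by
    have h2 : (2 : F) ≠ 0 := fun e => by
      have hc : CharP F 2 := CharP.ringChar_of_prime_eq_zero Nat.prime_two (by exact_mod_cast e) ▸
        ringChar.charP F
      obtain ⟨n, -, hn⟩ := FiniteField.card F 2
      rw [hn] at hodd
      exact Nat.not_odd_iff_even.2 (Even.pow_of_ne_zero (by norm_num) n.2.ne') hodd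
    haveI : Finite (MulAut PSL2) :=
      Finite.of_injective (fun e : MulAut PSL2 => (e : PSL2 → PSL2)) DFunLike.coe_injective
    let J := {p : PSL2 // p * p = 1 ∧ p ≠ 1}
    let I := {β : MulAut PSL2 // β ∈ Cfsg.inndiagPSL 2 F ∧ β * β = 1 ∧ β ≠ 1}
    let D : Subgroup L := T.subgroupOf L
    let f1 : L ⧸ D → I := Quotient.lift
      (fun g : L => ⟨ι ((g : X) * v * (g : X)⁻¹), hinv _ (by rw [Invol.order_conj, hv]), by
        rw [← map_mul, conj_mul, hord2 v hv, mul_one, mul_inv_cancel, map_one], fun e => hne1 v hv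
          (conj_eq_one_iff.1 (hι (e.trans (map_one ι).symm)))⟩)
      (fun g g' hgg => Subtype.ext (congrArg ι (by
        have := (Subgroup.mem_centralizer_singleton_iff.1
          (Subgroup.mem_subgroupOf.1 (QuotientGroup.leftRel_apply.1 hgg)).2)
        simp only [Subgroup.coe_mul, InvMemClass.coe_inv] at this
        calc (g : X) * v * (g : X)⁻¹ = (g : X) * (v * ((g : X)⁻¹ * g')) * (g' : X)⁻¹ := by group
          _ = (g : X) * ((g : X)⁻¹ * g' * v) * (g' : X)⁻¹ := by rw [this]
          _ = g' * v * (g' : X)⁻¹ := by group)))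
    let f : (L ⧸ D) ⊕ J → I := Sum.elim f1 fun p =>
      ⟨MulAut.conj p.1, by rw [mem_inndiag_iff_fld]; exact fldHom_inn ⟨p.1, rfl⟩, by
        rw [← map_mul, p.2.1, map_one], fun e => p.2.2 (conj_injective hnc (by rw [e, map_one]))⟩
    have hf : Function.Injective f := by
      have hdisj : ∀ a p, f (Sum.inl a) ≠ f (Sum.inr p) := by
        intro a p e
        induction a using QuotientGroup.induction_on with
        | _ g =>
          have e' : ι ((g : X) * v * (g : X)⁻¹) = MulAut.conj p.1 := congrArg Subtype.val e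
          have hm := (hmemL _).2 (show ι ((g : X) * v * (g : X)⁻¹) ∈ Cfsg.Inn PSL2 by
            rw [e']; exact ⟨p.1, rfl⟩)
          refine hvL ?_
          have := mul_mem (mul_mem (inv_mem g.2) hm) g.2
          rwa [show (g : X)⁻¹ * ((g : X) * v * (g : X)⁻¹) * g = v by group] at this
      rintro (a | p) (b | p') e
      · congr 1
        induction a using QuotientGroup.induction_on with
        | _ g =>
        induction b using QuotientGroup.induction_on with
        | _ g' =>
          have e' : (g : X) * v * (g : X)⁻¹ = g' * v * (g' : X)⁻¹ := hι (congrArg Subtype.val e)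
          rw [QuotientGroup.eq]
          refine Subgroup.mem_subgroupOf.2 ⟨(g⁻¹ * g').2, Subgroup.mem_centralizer_singleton_iff.2 ?_⟩
          simp only [Subgroup.coe_mul, InvMemClass.coe_inv]
          calc (g : X)⁻¹ * g' * v = (g : X)⁻¹ * (g' * v * (g' : X)⁻¹) * g' := by group
            _ = (g : X)⁻¹ * (g * v * (g : X)⁻¹) * g' := by rw [e']
            _ = v * ((g : X)⁻¹ * g') := by group
      · exact absurd e (hdisj a p')
      · exact absurd e.symm (hdisj b p)
      · exact congrArg Sum.inr (Subtype.ext (conj_injective hnc (congrArg Subtype.val e)))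
    have hkn := Nat.card_le_card_of_injective f hf
    rw [Nat.card_sum] at hkn
    have hLcard : Nat.card L = Nat.card PSL2 := by
      rw [← Subgroup.card_map_of_injective (K := L) hι, hL]
      exact (Nat.card_congr (MonoidHom.ofInjective (conj_injective hnc)).toEquiv).symm
    have hD : D.index * Nat.card T = Nat.card L := by
      rw [← Subgroup.card_mul_index D, mul_comm,
        Nat.card_congr (Subgroup.subgroupOfEquivOfLe (inf_le_left : T ≤ L)).toEquiv]
    refine orbit_bound (q := Fintype.card F) (C := Nat.card (SL2Inv.C : Subgroup _))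
      (i := Nat.card J) (k := D.index) ?_ card_invol_inndiag ?_
      (PSL2Inv.card_involutions_mul h2) (by rw [Subgroup.index_eq_card]; exact hkn) ?_ _
      (by rw [← hLcard]; exact hD)
    · rcases hodd with ⟨k, hk⟩; omega
    · rw [SL2Inv.card_C h2, Nat.card_eq_fintype_card]; split_ifs <;> omega
    · rw [← PSL2Inv.card_sl_eq h2, SL2Inv.card_sl2, Nat.card_eq_fintype_card]
  obtain ⟨j, hj⟩ := IsPGroup.iff_card.1 hT2
  have hj2 : 2 ^ 2 ∣ Nat.card T := by
    rw [hj] at hTgt ⊢
    refine pow_dvd_pow 2 ?_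
    by_contra hlt
    interval_cases j <;> simp at hTgt
  obtain ⟨T4, hT4⟩ := Sylow.exists_subgroup_card_pow_prime 2 hj2
  set T' := T4.map T.subtype with hT'
  have hT'c : Nat.card T' = 4 := by
    rw [hT', Subgroup.card_map_of_injective T.subtype_injective, hT4]; rfl
  haveI : IsMulCommutative T4 := IsPGroup.isMulCommutative_of_card_eq_prime_sq (p := 2) hT4
  haveI : IsMulCommutative T' := Subgroup.map_isMulCommutative _ _
  have hT'T : T' ≤ T := Subgroup.map_subtype_le T4
  have hzc : Subgroup.zpowers v ≤ Subgroup.centralizer (T' : Set X) :=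
    Subgroup.zpowers_le.2 (Subgroup.mem_centralizer_iff.2 fun c hc =>
      Subgroup.mem_centralizer_singleton_iff.1 (hT'T hc).2)
  set B := T' ⊔ Subgroup.zpowers v with hB
  haveI hBc : IsMulCommutative B := Subgroup.le_centralizer_iff_isMulCommutative.1 (by
    refine sup_le ?_ ?_ <;> rw [Subgroup.le_centralizer_iff] <;> refine sup_le ?_ ?_
    · exact Subgroup.le_centralizer_iff_isMulCommutative.2 inferInstance
    · exact hzc
    · exact Subgroup.le_centralizer_iff.1 hzc
    · exact Subgroup.le_centralizer_iff_isMulCommutative.2 inferInstance)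
  have hB2 : IsPGroup 2 B := IsPGroup.to_sup_of_normal_left'
    (IsPGroup.of_card (n := 2) hT'c)
    (IsPGroup.of_card (n := 1) (by rw [Nat.card_zpowers, hv, pow_one]))
    (hzc.trans (Subgroup.centralizer_le_normalizer _))
  rcases h.comm_subgroup hB2 hBc with hcyc | hle
  · obtain ⟨τ, hτ⟩ := exists_prime_orderOf_dvd_card' 2 (show 2 ∣ Nat.card T' by rw [hT'c]; norm_num)
    rw [← Subgroup.orderOf_coe] at hτ
    have hτv : (τ : X) ≠ v := fun e => hvL (e ▸ (hT'T τ.2).1)
    let τ' : B := ⟨τ, Subgroup.mem_sup_left τ.2⟩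
    let v'' : B := ⟨v, Subgroup.mem_sup_right (Subgroup.mem_zpowers v)⟩
    haveI := hcyc
    have := IsCyclic.card_pow_eq_one_le (α := B) (n := 2) two_pos
    have hsub : ({1, τ', v''} : Finset B) ⊆ Finset.univ.filter (fun a : B => a ^ 2 = 1) := by
      intro a ha
      simp only [Finset.mem_insert, Finset.mem_singleton] at ha
      rw [Finset.mem_filter]
      refine ⟨Finset.mem_univ _, ?_⟩
      rcases ha with rfl | rfl | rfl
      · exact one_pow 2
      · exact Subtype.ext (by rw [SubmonoidClass.coe_pow, pow_two]; exact hord2 _ hτ)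
      · exact Subtype.ext (by rw [SubmonoidClass.coe_pow, pow_two]; exact hord2 v hv)
    have hc3 := Finset.card_le_card hsub
    rw [Finset.card_insert_of_notMem, Finset.card_pair] at hc3
    · omega
    · intro e1; exact hτv (congrArg Subtype.val e1 :)
    · simp only [Finset.mem_insert, Finset.mem_singleton, τ', v'', Subtype.ext_iff, Subgroup.coe_one]
      rintro (e1 | e1)
      · exact hne1 _ hτ e1.symm
      · exact hne1 v hv e1.symm
  · have heq : T' = B := Subgroup.eq_of_le_of_card_ge le_sup_left (by rw [hT'c]; exact hle)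
    exact hvL (hT'T (heq ▸ Subgroup.mem_sup_right (Subgroup.mem_zpowers v))).1

/-- A four-group normalising an odd subgroup: the case of a socle `PSL₂(q)`. -/
theorem four_odd_psl {X : Type u} [Group X] [Finite X] [IsSimpleGroup PSL2]
    (h : DihSylow X) (hnc : ¬ IsMulCommutative PSL2) (hodd : Odd (Fintype.card F))
    (h3 : 3 < Fintype.card F) (L : Subgroup X) (hLn : L.Normal) (hLs : IsSimpleGroup L)
    (hLnc : ¬ IsMulCommutative L) (ι : X →* MulAut PSL2) (hι : Function.Injective ι)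
    (hL : L.map ι = Cfsg.Inn PSL2) (hfld : ∀ x : X, Odd (orderOf (fldHom (ι x))))
    {u v : X} (hu : orderOf u = 2) (hv : orderOf v = 2) (hne : u ≠ v) (huv : u * v = v * u)
    {D : Subgroup X} (hD : Odd (Nat.card D)) (hnu : ∀ x ∈ D, u * x * u⁻¹ ∈ D)
    (hnv : ∀ x ∈ D, v * x * v⁻¹ ∈ D) :
    (∀ x ∈ D, u * x = x * u) ∨ (∀ x ∈ D, v * x = x * v) ∨ (∀ x ∈ D, u * v * x = x * (u * v)) := by
  classical
  haveI := hLn
  have facts := socleFacts h hnc hodd h3 L hLn hLs hLnc ι hι hL hfld
  have hord2 : ∀ w : X, orderOf w = 2 → w * w = 1 := fun w hw => by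
    rw [← pow_two, ← hw, pow_orderOf_eq_one]
  have hmemN : ∀ w : X, orderOf w = 2 → (∀ x ∈ D, w * x * w⁻¹ ∈ D) →
      w ∈ Subgroup.normalizer (D : Set X) := by
    intro w hw hn
    rw [Subgroup.mem_normalizer_iff]
    refine fun x => ⟨hn x, fun hx => ?_⟩
    have := hn _ hx
    rwa [show w * (w * x * w⁻¹) * w⁻¹ = w * w * x * (w * w)⁻¹ by group, hord2 w hw, one_mul, inv_one,
      mul_one] at this
  have huN := hmemN u hu hnu
  have hvN := hmemN v hv hnv
  by_cases hbot : D ⊓ L = ⊥
  · refine Or.inl fun d hd => ?_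
    set x := d⁻¹ * (u * d * u⁻¹) with hx
    have hxD : x ∈ D := mul_mem (inv_mem hd) (hnu d hd)
    have hinv : u * x * u⁻¹ = x⁻¹ := by
      rw [hx]
      calc u * (d⁻¹ * (u * d * u⁻¹)) * u⁻¹ = u * d⁻¹ * (u * d * (u * u)⁻¹) := by group
        _ = u * d⁻¹ * u * d := by rw [hord2 u hu, inv_one, mul_one, ← mul_assoc]
        _ = (d⁻¹ * (u * d * u⁻¹))⁻¹ := by
          simp only [_root_.mul_inv_rev, inv_inv, inv_eq_of_mul_eq_one_right (hord2 u hu)]
          simp only [mul_assoc]
    have hxL := facts.inverted_mem u x (hord2 u hu)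
      (hD.of_dvd_nat (Subgroup.orderOf_dvd_natCard D hxD)) hinv
    have : x = 1 := Subgroup.mem_bot.1 (hbot ▸ ⟨hxD, hxL⟩)
    rw [hx, inv_mul_eq_one] at this
    exact (mul_inv_eq_iff_eq_mul.1 this.symm)
  have hD0o : Odd (Nat.card (D ⊓ L : Subgroup X)) :=
    hD.of_dvd_nat (Subgroup.card_dvd_of_le inf_le_left)
  obtain ⟨R, hRD, hRne, hRc, hNR⟩ := exists_char_comm hD0o hbot
  have hRN : ∀ g, g ∈ Subgroup.normalizer (D : Set X) → ∀ r ∈ R, g * r * g⁻¹ ∈ R := by
    intro g hg r hr
    have h2 : g ∈ Subgroup.normalizer ((D ⊓ L : Subgroup X) : Set X) := by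
      rw [Subgroup.mem_normalizer_iff]
      intro x
      exact and_congr ((Subgroup.mem_normalizer_iff.1 hg) x)
        ⟨fun hx => hLn.conj_mem x hx g, fun hx => by simpa [mul_assoc] using hLn.conj_mem _ hx g⁻¹⟩
    exact ((Subgroup.mem_normalizer_iff.1 (hNR h2)) r).1 hr
  have hRo : ∀ r ∈ R, Odd (orderOf r) := fun r hr =>
    hD0o.of_dvd_nat (Subgroup.orderOf_dvd_natCard _ (hRD hr))
  have hRcomm : ∀ a ∈ R, ∀ b ∈ R, a * b = b * a := fun a ha b hb =>
    congrArg Subtype.val (mul_comm' (⟨a, ha⟩ : R) ⟨b, hb⟩)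
  have hinL : ∀ x ∈ L, ι x ∈ Cfsg.inndiagPSL 2 F := fun x hx => by
    rw [mem_inndiag_iff_fld]
    exact fldHom_inn (hL ▸ Subgroup.mem_map_of_mem ι hx)
  have hinv : ∀ w : X, orderOf w = 2 → ι w ∈ Cfsg.inndiagPSL 2 F := by
    intro w hw
    rw [mem_inndiag_iff_fld]
    refine eq_one_of_sq_odd ?_ (hfld w)
    rw [← map_mul, ← map_mul, hord2 w hw, map_one, map_one]
  have hcomm : ∀ z : X, z ∈ R → z ≠ 1 → ∀ a b : X, ι a ∈ Cfsg.inndiagPSL 2 F →
      ι b ∈ Cfsg.inndiagPSL 2 F → a * z = z * a → b * z = z * b → a * b = b * a := by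
    intro z hz hz1 a b ha hb haz hbz
    refine hι ?_
    rw [map_mul, map_mul]
    refine inndiag_centraliser_comm (hinL z (hRD hz).2)
      (fun e => hz1 (eq_one_of_sq_odd (hι (by rw [map_mul, e, map_one])) (hRo z hz))) ha hb ?_ ?_
    · rw [← map_mul, ← map_mul, haz]
    · rw [← map_mul, ← map_mul, hbz]
  have hfix : ∀ w : X, orderOf w = 2 → w ∈ Subgroup.normalizer (D : Set X) →
      (∀ r ∈ R, w * r = r * w) ∨ ∀ r ∈ R, w * r * w⁻¹ = r⁻¹ := by
    intro w hw hwN
    by_cases hex : ∃ r ∈ R, r ≠ 1 ∧ w * r = r * w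
    · obtain ⟨r, hr, hr1, hwr⟩ := hex
      exact Or.inl fun r' hr' =>
        hcomm r hr hr1 w r' (hinv w hw) (hinL r' (hRD hr').2) hwr (hRcomm _ hr' _ hr)
    · push Not at hex
      refine Or.inr fun r hr => ?_
      set r' := w * r * w⁻¹ with hr'
      have hr'R : r' ∈ R := hRN w hwN r hr
      refine eq_inv_of_mul_eq_one_right ?_
      by_contra hne1
      refine hex _ (mul_mem hr hr'R) hne1 (mul_inv_eq_iff_eq_mul.1 ?_)
      calc w * (r * r') * w⁻¹ = r' * (w * w * r * (w * w)⁻¹) := by rw [hr']; group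
        _ = r' * r := by rw [hord2 w hw, one_mul, inv_one, mul_one]
        _ = r * r' := hRcomm _ hr'R _ hr
  obtain ⟨⟨z, hzR⟩, hz1⟩ := Subgroup.ne_bot_iff_exists_ne_one.1 hRne
  have hz1' : z ≠ 1 := fun e => hz1 (Subtype.ext e)
  have key : ∀ s : X, orderOf s = 2 → (∀ r ∈ R, s * r = r * s) → ∀ d ∈ D, s * d = d * s := by
    intro s hs hsR d hd
    by_contra hne'
    have hd' : d⁻¹ ∈ Subgroup.normalizer (D : Set X) := Subgroup.le_normalizer (inv_mem hd)
    have h1 : d⁻¹ * z * d ∈ R := by simpa using hRN _ hd' z hzR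
    have hs' : d * s * d⁻¹ * z = z * (d * s * d⁻¹) := by
      calc d * s * d⁻¹ * z = d * (s * (d⁻¹ * z * d)) * d⁻¹ := by group
        _ = d * (d⁻¹ * z * d * s) * d⁻¹ := by rw [hsR _ h1]
        _ = z * (d * s * d⁻¹) := by group
    have hso : orderOf (d * s * d⁻¹) = 2 := by rw [Invol.order_conj, hs]
    refine hz1' (no_four_cent h hnc hodd L hLs hLnc ι hι hL hfld hs hso (fun e => hne' ?_)
      (hcomm z hzR hz1' s _ (hinv s hs) (hinv _ hso) (hsR z hzR) hs') (hRD hzR).2 (hRo z hzR)
      (hsR z hzR) hs')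
    exact eq_mul_inv_iff_mul_eq.1 e
  rcases hfix u hu huN with h1 | h1
  · exact Or.inl (key u hu h1)
  rcases hfix v hv hvN with h2 | h2
  · exact Or.inr (Or.inl (key v hv h2))
  refine Or.inr (Or.inr (key _ (Invol.order_two_of_sq ?_ fun e => hne ?_) fun r hr => ?_))
  · rw [mul_assoc, ← mul_assoc v, ← huv, mul_assoc, hord2 v hv, mul_one, hord2 u hu]
  · rw [mul_eq_one_iff_eq_inv] at e
    rw [e, inv_eq_of_mul_eq_one_right (hord2 v hv)]
  · refine mul_inv_eq_iff_eq_mul.1 ?_
    calc u * v * r * (u * v)⁻¹ = u * (v * r * v⁻¹) * u⁻¹ := by group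
      _ = (u * r * u⁻¹)⁻¹ := by rw [h2 r hr]; group
      _ = r := by rw [h1 r hr, inv_inv]

end Cfsg.Agent.GW
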