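import Cfsg.Agent.Lib.GW.QGroupMain
import Cfsg.Agent.Lib.Small.SL23
import Cfsg.Agent.Lib.Solvable.Coprime
import Cfsg.Agent.Lib.Transfer.PGroup
import Cfsg.Agent.Lib.GW.FieldPart
import Cfsg.Agent.S1213

/-!
The involution centralisers of a group with quasi-dihedral or wreathed Sylow 2-subgroups and no
subgroup of index two, given the simple case.
-/

set_option autoImplicit false
set_option linter.style.haveILetI false

namespace Cfsg.Agent.GW

open Matrix Cfsg.Agent.AutPSL
open scoped commutatorElement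

universe u

/-- The outer automorphism group of `PSL(2, q)` is abelian. -/
theorem psl2_out_comm {F : Type} [Field F] [Fintype F] (hodd : Odd (Fintype.card F))
    (α β : MulAut (ProjectiveSpecialLinearGroup (Fin 2) F)) :
    ∃ l : ProjectiveSpecialLinearGroup (Fin 2) F, α * β * (β * α)⁻¹ = MulAut.conj l := by
  obtain ⟨g, σ, rfl⟩ := exists_semi α
  obtain ⟨h, τ, rfl⟩ := exists_semi β
  have hsplit : ∀ (x : GL (Fin 2) F) (ρ : F ≃+* F),
      (semi x ρ : MulAut (ProjectiveSpecialLinearGroup (Fin 2) F)) = semi x 1 * semi 1 ρ := by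
    intro x ρ; rw [semi_mul', mapGL_one, mul_one, one_mul]
  rw [semi_mul', semi_mul', ringAut_comm τ σ, hsplit (g * mapGL σ h), hsplit (h * mapGL τ g),
    _root_.mul_inv_rev, ← mul_assoc, mul_inv_cancel_right, semi_left, semi_mul', mapGL_one, one_mul]
  have hidx : (powMonoidHom 2 : Fˣ →* Fˣ).range.index = 2 := by
    rw [Subgroup.index_eq_card, card_quotient_powMonoidHom rfl]
    obtain ⟨k, hk⟩ := hodd
    rw [hk, Nat.add_sub_cancel]
    exact Nat.gcd_mul_right_right 2 k ▸ by rw [Nat.gcd_comm]; exact Nat.gcd_mul_left_left 2 k ▸ by simp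
  set Sq := (powMonoidHom 2 : Fˣ →* Fˣ).range
  have hfld : ∀ (ρ : F ≃+* F) (u : GL (Fin 2) F),
      GeneralLinearGroup.det (mapGL ρ u) ∈ Sq ↔ GeneralLinearGroup.det u ∈ Sq := by
    intro ρ u
    have hd : ((GeneralLinearGroup.det (mapGL ρ u) : Fˣ) : F) = ρ (GeneralLinearGroup.det u : Fˣ) :=
      (RingEquiv.map_det ρ (u : Matrix (Fin 2) (Fin 2) F)).symm
    constructor
    · rintro ⟨v, hv⟩
      refine ⟨Units.map (ρ.symm : F →* F) v, Units.ext ?_⟩
      have hv' : ((v : F)) ^ 2 = ρ (GeneralLinearGroup.det u : Fˣ) := by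
        rw [← hd, ← hv]; rfl
      show (ρ.symm (v : F)) ^ 2 = _
      rw [← map_pow, hv', RingEquiv.symm_apply_apply]
    · rintro ⟨v, hv⟩
      refine ⟨Units.map (ρ : F →* F) v, Units.ext ?_⟩
      show (ρ (v : F)) ^ 2 = _
      rw [← map_pow, hd, ← hv]
      rfl
  have hmem : (semi (g * mapGL σ h * (h * mapGL τ g)⁻¹) 1 :
      MulAut (ProjectiveSpecialLinearGroup (Fin 2) F)) ∈
      (MulAut.conj : ProjectiveSpecialLinearGroup (Fin 2) F →* _).range := by
    rw [semi_mem_inn le_rfl, map_mul, map_inv, map_mul, map_mul, Subgroup.mul_mem_iff_of_index_two hidx,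
      Subgroup.mul_mem_iff_of_index_two hidx, inv_mem_iff, Subgroup.mul_mem_iff_of_index_two hidx,
      hfld, hfld]
    tauto
  obtain ⟨l, hl⟩ := hmem
  exact ⟨l, hl.symm⟩

/-- A quasi-dihedral or wreathed group is abelian over any non-commutative normal subgroup without a
four-subgroup. -/
theorem qd_wr_quotient_comm {S : Type*} [Group S]
    (hS : Cfsg.IsQuasiDihedral S ∨ Cfsg.IsWreathed S) (Q : Subgroup S) [Q.Normal]
    (hQ : ¬ IsMulCommutative Q) : ∀ a b : S, a * b * a⁻¹ * b⁻¹ ∈ Q := by
  have hcardne : Nat.card S ≠ 0 := by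
    rcases hS with ⟨n, -, h, -⟩ | ⟨n, -, h, -⟩ <;> rw [h] <;> exact pow_ne_zero _ two_ne_zero
  haveI : Finite S := Nat.finite_of_card_ne_zero hcardne
  obtain ⟨A, hA, hAi⟩ : ∃ A : Subgroup S, (∀ a ∈ A, ∀ b ∈ A, a * b = b * a) ∧ A.index = 2 := by
    rcases hS with ⟨n, hn, hc, x, y, hx, -, -⟩ | ⟨n, hn, hc, x, y, z, hx, hxy, hd, -, hzx⟩
    · refine ⟨Subgroup.zpowers x, fun a ha b hb => ?_, ?_⟩
      · obtain ⟨i, rfl⟩ := ha; obtain ⟨j, rfl⟩ := hb
        show x ^ i * x ^ j = x ^ j * x ^ i
        rw [← _root_.zpow_add, ← _root_.zpow_add, add_comm]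
      · have h := Subgroup.card_mul_index (Subgroup.zpowers x)
        rw [Nat.card_zpowers, hx, hc, pow_succ] at h
        exact Nat.eq_of_mul_eq_mul_left (by positivity) h
    · set A := Subgroup.zpowers x ⊔ Subgroup.zpowers y with hA
      have hcomm : ∀ a ∈ A, ∀ b ∈ A, a * b = b * a := by
        have h1 : A ≤ Subgroup.centralizer ({x, y} : Set S) := sup_le
          (Subgroup.zpowers_le.2 (Subgroup.mem_centralizer_iff.2 fun w hw => by
            rcases hw with rfl | rfl
            · rfl
            · exact hxy.symm))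
          (Subgroup.zpowers_le.2 (Subgroup.mem_centralizer_iff.2 fun w hw => by
            rcases hw with rfl | rfl
            · exact hxy
            · rfl))
        have h2 : A ≤ Subgroup.centralizer (A : Set S) := by
          refine h1.trans ?_
          rw [show (A : Subgroup S) = Subgroup.closure {x, y} by
            rw [hA, Subgroup.zpowers_eq_closure, Subgroup.zpowers_eq_closure, ← Subgroup.closure_union,
              Set.singleton_union], Subgroup.centralizer_closure]
        exact fun a ha b hb => (Subgroup.mem_centralizer_iff.1 (h2 ha) b hb).symm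
      refine ⟨A, hcomm, ?_⟩
      have hy : orderOf y = 2 ^ n := by
        rw [← hzx, ← hx]
        exact (MulAut.conj z).orderOf_eq x
      let g : Subgroup.zpowers x × Subgroup.zpowers y → A := fun p =>
        ⟨p.1.1 * p.2.1, mul_mem (Subgroup.mem_sup_left p.1.2) (Subgroup.mem_sup_right p.2.2)⟩
      have hg : Function.Injective g := fun p q e => Prod.ext_iff.2 (by
        have h := congrArg Subtype.val e
        have h2 : (q.1.1)⁻¹ * p.1.1 = q.2.1 * (p.2.1)⁻¹ := by
          rw [eq_mul_inv_iff_mul_eq, mul_assoc, show p.1.1 * p.2.1 = q.1.1 * q.2.1 from h,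
            inv_mul_cancel_left]
        have h3 : (q.1.1)⁻¹ * p.1.1 ∈ (⊥ : Subgroup S) :=
          hd ▸ Subgroup.mem_inf.2 ⟨(Subgroup.zpowers x).mul_mem ((Subgroup.zpowers x).inv_mem q.1.2) p.1.2,
            h2.symm ▸ (Subgroup.zpowers y).mul_mem q.2.2 ((Subgroup.zpowers y).inv_mem p.2.2)⟩
        rw [Subgroup.mem_bot] at h3
        rw [h3] at h2
        exact ⟨Subtype.ext (inv_mul_eq_one.1 h3).symm, Subtype.ext (mul_inv_eq_one.1 h2.symm).symm⟩)
      have h1 := Nat.card_le_card_of_injective g hg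
      rw [Nat.card_prod, Nat.card_zpowers, Nat.card_zpowers, hx, hy, ← pow_add, ← two_mul] at h1
      have h := Subgroup.card_mul_index A
      rw [hc, pow_succ] at h
      have hpos : 0 < 2 ^ (2 * n) := by positivity
      have hz : A.index ≠ 1 := by
        intro h'
        have h2 := hcomm z (Subgroup.index_eq_one.1 h' ▸ Subgroup.mem_top z) x
          (Subgroup.mem_sup_left (Subgroup.mem_zpowers x))
        rw [h2, mul_inv_cancel_right] at hzx
        have h3 : x ∈ (⊥ : Subgroup S) := hd ▸ Subgroup.mem_inf.2 ⟨Subgroup.mem_zpowers x, hzx ▸ Subgroup.mem_zpowers x⟩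
        rw [Subgroup.mem_bot] at h3
        rw [h3, orderOf_one] at hx
        have := Nat.one_lt_two_pow (show n ≠ 0 by omega)
        omega
      have h0 := Subgroup.index_ne_zero_of_finite (H := A)
      by_contra hne
      have h3 : 3 ≤ A.index := by omega
      have := Nat.mul_le_mul h1 h3
      omega
  obtain ⟨q, hq, hqA⟩ : ∃ q ∈ Q, q ∉ A := by
    by_contra! h
    exact hQ ⟨⟨fun a b => Subtype.ext (hA a (h a a.2) b (h b b.2))⟩⟩
  intro a b
  set π := QuotientGroup.mk' Q with hπ
  have hred : ∀ r : S, ∃ r' ∈ A, π r = π r' := by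
    intro r
    by_cases hr : r ∈ A
    · exact ⟨r, hr, rfl⟩
    · refine ⟨r * q, (Subgroup.mul_mem_iff_of_index_two hAi).2 (iff_of_false hr hqA), ?_⟩
      rw [map_mul, show π q = 1 from (QuotientGroup.eq_one_iff q).2 hq, mul_one]
  obtain ⟨a', ha', hae⟩ := hred a
  obtain ⟨b', hb', hbe⟩ := hred b
  rw [← QuotientGroup.eq_one_iff, ← QuotientGroup.mk'_apply, ← hπ, map_mul, map_mul, map_mul, map_inv,
    map_inv, hae, hbe, ← map_mul, ← map_inv, ← map_mul, ← map_inv, ← map_mul, hA a' ha' b' hb',
    mul_inv_cancel_right, mul_inv_cancel, map_one]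

variable {H : Type u} [Group H] [Finite H]

/-- The commutator subgroup over a quaternion extension with quasi-dihedral or wreathed Sylow 2. -/
theorem commutator_sl_two (hG : SimpleDihedral.{u}) (S : Sylow 2 H)
    (hS : Cfsg.IsQuasiDihedral (S : Subgroup H) ∨ Cfsg.IsWreathed (S : Subgroup H))
    (hO : Cfsg.oddCore H = ⊥) (K : Subgroup H) (hK : K.Normal) {a : ℕ} (hKi : K.index = 2 ^ a)
    (hK2 : ∀ M : Subgroup ↥K, M.index ≠ 2)
    (hKQ : ∀ P : Sylow 2 ↥K, ∃ m : ℕ, 1 ≤ m ∧
      Nonempty ((P : Subgroup ↥K) ≃* QuaternionGroup (2 ^ m))) :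
    ∃ (F : Type) (_ : Field F) (_ : Fintype F), Odd (Fintype.card F) ∧
      Nonempty (commutator H ≃* SpecialLinearGroup (Fin 2) F) := by
  classical
  haveI := hK
  haveI : Fact (Nat.Prime 2) := ⟨Nat.prime_two⟩
  haveI : Fact (Nat.Prime 3) := ⟨Nat.prime_three⟩
  obtain ⟨L₀, hLn, hLK, ⟨F, i1, i2, hF, hcase, ⟨e⟩⟩, -⟩ :=
    q_group_structure hG S hS hO K hK hKi hK2 hKQ
  haveI := hLn
  refine ⟨F, i1, i2, hF, ?_⟩
  suffices hcomm : commutator H = L₀ from ⟨(MulEquiv.subgroupCongr hcomm).trans e⟩
  obtain ⟨T, hT⟩ := DGroup.exists_sylow_inf S K hK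
  obtain ⟨m, hm, ⟨eT⟩⟩ := hKQ T
  have hn : 2 ≤ 2 ^ m := Nat.le_self_pow (by omega) 2
  obtain ⟨hR, -, -, -⟩ := BrauerSuzuki.exists_quaternion_data T hn eT
  set Q := K.subgroupOf (S : Subgroup H) with hQ
  have hTQ : ∀ t : K, t ∈ (T : Subgroup K) → (t : H) ∈ (S : Subgroup H) := fun t ht => (hT.le ht :)
  have hQnc : ¬ IsMulCommutative Q := by
    intro hc
    have hTc : IsMulCommutative (T : Subgroup K) := ⟨⟨fun s t => Subtype.ext (Subtype.ext (by
      have := congrArg (fun w : Q => ((w : (S : Subgroup H)) : H))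
        (mul_comm' (⟨⟨((s : K) : H), hTQ s s.2⟩, (s : K).2⟩ : Q) ⟨⟨((t : K) : H), hTQ t t.2⟩, (t : K).2⟩)
      exact this))⟩⟩
    haveI := hTc
    haveI h1 : IsMulCommutative (QuaternionGroup (2 ^ m)) := ⟨⟨fun p q => eT.symm.injective (by
      rw [map_mul, map_mul, mul_comm'])⟩⟩
    have h2 := mul_comm' (QuaternionGroup.a (1 : ZMod (2 * 2 ^ m))) (QuaternionGroup.xa 0)
    rw [QuaternionGroup.a_mul_xa, QuaternionGroup.xa_mul_a] at h2
    injection h2 with h2
    have h3 : ((2 : ℕ) : ZMod (2 * 2 ^ m)) = 0 := by push_cast; linear_combination -h2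
    rw [ZMod.natCast_eq_zero_iff] at h3
    have := Nat.le_of_dvd two_pos h3
    omega
  -- the quotient by `K` is abelian
  have hπ : Function.Surjective ((QuotientGroup.mk' K).comp (S : Subgroup H).subtype) := by
    have hQ2 : IsPGroup 2 (H ⧸ K) := IsPGroup.of_card (n := a) (by rw [← Subgroup.index_eq_card, hKi])
    let S' : Sylow 2 (H ⧸ K) := S.mapSurjective (QuotientGroup.mk'_surjective K)
    have htop : (S' : Subgroup (H ⧸ K)) = ⊤ := (S'.is_maximal' (hQ2.to_subgroup ⊤) le_top).symm
    intro x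
    have hx : x ∈ (S' : Subgroup (H ⧸ K)) := htop ▸ Subgroup.mem_top x
    obtain ⟨s, hs, rfl⟩ := hx
    exact ⟨⟨s, hs⟩, rfl⟩
  have hcK : commutator H ≤ K := by
    rw [commutator_def, Subgroup.commutator_le]
    intro x _ y _
    obtain ⟨s, hs⟩ := hπ (QuotientGroup.mk' K x)
    obtain ⟨t, ht⟩ := hπ (QuotientGroup.mk' K y)
    rw [← QuotientGroup.eq_one_iff, ← QuotientGroup.mk'_apply, map_commutatorElement, ← hs, ← ht,
      ← map_commutatorElement, MonoidHom.comp_apply, QuotientGroup.mk'_apply, QuotientGroup.eq_one_iff,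
      commutatorElement_def]
    exact qd_wr_quotient_comm hS Q hQnc s t
  rcases hcase with ⟨hLeq, hF3⟩ | hF3
  · -- `SL(2, 3)`
    subst hLeq
    refine le_antisymm hcK ?_
    by_contra hnot
    set P := commutator H with hP
    let eF : F ≃+* ZMod 3 := (ZMod.ringEquivOfPrime F Nat.prime_three hF3).symm
    let e3 : L₀ ≃* SpecialLinearGroup (Fin 2) (ZMod 3) :=
      e.trans ({ Matrix.SpecialLinearGroup.map eF.toRingHom with
        invFun := Matrix.SpecialLinearGroup.map eF.symm.toRingHom
        left_inv := fun A => by ext i j; simp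
        right_inv := fun A => by ext i j; simp } )
    have hcK24 : Nat.card L₀ = 24 := by
      rw [Nat.card_congr e3.toEquiv, TwoByTwo.card_sl_two, Nat.card_zmod]; rfl
    have hc8 : Nat.card (commutator L₀) = 8 := by
      rw [← SL23.card_commutator, ← Subgroup.card_map_of_injective (f := e3.toMonoidHom) e3.injective]
      congr 2
      rw [commutator_def, commutator_def, Subgroup.map_commutator,
        Subgroup.map_top_of_surjective _ e3.surjective]
    have hPL : (commutator L₀).map L₀.subtype ≤ P := by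
      rw [hP, Subgroup.map_subtype_commutator, commutator_def]
      exact Subgroup.commutator_mono le_top le_top
    have hPc : Nat.card P = 8 := by
      have h1 : 8 ∣ Nat.card P := by
        rw [← hc8, ← Subgroup.card_map_of_injective L₀.subtype_injective]
        exact Subgroup.card_dvd_of_le hPL
      have h2 : Nat.card P ∣ 24 := hcK24 ▸ Subgroup.card_dvd_of_le hcK
      have h3 : Nat.card P ≠ 24 := fun h => hnot (Subgroup.eq_of_le_of_card_ge hcK (by rw [h, hcK24])).ge
      have h4 := Nat.le_of_dvd (by norm_num) h2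
      obtain ⟨k, hk⟩ := h1
      have : k ≤ 3 := by omega
      have hk0 : 0 < Nat.card P := Nat.card_pos
      interval_cases k <;> first | omega | (rw [hk] at h2; norm_num at h2)
    haveI : P.Normal := inferInstanceAs (commutator H).Normal
    have hPS : P ≤ (S : Subgroup H) :=
      IsPGroup.le_sylow_of_normal (IsPGroup.of_card (p := 2) (n := 3) (by rw [hPc]; rfl)) S
    obtain ⟨c₀, hc₀⟩ := exists_prime_orderOf_dvd_card' (G := L₀) 3 (by rw [hcK24]; norm_num)
    set c : H := (c₀ : H) with hc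
    have hco : orderOf c = 3 := by rw [hc, Subgroup.orderOf_coe, hc₀]
    have hcom : ∀ r : H, c * r * c⁻¹ * r⁻¹ ∈ P := fun r =>
      Subgroup.commutator_mem_commutator (Subgroup.mem_top c) (Subgroup.mem_top r)
    have hcN : c ∈ Subgroup.normalizer ((S : Subgroup H) : Set H) := by
      rw [Subgroup.mem_normalizer_iff]
      intro r
      have e' : c * r * c⁻¹ = c * r * c⁻¹ * r⁻¹ * r := by group
      constructor
      · intro hr
        rw [e']; exact mul_mem (hPS (hcom r)) hr
      · intro hr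
        rw [e'] at hr
        exact (Subgroup.mul_mem_cancel_left _ (hPS (hcom r))).1 hr
    set Φ := frattini (S : Subgroup H) with hΦ
    let π := QuotientGroup.mk' Φ
    have hsq : ∀ x : (S : Subgroup H) ⧸ Φ, x * x = 1 := by
      intro x
      induction x using QuotientGroup.induction_on with
      | _ r =>
        rw [← QuotientGroup.mk_mul, QuotientGroup.eq_one_iff, ← pow_two]
        exact PGroupBasics.pow_mem_frattini S.2 r
    letI : CommGroup ((S : Subgroup H) ⧸ Φ) :=
      { (inferInstance : Group ((S : Subgroup H) ⧸ Φ)) with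
        mul_comm := fun x y => by
          have h1 : ∀ z : (S : Subgroup H) ⧸ Φ, z⁻¹ = z := fun z => inv_eq_of_mul_eq_one_right (hsq z)
          calc x * y = (x * y)⁻¹ := (h1 _).symm
            _ = y * x := by rw [_root_.mul_inv_rev, h1, h1] }
    obtain ⟨⟨g1, g2, hgen⟩, y, x, hy, hxy⟩ := qd_wr_facts hS
    have hE4 : Nat.card ((S : Subgroup H) ⧸ Φ) ≤ 4 :=
      elem_image_le_four hsq hgen π (QuotientGroup.mk'_surjective Φ)
    set W := (P.subgroupOf (S : Subgroup H)).map π with hW
    have hW2 : Nat.card W ≤ 2 := by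
      by_contra hgt
      have hdvd := Subgroup.card_subgroup_dvd_card W
      have hle := Nat.le_of_dvd Nat.card_pos hdvd
      have htop : W = ⊤ := Subgroup.eq_top_of_card_eq W (by
        obtain ⟨k, hk⟩ := hdvd
        have : k ≤ 1 := by
          by_contra hk'
          have := Nat.mul_le_mul_left (Nat.card W) (show 2 ≤ k by omega)
          omega
        have : k ≠ 0 := fun h => by
          rw [h, mul_zero] at hk
          exact absurd hk Nat.card_pos.ne'
        rw [hk, show k = 1 by omega, mul_one])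
      have hsup : P.subgroupOf (S : Subgroup H) ⊔ Φ = ⊤ := by
        rw [← QuotientGroup.ker_mk' Φ, ← Subgroup.comap_map_eq, ← hW, htop, Subgroup.comap_top]
      have hSP : (S : Subgroup H) ≤ P := Subgroup.subgroupOf_eq_top.1 (frattini_nongenerating hsup)
      have hSK : (S : Subgroup H) ≤ L₀ := hSP.trans hcK
      haveI : Nontrivial (S : Subgroup H) := ⟨y, 1, Invol.ne_one hy⟩
      haveI : Nontrivial (Subgroup.center (S : Subgroup H)) := IsPGroup.center_nontrivial S.2
      obtain ⟨⟨k, hk⟩, hk'⟩ := exists_ne (1 : Subgroup.center (S : Subgroup H))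
      have hk1 : k ≠ 1 := fun h => hk' (Subtype.ext h)
      obtain ⟨j, hj⟩ := IsPGroup.iff_orderOf.1 S.2 k
      have hj0 : j ≠ 0 := fun h => hk1 (orderOf_eq_one_iff.1 (by rw [hj, h, pow_zero]))
      have hzo : orderOf (k ^ 2 ^ (j - 1)) = 2 := by
        rw [orderOf_pow_of_dvd (pow_ne_zero _ two_ne_zero) (hj ▸ pow_dvd_pow 2 (by omega)), hj,
          Nat.pow_div (by omega) two_pos, show j - (j - 1) = 1 by omega, pow_one]
      have hzc : k ^ 2 ^ (j - 1) ∈ Subgroup.center (S : Subgroup H) := pow_mem hk _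
      have hi : Subgroup.inclusion hSK y = Subgroup.inclusion hSK (k ^ 2 ^ (j - 1)) := hR _ _
        (by rw [orderOf_injective _ (Subgroup.inclusion_injective hSK), hy])
        (by rw [orderOf_injective _ (Subgroup.inclusion_injective hSK), hzo])
        ((show Commute y _ from Subgroup.mem_center_iff.1 hzc y).map _)
      exact hxy ((Subgroup.inclusion_injective hSK hi) ▸ (Subgroup.mem_center_iff.1 hzc x).symm)
    let φ : MulAut (S : Subgroup H) := (S : Subgroup H).normalizerMonoidHom ⟨c, hcN⟩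
    have hφ : ∀ r : (S : Subgroup H), ((φ r : (S : Subgroup H)) : H) = c * r * c⁻¹ := fun r => rfl
    have hΦmem : ∀ r, r ∈ Φ ↔ φ r ∈ Φ := fun r => by
      have hfix := (inferInstance : (frattini (S : Subgroup H)).Characteristic).fixed φ
      show r ∈ frattini (S : Subgroup H) ↔ φ r ∈ frattini (S : Subgroup H)
      conv_lhs => rw [← hfix]
      rfl
    have hmemP : ∀ r : (S : Subgroup H), φ r * r⁻¹ ∈ P.subgroupOf (S : Subgroup H) := fun r => by
      show ((φ r : (S : Subgroup H)) : H) * (r : H)⁻¹ ∈ P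
      rw [hφ]; exact hcom r
    have hfix : ∀ p ∈ P.subgroupOf (S : Subgroup H), π (φ p) = π p := by
      intro p hp
      have hp' : φ p ∈ P.subgroupOf (S : Subgroup H) := by
        show ((φ p : (S : Subgroup H)) : H) ∈ P
        rw [hφ]
        exact (inferInstance : P.Normal).conj_mem _ hp c
      by_cases h1 : π p = 1
      · rw [h1]; exact (QuotientGroup.eq_one_iff _).2 ((hΦmem p).1 ((QuotientGroup.eq_one_iff _).1 h1))
      have h2 : π (φ p) ≠ 1 := fun h =>
        h1 ((QuotientGroup.eq_one_iff _).2 ((hΦmem p).2 ((QuotientGroup.eq_one_iff _).1 h)))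
      by_contra hne
      haveI := Fintype.ofFinite W
      have hsub := Finset.card_le_card (Finset.subset_univ
        ({1, ⟨π p, Subgroup.mem_map_of_mem π hp⟩, ⟨π (φ p), Subgroup.mem_map_of_mem π hp'⟩} : Finset W))
      rw [Finset.card_univ, ← Nat.card_eq_fintype_card, Finset.card_eq_three.2 ⟨_, _, _,
        fun h => h1 (congrArg Subtype.val h).symm, fun h => h2 (congrArg Subtype.val h).symm,
        fun h => hne (congrArg Subtype.val h).symm, rfl⟩] at hsub
      omega
    have hφ3 : ∀ r : (S : Subgroup H), φ (φ (φ r)) = r := by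
      intro r
      refine Subtype.ext ?_
      rw [hφ, hφ, hφ]
      have h3 : c * c * c = 1 := by rw [← pow_three', ← hco]; exact pow_orderOf_eq_one c
      calc c * (c * (c * (r : H) * c⁻¹) * c⁻¹) * c⁻¹ = (c * c * c) * r * (c * c * c)⁻¹ := by group
        _ = r := by rw [h3, one_mul, inv_one, mul_one]
    have hone : ∀ r : (S : Subgroup H), π (φ r) = π r := by
      intro r
      obtain ⟨f, hf, hfr⟩ : ∃ f ∈ P.subgroupOf (S : Subgroup H), φ r = f * r :=
        ⟨_, hmemP r, by rw [inv_mul_cancel_right]⟩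
      have hf' : φ f ∈ P.subgroupOf (S : Subgroup H) := by
        show ((φ f : (S : Subgroup H)) : H) ∈ P
        rw [hφ]; exact (inferInstance : P.Normal).conj_mem _ hf c
      have h3 := congrArg π (hφ3 r)
      rw [hfr, map_mul, map_mul, hfr] at h3
      simp only [map_mul, hfix _ hf', hfix _ hf] at h3
      rw [← mul_assoc, hsq, one_mul] at h3
      exact h3
    have hcen : Subgroup.zpowers c ≤ Subgroup.centralizer ((S : Subgroup H) : Set H) := by
      refine CoprimeAct.le_centralizer_of_frattini (Subgroup.zpowers_le.2 hcN) ?_ ?_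
      · rw [Nat.card_zpowers, hco]
        obtain ⟨j, hj⟩ := IsPGroup.iff_card.1 (S.2.to_subgroup Φ)
        rw [show Nat.card (frattini (S : Subgroup H)) = 2 ^ j from hj]
        exact Nat.Coprime.pow_right _ (by norm_num)
      · intro b hb r hr
        obtain ⟨i, hi, rfl⟩ : ∃ i < 3, c ^ i = b := by
          obtain ⟨i, hi⟩ := (isOfFinOrder_of_finite c).mem_powers_iff_mem_zpowers.2 hb
          exact ⟨i % 3, Nat.mod_lt _ (by norm_num), by rw [← hco, pow_mod_orderOf]; exact hi⟩
        refine ⟨(φ ^ i) ⟨r, hr⟩ * (⟨r, hr⟩ : (S : Subgroup H))⁻¹, (QuotientGroup.eq_one_iff _).1 ?_, ?_⟩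
        · show π _ = 1
          rw [map_mul, map_inv, mul_inv_eq_one]
          interval_cases i
          · rfl
          · rw [pow_one]; exact hone _
          · rw [pow_two, MulAut.mul_apply, hone, hone]
        · rw [Subgroup.coe_subtype, Subgroup.coe_mul, Subgroup.coe_inv]
          interval_cases i
          · simp
          · rw [pow_one, hφ, pow_one]
          · rw [pow_two φ, MulAut.mul_apply, hφ, hφ, pow_two c]; group
    -- `c` would be central in `SL(2, 3)`
    have hc0 : c₀ ∈ Subgroup.center L₀ := by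
      set C := Subgroup.centralizer ({c₀} : Set L₀) with hC
      have hPC : P.subgroupOf L₀ ≤ C := fun p hp => by
        rw [hC, Subgroup.mem_centralizer_singleton_iff]
        exact Subtype.ext (Subgroup.mem_centralizer_iff.1 (hcen (Subgroup.mem_zpowers c)) _ (hPS hp))
      have h8 : 8 ∣ Nat.card C := by
        rw [← hPc, ← Nat.card_congr (Subgroup.subgroupOfEquivOfLe hcK).toEquiv]
        exact Subgroup.card_dvd_of_le hPC
      have h3 : 3 ∣ Nat.card C := hc₀ ▸ Subgroup.orderOf_dvd_natCard C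
        (Subgroup.mem_centralizer_singleton_iff.2 rfl)
      have htop : C = ⊤ := Subgroup.eq_top_of_card_eq C (Nat.dvd_antisymm
        (Subgroup.card_subgroup_dvd_card C)
        (hcK24 ▸ Nat.Coprime.mul_dvd_of_dvd_of_dvd (show Nat.Coprime 8 3 by norm_num) h8 h3))
      rw [Subgroup.mem_center_iff]
      intro w
      have hw : w ∈ C := htop ▸ Subgroup.mem_top w
      exact Subgroup.mem_centralizer_singleton_iff.1 hw
    have hcz : Nat.card (Subgroup.center L₀) = 2 := by
      rw [Nat.card_congr (Subgroup.centerCongr e3).toEquiv, SL23.card_center]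
    have := hcz ▸ Subgroup.orderOf_dvd_natCard _ hc0
    rw [hc₀] at this
    norm_num at this
  -- `|F| > 3`
  have hperfSL : commutator (SpecialLinearGroup (Fin 2) F) = ⊤ := by
    obtain ⟨t, ht⟩ := SLPres.exists_unit_sq_ne_one (K := F)
      (by rw [Nat.card_eq_fintype_card]; omega) (by rw [Nat.card_eq_fintype_card]; omega)
    exact Matrix.SL2.commutator_eq_top (a := (t : F)) t.ne_zero fun h => ht (Units.ext (by simpa using h))
  have hperf : commutator L₀ = ⊤ := by
    refine Subgroup.map_injective (f := e.toMonoidHom) e.injective ?_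
    rw [commutator_def, Subgroup.map_commutator, Subgroup.map_top_of_surjective _ e.surjective,
      ← commutator_def, hperfSL]
  refine le_antisymm ?_ ?_
  swap
  · calc L₀ = (commutator L₀).map L₀.subtype := by
          rw [hperf, ← MonoidHom.range_eq_map, Subgroup.range_subtype]
      _ ≤ commutator H := by
          rw [Subgroup.map_subtype_commutator, commutator_def]
          exact Subgroup.commutator_mono le_top le_top
  set D := Subgroup.centralizer (L₀ : Set H) with hD
  haveI : D.Normal := by rw [hD]; infer_instance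
  -- the centraliser of `L₀` in `K` lies in `L₀`
  have h2F : (2 : F) ≠ 0 := fun h => by
    obtain ⟨k, hk⟩ := hF
    have h0 : ((Fintype.card F : ℕ) : F) = 0 := Nat.cast_card_eq_zero F
    rw [hk] at h0
    push_cast at h0
    rw [h, zero_mul, zero_add] at h0
    exact one_ne_zero h0
  obtain ⟨u, v, hu, hv, hne, hne'⟩ := sl2_two_fours h2F
  let f : SpecialLinearGroup (Fin 2) F →* K := (Subgroup.inclusion hLK).comp e.symm.toMonoidHom
  have hf : Function.Injective f := (Subgroup.inclusion_injective hLK).comp e.symm.injective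
  have hfD : ∀ (w : SpecialLinearGroup (Fin 2) F) (k : K), (k : H) ∈ D → Commute k (f w) := fun w k hk =>
    Subtype.ext (Subgroup.mem_centralizer_iff.1 hk _ (e.symm w).2).symm
  set M := D.subgroupOf K with hM
  have hM4 : ∀ k ∈ M, orderOf k ≠ 4 := fun k hk hk4 => by
    have hfu := four_eq_or_inv hR hk4 (by rw [orderOf_injective f hf, hu]) (hfD u k hk)
    have hfv := four_eq_or_inv hR hk4 (by rw [orderOf_injective f hf, hv]) (hfD v k hk)
    rcases hfu with hfu | hfu <;> rcases hfv with hfv | hfv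
    · exact hne (hf (hfv.trans hfu.symm))
    · exact hne' (hf (by rw [hfv, map_inv, hfu]))
    · exact hne' (hf (by rw [hfv, map_inv, hfu, inv_inv]))
    · exact hne (hf (hfv.trans hfu.symm))
  obtain ⟨z, hz⟩ : ∃ z : L₀, orderOf z = 2 := by
    refine ⟨e.symm (u ^ 2), ?_⟩
    rw [MulEquiv.orderOf_eq, orderOf_pow_of_dvd two_ne_zero (by rw [hu]; norm_num), hu]
  have hMK : (D ⊓ K : Subgroup H) ≤ L₀ := by
    set z' : K := Subgroup.inclusion hLK z with hz'
    have hzo : orderOf z' = 2 := by rw [orderOf_injective _ (Subgroup.inclusion_injective hLK), hz]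
    have hinv : ∀ k ∈ M, orderOf k = 2 → k = z' := fun k hk hk2 =>
      hR k z' hk2 hzo (Subtype.ext (Subgroup.mem_centralizer_iff.1 hk _ z.2).symm)
    -- two-elements of the centraliser
    have htwo : ∀ k ∈ M, (∃ j, orderOf k = 2 ^ j) → (k : H) ∈ L₀ := by
      rintro k hk ⟨j, hj⟩
      have hj2 : j ≤ 1 := by
        by_contra hj'
        refine hM4 (k ^ 2 ^ (j - 2)) (pow_mem hk _) ?_
        rw [orderOf_pow_of_dvd (pow_ne_zero _ two_ne_zero) (hj ▸ pow_dvd_pow 2 (by omega)), hj,
          Nat.pow_div (by omega) two_pos, show j - (j - 2) = 2 by omega]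
        norm_num
      interval_cases j
      · rw [orderOf_eq_one_iff.1 (show orderOf k = 1 by simpa using hj)]
        exact one_mem L₀
      · rw [hinv k hk (by simpa using hj)]
        exact z.2
    set J := (D ⊓ K : Subgroup H) with hJ
    haveI : J.Normal := Subgroup.normal_inf_normal D K
    have hJM : ∀ k ∈ J, ∃ k' ∈ M, (k' : H) = k := fun k hk => ⟨⟨k, hk.2⟩, hk.1, rfl⟩
    obtain ⟨P⟩ : Nonempty (Sylow 2 J) := inferInstance
    have hPle : (P : Subgroup J).map J.subtype ≤ L₀ := by
      rintro _ ⟨p, hp, rfl⟩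
      obtain ⟨k', hk', he⟩ := hJM p p.2
      obtain ⟨j, hj⟩ := IsPGroup.iff_orderOf.1 P.2 ⟨p, hp⟩
      show (p : H) ∈ L₀
      rw [← he]
      exact htwo k' hk' ⟨j, by rw [← Subgroup.orderOf_coe, he, Subgroup.orderOf_coe, ← hj]; exact (Subgroup.orderOf_mk p hp).symm⟩
    -- the odd part is a normal odd subgroup
    set N := L₀.subgroupOf J with hN
    haveI : N.Normal := inferInstance
    have hodd : Odd N.index := by
      rw [Nat.odd_iff, ← Nat.two_dvd_ne_zero]
      intro hd
      refine P.not_dvd_index (hd.trans (Subgroup.index_dvd_of_le ?_))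
      exact fun p hp => hPle ⟨p, hp, rfl⟩
    have hNz : N ≤ Subgroup.center J := fun p hp => Subgroup.mem_center_iff.2 fun q =>
      Subtype.ext ((Subgroup.mem_centralizer_iff.1 q.2.1 _ hp).symm)
    have hN2 : IsPGroup 2 N := by
      intro p
      obtain ⟨k', hk', he⟩ := hJM (p : J) (p : J).2
      have hpc : ((p : J) : H) ∈ L₀ := p.2
      refine ⟨1, ?_⟩
      have hcen : (⟨_, hpc⟩ : L₀) ∈ Subgroup.center L₀ := Subgroup.mem_center_iff.2 fun w =>
        Subtype.ext (Subgroup.mem_centralizer_iff.1 (p : J).2.1 _ w.2)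
      have hsq : (⟨_, hpc⟩ : L₀) ^ 2 = 1 := by
        refine e.injective ?_
        rw [map_pow, map_one]
        obtain ⟨r, hr, hr'⟩ := Matrix.SpecialLinearGroup.mem_center_iff.1
          ((Subgroup.centerCongr e ⟨_, hcen⟩).2 : e ⟨_, hpc⟩ ∈ _)
        refine Subtype.ext ((Matrix.SpecialLinearGroup.coe_pow _ 2).trans ?_)
        have hcoe : ((e ⟨_, hpc⟩ : SpecialLinearGroup (Fin 2) F) : Matrix (Fin 2) (Fin 2) F) = scalar (Fin 2) r :=
          hr'.symm
        refine (congrArg (fun M : Matrix (Fin 2) (Fin 2) F => M ^ 2) hcoe).trans ?_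
        rw [← map_pow]
        rw [Fintype.card_fin] at hr
        rw [hr, map_one]
        rfl
      exact Subtype.ext (Subtype.ext (congrArg (Subtype.val) hsq :))
    obtain ⟨Y, hY⟩ := Subgroup.exists_right_complement'_of_coprime (N := N) (by
      obtain ⟨j, hj⟩ := IsPGroup.iff_card.1 hN2
      rw [hj]
      exact (Nat.coprime_two_left.2 hodd).pow_left j)
    have hYodd : ∀ p : J, Odd (orderOf p) → p ∈ Y := by
      intro p hp
      obtain ⟨⟨n', y'⟩, he⟩ := hY.2 p
      simp only at he
      have hcm : Commute (n' : J) (y' : J) := (Subgroup.mem_center_iff.1 (hNz n'.2) y').symm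
      obtain ⟨j, hj⟩ := IsPGroup.iff_orderOf.1 hN2 n'
      have hyc : Odd (Nat.card Y) := by
        rw [← hY.symm.index_eq_card]; exact hodd
      have h1 : (n' : J) ^ (Nat.card Y * orderOf p) = 1 := by
        have h2 : p ^ (Nat.card Y * orderOf p) = 1 := by
          rw [mul_comm, pow_mul, pow_orderOf_eq_one, one_pow]
        have h2' := h2
        nth_rewrite 1 [← he] at h2'
        replace h2 := h2'
        rw [hcm.mul_pow, pow_mul (y' : J)] at h2
        rw [show (y' : J) ^ Nat.card Y = 1 by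
          rw [← SubmonoidClass.coe_pow, pow_card_eq_one', OneMemClass.coe_one], one_pow, mul_one] at h2
        exact h2
      have h3 : orderOf n' ∣ Nat.card Y * orderOf p :=
        orderOf_dvd_of_pow_eq_one (Subtype.ext (by rw [SubmonoidClass.coe_pow, h1]; rfl))
      have h4 : n' = 1 := orderOf_eq_one_iff.1 (Nat.eq_one_of_dvd_coprimes
        ((Nat.coprime_two_left.2 (hyc.mul hp)).pow_left j) (dvd_of_eq hj) h3)
      rw [← he, h4, OneMemClass.coe_one, one_mul]
      exact y'.2
    have hYn : (Y.map J.subtype).Normal := ⟨fun y hy g => by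
      obtain ⟨y, hy', rfl⟩ := hy
      refine ⟨⟨g * (y : H) * g⁻¹, (inferInstance : J.Normal).conj_mem _ y.2 g⟩, hYodd _ ?_, rfl⟩
      rw [← Subgroup.orderOf_coe]
      show Odd (orderOf (MulAut.conj g (y : H)))
      rw [MulEquiv.orderOf_eq, Subgroup.orderOf_coe]
      exact (hY.symm.index_eq_card ▸ hodd : Odd (Nat.card Y)).of_dvd_nat
        (Subgroup.orderOf_dvd_natCard Y hy')⟩
    have hYbot := eq_bot_of_odd_normal hO hYn (by
      rw [Subgroup.card_map_of_injective J.subtype_injective, ← hY.symm.index_eq_card]; exact hodd)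
    rw [Subgroup.map_eq_bot_iff_of_injective _ J.subtype_injective] at hYbot
    intro k hk
    obtain ⟨⟨n', y'⟩, he⟩ := hY.2 ⟨k, hk⟩
    simp only at he
    have hy1 : (y' : J) = 1 := by
      have := y'.2
      simp only [hYbot, Subgroup.mem_bot] at this
      exact this
    rw [hy1, mul_one] at he
    have := n'.2
    rw [he] at this
    exact this
  -- the action on `L₀` modulo its centre
  let ε : L₀ ⧸ Subgroup.center L₀ ≃* ProjectiveSpecialLinearGroup (Fin 2) F :=
    QuotientGroup.congr _ _ e (map_center_equiv e)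
  let κ : H →* MulAut (ProjectiveSpecialLinearGroup (Fin 2) F) :=
    (autCongr ε).toMonoidHom.comp ((centerQuotAut L₀).comp MulAut.conjNormal)
  rw [commutator_def, Subgroup.commutator_le]
  intro p _ q _
  obtain ⟨l, hl⟩ := psl2_out_comm hF (κ p) (κ q)
  obtain ⟨l', rfl⟩ := ε.surjective l
  induction l' using QuotientGroup.induction_on with
  | _ l' =>
  have hκl : κ (l' : H) = MulAut.conj (ε (l' : L₀ ⧸ Subgroup.center L₀)) := by
    show autCongr ε (centerQuotAut L₀ (MulAut.conjNormal (l' : H))) = _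
    rw [conjNormal_coe, centerQuotAut_conj, autCongr_conj]
  set d : H := (l' : H)⁻¹ * ⁅p, q⁆ with hd
  have hκd : κ d = 1 := by
    rw [hd, map_mul, map_inv, map_commutatorElement, hκl, ← hl, commutatorElement_def]
    group
  have hact : ∀ w : L₀, (MulAut.conjNormal d w) * w⁻¹ ∈ Subgroup.center L₀ := by
    intro w
    have h1 : centerQuotAut L₀ (MulAut.conjNormal d) = 1 := by
      refine (autCongr ε).injective ?_
      rw [map_one]
      exact hκd
    have h2 := congrArg (fun α : MulAut (L₀ ⧸ Subgroup.center L₀) => α (w : L₀ ⧸ Subgroup.center L₀)) h1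
    rw [← QuotientGroup.eq_one_iff, QuotientGroup.mk_mul, QuotientGroup.mk_inv, mul_inv_eq_one]
    exact h2
  have hdD : d ∈ D := by
    set α : MulAut L₀ := MulAut.conjNormal d with hα
    let χ : L₀ →* Subgroup.center L₀ := MonoidHom.mk' (fun w => ⟨α w * w⁻¹, hact w⟩) fun w₁ w₂ => by
      refine Subtype.ext ?_
      show α (w₁ * w₂) * (w₁ * w₂)⁻¹ = α w₁ * w₁⁻¹ * (α w₂ * w₂⁻¹)
      have hc := Subgroup.mem_center_iff.1 (hact w₂) w₁⁻¹
      rw [map_mul, _root_.mul_inv_rev, mul_assoc (α w₁) w₁⁻¹, hc]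
      group
    have htop : χ.ker = ⊤ := by
      rw [eq_top_iff, ← hperf, commutator_def, Subgroup.commutator_le]
      intro w₁ _ w₂ _
      rw [MonoidHom.mem_ker, map_commutatorElement, commutatorElement_eq_one_iff_commute]
      exact Subtype.ext (Subgroup.mem_center_iff.1 (χ w₂).2 (χ w₁ : L₀))
    rw [hD, Subgroup.mem_centralizer_iff]
    intro w hw
    have h1 : χ ⟨w, hw⟩ = 1 := MonoidHom.mem_ker.1 (htop ▸ Subgroup.mem_top _)
    have h2 : α ⟨w, hw⟩ = ⟨w, hw⟩ := mul_inv_eq_one.1 (congrArg Subtype.val h1)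
    have h3 : d * w * d⁻¹ = w := congrArg Subtype.val h2
    exact (mul_inv_eq_iff_eq_mul.1 h3).symm
  have hdK : d ∈ K := mul_mem (inv_mem (hLK l'.2))
    (hcK (Subgroup.commutator_mem_commutator (Subgroup.mem_top p) (Subgroup.mem_top q)))
  have hm := mul_mem l'.2 (hMK ⟨hdD, hdK⟩)
  have he' : (l' : H) * d = ⁅p, q⁆ := by rw [hd, mul_inv_cancel_left]
  rw [he'] at hm
  exact hm

end Cfsg.Agent.GW

namespace Cfsg.Agent.GW

universe u

/-- Row S1240 from the simple case. -/
theorem centralizer_mod_core_sl_two (hG : SimpleDihedral.{u}) {G : Type u} [Group G] [Finite G]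
    (S : Sylow 2 G) (hS : Cfsg.IsQuasiDihedral (S : Subgroup G) ∨ Cfsg.IsWreathed (S : Subgroup G))
    (hG2 : ∀ H : Subgroup G, H.index ≠ 2) (t : G) (ht : orderOf t = 2) :
    ∃ (F : Type) (_ : Field F) (_ : Fintype F), Odd (Fintype.card F) ∧
      Nonempty (↥(commutator (↥(Subgroup.centralizer ({t} : Set G)) ⧸
        Cfsg.oddCore ↥(Subgroup.centralizer ({t} : Set G)))) ≃* Matrix.SpecialLinearGroup (Fin 2) F) := by
  classical
  haveI : Fact (Nat.Prime 2) := ⟨Nat.prime_two⟩
  set C := Subgroup.centralizer ({t} : Set G) with hC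
  obtain ⟨R, hcard, ⟨K, hK, ⟨a, ha⟩, hK2, hKQ⟩, -⟩ := S1213.result S hS hG2 t ht
  set O := Cfsg.oddCore C with hO
  haveI : O.Normal := FittingCores.pPrimeCore_normal 2
  set π := QuotientGroup.mk' O with hπ
  have hsurj : Function.Surjective π := QuotientGroup.mk'_surjective _
  -- `R` is a Sylow subgroup of `G`
  let R' : Subgroup G := (R : Subgroup C).map C.subtype
  have hR'c : Nat.card R' = 2 ^ (Nat.card G).factorization 2 := by
    rw [Subgroup.card_map_of_injective C.subtype_injective]
    exact hcard.trans S.card_eq_multiplicity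
  let eR : (R : Subgroup C) ≃* (S : Subgroup G) :=
    ((R : Subgroup C).equivMapOfInjective C.subtype C.subtype_injective).trans
      ((Sylow.ofCard R' hR'c).equiv S)
  set P : Sylow 2 (C ⧸ O) := R.mapSurjective hsurj with hP
  have hodd : Odd (Nat.card O) := Nat.coprime_two_right.1 (PBasic.pPrimeCore_coprime 2 C)
  have hinj : ∀ (Q : Subgroup C), IsPGroup 2 Q → Function.Injective (π.subgroupMap Q) := by
    intro Q hQ
    rw [injective_iff_map_eq_one]
    intro v hv
    have h1 : (v : C) ∈ O := (QuotientGroup.eq_one_iff (v : C)).mp (congrArg Subtype.val hv)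
    obtain ⟨k, hk⟩ := IsPGroup.iff_orderOf.mp hQ v
    have h2 : orderOf (v : C) ∣ Nat.card O := Subgroup.orderOf_dvd_natCard _ h1
    rw [Subgroup.orderOf_coe, hk] at h2
    refine orderOf_eq_one_iff.mp ?_
    rw [hk]
    exact Nat.eq_one_of_dvd_coprimes ((Nat.coprime_two_left.2 hodd).pow_left k) dvd_rfl h2
  let eP : (R : Subgroup C) ≃* (P : Subgroup (C ⧸ O)) :=
    MulEquiv.ofBijective (π.subgroupMap (R : Subgroup C)) ⟨hinj _ R.2, π.subgroupMap_surjective _⟩
  have hP' : Cfsg.IsQuasiDihedral (P : Subgroup (C ⧸ O)) ∨ Cfsg.IsWreathed (P : Subgroup (C ⧸ O)) :=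
    hS.imp (S1213.qd_transport (eR.symm.trans eP)) (S1213.wr_transport (eR.symm.trans eP))
  haveI := hK
  set K' := K.map π with hK'
  haveI hK'n : K'.Normal := Subgroup.Normal.map inferInstance π hsurj
  obtain ⟨b, -, hb⟩ := (Nat.dvd_prime_pow Nat.prime_two).1 (ha ▸ Subgroup.index_map_dvd K hsurj)
  let f : K →* K' := π.subgroupMap K
  have hf : Function.Surjective f := π.subgroupMap_surjective K
  refine commutator_sl_two hG P hP' (PBasic.pPrimeCore_quotient_pPrimeCore 2 C) K' hK'n hb
    (fun M hM => hK2 (M.comap f) (by rw [Subgroup.index_comap_of_surjective _ hf, hM]))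
    fun Q => ?_
  obtain ⟨Q₀⟩ : Nonempty (Sylow 2 K) := inferInstance
  obtain ⟨m, hm, ⟨eQ⟩⟩ := hKQ Q₀
  refine ⟨m, hm, ⟨(Q.equiv (Q₀.mapSurjective hf)).trans (MulEquiv.trans ?_ eQ)⟩⟩
  refine (MulEquiv.ofBijective (f.subgroupMap (Q₀ : Subgroup K)) ⟨?_, f.subgroupMap_surjective _⟩).symm
  intro x y hxy
  have hv : ((f.subgroupMap (Q₀ : Subgroup K) x : (Q₀ : Subgroup K).map f) : K') =
      ((f.subgroupMap (Q₀ : Subgroup K) y : (Q₀ : Subgroup K).map f) : K') := congrArg Subtype.val hxy
  have h1 : π ((x : K) : C) = π ((y : K) : C) := congrArg Subtype.val hv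
  have h2 := hinj ((Q₀ : Subgroup K).map K.subtype) (Q₀.2.map _)
    (a₁ := ⟨_, x, x.2, rfl⟩) (a₂ := ⟨_, y, y.2, rfl⟩) (Subtype.ext h1)
  exact Subtype.ext (Subtype.ext (congrArg Subtype.val h2 :))

end Cfsg.Agent.GW
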