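import Cfsg.Agent.Lib.FiniteGroup.CyclicPGroup
import Mathlib.NumberTheory.Multiplicity
import Mathlib.GroupTheory.Nilpotent

/-!
In a `q`-group, `q` odd, the first term of the upper central series with an element of order `q` outside
a given subgroup of order `q` has one moved only into that subgroup.
-/

set_option autoImplicit false
set_option linter.unusedSectionVars false
set_option linter.style.haveILetI false

namespace Cfsg.Agent.GW

open Subgroup

universe u

variable {P : Type u} [Group P] [Finite P] {q : ℕ} [hq : Fact q.Prime]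

/-- A conjugate of a power. -/
theorem conj_iter {x c : P} {r : ℕ} (h : x * c * x⁻¹ = c ^ r) (n : ℕ) :
    x ^ n * c * (x ^ n)⁻¹ = c ^ (r ^ n) := by
  induction n with
  | zero => simp
  | succ n ih =>
    calc x ^ (n + 1) * c * (x ^ (n + 1))⁻¹ = x ^ n * (x * c * x⁻¹) * (x ^ n)⁻¹ := by
          rw [pow_succ, mul_inv_rev]; group
      _ = c ^ (r ^ (n + 1)) := by rw [h, ← conj_pow, ih, ← pow_mul, pow_succ]

/-- The powers of a product with an element acting by a power. -/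
theorem mul_pow_of_conj {x c : P} {r : ℕ} (h : x * c * x⁻¹ = c ^ r) (n : ℕ) :
    (c * x) ^ n = c ^ (∑ i ∈ Finset.range n, r ^ i) * x ^ n := by
  induction n with
  | zero => simp
  | succ n ih =>
    calc (c * x) ^ (n + 1) = c ^ (∑ i ∈ Finset.range n, r ^ i) * (x ^ n * c * (x ^ n)⁻¹) * x ^ (n + 1) := by
          rw [pow_succ, ih]; group
      _ = c ^ (∑ i ∈ Finset.range (n + 1), r ^ i) * x ^ (n + 1) := by
          rw [conj_iter h, ← pow_add, Finset.sum_range_succ]

/-- An element of order `q` acting on a `q`-element by a power, with product of order `q`, kills it. -/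
theorem pow_q_of_conj (hq2 : q ≠ 2) {x c : P} {r : ℕ} (h : x * c * x⁻¹ = c ^ r) (hx : x ^ q = 1)
    (hcx : (c * x) ^ q = 1) (hc : ∃ k, orderOf c = q ^ k) : c ^ q = 1 := by
  obtain ⟨k, hk⟩ := hc
  have hqp : q.Prime := hq.out
  rcases Nat.lt_or_ge k 2 with hk2 | hk2
  · refine orderOf_dvd_iff_pow_eq_one.1 ?_
    rw [hk]
    exact (Nat.pow_dvd_pow q (by omega : k ≤ 1)).trans (pow_one q).dvd
  exfalso
  have hr : (q : ℤ) ∣ (r : ℤ) - 1 := by
    have h1 : c ^ (r ^ q) = c ^ 1 := by rw [← conj_iter h q, hx, pow_one]; simp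
    have h2 : r ^ q ≡ 1 [MOD q] := by
      refine Nat.ModEq.of_dvd ?_ (pow_eq_pow_iff_modEq.1 h1)
      rw [hk]; exact dvd_pow_self q (by omega)
    have h3 : ((r : ZMod q) ^ q) = 1 := by
      have := (ZMod.natCast_eq_natCast_iff _ _ _).2 h2
      push_cast at this
      exact this
    rw [ZMod.pow_card] at h3
    rw [← ZMod.intCast_zmod_eq_zero_iff_dvd]
    push_cast
    rw [h3, sub_self]
  obtain ⟨b, hb⟩ := hr
  set S := ∑ i ∈ Finset.range q, r ^ i with hS
  have hdvd : q ^ k ∣ S := by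
    rw [← hk]
    refine orderOf_dvd_of_pow_eq_one ?_
    have := mul_pow_of_conj h q
    rw [hcx, hx, mul_one] at this
    exact this.symm
  have h4 : ((q : ℤ) ^ 2) ∣ (S : ℤ) - q := by
    have := odd_sq_dvd_geom_sum₂_sub (R := ℤ) (1 : ℤ) b (hqp.odd_of_ne_two hq2)
    simp only [one_pow, mul_one] at this
    rw [← hb] at this
    rw [hS]
    push_cast
    simpa using this
  have h5 : ((q : ℤ) ^ 2) ∣ (S : ℤ) := by
    have := Int.natCast_dvd_natCast.2 ((Nat.pow_dvd_pow q hk2).trans hdvd)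
    push_cast at this
    exact this
  have h6 := dvd_sub h5 h4
  rw [sub_sub_cancel] at h6
  have h7 : q ^ 2 ∣ q := Int.natCast_dvd_natCast.1 (by push_cast; exact h6)
  have := Nat.le_of_dvd hqp.pos h7
  nlinarith [hqp.two_le]

/-- The first step of the upper central series leaving `Z` on a set of elements. -/
theorem exists_step (hP : IsPGroup q P) (Z : Subgroup P) (p : P → Prop) (hp : ∃ x, p x ∧ x ∉ Z) :
    ∃ x, ∃ M : Subgroup P, p x ∧ x ∉ Z ∧ M.Normal ∧ (∀ g, g * x * g⁻¹ * x⁻¹ ∈ M) ∧ ∀ s ∈ M, p s → s ∈ Z := by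
  classical
  haveI : Group.IsNilpotent P := hP.isNilpotent
  obtain ⟨n, hn⟩ := (inferInstance : Group.IsNilpotent P).nilpotent'
  obtain ⟨x₀, hx₀, hx₀Z⟩ := hp
  have hex : ∃ i, ∃ x ∈ Subgroup.upperCentralSeries P i, p x ∧ x ∉ Z :=
    ⟨n, x₀, hn ▸ mem_top _, hx₀, hx₀Z⟩
  obtain ⟨x, hx, hpx, hxZ⟩ := Nat.find_spec hex
  rcases hi : Nat.find hex with _ | j
  · rw [hi, Subgroup.upperCentralSeries_zero, mem_bot] at hx
    exact (hxZ (hx ▸ one_mem Z)).elim
  rw [hi, Subgroup.mem_upperCentralSeries_succ_iff] at hx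
  refine ⟨x, Subgroup.upperCentralSeries P j, hpx, hxZ, inferInstance, fun g => ?_, fun s hs hps => ?_⟩
  · have := inv_mem (hx g)
    rw [commutatorElement_def] at this
    rwa [show (x * g * x⁻¹ * g⁻¹)⁻¹ = g * x * g⁻¹ * x⁻¹ by group] at this
  · by_contra hsZ
    exact Nat.find_min hex (by omega : j < Nat.find hex) ⟨s, hs, hps, hsZ⟩

/-- A normal subgroup of exponent `q` outside `Z` has an element moved only into `Z`. -/
theorem exists_normal_moved (hP : IsPGroup q P) (Z A : Subgroup P) [A.Normal] (hA : ¬ A ≤ Z) :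
    ∃ x ∈ A, x ∉ Z ∧ ∀ g, g * x * g⁻¹ * x⁻¹ ∈ Z := by
  obtain ⟨x₀, hx₀, hx₀Z⟩ := SetLike.not_le_iff_exists.1 hA
  obtain ⟨x, M, hx, hxZ, -, hM, hZ⟩ := exists_step hP Z (· ∈ A) ⟨x₀, hx₀, hx₀Z⟩
  exact ⟨x, hx, hxZ, fun g => hZ _ (hM g) (mul_mem (‹A.Normal›.conj_mem x hx g) (inv_mem hx))⟩

/-- An element of order `q` outside a subgroup of order `q` gives one moved only into the subgroup. -/
theorem exists_small_moved (hq2 : q ≠ 2) (hP : IsPGroup q P) (Z : Subgroup P) (hZ : Nat.card Z ≤ q)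
    (hex : ∃ x, x ^ q = 1 ∧ x ∉ Z) :
    ∃ x, x ^ q = 1 ∧ x ∉ Z ∧ ∀ g, g * x * g⁻¹ * x⁻¹ ∈ Z := by
  obtain ⟨x, M, hx, hxZ, hMn, hM, hMZ⟩ := exists_step hP Z (fun s => s ^ q = 1) hex
  have hcyc : IsCyclic M := by
    by_contra hnc
    obtain ⟨A, hA, hAn⟩ := CyclicPGroup.exists_noncyclic_abelian hq2 M (hP.to_subgroup M) hnc
    haveI := hA
    obtain ⟨r, E, hr, hE, hexp⟩ := CoprimeAct.exists_elementary_of_not_isCyclic hAn
    have hrq : r = q := by
      obtain ⟨k, hk⟩ := IsPGroup.iff_card.1 (((hP.to_subgroup M).to_subgroup A).to_subgroup E)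
      have : r ∣ q ^ k := hk ▸ hE ▸ dvd_pow_self r two_ne_zero
      exact (Nat.prime_dvd_prime_iff_eq hr hq.out).1 (hr.dvd_of_dvd_pow this)
    subst hrq
    have hle : (E.map A.subtype).map M.subtype ≤ Z := by
      rintro _ ⟨_, ⟨w, hw, rfl⟩, rfl⟩
      refine hMZ _ (Subtype.prop _) ?_
      have h1 : w ^ r = 1 := congrArg Subtype.val (hexp ⟨w, hw⟩)
      rw [← map_pow, ← map_pow, h1, map_one, map_one]
    have := card_le_of_le hle
    rw [card_map_of_injective M.subtype_injective, card_map_of_injective A.subtype_injective, hE] at this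
    nlinarith [hr.two_le]
  refine ⟨x, hx, hxZ, fun g => hMZ _ (hM g) ?_⟩
  set c := g * x * g⁻¹ * x⁻¹ with hc
  haveI := hcyc
  obtain ⟨t, ht⟩ := IsCyclic.exists_generator (α := M)
  have hcM : c ∈ M := hM g
  obtain ⟨i, hi⟩ : x * c * x⁻¹ ∈ zpowers c := by
    -- conjugation fixes every subgroup of a cyclic normal subgroup
    obtain ⟨m, hm⟩ := ht ⟨c, hcM⟩
    obtain ⟨l, hl⟩ := ht ⟨x * (t : P) * x⁻¹, hMn.conj_mem _ t.2 x⟩
    refine ⟨l, ?_⟩
    have hm' : (t : P) ^ m = c := congrArg Subtype.val hm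
    have hl' : (t : P) ^ l = x * (t : P) * x⁻¹ := congrArg Subtype.val hl
    show c ^ l = x * c * x⁻¹
    rw [← hm', ← conj_zpow, ← hl', ← zpow_mul, ← zpow_mul, mul_comm]
  simp only at hi
  obtain ⟨r, hr⟩ : x * c * x⁻¹ ∈ Submonoid.powers c :=
    mem_powers_iff_mem_zpowers.2 ⟨i, hi⟩
  refine pow_q_of_conj hq2 hr.symm hx ?_ ?_
  · rw [hc, inv_mul_cancel_right, conj_pow, hx, mul_one, mul_inv_cancel]
  · exact IsPGroup.iff_orderOf.1 hP c

end Cfsg.Agent.GW
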