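import Cfsg.Agent.Lib.GW.QGroup
import Cfsg.Agent.Lib.DGroup.RankOne
import Cfsg.Agent.Lib.Classical.TwoByTwo

/-!
The normal `SL(2, F)` of a group with quasi-dihedral or wreathed Sylow 2-subgroups and a subgroup
of 2-power index with quaternion Sylow 2-subgroups.
-/

set_option autoImplicit false
set_option linter.style.haveILetI false

namespace Cfsg.Agent.GW

open Matrix

universe u

/-- A normal subgroup of a perfect group that is simple modulo its centre. -/
theorem perfect_normal_cases {E : Type u} [Group E] (hE : commutator E = ⊤)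
    [IsSimpleGroup (E ⧸ Subgroup.center E)] (N : Subgroup E) [hN : N.Normal] :
    N ≤ Subgroup.center E ∨ N = ⊤ := by
  set π := QuotientGroup.mk' (Subgroup.center E) with hπ
  haveI : (N.map π).Normal := hN.map π (QuotientGroup.mk'_surjective _)
  rcases (inferInstance : (N.map π).Normal).eq_bot_or_eq_top with h | h
  · refine Or.inl fun x hx => ?_
    have hm : π x ∈ N.map π := Subgroup.mem_map_of_mem π hx
    rw [h, Subgroup.mem_bot] at hm
    exact (QuotientGroup.eq_one_iff _).1 hm
  · right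
    rw [eq_top_iff, ← hE, commutator_def, Subgroup.commutator_le]
    intro a _ b _
    obtain ⟨n, hn, hna⟩ := h.ge (Subgroup.mem_top (π a))
    have hz : n⁻¹ * a ∈ Subgroup.center E := QuotientGroup.eq.1 hna
    rw [← QuotientGroup.eq_one_iff, ← QuotientGroup.mk'_apply, map_commutatorElement,
      commutatorElement_eq_one_iff_commute]
    have ha : QuotientGroup.mk' N a = QuotientGroup.mk' N (n⁻¹ * a) := by
      rw [map_mul, show QuotientGroup.mk' N n⁻¹ = 1 from (QuotientGroup.eq_one_iff _).2 (inv_mem hn),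
        one_mul]
    rw [ha]
    exact (show Commute (n⁻¹ * a) b from (Subgroup.mem_center_iff.1 hz b).symm).map _

/-- The homomorphism induced on the automorphisms of the quotient by the centre. -/
def centerQuotAut (E : Type u) [Group E] : MulAut E →* MulAut (E ⧸ Subgroup.center E) where
  toFun φ := QuotientGroup.congr (Subgroup.center E) (Subgroup.center E) φ
    ((Subgroup.characteristic_iff_map_eq.1 inferInstance) φ)
  map_one' := by
    ext x
    induction x using QuotientGroup.induction_on with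
    | _ g => rfl
  map_mul' φ ψ := by
    ext x
    induction x using QuotientGroup.induction_on with
    | _ g => rfl

theorem centerQuotAut_conj {E : Type u} [Group E] (a : E) :
    centerQuotAut E (MulAut.conj a) = MulAut.conj (a : E ⧸ Subgroup.center E) := by
  ext x
  induction x using QuotientGroup.induction_on with
  | _ g => rfl

theorem map_center_equiv {A B : Type*} [Group A] [Group B] (e : A ≃* B) :
    (Subgroup.center A).map (e : A →* B) = Subgroup.center B := by
  ext x
  constructor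
  · rintro ⟨a, ha, rfl⟩
    refine Subgroup.mem_center_iff.2 fun b => ?_
    obtain ⟨c, rfl⟩ := e.surjective b
    show e c * e a = e a * e c
    rw [← map_mul, ← map_mul, Subgroup.mem_center_iff.1 ha c]
  · intro hx
    refine ⟨e.symm x, Subgroup.mem_center_iff.2 fun c => e.injective ?_, e.apply_symm_apply x⟩
    rw [map_mul, map_mul, e.apply_symm_apply]
    exact Subgroup.mem_center_iff.1 hx (e c)

theorem elem8_sq : ∀ m : Multiplicative (ZMod 2 × ZMod 2 × ZMod 2), m * m = 1 := by decide +kernel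

theorem elem8_sq' : ∀ m : Multiplicative (ZMod 2 × ZMod 2) × Multiplicative (ZMod 2), m * m = 1 := by
  decide +kernel

variable {H : Type u} [Group H] [Finite H]

/-- A double cover of `A₇` is no normal subgroup under these Sylow 2-subgroups. -/
theorem no_double_seven (S : Sylow 2 H)
    (hS : Cfsg.IsQuasiDihedral (S : Subgroup H) ∨ Cfsg.IsWreathed (S : Subgroup H))
    (L : Subgroup H) [L.Normal] (hR : BrauerSuzuki.RankOne L)
    (e : L ⧸ Subgroup.center L ≃* alternatingGroup (Fin 7)) : False := by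
  classical
  haveI : Fact (Nat.Prime 2) := ⟨Nat.prime_two⟩
  obtain ⟨⟨a, b, hgen⟩, y, x, hy, hxy⟩ := qd_wr_facts hS
  have hb := AutAlt.bijective_conjNormal (n := 7) (by norm_num) (by norm_num)
  let κ : H →* Equiv.Perm (Fin 7) := (MulEquiv.ofBijective _ hb).symm.toMonoidHom.comp
    ((autCongr e).toMonoidHom.comp ((centerQuotAut L).comp MulAut.conjNormal))
  have hκL : ∀ l : L, κ (l : H) = (e (l : L ⧸ Subgroup.center L) : Equiv.Perm (Fin 7)) := by
    intro l
    show (MulEquiv.ofBijective _ hb).symm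
      (autCongr e (centerQuotAut L (MulAut.conjNormal (l : H)))) = _
    rw [conjNormal_coe, centerQuotAut_conj, autCongr_conj, MulEquiv.symm_apply_eq,
      MulEquiv.ofBijective_apply, conjNormal_coe]
  by_cases hsur : Function.Surjective κ
  · let P : Sylow 2 (Equiv.Perm (Fin 7)) := S.mapSurjective hsur
    let g : (S : Subgroup H) →* (P : Subgroup (Equiv.Perm (Fin 7))) := κ.subgroupMap (S : Subgroup H)
    obtain ⟨f, hf⟩ := perm_seven_sylow P
    have := elem_image_le_four elem8_sq hgen (f.comp g)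
      (hf.comp (κ.subgroupMap_surjective _))
    rw [Nat.card_eq_fintype_card] at this
    simp only [Fintype.card_multiplicative, Fintype.card_prod, ZMod.card] at this
    omega
  · have hA : alternatingGroup (Fin 7) ≤ κ.range := fun p hp => by
      obtain ⟨l, hl⟩ := e.surjective ⟨p, hp⟩
      induction l using QuotientGroup.induction_on with
      | _ l => exact ⟨(l : H), by rw [hκL, hl]⟩
    have hle : κ.range ≤ alternatingGroup (Fin 7) := by
      have hne : κ.range.index ≠ 1 := fun h =>
        hsur (MonoidHom.range_eq_top.1 (Subgroup.index_eq_one.1 h))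
      have hd := Subgroup.index_dvd_of_le hA
      rw [alternatingGroup.index_eq_two] at hd
      have h2 : κ.range.index = 2 := ((Nat.dvd_prime Nat.prime_two).1 hd).resolve_left hne
      refine (Subgroup.eq_of_le_of_card_ge hA ?_).ge
      have h3 := Subgroup.card_mul_index κ.range
      have h4 := Subgroup.card_mul_index (alternatingGroup (Fin 7))
      rw [h2] at h3
      rw [alternatingGroup.index_eq_two] at h4
      omega
    let κA : H →* alternatingGroup (Fin 7) := κ.codRestrict _ fun h => hle ⟨h, rfl⟩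
    let κL : L →* alternatingGroup (Fin 7) := κA.comp L.subtype
    have hκLs : Function.Surjective κL := by
      intro p
      obtain ⟨l, hl⟩ := e.surjective p
      induction l using QuotientGroup.induction_on with
      | _ l => exact ⟨l, Subtype.ext (by
          show κ (l : H) = (p : Equiv.Perm (Fin 7))
          rw [hκL, hl])⟩
    have hAs : Function.Surjective κA := fun p => ⟨((hκLs p).choose : H), (hκLs p).choose_spec⟩
    let P : Sylow 2 (alternatingGroup (Fin 7)) := S.mapSurjective hAs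
    let g : (S : Subgroup H) →* (P : Subgroup (alternatingGroup (Fin 7))) :=
      κA.subgroupMap (S : Subgroup H)
    obtain ⟨f, hf⟩ := alt_seven_sylow P
    obtain ⟨T, hT⟩ := DGroup.exists_sylow_inf S L inferInstance
    have hPT : ∀ p ∈ (P : Subgroup (alternatingGroup (Fin 7))), ∃ s : L,
        (s : H) ∈ (S : Subgroup H) ∧ κL s = p := by
      let PT : Sylow 2 (alternatingGroup (Fin 7)) := T.mapSurjective hκLs
      have hsub : (PT : Subgroup (alternatingGroup (Fin 7))) ≤ P := by
        rintro _ ⟨t, ht, rfl⟩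
        have h1 : (t : H) ∈ (S : Subgroup H) := (hT.le ht :)
        exact ⟨(t : H), h1, rfl⟩
      intro p hp
      have heq := PT.is_maximal' P.2 hsub
      obtain ⟨t, ht, rfl⟩ := (heq ▸ hp : p ∈ (PT : Subgroup (alternatingGroup (Fin 7))))
      have h1 : (t : H) ∈ (S : Subgroup H) := (hT.le ht :)
      exact ⟨t, h1, rfl⟩
    have hSL : ¬ (S : Subgroup H) ≤ L := by
      intro hle'
      haveI : Finite (S : Subgroup H) := inferInstance
      haveI : Nontrivial (S : Subgroup H) := ⟨y, 1, Invol.ne_one hy⟩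
      haveI : Nontrivial (Subgroup.center (S : Subgroup H)) := IsPGroup.center_nontrivial S.2
      obtain ⟨⟨k, hk⟩, hk'⟩ := exists_ne (1 : Subgroup.center (S : Subgroup H))
      have hk1 : k ≠ 1 := fun h => hk' (Subtype.ext h)
      obtain ⟨j, hj⟩ := IsPGroup.iff_orderOf.1 S.2 k
      have hj0 : j ≠ 0 := fun h => hk1 (orderOf_eq_one_iff.1 (by rw [hj, h, pow_zero]))
      set z := k ^ 2 ^ (j - 1) with hz
      have hzo : orderOf z = 2 := by
        rw [hz, orderOf_pow_of_dvd (pow_ne_zero _ two_ne_zero) (hj ▸ pow_dvd_pow 2 (by omega)), hj,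
          Nat.pow_div (by omega) two_pos, show j - (j - 1) = 1 by omega, pow_one]
      have hzc : z ∈ Subgroup.center (S : Subgroup H) := pow_mem hk _
      have hcom : Commute y z := Subgroup.mem_center_iff.1 hzc y
      have hi : (Subgroup.inclusion hle' y) = Subgroup.inclusion hle' z := hR _ _
        (by rw [orderOf_injective _ (Subgroup.inclusion_injective hle'), hy])
        (by rw [orderOf_injective _ (Subgroup.inclusion_injective hle'), hzo]) (hcom.map _)
      have := Subgroup.inclusion_injective hle' hi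
      exact hxy (this ▸ (Subgroup.mem_center_iff.1 hzc x).symm)
    set Q := L.subgroupOf (S : Subgroup H) with hQ
    obtain ⟨M, hM⟩ := Small.exists_index_eq_prime (S.2.to_quotient Q) (by
      haveI : Nontrivial ((S : Subgroup H) ⧸ Q) := QuotientGroup.nontrivial_iff.2 fun h =>
        hSL (Subgroup.subgroupOf_eq_top.1 h)
      exact Finite.one_lt_card)
    haveI := Subgroup.normal_of_index_eq_two hM
    set N := M.comap (QuotientGroup.mk' Q) with hN
    have hNi : N.index = 2 := by
      rw [hN, Subgroup.index_comap_of_surjective _ (QuotientGroup.mk'_surjective _), hM]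
    haveI := Subgroup.normal_of_index_eq_two hNi
    haveI : IsCyclic ((S : Subgroup H) ⧸ N) :=
      isCyclic_of_prime_card (p := 2) (by rw [← Subgroup.index_eq_card, hNi])
    let ec : (S : Subgroup H) ⧸ N ≃* Multiplicative (ZMod 2) := mulEquivOfCyclicCardEq (by
      rw [← Subgroup.index_eq_card, hNi, Nat.card_eq_fintype_card]; rfl)
    let ψ : (S : Subgroup H) →* Multiplicative (ZMod 2 × ZMod 2) × Multiplicative (ZMod 2) :=
      (f.comp g).prod (ec.toMonoidHom.comp (QuotientGroup.mk' N))
    have hψ : Function.Surjective ψ := by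
      rintro ⟨m1, m2⟩
      obtain ⟨s₂, hs₂⟩ := (ec.surjective.comp (QuotientGroup.mk'_surjective N)) m2
      obtain ⟨p, hp⟩ := hf (m1 * (f (g s₂))⁻¹)
      obtain ⟨t, htS, htp⟩ := hPT p p.2
      refine ⟨⟨(t : H), htS⟩ * s₂, ?_⟩
      have h1 : g ⟨(t : H), htS⟩ = p := Subtype.ext htp
      have h2 : QuotientGroup.mk' N ⟨(t : H), htS⟩ = 1 := by
        refine (QuotientGroup.eq_one_iff _).2 ?_
        show QuotientGroup.mk' Q _ ∈ M
        rw [(QuotientGroup.eq_one_iff _).2 (show (⟨(t : H), htS⟩ : (S : Subgroup H)) ∈ Q from t.2) |>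
          fun h => (h : QuotientGroup.mk' Q ⟨(t : H), htS⟩ = 1)]
        exact one_mem M
      refine Prod.ext ?_ ?_
      · show f (g (⟨(t : H), htS⟩ * s₂)) = m1
        rw [map_mul, map_mul, h1, hp, inv_mul_cancel_right]
      · show ec (QuotientGroup.mk' N (⟨(t : H), htS⟩ * s₂)) = m2
        rw [map_mul, h2, one_mul]
        exact hs₂
    have := elem_image_le_four elem8_sq' hgen ψ hψ
    rw [Nat.card_eq_fintype_card] at this
    simp only [Fintype.card_multiplicative, Fintype.card_prod, ZMod.card] at this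
    omega

/-- The normal `SL(2, F)`: it lies in `K`, and is all of `K` or has `|F| > 3`. -/
theorem q_group_structure (hG : SimpleDihedral.{u}) (S : Sylow 2 H)
    (hS : Cfsg.IsQuasiDihedral (S : Subgroup H) ∨ Cfsg.IsWreathed (S : Subgroup H))
    (hO : Cfsg.oddCore H = ⊥) (K : Subgroup H) (hK : K.Normal) {a : ℕ} (hKi : K.index = 2 ^ a)
    (hK2 : ∀ M : Subgroup ↥K, M.index ≠ 2)
    (hKQ : ∀ P : Sylow 2 ↥K, ∃ m : ℕ, 1 ≤ m ∧
      Nonempty ((P : Subgroup ↥K) ≃* QuaternionGroup (2 ^ m))) :
    ∃ L₀ : Subgroup H, L₀.Normal ∧ L₀ ≤ K ∧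
      (∃ (F : Type) (_ : Field F) (_ : Fintype F), Odd (Fintype.card F) ∧
        (L₀ = K ∧ Fintype.card F = 3 ∨ 3 < Fintype.card F) ∧
        Nonempty (L₀ ≃* SpecialLinearGroup (Fin 2) F)) ∧
      ∀ L₁ : Subgroup H, L₁.Normal → (∃ (F : Type) (_ : Field F) (_ : Fintype F),
        Odd (Fintype.card F) ∧ Nonempty (L₁ ≃* SpecialLinearGroup (Fin 2) F)) → L₁ = L₀ := by
  classical
  haveI := hK
  haveI : Fact (Nat.Prime 2) := ⟨Nat.prime_two⟩
  haveI : Fact (Nat.Prime 3) := ⟨Nat.prime_three⟩
  obtain ⟨P⟩ : Nonempty (Sylow 2 K) := inferInstance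
  obtain ⟨m, hm, ⟨eP⟩⟩ := hKQ P
  have hn : 2 ≤ 2 ^ m := Nat.le_self_pow (by omega) 2
  obtain ⟨hR, D, -, -⟩ := BrauerSuzuki.exists_quaternion_data P hn eP
  have hKO : Cfsg.oddCore K = ⊥ := by
    haveI : (Cfsg.pPrimeCore 2 K).Characteristic := PBasic.pPrimeCore_characteristic 2 K
    have h : ((Cfsg.oddCore K).map K.subtype) = ⊥ := eq_bot_of_odd_normal hO
      (show ((Cfsg.pPrimeCore 2 K).map K.subtype).Normal from inferInstance) (by
        rw [Subgroup.card_map_of_injective K.subtype_injective]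
        exact oddCore_odd)
    exact (Subgroup.map_eq_bot_iff_of_injective _ K.subtype_injective).1 h
  -- every `SL(2, F)` lies in `K`
  have hle : ∀ (L₁ : Subgroup H) (F : Type) [Field F] [Fintype F], Odd (Fintype.card F) →
      (L₁ ≃* SpecialLinearGroup (Fin 2) F) → L₁ ≤ K := by
    intro L₁ F _ _ hF e x hx
    have hQ : IsPGroup 2 (H ⧸ K) := IsPGroup.of_card (n := a) (by rw [← Subgroup.index_eq_card, hKi])
    have := sl2_hom_two_trivial hF hQ (((QuotientGroup.mk' K).comp L₁.subtype).comp e.symm.toMonoidHom)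
      (e ⟨x, hx⟩)
    simp only [MonoidHom.comp_apply, MulEquiv.coe_toMonoidHom, MulEquiv.symm_apply_apply] at this
    exact (QuotientGroup.eq_one_iff _).1 this
  have hSL3 : ∀ (F : Type) [Field F] [Fintype F], Fintype.card F = 3 →
      Nat.card (SpecialLinearGroup (Fin 2) F) = 24 ∧ Group.IsSolvable (SpecialLinearGroup (Fin 2) F) := by
    intro F _ _ h
    have hc : Nat.card (SpecialLinearGroup (Fin 2) F) = 24 := by
      rw [TwoByTwo.card_sl_two, Nat.card_eq_fintype_card, h]; rfl
    exact ⟨hc, Char.isSolvable_of_card_pq 2 3 Nat.prime_two Nat.prime_three _ _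
      (hc.trans (show 24 = 2 ^ 3 * 3 ^ 1 by norm_num)) ⟨3, 1, rfl⟩⟩
  by_cases hsol : Group.IsSolvable K
  · obtain ⟨e⟩ := solvable_case P hm eP hKO hK2 hsol
    refine ⟨K, hK, le_rfl, ⟨ZMod 3, inferInstance, inferInstance, by rw [ZMod.card]; decide,
      Or.inl ⟨rfl, ZMod.card 3⟩, ⟨e⟩⟩, ?_⟩
    rintro L₁ - ⟨F, i1, i2, hF, ⟨e₁⟩⟩
    have h1 := hle L₁ F hF e₁
    refine Subgroup.eq_of_le_of_card_ge h1 ?_
    rw [Nat.card_congr e.toEquiv, Nat.card_congr e₁.toEquiv, TwoByTwo.card_sl_two,
      TwoByTwo.card_sl_two, Nat.card_eq_fintype_card, Nat.card_eq_fintype_card, ZMod.card]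
    have hF3 : 3 ≤ Fintype.card F := by
      have := Fintype.one_lt_card (α := F)
      obtain ⟨k, hk⟩ := hF
      omega
    have : 3 ^ 2 - 1 ≤ Fintype.card F ^ 2 - 1 := Nat.sub_le_sub_right (Nat.pow_le_pow_left hF3 2) 1
    exact Nat.mul_le_mul hF3 this
  -- the perfect core of `K`
  set R := res K with hRdef
  have hRp : Group.IsPerfect R := ⟨by
    refine Subgroup.map_injective R.subtype_injective ?_
    rw [Subgroup.map_subtype_commutator, res_commutator, ← MonoidHom.range_eq_map, Subgroup.range_subtype]⟩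
  have hRne : R ≠ ⊥ := by
    intro h
    obtain ⟨n, hn', -⟩ := exists_res_eq (X := K)
    exact hsol ((Group.isSolvable_def K).2 ⟨n, hn'.trans h⟩)
  haveI hRc : R.Characteristic := Subgroup.characteristic_iff_map_le.2 fun φ => res_map_le φ.toMonoidHom
  set L₀ := R.map K.subtype with hL₀
  haveI hL₀n : L₀.Normal := inferInstance
  let eR : R ≃* L₀ := R.equivMapOfInjective K.subtype K.subtype_injective
  haveI : Group.IsPerfect L₀ := Group.IsPerfect.ofSurjective (f := eR.toMonoidHom) eR.surjective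
  have hRL : BrauerSuzuki.RankOne L₀ :=
    (hR.subgroup R).of_injective eR.symm.toMonoidHom eR.symm.injective
  have hL₀O : Cfsg.oddCore L₀ = ⊥ := by
    haveI : (Cfsg.pPrimeCore 2 L₀).Characteristic := PBasic.pPrimeCore_characteristic 2 L₀
    have h : ((Cfsg.oddCore L₀).map L₀.subtype) = ⊥ := eq_bot_of_odd_normal hO
      (show ((Cfsg.pPrimeCore 2 L₀).map L₀.subtype).Normal from inferInstance) (by
        rw [Subgroup.card_map_of_injective L₀.subtype_injective]
        exact oddCore_odd)
    exact (Subgroup.map_eq_bot_iff_of_injective _ L₀.subtype_injective).1 h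
  have hev : Even (Nat.card L₀) := by
    rw [← Nat.not_odd_iff_even]
    intro hodd
    have := eq_bot_of_odd_normal hO hL₀n hodd
    rw [hL₀, Subgroup.map_eq_bot_iff_of_injective _ K.subtype_injective] at this
    exact hRne this
  have hrk : Cfsg.PRankLE 2 1 L₀ := by
    intro A hA hA2
    haveI := hA
    haveI := Fintype.ofFinite A
    by_contra hgt
    rw [pow_one, Nat.card_eq_fintype_card, ← Finset.card_univ, not_le] at hgt
    obtain ⟨u, -, hu⟩ := Finset.exists_mem_ne (s := (Finset.univ : Finset A)) (by omega) 1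
    have hlt : ({1, u} : Finset A).card < (Finset.univ : Finset A).card :=
      Finset.card_le_two.trans_lt hgt
    obtain ⟨v, -, hv⟩ := Finset.exists_mem_notMem_of_card_lt_card hlt
    simp only [Finset.mem_insert, Finset.mem_singleton, not_or] at hv
    have ho : ∀ w : A, w ≠ 1 → orderOf (w : L₀) = 2 := fun w hw =>
      orderOf_eq_prime (hA2 w w.2) fun h => hw (Subtype.ext h)
    exact hv.2 (Subtype.ext (hRL _ _ (ho v hv.1) (ho u hu) (congrArg Subtype.val (mul_comm' v u))))
  let eO : L₀ ⧸ Cfsg.oddCore L₀ ≃* L₀ :=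
    (QuotientGroup.quotientMulEquivOfEq hL₀O).trans QuotientGroup.quotientBot
  obtain ⟨F, i1, i2, hF, hF3, ⟨e⟩⟩ : ∃ (F : Type) (_ : Field F) (_ : Fintype F),
      Odd (Fintype.card F) ∧ 3 < Fintype.card F ∧ Nonempty (L₀ ≃* SpecialLinearGroup (Fin 2) F) := by
    rcases rank_one_perfect hG hrk hev with ⟨F, i1, i2, h1, h2, ⟨e⟩⟩ | ⟨-, ⟨e7⟩, -⟩
    · exact ⟨F, i1, i2, h1, h2, ⟨eO.symm.trans e⟩⟩
    · refine (no_double_seven S hS L₀ hRL ?_).elim
      exact (QuotientGroup.congr _ _ eO.symm (map_center_equiv eO.symm)).trans e7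
  refine ⟨L₀, hL₀n, Subgroup.map_subtype_le _, ⟨F, i1, i2, hF, Or.inr hF3, ⟨e⟩⟩, ?_⟩
  haveI : IsSimpleGroup (L₀ ⧸ Subgroup.center L₀) := by
    haveI : IsSimpleGroup (SpecialLinearGroup (Fin 2) F ⧸ Subgroup.center (SpecialLinearGroup (Fin 2) F)) :=
      Matrix.ProjectiveSpecialLinearGroup.rank_two_simple (by rw [Nat.card_eq_fintype_card]; omega)
    exact (QuotientGroup.congr _ _ e (map_center_equiv e)).isSimpleGroup
  obtain ⟨T⟩ : Nonempty (Sylow 2 L₀) := inferInstance
  obtain ⟨c, hc⟩ : ∃ c : L₀, orderOf c = 4 := by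
    rcases BrauerSuzuki.exists_data hRL T with h | ⟨D', -⟩
    · exact absurd h (perfect_not_cyclic_sylow hev.two_dvd T)
    · refine ⟨D'.a ^ D'.k, ?_⟩
      rw [orderOf_pow_of_dvd D'.k_pos.ne' (by rw [D'.order_a]; exact Dvd.intro_left _ rfl),
        D'.order_a, Nat.mul_div_cancel _ D'.k_pos]
  rintro L₁ hL₁n ⟨F₁, j1, j2, hF₁, ⟨e₁⟩⟩
  haveI := hL₁n
  have h1K := hle L₁ F₁ hF₁ e₁
  have h0K : L₀ ≤ K := hL₀ ▸ Subgroup.map_subtype_le _
  rcases perfect_normal_cases (Group.IsPerfect.commutator_eq_top (G := L₀)) (L₁.subgroupOf L₀) with h | h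
  · exfalso
    have hcom : ∀ u ∈ L₁, ∀ v ∈ L₀, u * v = v * u := by
      have h2 : ⁅⁅L₀, L₁⁆, L₀⁆ = ⊥ := by
        rw [Subgroup.commutator_eq_bot_iff_le_centralizer]
        intro w hw
        have hw0 : w ∈ L₀ := Subgroup.commutator_le_left L₀ L₁ hw
        have hw1 : w ∈ L₁ := Subgroup.commutator_le_right L₀ L₁ hw
        have hz := Subgroup.mem_center_iff.1 (h (show (⟨w, hw0⟩ : L₀) ∈ L₁.subgroupOf L₀ from hw1))
        exact Subgroup.mem_centralizer_iff.2 fun v hv => congrArg Subtype.val (hz ⟨v, hv⟩)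
      have h3 : ⁅⁅L₁, L₀⁆, L₀⁆ = ⊥ := by rw [Subgroup.commutator_comm L₁ L₀]; exact h2
      have h4 := Subgroup.commutator_commutator_eq_bot_of_rotate h2 h3
      have hp : ⁅L₀, L₀⁆ = L₀ := by
        rw [← Subgroup.map_subtype_commutator, Group.IsPerfect.commutator_eq_top (G := L₀),
          ← MonoidHom.range_eq_map, Subgroup.range_subtype]
      rw [hp, Subgroup.commutator_eq_bot_iff_le_centralizer] at h4
      exact fun u hu v hv => Subgroup.mem_centralizer_iff.1 (h4 hv) u hu
    have h2F : (2 : F₁) ≠ 0 := fun h => by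
      obtain ⟨k, hk⟩ := hF₁
      have h0 : ((Fintype.card F₁ : ℕ) : F₁) = 0 := Nat.cast_card_eq_zero F₁
      rw [hk] at h0
      push_cast at h0
      rw [h, zero_mul, zero_add] at h0
      exact one_ne_zero h0
    obtain ⟨u, v, hu, hv, hne, hne'⟩ := sl2_two_fours h2F
    let f : SpecialLinearGroup (Fin 2) F₁ →* K := (Subgroup.inclusion h1K).comp e₁.symm.toMonoidHom
    have hf : Function.Injective f := (Subgroup.inclusion_injective h1K).comp e₁.symm.injective
    let c' : K := Subgroup.inclusion h0K c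
    have hc' : orderOf c' = 4 := by rw [orderOf_injective _ (Subgroup.inclusion_injective h0K), hc]
    have hcomm : ∀ w, Commute c' (f w) := fun w =>
      Subtype.ext (hcom _ (e₁.symm w).2 _ c.2).symm
    have hfu := four_eq_or_inv hR hc' (by rw [orderOf_injective f hf, hu]) (hcomm u)
    have hfv := four_eq_or_inv hR hc' (by rw [orderOf_injective f hf, hv]) (hcomm v)
    rcases hfu with hfu | hfu <;> rcases hfv with hfv | hfv
    · exact hne (hf (hfv.trans hfu.symm))
    · exact hne' (hf (by rw [hfv, map_inv, hfu]))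
    · exact hne' (hf (by rw [hfv, map_inv, hfu, inv_inv]))
    · exact hne (hf (hfv.trans hfu.symm))
  · have hle01 : L₀ ≤ L₁ := Subgroup.subgroupOf_eq_top.1 h
    set N := L₀.subgroupOf L₁ with hN
    let eN : N ≃* L₀ := Subgroup.subgroupOfEquivOfLe hle01
    haveI : Nontrivial L₀ := Finite.one_lt_card_iff_nontrivial.1 (by
      have := Nat.le_of_dvd Nat.card_pos hev.two_dvd
      omega)
    have hns : ¬ Group.IsSolvable L₀ := fun hs => (Group.IsSolvable.commutator_lt_top_of_nontrivial L₀).ne
      (Group.IsPerfect.commutator_eq_top (G := L₀))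
    have hF₁3 : 3 < Fintype.card F₁ := by
      have := Fintype.one_lt_card (α := F₁)
      obtain ⟨k, hk⟩ := hF₁
      by_contra hle3
      haveI := (hSL3 F₁ (by omega)).2
      haveI : Group.IsSolvable L₁ := Group.isSolvable_of_isSolvable_injective (f := e₁.toMonoidHom) e₁.injective
      exact hns (Group.isSolvable_of_isSolvable_injective (f := Subgroup.inclusion hle01)
        (Subgroup.inclusion_injective hle01))
    haveI : IsSimpleGroup (L₁ ⧸ Subgroup.center L₁) := by
      haveI : IsSimpleGroup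
          (SpecialLinearGroup (Fin 2) F₁ ⧸ Subgroup.center (SpecialLinearGroup (Fin 2) F₁)) :=
        Matrix.ProjectiveSpecialLinearGroup.rank_two_simple (by rw [Nat.card_eq_fintype_card]; omega)
      exact (QuotientGroup.congr _ _ e₁ (map_center_equiv e₁)).isSimpleGroup
    have hperf : commutator L₁ = ⊤ := by
      obtain ⟨t, ht⟩ := SLPres.exists_unit_sq_ne_one (K := F₁)
        (by rw [Nat.card_eq_fintype_card]; omega) (by rw [Nat.card_eq_fintype_card]; omega)
      haveI : Group.IsPerfect (SpecialLinearGroup (Fin 2) F₁) :=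
        ⟨Matrix.SL2.commutator_eq_top (a := (t : F₁)) t.ne_zero fun h => ht (Units.ext (by simpa using h))⟩
      exact (Group.IsPerfect.ofSurjective (f := e₁.symm.toMonoidHom) e₁.symm.surjective).commutator_eq_top
    rcases perfect_normal_cases hperf N with h' | h'
    · exfalso
      refine hns ?_
      haveI : Group.IsSolvable N := Group.isSolvable_of_comm fun p q =>
        Subtype.ext (Subgroup.mem_center_iff.1 (h' q.2) p.1)
      exact Group.isSolvable_of_isSolvable_injective (f := eN.symm.toMonoidHom) eN.symm.injective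
    · exact le_antisymm (Subgroup.subgroupOf_eq_top.1 h') hle01

/-- Row S1216 from the simple case. -/
theorem q_group_normal_sl_two (hG : SimpleDihedral.{u}) (S : Sylow 2 H)
    (hS : Cfsg.IsQuasiDihedral (S : Subgroup H) ∨ Cfsg.IsWreathed (S : Subgroup H))
    (hO : Cfsg.oddCore H = ⊥) (K : Subgroup H) (hK : K.Normal) {a : ℕ} (hKi : K.index = 2 ^ a)
    (hK2 : ∀ M : Subgroup ↥K, M.index ≠ 2)
    (hKQ : ∀ P : Sylow 2 ↥K, ∃ m : ℕ, 1 ≤ m ∧
      Nonempty ((P : Subgroup ↥K) ≃* QuaternionGroup (2 ^ m))) :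
    ∃ L₀ : Subgroup H, L₀.Normal ∧
      (∃ (F : Type) (_ : Field F) (_ : Fintype F), Odd (Fintype.card F) ∧
        Nonempty (L₀ ≃* SpecialLinearGroup (Fin 2) F)) ∧
      ∀ L₁ : Subgroup H, L₁.Normal → (∃ (F : Type) (_ : Field F) (_ : Fintype F),
        Odd (Fintype.card F) ∧ Nonempty (L₁ ≃* SpecialLinearGroup (Fin 2) F)) → L₁ = L₀ := by
  obtain ⟨L₀, h1, -, ⟨F, i1, i2, hF, -, e⟩, h2⟩ := q_group_structure hG S hS hO K hK hKi hK2 hKQ
  exact ⟨L₀, h1, ⟨F, i1, i2, hF, e⟩, h2⟩

end Cfsg.Agent.GW
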