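import Cfsg.Agent.Lib.GW.RankOne
import Cfsg.Agent.Lib.RankOneP.Main
import Cfsg.Agent.Lib.OddChar.OddTheorem
import Cfsg.Agent.S3116
import Cfsg.Agent.S0802

/-!
Quaternion Sylow 2-subgroups with cyclic intersections, given the simple dihedral case.
-/

set_option autoImplicit false

namespace Cfsg.Agent.GW

universe u v

/-- Cyclic Sylow intersections pass to surjective images. -/
theorem inter_map {G : Type u} {H : Type v} [Group G] [Finite G] [Group H] [Finite H] (f : G →* H)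
    (hf : Function.Surjective f)
    (hC : ∀ S T : Sylow 2 G, S ≠ T → IsCyclic ↥((S : Subgroup G) ⊓ (T : Subgroup G))) :
    ∀ S T : Sylow 2 H, S ≠ T → IsCyclic ↥((S : Subgroup H) ⊓ (T : Subgroup H)) := by
  haveI : Fact (Nat.Prime 2) := ⟨Nat.prime_two⟩
  have hlift : ∀ T : Sylow 2 H, ∃ S : Sylow 2 G, (S : Subgroup G).map f = T := by
    intro T
    obtain ⟨S⟩ : Nonempty (Sylow 2 G) := inferInstance
    obtain ⟨h, hh⟩ := MulAction.exists_smul_eq H (S.mapSurjective hf) T
    obtain ⟨g, rfl⟩ := hf h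
    refine ⟨g • S, ?_⟩
    rw [← hh, Sylow.coe_subgroup_smul, Sylow.coe_subgroup_smul, Sylow.coe_mapSurjective]
    ext y
    rw [Subgroup.mem_map, Subgroup.mem_pointwise_smul_iff_inv_smul_mem, Subgroup.mem_map]
    constructor
    · rintro ⟨x, hx, rfl⟩
      rw [Subgroup.mem_pointwise_smul_iff_inv_smul_mem] at hx
      exact ⟨_, hx, by simp⟩
    · rintro ⟨x, hx, e⟩
      refine ⟨g * x * g⁻¹, ?_, ?_⟩
      · rw [Subgroup.mem_pointwise_smul_iff_inv_smul_mem]
        simpa [mul_assoc] using hx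
      · rw [map_mul, map_mul, map_inv, e]
        simp [mul_assoc]
  intro S' T' hne
  obtain ⟨S, hS⟩ := hlift S'
  obtain ⟨T, hT⟩ := hlift T'
  set D := ((S' : Subgroup H) ⊓ (T' : Subgroup H)).comap f ⊓ (S : Subgroup G)
  have hTM : (T : Subgroup G) ≤ (T' : Subgroup H).comap f :=
    Subgroup.map_le_iff_le_comap.1 hT.le
  have hDM : D ≤ (T' : Subgroup H).comap f := fun x hx => hx.1.2
  obtain ⟨R, hR⟩ := (S.isPGroup'.to_le (inf_le_right : D ≤ (S : Subgroup G))).comap_subtype
    (K := (T' : Subgroup H).comap f) |>.exists_le_sylow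
  obtain ⟨m, hm⟩ := MulAction.exists_smul_eq ((T' : Subgroup H).comap f) (T.subtype hTM) R
  set T2 := (m : G) • T
  have hDT : D ≤ (T2 : Subgroup G) := by
    intro x hx
    have h1 : (⟨x, hDM hx⟩ : (T' : Subgroup H).comap f) ∈ (R : Subgroup _) := hR hx
    rw [← hm, Sylow.coe_subgroup_smul, Subgroup.mem_pointwise_smul_iff_inv_smul_mem] at h1
    rw [Sylow.coe_subgroup_smul, Subgroup.mem_pointwise_smul_iff_inv_smul_mem]
    simpa [Subgroup.mem_subgroupOf] using h1
  have hne2 : T2 ≠ S := by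
    intro e
    refine hne (Sylow.ext ?_)
    rw [← hS, ← e, Sylow.coe_subgroup_smul]
    ext y
    rw [Subgroup.mem_map]
    refine Iff.trans ?_ (SetLike.ext_iff.1 hT y)
    have hfm : f (m : G) ∈ (T : Subgroup G).map f := (SetLike.ext_iff.1 hT _).2 m.2
    constructor
    · rintro ⟨x, hx, rfl⟩
      rw [Subgroup.mem_pointwise_smul_iff_inv_smul_mem] at hx
      have h1 := mul_mem (mul_mem hfm (Subgroup.mem_map_of_mem f hx)) (inv_mem hfm)
      simpa [mul_assoc] using h1
    · intro hy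
      obtain ⟨x, hx, hxy⟩ := mul_mem (mul_mem (inv_mem hfm) hy) hfm
      refine ⟨(m : G) * x * (m : G)⁻¹, ?_, ?_⟩
      · rw [Subgroup.mem_pointwise_smul_iff_inv_smul_mem]
        simpa [mul_assoc] using show x ∈ (T : Subgroup G) from hx
      · rw [map_mul, map_mul, map_inv, hxy]; group
  haveI := hC T2 S hne2
  haveI : IsCyclic D :=
    Subgroup.isCyclic_of_le (le_inf hDT inf_le_right : D ≤ (T2 : Subgroup G) ⊓ (S : Subgroup G))
  refine isCyclic_of_surjective ((f.comp D.subtype).codRestrict _ fun x => x.2.1) ?_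
  rintro ⟨y, hy⟩
  obtain ⟨x, hx, hxy⟩ : y ∈ (S : Subgroup G).map f := hS.symm ▸ hy.1
  exact ⟨⟨x, show f x ∈ _ from hxy.symm ▸ hy, hx⟩, Subtype.ext hxy⟩

/-- The permutations of the four-group argument. -/
theorem a4_facts : ∃ a b g : alternatingGroup (Fin 4), orderOf a = 2 ∧ orderOf b = 2 ∧ a ≠ b ∧
    a * b = b * a ∧ g ^ 3 = 1 ∧ g * a ≠ a * g ∧
    (g * a * g⁻¹ = a ∨ g * a * g⁻¹ = b ∨ g * a * g⁻¹ = a * b) ∧
    (g * b * g⁻¹ = a ∨ g * b * g⁻¹ = b ∨ g * b * g⁻¹ = a * b) := by
  refine ⟨⟨Equiv.swap 0 1 * Equiv.swap 2 3, Equiv.Perm.mem_alternatingGroup.2 (by decide +kernel)⟩,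
    ⟨Equiv.swap 0 2 * Equiv.swap 1 3, Equiv.Perm.mem_alternatingGroup.2 (by decide +kernel)⟩,
    ⟨Equiv.swap 0 1 * Equiv.swap 1 2, Equiv.Perm.mem_alternatingGroup.2 (by decide +kernel)⟩,
    orderOf_eq_prime (by decide +kernel) (by decide +kernel),
    orderOf_eq_prime (by decide +kernel) (by decide +kernel), by decide +kernel, by decide +kernel,
    by decide +kernel, by decide +kernel, by decide +kernel, by decide +kernel⟩

/-- A target contains `A₄`. -/
theorem target_a4 {L : Type u} [Group L] (h : IsTarget L) :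
    ∃ ψ : alternatingGroup (Fin 4) →* L, Function.Injective ψ := by
  rcases h with ⟨F, i1, i2, hodd, h3, ⟨e⟩⟩ | ⟨⟨e⟩⟩
  · obtain ⟨n, hp, hn⟩ := FiniteField.card F (ringChar F)
    haveI := Fact.mk hp
    obtain ⟨H, ⟨eH⟩⟩ := (S0802.result (F := F) (ringChar F) n hn).2 fun hh => by
      rw [hn, hh.1] at hodd
      exact Nat.not_odd_iff_even.2 (Even.pow_of_ne_zero (by norm_num) n.2.ne') hodd
    exact ⟨(e.symm.toMonoidHom.comp H.subtype).comp eH.symm.toMonoidHom,
      (e.symm.injective.comp H.subtype_injective).comp eH.symm.injective⟩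
  · let f : Fin 4 ≃ {i : Fin 7 // i.1 < 4} :=
      ⟨fun i => ⟨⟨i.1, by omega⟩, i.2⟩, fun i => ⟨i.1.1, i.2⟩, fun i => rfl, fun i => rfl⟩
    let ι : Equiv.Perm (Fin 4) →* Equiv.Perm (Fin 7) := Equiv.Perm.extendDomainHom f
    have hι : Function.Injective ι := Equiv.Perm.extendDomainHom_injective f
    have hs : ∀ p : alternatingGroup (Fin 4), ι p ∈ alternatingGroup (Fin 7) := fun p => by
      rw [Equiv.Perm.mem_alternatingGroup]
      refine Eq.trans ?_ (Equiv.Perm.mem_alternatingGroup.1 p.2)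
      exact Equiv.Perm.sign_extendDomain _ _
    exact ⟨e.symm.toMonoidHom.comp ((ι.comp (alternatingGroup (Fin 4)).subtype).codRestrict _ hs),
      e.symm.injective.comp fun p p' h => Subtype.ext (hι (congrArg Subtype.val h :))⟩

/-- With cyclic intersections, dihedral Sylow 2-subgroups of an insoluble group are four-groups. -/
theorem sylow_four_of_inter {Y : Type u} [Group Y] [Finite Y] (h : DihSylow Y)
    (hC : ∀ S T : Sylow 2 Y, S ≠ T → IsCyclic ↥((S : Subgroup Y) ⊓ (T : Subgroup Y)))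
    (ψ : alternatingGroup (Fin 4) →* Y) (hψ : Function.Injective ψ) (T : Sylow 2 Y) :
    Nat.card (T : Subgroup Y) = 4 := by
  classical
  haveI : Fact (Nat.Prime 2) := ⟨Nat.prime_two⟩
  obtain ⟨a, b, g, ha, hb, hne, hab, hg3, hga, hA, hB⟩ := a4_facts
  set A := ψ a with hAdef
  set B := ψ b with hBdef
  have hAo : orderOf A = 2 := by rw [hAdef, orderOf_injective ψ hψ, ha]
  have hBo : orderOf B = 2 := by rw [hBdef, orderOf_injective ψ hψ, hb]
  have hABc : A * B = B * A := by rw [hAdef, hBdef, ← map_mul, hab, map_mul]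
  obtain ⟨T0, hT0⟩ : ∃ T0 : Sylow 2 Y, A ∈ (T0 : Subgroup Y) ∧ B ∈ (T0 : Subgroup Y) := by
    have hle : Subgroup.zpowers B ≤ Subgroup.normalizer (Subgroup.zpowers A : Set Y) :=
      Subgroup.zpowers_le.2 (Subgroup.centralizer_le_normalizer _
        (Subgroup.mem_centralizer_iff.2 fun x hx => by
          obtain ⟨i, rfl⟩ := hx
          exact ((show Commute A B from hABc).zpow_left i).eq))
    obtain ⟨T0, hT0⟩ := (IsPGroup.to_sup_of_normal_left'
      (IsPGroup.of_card (n := 1) (by rw [Nat.card_zpowers, hAo, pow_one]))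
      (IsPGroup.of_card (n := 1) (by rw [Nat.card_zpowers, hBo, pow_one])) hle).exists_le_sylow
    exact ⟨T0, hT0 (Subgroup.mem_sup_left (Subgroup.mem_zpowers A)),
      hT0 (Subgroup.mem_sup_right (Subgroup.mem_zpowers B))⟩
  obtain ⟨k, hk, ⟨eT⟩⟩ := h.two_pow T0
  have hcard : Nat.card (T : Subgroup Y) = Nat.card (T0 : Subgroup Y) :=
    Nat.card_congr (T.equiv T0).toEquiv
  rw [hcard, Nat.card_congr eT.toEquiv, DihedralGroup.nat_card]
  rcases Nat.lt_or_ge k 2 with hk2 | hk2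
  · rw [show k = 1 by omega]; rfl
  exfalso
  set γ := ψ g
  have hmem : ∀ {x : alternatingGroup (Fin 4)}, x = a ∨ x = b ∨ x = a * b → ψ x ∈ (T0 : Subgroup Y) := by
    rintro x (rfl | rfl | rfl)
    exacts [hT0.1, hT0.2, by rw [map_mul]; exact mul_mem hT0.1 hT0.2]
  by_cases hfix : γ • T0 = T0
  · have hN : γ ∈ Subgroup.normalizer ((T0 : Subgroup Y) : Set Y) :=
      Sylow.smul_eq_iff_mem_normalizer.1 hfix
    have hAut := S3116.result T0.isPGroup'
      (Or.inl ⟨2 ^ k, le_trans (by norm_num) (Nat.pow_le_pow_right two_pos hk2), ⟨eT⟩⟩)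
    set φ := (T0 : Subgroup Y).normalizerMonoidHom ⟨γ, hN⟩ with hφ
    have hφ3 : φ ^ 3 = 1 := by
      rw [hφ, ← map_pow, show (⟨γ, hN⟩ : Subgroup.normalizer ((T0 : Subgroup Y) : Set Y)) ^ 3 = 1 from
        Subtype.ext (show γ ^ 3 = 1 by rw [← map_pow, hg3, map_one]), map_one]
    obtain ⟨j, hj⟩ := hAut φ
    have hφ1 : φ = 1 := by
      have h1 := orderOf_dvd_of_pow_eq_one hφ3
      have h2 := orderOf_dvd_of_pow_eq_one hj
      rw [← orderOf_eq_one_iff]
      exact Nat.dvd_one.1 ((Nat.Coprime.pow_right j (by norm_num : Nat.Coprime 3 2)) ▸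
        Nat.dvd_gcd h1 h2)
    have h1 : γ * A * γ⁻¹ = A :=
      congrArg (fun e : MulAut (T0 : Subgroup Y) => ((e ⟨A, hT0.1⟩ : (T0 : Subgroup Y)) : Y)) hφ1
    refine hga (hψ ?_)
    rw [map_mul, map_mul]
    exact mul_inv_eq_iff_eq_mul.1 h1
  · haveI := hC _ _ hfix
    haveI := Fintype.ofFinite ((γ • T0 : Sylow 2 Y) : Subgroup Y)
    have hin : ∀ x, ψ x ∈ (T0 : Subgroup Y) → (g * x * g⁻¹ = a ∨ g * x * g⁻¹ = b ∨ g * x * g⁻¹ = a * b) →
        ψ (g * x * g⁻¹) ∈ ((γ • T0 : Sylow 2 Y) : Subgroup Y) ⊓ (T0 : Subgroup Y) := by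
      intro x hx hc
      refine ⟨?_, hmem hc⟩
      rw [Sylow.coe_subgroup_smul, map_mul, map_mul, map_inv]
      exact Subgroup.smul_mem_pointwise_smul (ψ x) (MulAut.conj γ) _ hx
    set M := ((γ • T0 : Sylow 2 Y) : Subgroup Y) ⊓ (T0 : Subgroup Y)
    let xa : M := ⟨_, hin a hT0.1 hA⟩
    let xb : M := ⟨_, hin b hT0.2 hB⟩
    have hxa : orderOf xa = 2 := by
      rw [← Subgroup.orderOf_coe, orderOf_injective ψ hψ, Invol.order_conj, ha]
    have hxb : orderOf xb = 2 := by
      rw [← Subgroup.orderOf_coe, orderOf_injective ψ hψ, Invol.order_conj, hb]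
    haveI := Fintype.ofFinite M
    have hle := IsCyclic.card_pow_eq_one_le (α := M) (n := 2) two_pos
    have hsub : ({1, xa, xb} : Finset M) ⊆ Finset.univ.filter (fun c : M => c ^ 2 = 1) := by
      intro c hc
      simp only [Finset.mem_insert, Finset.mem_singleton] at hc
      rw [Finset.mem_filter]
      refine ⟨Finset.mem_univ _, ?_⟩
      rcases hc with rfl | rfl | rfl
      exacts [one_pow 2, orderOf_dvd_iff_pow_eq_one.1 hxa.dvd, orderOf_dvd_iff_pow_eq_one.1 hxb.dvd]
    have hc3 := Finset.card_le_card hsub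
    rw [Finset.card_insert_of_notMem, Finset.card_pair] at hc3
    · omega
    · intro e
      refine hne ?_
      have e' : ψ (g * a * g⁻¹) = ψ (g * b * g⁻¹) := congrArg Subtype.val e
      exact mul_left_cancel (mul_right_cancel (hψ e'))
    · simp only [Finset.mem_insert, Finset.mem_singleton]
      rintro (e | e)
      · rw [← e, orderOf_one] at hxa; omega
      · rw [← e, orderOf_one] at hxb; omega

/-- The quaternion groups with cyclic intersections. -/
theorem quat_inter (hG : SimpleDihedral.{u}) {G : Type u} [Group G] [Finite G]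
    (hns : ¬ Group.IsSolvable G)
    (hQ : ∀ S : Sylow 2 G, ∃ n : ℕ, Nonempty (↥(S : Subgroup G) ≃* QuaternionGroup (2 ^ (n + 1))))
    (hC : ∀ S T : Sylow 2 G, S ≠ T → IsCyclic ↥((S : Subgroup G) ⊓ (T : Subgroup G))) :
    (∀ S : Sylow 2 G, Nonempty (↥(S : Subgroup G) ≃* QuaternionGroup 2)) ∧
    ∃ (G₁ : Subgroup G) (_ : G₁.Normal) (_ : ((Cfsg.oddCore G).subgroupOf G₁).Normal),
      Odd G₁.index ∧ Cfsg.oddCore G ≤ G₁ ∧
      ∃ (F : Type) (_ : Field F) (_ : Fintype F),
        (Fintype.card F % 8 = 3 ∨ Fintype.card F % 8 = 5) ∧ 3 < Fintype.card F ∧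
        Nonempty (↥G₁ ⧸ (Cfsg.oddCore G).subgroupOf G₁ ≃* Matrix.SpecialLinearGroup (Fin 2) F) := by
  classical
  haveI : Fact (Nat.Prime 2) := ⟨Nat.prime_two⟩
  set O := Cfsg.oddCore G with hO
  have hodd : Odd (Nat.card O) := Nat.coprime_two_right.1 (PBasic.pPrimeCore_coprime 2 G)
  set π := QuotientGroup.mk' O with hπ
  set E := G ⧸ O
  obtain ⟨S0⟩ : Nonempty (Sylow 2 G) := inferInstance
  obtain ⟨n, ⟨eS⟩⟩ := hQ S0
  let P : Sylow 2 E := S0.mapSurjective (QuotientGroup.mk'_surjective O)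
  have hinj : Function.Injective (π.comp (S0 : Subgroup G).subtype) := by
    refine (injective_iff_map_eq_one _).2 fun x hx => Subtype.ext ?_
    have hxO : (x : G) ∈ O := (QuotientGroup.eq_one_iff _).1 hx
    exact Subgroup.mem_bot.1 (PBasic.inf_eq_bot_of_coprime (p := 2) (PBasic.pPrimeCore_coprime 2 G)
      S0.isPGroup' ▸ Subgroup.mem_inf.2 ⟨hxO, x.2⟩)
  let eP : (P : Subgroup E) ≃* QuaternionGroup (2 ^ (n + 1)) :=
    ((MulEquiv.subgroupCongr ((Sylow.coe_mapSurjective _ S0).trans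
      (by rw [MonoidHom.range_comp, Subgroup.range_subtype]))).trans
      (MonoidHom.ofInjective hinj).symm).trans eS
  have hn2 : 2 ≤ 2 ^ (n + 1) := le_trans (by norm_num) (Nat.pow_le_pow_right two_pos (by omega : 1 ≤ n + 1))
  have hEO : Cfsg.oddCore E = ⊥ := PBasic.pPrimeCore_quotient_pPrimeCore 2 G
  have hnoodd : ∀ N : Subgroup E, N.Normal → Odd (Nat.card N) → N = ⊥ :=
    fun N hN ho => eq_bot_of_odd_normal hEO hN ho
  have hZ : Nat.card (Subgroup.center E) = 2 := S0201.result P n eP hnoodd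
  set Z := Subgroup.center E with hZdef
  set Y := E ⧸ Z
  obtain ⟨T, hT⟩ := SSModels.dihedral_of_quaternion hn2 P eP Z hZ
  have hdih : DihSylow Y := ⟨T, _, hn2, hT⟩
  have hYO : Cfsg.oddCore Y = ⊥ := RankOneP.odd_core_mod_center hEO hZ
  have hshape : Shape Y := shape hdih hYO fun L _ hL hd => by
    haveI := hL
    exact knownBelow_target (knownBelow_of_simple hG (Nat.card L + 1)) hd (Nat.lt_succ_self _)
  rcases shape_solvable_or hshape with hs | ⟨L, hLn, hLs, hLnc, hLt, -⟩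
  · exfalso
    haveI := hs
    haveI : Group.IsSolvable Z := Group.isSolvable_of_comm fun a b =>
      Subtype.ext (Subgroup.mem_center_iff.1 b.2 a)
    haveI : Group.IsSolvable E := Group.isSolvable_of_ker_le_range Z.subtype (QuotientGroup.mk' Z)
      (by rw [QuotientGroup.ker_mk', Subgroup.range_subtype])
    haveI : Group.IsSolvable O := OddChar.oddSolvable O hodd
    exact hns (Group.isSolvable_of_ker_le_range O.subtype π
      (by rw [hπ, QuotientGroup.ker_mk', Subgroup.range_subtype]))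
  haveI := hLn
  haveI := hLs
  obtain ⟨ψ, hψ⟩ := target_a4 hLt
  have hsurj : Function.Surjective ((QuotientGroup.mk' Z).comp π) :=
    (QuotientGroup.mk'_surjective Z).comp (QuotientGroup.mk'_surjective O)
  have h4 := sylow_four_of_inter hdih (inter_map _ hsurj hC) (L.subtype.comp ψ)
    (L.subtype_injective.comp hψ) T
  have hn0 : n = 0 := by
    rw [Nat.card_congr hT.some.toEquiv, DihedralGroup.nat_card] at h4
    have h1 : 2 ^ (n + 1) = 2 ^ 1 := by omega
    have := Nat.pow_right_injective le_rfl h1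
    omega
  subst hn0
  refine ⟨fun S => ⟨(S.equiv S0).trans eS⟩, ?_⟩
  -- the socle has odd index
  obtain ⟨a, b, g, ha, hb, hne, hab, -⟩ := a4_facts
  have h4L : 4 ∣ Nat.card L := by
    obtain ⟨V, hV, -⟩ := BrauerSuzuki.exists_klein (G := L) (a := ψ a) (b := ψ b)
      (by rw [orderOf_injective ψ hψ, ha]) (by rw [orderOf_injective ψ hψ, hb])
      (show ψ a * ψ b = ψ b * ψ a by rw [← map_mul, hab, map_mul]) (fun e => hne (hψ e))
    exact hV.card_four ▸ Subgroup.card_subgroup_dvd_card V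
  have h8 : ¬ 8 ∣ Nat.card Y := by
    intro hd
    have h2T : 2 ^ (Nat.card Y).factorization 2 = 4 :=
      (Sylow.card_eq_multiplicity T).symm.trans h4
    have h3 : 3 ≤ (Nat.card Y).factorization 2 :=
      (Nat.Prime.pow_dvd_iff_le_factorization Nat.prime_two Nat.card_pos.ne').1 hd
    have : 2 ^ 3 ≤ 2 ^ (Nat.card Y).factorization 2 := Nat.pow_le_pow_right two_pos h3
    omega
  have hLi : Odd L.index := by
    rw [← Nat.not_even_iff_odd, even_iff_two_dvd]
    intro hd
    exact h8 (L.card_mul_index ▸ Nat.mul_dvd_mul h4L hd)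
  obtain ⟨F, i1, i2, hoF, h3, hq8, ⟨e⟩⟩ : ∃ (F : Type) (_ : Field F) (_ : Fintype F),
      Odd (Fintype.card F) ∧ 3 < Fintype.card F ∧
      (Fintype.card F % 8 = 3 ∨ Fintype.card F % 8 = 5) ∧
      Nonempty (L ≃* Matrix.ProjectiveSpecialLinearGroup (Fin 2) F) := by
    have h8L : ¬ 8 ∣ Nat.card L := fun hd => h8 (hd.trans (Subgroup.card_subgroup_dvd_card L))
    rcases hLt with ⟨F, i1, i2, hoF, h3, ⟨e⟩⟩ | ⟨⟨e⟩⟩
    · refine ⟨F, i1, i2, hoF, h3, ?_, ⟨e⟩⟩
      by_contra hq
      have h2 : (2 : F) ≠ 0 := fun e => by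
        have hc : CharP F 2 := CharP.ringChar_of_prime_eq_zero Nat.prime_two (by exact_mod_cast e) ▸
          ringChar.charP F
        obtain ⟨n, -, hn⟩ := FiniteField.card F 2
        rw [hn] at hoF
        exact Nat.not_odd_iff_even.2 (Even.pow_of_ne_zero (by norm_num) n.2.ne') hoF
      refine h8L ?_
      rw [Nat.card_congr e.toEquiv]
      have hc := PSL2Inv.card_sl_eq (F := F) h2
      rw [SL2Inv.card_sl2, Nat.card_eq_fintype_card (α := F)] at hc
      obtain ⟨r, hr⟩ := hoF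
      set q := Fintype.card F
      obtain ⟨m, hm⟩ : ∃ m, q = 8 * m + 1 ∨ q = 8 * m + 7 := ⟨q / 8, by omega⟩
      rcases hm with hm | hm <;> rw [hm] at hc
      · rw [show 8 * m + 1 - 1 = 8 * m by omega] at hc
        exact ⟨(8 * m + 1) * m * (4 * m + 1), by nlinarith⟩
      · rw [show 8 * m + 7 - 1 = 8 * m + 6 by omega] at hc
        exact ⟨(8 * m + 7) * (4 * m + 3) * (m + 1), by nlinarith⟩
    · refine absurd ?_ h8L
      rw [Nat.card_congr e.toEquiv, nat_card_alternatingGroup, Nat.card_eq_fintype_card,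
        Fintype.card_fin]
      exact ⟨315, rfl⟩
  -- the preimages
  set ρ := QuotientGroup.mk' Z
  set E1 := L.comap ρ with hE1
  set G1 := E1.comap π with hG1
  haveI : G1.Normal := (Subgroup.normal_comap ρ).comap π
  have hZE : Z ≤ E1 := fun x hx => by
    rw [hE1, Subgroup.mem_comap, show ρ x = 1 from (QuotientGroup.eq_one_iff x).2 hx]; exact one_mem L
  have hOG : O ≤ G1 := fun x hx => by
    rw [hG1, Subgroup.mem_comap, show π x = 1 from (QuotientGroup.eq_one_iff x).2 hx]; exact one_mem E1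
  haveI hOn : (O.subgroupOf G1).Normal := inferInstance
  refine ⟨G1, inferInstance, hOn, ?_, hOG, F, i1, i2, hq8, h3, ?_⟩
  · rw [hG1, Subgroup.index_comap_of_surjective _ (QuotientGroup.mk'_surjective O), hE1,
      Subgroup.index_comap_of_surjective _ (QuotientGroup.mk'_surjective Z)]
    exact hLi
  -- the preimage of the socle is perfect
  have hLperf : ⁅L, L⁆ = L := by
    have h1 : commutator L = ⊤ := by
      rcases (inferInstance : (commutator L).Normal).eq_bot_or_eq_top with h | h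
      · exfalso
        rw [commutator_def, Subgroup.commutator_eq_bot_iff_le_centralizer] at h
        exact hLnc ⟨⟨fun a b => Subgroup.mem_centralizer_iff.1 (h (Subgroup.mem_top b)) a trivial⟩⟩
      · exact h
    have h2 := congrArg (Subgroup.map L.subtype) h1
    rwa [commutator_def, Subgroup.map_commutator, ← MonoidHom.range_eq_map, Subgroup.range_subtype] at h2
  have hmap : E1.map ρ = L := Subgroup.map_comap_eq_self_of_surjective (QuotientGroup.mk'_surjective Z) L
  have hDmap : ⁅E1, E1⁆.map ρ = L := by rw [Subgroup.map_commutator, hmap, hLperf]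
  have hR : BrauerSuzuki.RankOne E := (BrauerSuzuki.exists_quaternion_data P hn2 eP).1
  have hZD : Z ≤ ⁅E1, E1⁆ := by
    by_contra hno
    have hinjD : Function.Injective (ρ.comp ⁅E1, E1⁆.subtype) := by
      refine (injective_iff_map_eq_one _).2 fun x hx => Subtype.ext ?_
      by_contra hx1
      refine hno fun z hz => ?_
      have hxZ : (x : E) ∈ Z := (QuotientGroup.eq_one_iff _).1 hx
      haveI : Finite Z := inferInstance
      have hgen := zpowers_eq_top_of_prime_card (p := 2) hZ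
        (g := (⟨x, hxZ⟩ : Z)) (fun e => hx1 (congrArg (fun t : Z => (t : E)) e))
      obtain ⟨i, hi⟩ := (hgen ▸ Subgroup.mem_top (⟨z, hz⟩ : Z) : _ ∈ Subgroup.zpowers (⟨x, hxZ⟩ : Z))
      rw [← show (x : E) ^ i = z from congrArg Subtype.val hi]
      exact zpow_mem x.2 i
    obtain ⟨da, hda, hda'⟩ : (ψ a : Y) ∈ (⁅E1, E1⁆ : Subgroup E).map ρ := hDmap.symm ▸ (ψ a).2
    obtain ⟨db, hdb, hdb'⟩ : (ψ b : Y) ∈ (⁅E1, E1⁆ : Subgroup E).map ρ := hDmap.symm ▸ (ψ b).2
    have ho : ∀ (x : ↥(⁅E1, E1⁆ : Subgroup E)) (c : alternatingGroup (Fin 4)), ρ x = ψ c → orderOf c = 2 →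
        orderOf (x : E) = 2 := by
      intro x c hx hc
      rw [Subgroup.orderOf_coe, ← orderOf_injective _ hinjD]
      show orderOf (ρ x) = 2
      rw [hx, Subgroup.orderOf_coe, orderOf_injective ψ hψ, hc]
    have hcm : Commute da db := by
      let xa : ↥(⁅E1, E1⁆ : Subgroup E) := ⟨da, hda⟩
      let xb : ↥(⁅E1, E1⁆ : Subgroup E) := ⟨db, hdb⟩
      have h1 : ρ.comp (⁅E1, E1⁆ : Subgroup E).subtype (xa * xb) =
          ρ.comp (⁅E1, E1⁆ : Subgroup E).subtype (xb * xa) := by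
        rw [map_mul, map_mul]
        show ρ da * ρ db = ρ db * ρ da
        rw [hda', hdb', ← Subgroup.coe_mul, ← Subgroup.coe_mul, ← map_mul, hab, map_mul]
      exact congrArg Subtype.val (hinjD h1)
    have := hR da db (ho ⟨da, hda⟩ a hda' ha) (ho ⟨db, hdb⟩ b hdb' hb) hcm
    rw [this, hdb'] at hda'
    exact hne (hψ (Subtype.ext hda'.symm))
  have hperf : ⁅E1, E1⁆ = E1 := by
    refine le_antisymm (Subgroup.commutator_le_self E1) fun x hx => ?_
    obtain ⟨d, hd, hdx⟩ : ρ x ∈ ⁅E1, E1⁆.map ρ := hDmap.symm ▸ (Subgroup.mem_comap.1 hx)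
    have hz : d⁻¹ * x ∈ Z := QuotientGroup.eq.1 hdx
    have := mul_mem hd (hZD hz)
    rwa [mul_inv_cancel_left] at this
  have hcomm : commutator E1 = ⊤ := by
    refine Subgroup.map_injective E1.subtype_injective ?_
    rw [commutator_def, Subgroup.map_commutator, ← MonoidHom.range_eq_map, Subgroup.range_subtype, hperf]
  have hcent : Subgroup.center E1 = Z.subgroupOf E1 := by
    refine le_antisymm (fun x hx => ?_) fun x hx => ?_
    · rw [Subgroup.mem_subgroupOf]
      refine (QuotientGroup.eq_one_iff (x : E)).1 ?_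
      have hxL : ρ x ∈ L := x.2
      have hc : (⟨ρ x, hxL⟩ : L) ∈ Subgroup.center L := Subgroup.mem_center_iff.2 fun y => by
        obtain ⟨w, hw⟩ := QuotientGroup.mk'_surjective Z (y : Y)
        refine Subtype.ext ?_
        show (y : Y) * ρ x = ρ x * y
        rw [← hw, ← map_mul, ← map_mul]
        exact congrArg ρ (congrArg Subtype.val
          (Subgroup.mem_center_iff.1 hx ⟨w, show ρ w ∈ L from hw.symm ▸ y.2⟩))
      rcases (inferInstance : (Subgroup.center L).Normal).eq_bot_or_eq_top with hb' | hb'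
      · rw [hb', Subgroup.mem_bot] at hc
        exact congrArg Subtype.val hc
      · exact absurd ⟨⟨fun p q => Subgroup.mem_center_iff.1 (hb' ▸ Subgroup.mem_top q) p⟩⟩ hLnc
    · exact Subgroup.mem_center_iff.2 fun y =>
        Subtype.ext (Subgroup.mem_center_iff.1 (Subgroup.mem_subgroupOf.1 hx) y)
  have hZ1 : Nat.card (Subgroup.center E1) = 2 := by
    rw [hcent, Nat.card_congr (Subgroup.subgroupOfEquivOfLe hZE).toEquiv, hZ]
  let f1 : E1 →* L := (ρ.comp E1.subtype).codRestrict L fun x => x.2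
  have hf1 : Function.Surjective f1 := fun y => by
    obtain ⟨w, hw⟩ := QuotientGroup.mk'_surjective Z (y : Y)
    exact ⟨⟨w, show ρ w ∈ L from hw.symm ▸ y.2⟩, Subtype.ext hw⟩
  have hk1 : f1.ker = Subgroup.center E1 := by
    rw [hcent]
    ext x
    rw [MonoidHom.mem_ker, Subgroup.mem_subgroupOf, Subtype.ext_iff]
    exact QuotientGroup.eq_one_iff (x : E)
  obtain ⟨eSL⟩ := sl2_cover hcomm hZ1 hoF h3
    (((QuotientGroup.quotientMulEquivOfEq hk1.symm).trans
      (QuotientGroup.quotientKerEquivOfSurjective f1 hf1)).trans e)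
  let f2 : G1 →* E1 := (π.comp G1.subtype).codRestrict E1 fun x => x.2
  have hf2 : Function.Surjective f2 := fun y => by
    obtain ⟨w, hw⟩ := QuotientGroup.mk'_surjective O (y : E)
    exact ⟨⟨w, show π w ∈ E1 from hw.symm ▸ y.2⟩, Subtype.ext hw⟩
  have hk2 : f2.ker = O.subgroupOf G1 := by
    ext x
    rw [MonoidHom.mem_ker, Subgroup.mem_subgroupOf, Subtype.ext_iff]
    exact QuotientGroup.eq_one_iff (x : G)
  exact ⟨((QuotientGroup.quotientMulEquivOfEq hk2.symm).trans
    (QuotientGroup.quotientKerEquivOfSurjective f2 hf2)).trans eSL⟩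

end Cfsg.Agent.GW
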