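import Cfsg.Agent.Lib.GW.Ratio
import Cfsg.Agent.Lib.GW.LinearKill
import Cfsg.Agent.Lib.Char.GlaubermanMod
import Cfsg.Agent.Lib.A7Recog.Recog

/-!
The end of the case of a Sylow 2-subgroup of order eight whose two classes of four-groups centralise
all, respectively none, of the odd core: the alternating group of degree seven.
-/

set_option linter.unusedSectionVars false
set_option linter.style.haveILetI false

namespace Cfsg.Agent.GW

open Cfsg Cfsg.Agent.TwoFus Cfsg.Agent.Blocks Cfsg.Agent.Char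
open scoped ComplexConjugate

universe u

theorem poly_pos {x : ℤ} (hx : 15 ≤ x) :
    9 * x * (x - 1) ^ 2 < 5 * (x + 4) * (4 * x ^ 2 - 28 * x + 4) := by
  have h1 : 15 * (x * x) ≤ x * (x * x) := mul_le_mul_of_nonneg_right hx (mul_self_nonneg x)
  have h2 : 15 * x ≤ x * x := mul_le_mul_of_nonneg_right hx (by omega)
  linarith

set_option maxHeartbeats 800000 in
theorem ratio_numeric {g x e A B u : ℤ} (he : e = 1 ∨ e = -1) (hu : 3 ≤ u) (hu2 : ¬ 2 ∣ u)
    (hxp : 0 < x) (hne : x ≠ e) (hx8 : 8 ∣ x - e) (hA : 8 ∣ A + 3 * e) (hB : 8 ∣ B + 3 * e)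
    (hs : A + B = x + e) (hA0 : A ≠ 0) (hB0 : B ≠ 0) (h7 : e = -1 → x ≠ 7)
    (hord : g * (x - e) ^ 2 = x * (x + e) * (64 * u) * (1 + u) ^ 2)
    (hid : (1 - u) ^ 2 * A * B * (x - e) ^ 2 = e * x * (A - B) ^ 2 * (1 + u) ^ 2) : g = 2520 := by
  have hT : 0 < (1 + u) ^ 2 := by positivity
  rcases he with rfl | rfl
  · exfalso
    have hx : 9 ≤ x := by omega
    have key : A * B * ((1 - u) ^ 2 * (x - 1) ^ 2 + 4 * x * (1 + u) ^ 2) =
        x * (x + 1) ^ 2 * (1 + u) ^ 2 := by
      linear_combination hid + x * (1 + u) ^ 2 * (A + B + x + 1) * hs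
    have hAB : 0 < A * B := by
      have hR : 0 < x * (x + 1) ^ 2 * (1 + u) ^ 2 := by positivity
      rw [← key] at hR
      exact pos_of_mul_pos_left hR (by positivity)
    have hApos : 5 ≤ A ∧ 5 ≤ B := by
      rcases pos_and_pos_or_neg_and_neg_of_mul_pos hAB with ⟨a, b⟩ | ⟨a, b⟩ <;> omega
    have hlow : 5 * (x - 4) ≤ A * B := by
      nlinarith [mul_nonneg (show 0 ≤ A - 5 by omega) (show 0 ≤ B - 5 by omega)]
    have hW : (A - B) ^ 2 ≤ (x - 9) ^ 2 := by
      have : (A - B) ^ 2 = (x + 1) ^ 2 - 4 * (A * B) := by linear_combination (A + B + x + 1) * hs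
      nlinarith
    have hu' : (1 + u) ^ 2 ≤ 4 * (1 - u) ^ 2 := by nlinarith
    have h1 : 5 * (x - 4) * (x - 1) ^ 2 * (1 + u) ^ 2 ≤ 4 * x * (x - 9) ^ 2 * (1 + u) ^ 2 := by
      calc 5 * (x - 4) * (x - 1) ^ 2 * (1 + u) ^ 2 ≤ A * B * (x - 1) ^ 2 * (4 * (1 - u) ^ 2) :=
            mul_le_mul (mul_le_mul_of_nonneg_right hlow (sq_nonneg _)) hu' hT.le (by positivity)
        _ = 4 * (x * (A - B) ^ 2 * (1 + u) ^ 2) := by linear_combination 4 * hid
        _ ≤ 4 * x * (x - 9) ^ 2 * (1 + u) ^ 2 := by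
            have := mul_le_mul_of_nonneg_right (mul_le_mul_of_nonneg_left hW hxp.le) hT.le
            linarith
    have h2 := le_of_mul_le_mul_right h1 hT
    nlinarith [mul_nonneg (show 0 ≤ x - 9 by omega) (mul_nonneg hxp.le hxp.le),
      mul_nonneg (show 0 ≤ x - 9 by omega) hxp.le]
  · have hx : 15 ≤ x := by have := h7 rfl; omega
    have key : -(A * B) * ((1 - u) ^ 2 * (x + 1) ^ 2 - 4 * x * (1 + u) ^ 2) =
        x * (x - 1) ^ 2 * (1 + u) ^ 2 := by
      linear_combination -hid + x * (1 + u) ^ 2 * (A + B + x - 1) * hs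
    have hneg : ¬ 0 < A * B := fun hp => by
      have h1 : 0 < (1 - u) ^ 2 * (A * B) * (x + 1) ^ 2 :=
        mul_pos (mul_pos (by nlinarith) hp) (by positivity)
      nlinarith [mul_nonneg (mul_nonneg hxp.le (sq_nonneg (A - B))) hT.le]
    have hn : 5 * (x + 4) ≤ -(A * B) := by
      rcases lt_or_gt_of_ne hA0 with a | a
      · have : 0 < B := by omega
        nlinarith [mul_le_mul (show 5 ≤ -A by omega) (show x + 4 ≤ B by omega) (by omega) (by omega)]
      · have : B < 0 := by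
          rcases lt_or_gt_of_ne hB0 with b | b
          · exact b
          · exact absurd (mul_pos a b) hneg
        nlinarith [mul_le_mul (show 5 ≤ -B by omega) (show x + 4 ≤ A by omega) (by omega) (by omega)]
    have hu35 : u = 3 ∨ 5 ≤ u := by omega
    rcases hu35 with rfl | hu5
    · have k2 : -(A * B) * (x ^ 2 - 14 * x + 1) = 4 * x * (x - 1) ^ 2 := by linarith [key]
      have hp : 0 < x ^ 2 - 14 * x + 1 := by nlinarith
      have h1 : 5 * (x + 4) * (x ^ 2 - 14 * x + 1) ≤ 4 * x * (x - 1) ^ 2 :=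
        k2 ▸ mul_le_mul_of_nonneg_right hn hp.le
      have h2 : x ≤ 47 := by
        by_contra hlt
        nlinarith [mul_nonneg (show 0 ≤ x - 48 by omega) (mul_nonneg hxp.le hxp.le),
          mul_nonneg (show 0 ≤ x - 48 by omega) hxp.le]
      generalize A * B = n at k2
      have h8 : x = 15 ∨ x = 23 ∨ x = 31 ∨ x = 39 ∨ x = 47 := by omega
      rcases h8 with rfl | rfl | rfl | rfl | rfl <;> norm_num at k2 hord <;> omega
    · exfalso
      have hu' : 4 * (1 + u) ^ 2 ≤ 9 * (1 - u) ^ 2 := by nlinarith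
      have hp : 0 < 4 * x ^ 2 - 28 * x + 4 := by nlinarith
      have h1 : 5 * (x + 4) * (4 * x ^ 2 - 28 * x + 4) * (1 + u) ^ 2 ≤
          9 * x * (x - 1) ^ 2 * (1 + u) ^ 2 := by
        calc 5 * (x + 4) * (4 * x ^ 2 - 28 * x + 4) * (1 + u) ^ 2
            ≤ -(A * B) * (4 * x ^ 2 - 28 * x + 4) * (1 + u) ^ 2 :=
              mul_le_mul_of_nonneg_right (mul_le_mul_of_nonneg_right hn hp.le) hT.le
          _ = -(A * B) * ((x + 1) ^ 2 * (4 * (1 + u) ^ 2) - 36 * x * (1 + u) ^ 2) := by ring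
          _ ≤ -(A * B) * ((x + 1) ^ 2 * (9 * (1 - u) ^ 2) - 36 * x * (1 + u) ^ 2) :=
              mul_le_mul_of_nonneg_left (by
                have := mul_le_mul_of_nonneg_left hu' (sq_nonneg (x + 1)); linarith) (by omega)
          _ = 9 * x * (x - 1) ^ 2 * (1 + u) ^ 2 := by linear_combination 9 * key
      exact absurd (le_of_mul_le_mul_right h1 hT) (poly_pos hx).not_ge

variable {G : Type u} [Group G] [Fintype G]

/-- A character of degree seven with value minus one at the involutions forces a trivial core. -/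
theorem deg_seven_kill [IsSimpleGroup G] {U : Subgroup G} (hodd : Odd (Nat.card U)) {z y t : G}
    (hzz : z * z = 1) (hyy : y * y = 1) (hzy : Commute z y)
    (hUz : ∀ w ∈ U, Commute w z) (hUy : ∀ w ∈ U, Commute w y) (hUt : ∀ w ∈ U, t * w * t⁻¹ = w⁻¹)
    {χ : IrrCharacter G} (hdeg : charDegree (χ : G → ℂ) = 7)
    (hval : ∀ w ∈ U, (χ : G → ℂ) (z * w) = -1 ∧ (χ : G → ℂ) (y * w) = -1 ∧
      (χ : G → ℂ) (z * (y * w)) = -1) : U = ⊥ := by
  classical
  set H := Subgroup.centralizer ({z, y} : Set G) with hH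
  have hmem : ∀ g : G, Commute g z → Commute g y → g ∈ H := fun g h1 h2 =>
    Subgroup.mem_centralizer_iff.2 fun v hv => by
      rcases hv with rfl | rfl
      · exact h1.eq.symm
      · exact h2.eq.symm
  have hUH : U ≤ H := fun w hw => hmem w (hUz w hw) (hUy w hw)
  haveI : Fintype H := Fintype.ofFinite H
  haveI : Fintype (U.subgroupOf H) := Fintype.ofFinite _
  have hβ := exists_eigenChar (H := H) (irr_isCharacter χ) hzz
    (fun g => ((Subgroup.mem_centralizer_iff.1 g.2 z (by simp)).symm : Commute (g : G) z))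
    (e := 1) (Or.inl rfl)
  set yH : H := ⟨y, hmem y hzy.symm (Commute.refl y)⟩ with hyH
  have hγ := exists_eigenChar (H := U.subgroupOf H) hβ (z := yH) (Subtype.ext hyy)
    (fun g => Subtype.ext (hUy _ (Subgroup.mem_subgroupOf.1 g.2)).eq) (e := 1) (Or.inl rfl)
  have hγval : ∀ g : U.subgroupOf H,
      ((((χ : G → ℂ) ((g : H) : G) + ((1 : ℤ) : ℂ) * (χ : G → ℂ) (z * ((g : H) : G))) / 2) +
        ((1 : ℤ) : ℂ) * (((χ : G → ℂ) ((yH * (g : H) : H) : G) +
          ((1 : ℤ) : ℂ) * (χ : G → ℂ) (z * ((yH * (g : H) : H) : G))) / 2)) / 2 =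
        ((χ : G → ℂ) ((g : H) : G) - 3) / 4 := fun g => by
    obtain ⟨v1, v2, v3⟩ := hval _ (Subgroup.mem_subgroupOf.1 g.2)
    rw [Subgroup.coe_mul, hyH, v1, v2, v3]
    push_cast
    ring
  obtain ⟨al, hal⟩ := exists_hom_of_degree_one hγ (by
    refine (hγval 1).trans ?_
    rw [OneMemClass.coe_one, OneMemClass.coe_one, irr_one_eq_charDegree, hdeg]
    norm_num)
  rw [Subgroup.eq_bot_iff_forall]
  intro w hw
  set g : U.subgroupOf H := ⟨⟨w, hUH hw⟩, Subgroup.mem_subgroupOf.2 hw⟩ with hg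
  have hχ : (χ : G → ℂ) w = 4 * (al g : ℂ) + 3 := by
    have h1 := congrFun hal g
    simp only [hγval g] at h1
    linear_combination 4 * h1
  have hreal : conj ((χ : G → ℂ) w) = (χ : G → ℂ) w := by
    rw [← irr_inv, ← hUt w hw, irr_conj_invariant]
  have hal1 : al g = 1 := by
    have h1 : conj ((al g : ℂ)) = (al g : ℂ) := by
      rw [hχ, map_add, map_mul, map_ofNat, map_ofNat] at hreal
      linear_combination hreal / 4
    rw [Cfsg.Agent.BrauerPairs.conj_linear] at h1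
    have h2 : al g ^ 2 = 1 := Units.ext (by
      rw [Units.val_pow_eq_pow_val, Units.val_one, pow_two]
      nth_rewrite 1 [← h1]
      exact inv_mul_cancel₀ (al g).ne_zero)
    have h3 : al g ^ Nat.card U = 1 := by
      rw [← Nat.card_congr (Subgroup.subgroupOfEquivOfLe hUH).toEquiv, ← map_pow, pow_card_eq_one',
        map_one]
    exact orderOf_eq_one_iff.1 (Nat.eq_one_of_dvd_coprimes (Nat.coprime_two_left.2 hodd)
      (orderOf_dvd_of_pow_eq_one h2) (orderOf_dvd_of_pow_eq_one h3))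
  refine faithful_of_simple (χ := χ) (by omega) ?_
  rw [hχ, hal1, irr_one_eq_charDegree, hdeg]
  norm_num

variable [IsSimpleGroup G] {P : Sylow 2 G} (d : Dih (P : Subgroup G)) {U : Subgroup G}

/-- The order of the group in the last case. -/
theorem order_2520 (hle : U ≤ Subgroup.centralizer ({d.z} : Set G))
    (hconj : ∀ g ∈ Subgroup.centralizer ({d.z} : Set G), ∀ w ∈ U, g * w * g⁻¹ ∈ U)
    (hodd : Odd (Nat.card U))
    (hcard : Nat.card (Subgroup.centralizer ({d.z} : Set G)) =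
      Nat.card U * Nat.card (P : Subgroup G))
    (h1 : ∀ a b : G, orderOf a = 2 → orderOf b = 2 → IsConj a b)
    (hm : d.m = 4) (hU : U ≠ ⊥) (hy : ∀ w ∈ U, Commute w d.y)
    (hxy : ∀ w ∈ U, d.x * d.y * w * (d.x * d.y)⁻¹ = w⁻¹) : Nat.card G = 2520 := by
  haveI : Fact (Nat.Prime 2) := ⟨Nat.prime_two⟩
  obtain ⟨M, hM⟩ := Cfsg.Agent.GlaubermanMod.exists_isPModular 2
  haveI : M.IsPrime := hM.2.1.isPrime
  obtain ⟨χ, e, x, A, B, hχ, hχz, hdeg, he, hxp, hxe, hA0, hB0, hs, hx8, hA, hB, hord, hid⟩ :=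
    ratio d hle hconj hodd hcard h1 hM (h := 2) hm le_rfl dvd_rfl
  rw [numInv_eq_one_of_commute hodd hy, numInv_eq_card hxy] at hord hid
  rw [hm] at hx8 hA hB
  have hu1 : Nat.card U ≠ 1 := fun e1 => hU (Subgroup.card_eq_one.1 e1)
  have hu0 : 0 < Nat.card U := Nat.card_pos
  have hu2 := hodd.not_two_dvd_nat
  push_cast at hord hid hx8 hA hB
  have hmain := ratio_numeric (g := (Nat.card G : ℤ)) (u := (Nat.card U : ℤ)) he (by omega)
    (by omega) hxp hxe (by omega) (by omega) (by omega) hs hA0 hB0 (fun e1 e7 => hU ?_)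
    (by linear_combination hord) (by linear_combination hid)
  · exact_mod_cast hmain
  · subst e1 e7
    have hzo : orderOf d.z = 2 := orderOf_eq_prime (by rw [pow_two, d.zz]) d.z_ne
    have hUz : ∀ w ∈ U, Commute w d.z := fun w hw =>
      Subgroup.mem_centralizer_singleton_iff.1 (hle hw)
    have hzy : Commute d.z d.y := (d.z_comm d.hy).symm
    have hval : ∀ v : G, v * v = 1 → v ≠ 1 → ∀ w ∈ U, Commute w v →
        (χ : G → ℂ) (v * w) = -1 := by
      intro v hvv hv1 w hw hc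
      have hvo : orderOf v = 2 := orderOf_eq_prime (by rw [pow_two, hvv]) hv1
      rw [DihBlock.section_const hM hχ rfl hc.symm ⟨1, by rw [hvo, pow_one]⟩
        (fun h2 => hu2 (h2.trans (Subgroup.orderOf_dvd_natCard U hw)))
        (DihBlock.complement_all d ⟨1, by rw [hvo, pow_one]⟩ hv1),
        irr_isConj χ (h1 _ _ hzo hvo), hχz]
      norm_num
    refine deg_seven_kill hodd d.zz d.yy hzy hUz hy hxy (χ := χ) (by exact_mod_cast hdeg)
      fun w hw => ⟨hval _ d.zz d.z_ne w hw (hUz w hw),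
        hval _ d.yy (fun e1 => d.ynot (e1 ▸ one_mem _)) w hw (hy w hw), ?_⟩
    rw [← mul_assoc]
    refine hval _ ?_ ?_ w hw ((hUz w hw).mul_right (hy w hw))
    · rw [mul_assoc, ← mul_assoc d.y, ← hzy.eq, mul_assoc d.z d.y, d.yy, mul_one, d.zz]
    · intro e1
      rw [mul_eq_one_iff_inv_eq] at e1
      exact d.ynot (e1 ▸ inv_mem d.z_mem)

/-- The alternating group of degree seven. -/
theorem iso_alt7_of_ratio (hle : U ≤ Subgroup.centralizer ({d.z} : Set G))
    (hconj : ∀ g ∈ Subgroup.centralizer ({d.z} : Set G), ∀ w ∈ U, g * w * g⁻¹ ∈ U)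
    (hodd : Odd (Nat.card U))
    (hcard : Nat.card (Subgroup.centralizer ({d.z} : Set G)) =
      Nat.card U * Nat.card (P : Subgroup G))
    (h1 : ∀ a b : G, orderOf a = 2 → orderOf b = 2 → IsConj a b)
    (hm : d.m = 4) (hU : U ≠ ⊥) (hy : ∀ w ∈ U, Commute w d.y)
    (hxy : ∀ w ∈ U, d.x * d.y * w * (d.x * d.y)⁻¹ = w⁻¹) :
    Nonempty (G ≃* alternatingGroup (Fin 7)) :=
  A7Recog.iso_alt7 (order_2520 d hle hconj hodd hcard h1 hm hU hy hxy)

end Cfsg.Agent.GW
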