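import Cfsg.Agent.Lib.Blocks.DihedralCount

/-!
Pairs of involutions of the centraliser of the central involution of a dihedral Sylow 2-subgroup,
counted through the numbers of elements of the odd core inverted by the reflections.
-/

set_option linter.unusedSectionVars false
set_option linter.style.haveILetI false

namespace Cfsg.Agent.GW

open Cfsg Cfsg.Agent.TwoFus Cfsg.Agent.Blocks

universe u

variable {G : Type u} [Group G] [Fintype G]

/-- The number of elements of `U` inverted by `s`. -/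
noncomputable def numInv (U : Subgroup G) (s : G) : ℕ :=
  Nat.card {w : U // s * (w : G) * s⁻¹ = (w : G)⁻¹}

theorem numInv_conj (U : Subgroup G) (p s : G) (hp : ∀ w, p * w * p⁻¹ ∈ U ↔ w ∈ U) :
    numInv U (p * s * p⁻¹) = numInv U s := by
  let e : U ≃ U :=
    { toFun := fun w => ⟨p * (w : G) * p⁻¹, (hp _).2 w.2⟩
      invFun := fun w => ⟨p⁻¹ * (w : G) * p, (hp _).1 (by
        rw [show p * (p⁻¹ * (w : G) * p) * p⁻¹ = w by group]; exact w.2)⟩
      left_inv := fun w => Subtype.ext (show p⁻¹ * (p * (w : G) * p⁻¹) * p = w by group)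
      right_inv := fun w => Subtype.ext (show p * (p⁻¹ * (w : G) * p) * p⁻¹ = w by group) }
  refine (Nat.card_congr (Equiv.subtypeEquiv e fun w => ?_)).symm
  show s * (w : G) * s⁻¹ = (w : G)⁻¹ ↔
    p * s * p⁻¹ * (p * (w : G) * p⁻¹) * (p * s * p⁻¹)⁻¹ = (p * (w : G) * p⁻¹)⁻¹
  rw [show p * s * p⁻¹ * (p * (w : G) * p⁻¹) * (p * s * p⁻¹)⁻¹ = p * (s * (w : G) * s⁻¹) * p⁻¹ by group,
    show (p * (w : G) * p⁻¹)⁻¹ = p * (w : G)⁻¹ * p⁻¹ by group]
  exact ⟨fun h => by rw [h], fun h => mul_left_cancel (mul_right_cancel h)⟩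

theorem numInv_mul_right (U : Subgroup G) {s z : G} (hz : ∀ w ∈ U, Commute w z) :
    numInv U (s * z) = numInv U s := by
  refine Nat.card_congr (Equiv.subtypeEquivRight fun w => ?_)
  rw [show s * z * (w : G) * (s * z)⁻¹ = s * (z * (w : G) * z⁻¹) * s⁻¹ by group,
    ← (hz w w.2).eq, mul_inv_cancel_right]

theorem numInv_eq_one_of_commute {U : Subgroup G} (hodd : Odd (Nat.card U)) {s : G}
    (h : ∀ w ∈ U, Commute w s) : numInv U s = 1 := by
  rw [numInv, Nat.card_eq_one_iff_unique]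
  refine ⟨⟨fun a b => ?_⟩, ⟨⟨1, by simp⟩⟩⟩
  have key : ∀ a : {w : U // s * (w : G) * s⁻¹ = (w : G)⁻¹}, a.1 = 1 := fun a => by
    have h1 := a.2
    rw [← (h _ a.1.2).eq, mul_inv_cancel_right] at h1
    refine orderOf_eq_one_iff.1 (Nat.eq_one_of_dvd_coprimes (Nat.coprime_two_left.2 hodd)
      (orderOf_dvd_of_pow_eq_one ?_) (orderOf_dvd_natCard _))
    rw [pow_two]
    exact Subtype.ext (by push_cast; nth_rewrite 1 [h1]; exact inv_mul_cancel _)
  exact Subtype.ext ((key a).trans (key b).symm)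

theorem numInv_eq_card {U : Subgroup G} {s : G} (h : ∀ w ∈ U, s * w * s⁻¹ = w⁻¹) :
    numInv U s = Nat.card U :=
  Nat.card_congr (Equiv.subtypeUnivEquiv fun w => h w w.2)

/-- The elements inverted by an involution form a transversal of its centraliser. -/
theorem numInv_mul_card {U : Subgroup G} (hodd : Odd (Nat.card U)) {s : G} (hs : s * s = 1)
    (hn : ∀ w ∈ U, s * w * s⁻¹ ∈ U) :
    numInv U s * Nat.card {w : U // (w : G) * s = s * w} = Nat.card U := by
  classical
  haveI : Fintype U := Fintype.ofFinite U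
  have hsi : s⁻¹ = s := inv_eq_of_mul_eq_one_right hs
  conv_rhs => rw [← DihBlock.card_conj_image U s]
  congr 1
  rw [numInv, Nat.card_eq_fintype_card, Fintype.card_subtype]
  refine Finset.card_bij (fun w _ => (w : G) * s) (fun w hw => ?_)
    (fun a _ b _ e => Subtype.ext (mul_right_cancel e)) fun a ha => ?_
  · have hw' : s * (w : G) * s⁻¹ = (w : G)⁻¹ := (Finset.mem_filter.1 hw).2
    obtain ⟨k, hk⟩ := hodd
    refine Finset.mem_image.2 ⟨w ^ (k + 1), Finset.mem_univ _, ?_⟩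
    rw [Subgroup.coe_pow]
    have h1 : s * ((w : G) ^ (k + 1))⁻¹ = (w : G) ^ (k + 1) * s := by
      have h2 : s * ((w : G) ^ (k + 1))⁻¹ * s⁻¹ = (w : G) ^ (k + 1) := by
        rw [← conj_inv, ← conj_pow, hw', inv_pow, inv_inv]
      exact mul_inv_eq_iff_eq_mul.1 h2
    rw [mul_assoc, h1, ← mul_assoc, ← pow_add]
    congr 1
    rw [show k + 1 + (k + 1) = Nat.card U + 1 by omega, pow_succ, ← Subgroup.coe_pow,
      pow_card_eq_one', OneMemClass.coe_one, one_mul]
  · obtain ⟨c, -, rfl⟩ := Finset.mem_image.1 ha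
    refine ⟨⟨(c : G) * (s * (c : G)⁻¹ * s⁻¹), mul_mem c.2 (hn _ (inv_mem c.2))⟩,
      Finset.mem_filter.2 ⟨Finset.mem_univ _, ?_⟩, ?_⟩
    · simp only [hsi, mul_inv_rev, inv_inv, ← mul_assoc]
      rw [mul_assoc _ s s, hs, mul_one]
    · show (c : G) * (s * (c : G)⁻¹ * s⁻¹) * s = _
      group

variable {P : Sylow 2 G} (d : Dih (P : Subgroup G)) {U : Subgroup G}
  (hle : U ≤ Subgroup.centralizer ({d.z} : Set G))
  (hconj : ∀ g ∈ Subgroup.centralizer ({d.z} : Set G), ∀ w ∈ U, g * w * g⁻¹ ∈ U)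
  (hodd : Odd (Nat.card U))
  (hcard : Nat.card (Subgroup.centralizer ({d.z} : Set G)) = Nat.card U * Nat.card (P : Subgroup G))

theorem P_le_centralizer : (P : Subgroup G) ≤ Subgroup.centralizer ({d.z} : Set G) :=
  fun _ hs => Subgroup.mem_centralizer_singleton_iff.2 (d.z_comm hs)

include hodd in
theorem core_inf_sylow {g : G} (hg : g ∈ U) (hg' : g ∈ (P : Subgroup G)) : g = 1 := by
  haveI : Fact (Nat.Prime 2) := ⟨Nat.prime_two⟩
  obtain ⟨k, hk⟩ := IsPGroup.iff_orderOf.1 P.2 ⟨g, hg'⟩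
  rw [Subgroup.orderOf_mk] at hk
  exact orderOf_eq_one_iff.1 (Nat.eq_one_of_dvd_coprimes
    ((Nat.coprime_two_left.2 hodd).pow_left k) hk.dvd (Subgroup.orderOf_dvd_natCard U hg))

include hodd in
theorem decomp_unique {w w' s s' : G} (hw : w ∈ U) (hw' : w' ∈ U) (hs : s ∈ (P : Subgroup G))
    (hs' : s' ∈ (P : Subgroup G)) (e : w * s = w' * s') : w = w' ∧ s = s' := by
  have h : w'⁻¹ * w = s' * s⁻¹ := by
    rw [eq_mul_inv_iff_mul_eq, mul_assoc, e, inv_mul_cancel_left]
  have h1 := core_inf_sylow hodd (mul_mem (inv_mem hw') hw) (h ▸ mul_mem hs' (inv_mem hs))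
  have h2 : w = w' := (inv_mul_eq_one.1 h1).symm
  exact ⟨h2, by rw [h2] at e; exact mul_left_cancel e⟩

include hle hodd hcard in
theorem decomp {g : G} (hg : g ∈ Subgroup.centralizer ({d.z} : Set G)) :
    ∃ w ∈ U, ∃ s ∈ (P : Subgroup G), g = w * s := by
  let f : U × (P : Subgroup G) → Subgroup.centralizer ({d.z} : Set G) :=
    fun q => ⟨(q.1 : G) * q.2, mul_mem (hle q.1.2) (P_le_centralizer d q.2.2)⟩
  have hf : Function.Bijective f := by
    rw [Nat.bijective_iff_injective_and_card]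
    refine ⟨fun q q' e => ?_, by rw [Nat.card_prod, hcard]⟩
    obtain ⟨h1, h2⟩ := decomp_unique hodd q.1.2 q'.1.2 q.2.2 q'.2.2 (congrArg Subtype.val e)
    exact Prod.ext (Subtype.ext h1) (Subtype.ext h2)
  obtain ⟨q, hq⟩ := hf.2 ⟨g, hg⟩
  exact ⟨q.1, q.1.2, q.2, q.2.2, (congrArg Subtype.val hq).symm⟩

include hle hconj hodd hcard in
theorem mem_core_of_odd {g : G} (hg : g ∈ Subgroup.centralizer ({d.z} : Set G))
    (ho : ¬ 2 ∣ orderOf g) : g ∈ U := by
  haveI : Fact (Nat.Prime 2) := ⟨Nat.prime_two⟩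
  set C := Subgroup.centralizer ({d.z} : Set G) with hC
  haveI hnorm : (U.subgroupOf C).Normal :=
    ⟨fun w hw c => Subgroup.mem_subgroupOf.2 (by simpa using hconj c c.2 w hw)⟩
  have hidx : (U.subgroupOf C).index = Nat.card (P : Subgroup G) := by
    have h1 := (U.subgroupOf C).index_mul_card
    rw [Nat.card_congr (Subgroup.subgroupOfEquivOfLe hle).toEquiv, hcard,
      mul_comm (Nat.card U)] at h1
    exact Nat.eq_of_mul_eq_mul_right Nat.card_pos h1
  obtain ⟨k, hk⟩ := IsPGroup.iff_card.1 P.2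
  refine Subgroup.mem_subgroupOf.1 ((QuotientGroup.eq_one_iff (⟨g, hg⟩ : C)).1
    (orderOf_eq_one_iff.1 (Nat.eq_one_of_dvd_coprimes (a := 2 ^ k) (b := orderOf g)
      ((Nat.prime_two.coprime_iff_not_dvd.2 ho).pow_left k) ?_ ?_)))
  · rw [← hk, ← hidx, Subgroup.index]; exact orderOf_dvd_natCard _
  · have := orderOf_map_dvd (QuotientGroup.mk' (U.subgroupOf C)) ⟨g, hg⟩
    rwa [Subgroup.orderOf_mk] at this

include hle hconj hodd hcard in
/-- The centraliser of a four-group of the Sylow subgroup. -/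
theorem card_centralizer_refl (i : ℤ) :
    Nat.card (Subgroup.centralizer ({d.z, d.x ^ i * d.y} : Set G)) =
      4 * Nat.card {w : U // (w : G) * (d.x ^ i * d.y) = d.x ^ i * d.y * w} := by
  set v := d.x ^ i * d.y with hv
  obtain ⟨V, hV, hVP, -, hVc, hVall⟩ := DihBlock.exists_four d i
  have hvP : v ∈ (P : Subgroup G) := DihBlock.form_mem d i
  have hcz : ∀ g : G, g ∈ Subgroup.centralizer ({d.z, v} : Set G) ↔
      g ∈ Subgroup.centralizer ({d.z} : Set G) ∧ g * v = v * g := fun g => by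
    rw [Subgroup.mem_centralizer_iff, Subgroup.mem_centralizer_singleton_iff]
    simp [eq_comm]
  have hVC : ∀ s ∈ V, s ∈ Subgroup.centralizer ({d.z} : Set G) := fun s hs =>
    P_le_centralizer d (hVP hs)
  let f : {w : U // (w : G) * v = v * w} × V → Subgroup.centralizer ({d.z, v} : Set G) :=
    fun q => ⟨(q.1.1 : G) * q.2, (hcz _).2 ⟨mul_mem (hle q.1.1.2) (hVC _ q.2.2),
      (Commute.mul_left (show Commute (q.1.1 : G) v from q.1.2)
        (show Commute (q.2 : G) v from hVc _ q.2.2)).eq⟩⟩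
  have hf : Function.Bijective f := by
    refine ⟨fun q q' e => ?_, fun g => ?_⟩
    · obtain ⟨h1, h2⟩ := decomp_unique hodd q.1.1.2 q'.1.1.2 (hVP q.2.2) (hVP q'.2.2)
        (congrArg Subtype.val e)
      exact Prod.ext (Subtype.ext (Subtype.ext h1)) (Subtype.ext h2)
    · obtain ⟨hgC, hgv⟩ := (hcz _).1 g.2
      obtain ⟨w, hw, s, hs, e⟩ := decomp d hle hodd hcard hgC
      have hw' : v * w * v⁻¹ ∈ U := hconj v (P_le_centralizer d hvP) w hw
      have e' : w * s = v * w * v⁻¹ * (v * s * v⁻¹) := by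
        rw [← e, show v * w * v⁻¹ * (v * s * v⁻¹) = v * (w * s) * v⁻¹ by group, ← e, ← hgv,
          mul_inv_cancel_right]
      obtain ⟨h1, h2⟩ := decomp_unique hodd hw hw' hs
        (mul_mem (mul_mem hvP hs) (inv_mem hvP)) e'
      exact ⟨(⟨⟨w, hw⟩, (eq_mul_inv_iff_mul_eq.1 h1)⟩,
        ⟨s, hVall s hs (eq_mul_inv_iff_mul_eq.1 h2)⟩), Subtype.ext e.symm⟩
  rw [← Nat.card_eq_of_bijective f hf, Nat.card_prod, hV.card_four, mul_comm]

/-- Sums over the reflections. -/
theorem sum_refl {h : ℕ} (hh : d.m = 2 * h) {A : Type*} [AddCommMonoid A] (f : G → A)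
    (hf : ∀ a ∈ (P : Subgroup G), f (d.x * a * d.x⁻¹) = f a) :
    ∑ l ∈ Finset.range d.m, f (d.x ^ (l : ℤ) * d.y) = h • f d.y + h • f (d.x * d.y) := by
  have step : ∀ j : ℤ, f (d.x ^ (j + 2) * d.y) = f (d.x ^ j * d.y) := fun j => by
    rw [← hf _ (DihBlock.form_mem d j)]
    congr 1
    have hyx : d.y * d.x⁻¹ = d.x * d.y := by simpa using d.swap (-1)
    calc d.x ^ (j + 2) * d.y = d.x * d.x ^ j * (d.x * d.y) := by
          rw [← mul_assoc (d.x * d.x ^ j) d.x d.y, ← zpow_one_add, ← zpow_add_one]; congr 2; ring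
      _ = d.x * (d.x ^ j * d.y) * d.x⁻¹ := by rw [← hyx]; simp only [mul_assoc]
  have hk : ∀ k : ℕ, f (d.x ^ ((2 * k : ℕ) : ℤ) * d.y) = f d.y ∧
      f (d.x ^ ((2 * k + 1 : ℕ) : ℤ) * d.y) = f (d.x * d.y) := fun k => by
    induction k with
    | zero => simp
    | succ k ih =>
      constructor
      · rw [show ((2 * (k + 1) : ℕ) : ℤ) = ((2 * k : ℕ) : ℤ) + 2 by push_cast; ring, step, ih.1]
      · rw [show ((2 * (k + 1) + 1 : ℕ) : ℤ) = ((2 * k + 1 : ℕ) : ℤ) + 2 by push_cast; ring, step,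
          ih.2]
  have hn : ∀ n : ℕ, ∑ l ∈ Finset.range (2 * n), f (d.x ^ (l : ℤ) * d.y) =
      n • f d.y + n • f (d.x * d.y) := fun n => by
    induction n with
    | zero => simp
    | succ n ih =>
      rw [show 2 * (n + 1) = 2 * n + 1 + 1 by ring, Finset.sum_range_succ, Finset.sum_range_succ, ih,
        (hk n).1, (hk n).2, succ_nsmul, succ_nsmul]
      abel
  rw [hh]
  exact hn h

theorem conj_mem_iff (hconj : ∀ g ∈ Subgroup.centralizer ({d.z} : Set G), ∀ w ∈ U, g * w * g⁻¹ ∈ U)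
    {p : G} (hp : p ∈ (P : Subgroup G)) (w : G) : p * w * p⁻¹ ∈ U ↔ w ∈ U := by
  refine ⟨fun h => ?_, hconj p (P_le_centralizer d hp) w⟩
  have h1 := hconj p⁻¹ (inv_mem (P_le_centralizer d hp)) _ h
  rwa [show p⁻¹ * (p * w * p⁻¹) * p⁻¹⁻¹ = w by group] at h1

include hle hconj hodd hcard in
/-- The pairs of involutions whose product has 2-part the central involution. -/
theorem card_pairs {h : ℕ} (hh : d.m = 2 * h)
    [DecidablePred fun q : G × G => IsPPart 2 (q.1 * q.2) d.z] [DecidableEq G] :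
    (((Finset.univ.filter fun a : G => orderOf a = 2) ×ˢ
        (Finset.univ.filter fun a : G => orderOf a = 2)).filter
      fun q : G × G => IsPPart 2 (q.1 * q.2) d.z).card =
      h * (numInv U d.y * numInv U d.y) + h * (numInv U (d.x * d.y) * numInv U (d.x * d.y)) := by
  classical
  haveI : Fintype U := Fintype.ofFinite U
  set T : G → Finset U := fun s => Finset.univ.filter fun w : U => s * (w : G) * s⁻¹ = (w : G)⁻¹
  have hT : ∀ s, (T s).card = numInv U s := fun s => by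
    rw [numInv, Nat.card_eq_fintype_card, Fintype.card_subtype]
  set rf : ℕ → G := fun l => d.x ^ (l : ℤ) * d.y with hrf
  have hrP : ∀ l, rf l ∈ (P : Subgroup G) := fun l => DihBlock.form_mem d l
  have hzP : d.z ∈ (P : Subgroup G) := Subgroup.zpowers_le.2 d.hx d.z_mem
  have hUz : ∀ w ∈ U, Commute w d.z := fun w hw => Subgroup.mem_centralizer_singleton_iff.1 (hle hw)
  have hzC : d.z ∈ Subgroup.centralizer ({d.z} : Set G) := P_le_centralizer d hzP
  have htarget : ((Finset.range d.m).sigma fun l => T (rf l) ×ˢ T (rf l * d.z)).card =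
      h * (numInv U d.y * numInv U d.y) + h * (numInv U (d.x * d.y) * numInv U (d.x * d.y)) := by
    rw [Finset.card_sigma, Finset.sum_congr rfl (g := fun l : ℕ =>
      (fun a => numInv U a * numInv U a) (d.x ^ (l : ℤ) * d.y)) fun l _ => by
        rw [Finset.card_product, hT, hT, numInv_mul_right U hUz],
      sum_refl d hh (fun a => numInv U a * numInv U a) fun a _ => by
        simp only [numInv_conj U d.x a (conj_mem_iff d hconj d.hx)], smul_eq_mul, smul_eq_mul]
  rw [← htarget]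
  symm
  refine Finset.card_bij
    (fun q _ => ((q.2.1 : G) * rf q.1, (q.2.2 : G) * (rf q.1 * d.z))) ?_ ?_ ?_
  · rintro ⟨l, w, w'⟩ hq
    obtain ⟨-, hq⟩ := Finset.mem_sigma.1 hq
    obtain ⟨hw, hw'⟩ := Finset.mem_product.1 hq
    have hw1 : rf l * (w : G) * (rf l)⁻¹ = (w : G)⁻¹ := (Finset.mem_filter.1 hw).2
    have hw2 : rf l * d.z * (w' : G) * (rf l * d.z)⁻¹ = (w' : G)⁻¹ := (Finset.mem_filter.1 hw').2
    have hcl : Commute (rf l) d.z := d.z_comm (hrP l)
    have hsz : rf l * d.z * (rf l * d.z) = 1 := by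
      rw [mul_assoc, ← mul_assoc d.z, ← hcl.eq, mul_assoc (rf l) d.z, d.zz, mul_one]
      exact d.form_sq l
    have ord : ∀ {u s : G}, u ∈ U → s ∈ (P : Subgroup G) → s ∉ U → s * s = 1 →
        s * u * s⁻¹ = u⁻¹ → orderOf (u * s) = 2 := fun {u s} hu hs hsU hss hinv => by
      refine orderOf_eq_prime ?_ fun e => hsU ?_
      · rw [pow_two]
        have := congrArg (fun t => u * t) hinv
        simp only [mul_inv_cancel, inv_eq_of_mul_eq_one_right hss] at this
        rw [← this]; group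
      · rw [mul_eq_one_iff_inv_eq] at e
        exact e ▸ inv_mem hu
    have hnU : rf l ∉ U := fun hU => by
      have h2 := d.form_not_mem (l : ℤ)
      exact h2 (show rf l ∈ Subgroup.zpowers d.x by
        rw [core_inf_sylow hodd hU (hrP l)]; exact one_mem _)
    have hnU' : rf l * d.z ∉ U := fun hU => by
      have h3 := core_inf_sylow hodd hU (mul_mem (hrP l) hzP)
      refine d.form_not_mem (l : ℤ) ?_
      rw [show d.x ^ (l : ℤ) * d.y = d.z⁻¹ from eq_inv_of_mul_eq_one_left h3]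
      exact inv_mem d.z_mem
    refine Finset.mem_filter.2 ⟨Finset.mem_product.2
      ⟨Finset.mem_filter.2 ⟨Finset.mem_univ _, ord w.2 (hrP l) hnU (d.form_sq l) hw1⟩,
        Finset.mem_filter.2 ⟨Finset.mem_univ _,
          ord w'.2 (mul_mem (hrP l) hzP) hnU' hsz hw2⟩⟩, ?_⟩
    have hv : (w : G) * (rf l * (w' : G) * (rf l)⁻¹) ∈ U :=
      mul_mem w.2 (hconj _ (P_le_centralizer d (hrP l)) _ w'.2)
    refine ⟨_, ?_, (hUz _ hv).symm, ⟨1, ?_⟩, fun hd => hodd.not_two_dvd_nat
      (hd.trans (Subgroup.orderOf_dvd_natCard U hv))⟩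
    · rw [← (hUz _ hv).eq]
      show _ = (w : G) * rf l * ((w' : G) * (rf l * d.z))
      conv_lhs => rw [show (rf l)⁻¹ = rf l from inv_eq_of_mul_eq_one_right (d.form_sq l)]
      simp only [mul_assoc]
    · rw [pow_one]; exact orderOf_eq_prime (by rw [pow_two]; exact d.zz) d.z_ne
  · rintro ⟨l, w, w'⟩ hq ⟨l', v, v'⟩ hq' e
    rw [Prod.mk.injEq] at e
    obtain ⟨e1, e2⟩ := decomp_unique hodd w.2 v.2 (hrP l) (hrP l') e.1
    obtain ⟨e3, -⟩ := decomp_unique hodd w'.2 v'.2 (mul_mem (hrP l) hzP) (mul_mem (hrP l') hzP) e.2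
    have hl := (Finset.mem_sigma.1 hq).1
    have hl' := (Finset.mem_sigma.1 hq').1
    have hll : l = l' := by
      have e4 : d.x ^ (l : ℤ) = d.x ^ (l' : ℤ) := mul_right_cancel e2
      rw [zpow_natCast, zpow_natCast] at e4
      exact pow_injOn_Iio_orderOf (by rw [Set.mem_Iio, d.hm]; exact Finset.mem_range.1 hl)
        (by rw [Set.mem_Iio, d.hm]; exact Finset.mem_range.1 hl') e4
    subst hll
    rw [Subtype.ext e1, Subtype.ext e3]
  · rintro ⟨a, b⟩ hab
    obtain ⟨hI, hpp⟩ := Finset.mem_filter.1 hab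
    have ha2 : orderOf a = 2 := (Finset.mem_filter.1 (Finset.mem_product.1 hI).1).2
    have hb2 : orderOf b = 2 := (Finset.mem_filter.1 (Finset.mem_product.1 hI).2).2
    have haa : a * a = 1 := by rw [← pow_two, ← ha2, pow_orderOf_eq_one]
    have hbb : b * b = 1 := by rw [← pow_two, ← hb2, pow_orderOf_eq_one]
    have hinv : a * (a * b) * a⁻¹ = (a * b)⁻¹ := by
      rw [← mul_assoc, haa, one_mul, mul_inv_rev, inv_eq_of_mul_eq_one_right hbb]
    have haC : a ∈ Subgroup.centralizer ({d.z} : Set G) := by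
      have h1 := IsPPart.conj hpp a
      rw [hinv] at h1
      have h2 := isPPart_unique Nat.prime_two h1 (IsPPart.inv hpp)
      rw [inv_eq_of_mul_eq_one_right d.zz] at h2
      exact Subgroup.mem_centralizer_singleton_iff.2 (mul_inv_eq_iff_eq_mul.1 h2)
    obtain ⟨r, hr, hrc, -, hro⟩ := hpp
    have hrC : r ∈ Subgroup.centralizer ({d.z} : Set G) :=
      Subgroup.mem_centralizer_singleton_iff.2 hrc.eq.symm
    have hrU : r ∈ U := mem_core_of_odd d hle hconj hodd hcard hrC hro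
    have hbC : b ∈ Subgroup.centralizer ({d.z} : Set G) := by
      rw [show b = a * (d.z * r) by rw [show d.z * r = a * b from hr, ← mul_assoc, haa, one_mul]]
      exact mul_mem haC (mul_mem hzC hrC)
    obtain ⟨w, hw, s, hs, rfl⟩ := decomp d hle hodd hcard haC
    obtain ⟨w', hw', t, ht, rfl⟩ := decomp d hle hodd hcard hbC
    have hswU : s * w * s⁻¹ ∈ U := hconj s (P_le_centralizer d hs) w hw
    obtain ⟨e1, e2⟩ := decomp_unique hodd (mul_mem hw hswU) (one_mem U) (mul_mem hs hs) (one_mem _)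
      (show w * (s * w * s⁻¹) * (s * s) = 1 * 1 by
        rw [one_mul, ← haa]; group)
    obtain ⟨-, e3⟩ := decomp_unique hodd
      (mul_mem hw (hconj s (P_le_centralizer d hs) w' hw')) hrU (mul_mem hs ht) hzP
      (show w * (s * w' * s⁻¹) * (s * t) = r * d.z by
        rw [← hrc.eq, hr]; group)
    have e2' : t = s * d.z := by rw [← e3, ← mul_assoc, e2, one_mul]
    have hsx : s ∉ Subgroup.zpowers d.x := fun hmem => by
      rcases d.sq_cases hmem e2 with rfl | rfl
      · rw [mul_one] at ha2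
        exact hodd.not_two_dvd_nat (ha2 ▸ Subgroup.orderOf_dvd_natCard U hw)
      · rw [e2', d.zz, mul_one] at hb2
        exact hodd.not_two_dvd_nat (hb2 ▸ Subgroup.orderOf_dvd_natCard U hw')
    obtain ⟨i, hi⟩ := (d.cases s hs).resolve_left fun ⟨i, hi⟩ =>
      hsx (hi ▸ Subgroup.zpow_mem_zpowers d.x i)
    have hm : (0 : ℤ) < d.m := by have := d.two_le; omega
    set l := (i % d.m).toNat with hl
    have hlz : (l : ℤ) = i % d.m := Int.toNat_of_nonneg (Int.emod_nonneg _ hm.ne')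
    have hls : rf l = s := by
      rw [hrf, hi]
      show d.x ^ (l : ℤ) * d.y = d.x ^ i * d.y
      rw [hlz, ← d.hm, zpow_mod_orderOf]
    have hw1 : s * w * s⁻¹ = w⁻¹ := eq_inv_of_mul_eq_one_right e1
    have hw2 : s * d.z * w' * (s * d.z)⁻¹ = w'⁻¹ := by
      rw [← e2']
      have htt : t * t = 1 := by
        rw [e2', mul_assoc, ← mul_assoc d.z, ← (d.z_comm hs : s * d.z = d.z * s), mul_assoc s d.z,
          d.zz, mul_one, e2]
      obtain ⟨e4, -⟩ := decomp_unique hodd (mul_mem hw' (hconj t (P_le_centralizer d ht) w' hw'))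
        (one_mem U) (mul_mem ht ht) (one_mem _)
        (show w' * (t * w' * t⁻¹) * (t * t) = 1 * 1 by rw [one_mul, ← hbb]; group)
      exact eq_inv_of_mul_eq_one_right e4
    refine ⟨⟨l, ⟨w, hw⟩, ⟨w', hw'⟩⟩, Finset.mem_sigma.2 ⟨Finset.mem_range.2 ?_,
      Finset.mem_product.2 ⟨Finset.mem_filter.2 ⟨Finset.mem_univ _, ?_⟩,
        Finset.mem_filter.2 ⟨Finset.mem_univ _, ?_⟩⟩⟩, ?_⟩
    · have := Int.emod_lt_of_pos i hm
      show l < d.m
      omega
    · show rf l * w * (rf l)⁻¹ = w⁻¹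
      rw [hls]; exact hw1
    · show rf l * d.z * w' * (rf l * d.z)⁻¹ = w'⁻¹
      rw [hls]; exact hw2
    · show (w * rf l, w' * (rf l * d.z)) = (w * s, w' * t)
      rw [hls, ← e2']

end Cfsg.Agent.GW
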