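import Cfsg.Agent.Lib.GW.SplitDef

/-!
The configuration in which the plane carries only scalars: the action of `U` on the plane is a linear
character, trivial by coherence, and then so is the action by translations.
-/

set_option autoImplicit false
set_option linter.unusedSectionVars false
set_option linter.style.haveILetI false

namespace Cfsg.Agent.GW

open Cfsg.Agent.TwoFus Cfsg.Agent.BenderUnique Subgroup

universe u

/-- An element of odd order inverted by an involution of the socle lies in the residual, when the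
involution centralises the odd core. -/
theorem Sock.inverted_mem_res {X : Type u} [Group X] [Finite X] (K : Sock X) {v f : X}
    (hv : orderOf v = 2) (hvs : v ∈ socPre X) (hcore : ∀ o ∈ Cfsg.oddCore X, v * o = o * v)
    (hfo : Odd (orderOf f)) (hfi : v * f * v⁻¹ = f⁻¹) : f ∈ res X := by
  haveI := oddCore_normal (X := X)
  have hm : v * f * v⁻¹ * f⁻¹ ∈ socPre X := by
    rw [show v * f * v⁻¹ * f⁻¹ = v * (f * v⁻¹ * f⁻¹) by group]
    exact mul_mem hvs ((socPre_normal (X := X)).conj_mem _ (inv_mem hvs) f)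
  rw [hfi] at hm
  have hsoc : f ∈ socPre X := by
    obtain ⟨j, hj⟩ := hfo
    have e1 : f = (f⁻¹ * f⁻¹)⁻¹ ^ (j + 1) := by
      rw [mul_inv_rev, inv_inv, ← pow_two, ← pow_mul,
        show 2 * (j + 1) = orderOf f + 1 by omega, pow_succ, pow_orderOf_eq_one, one_mul]
    rw [e1]
    exact pow_mem (inv_mem hm) _
  obtain ⟨r, hr, o, ho, e1⟩ : ∃ r ∈ res X, ∃ o ∈ Cfsg.oddCore X, r * o = f := by
    rw [socPre, ← SetLike.mem_coe, Subgroup.mul_normal] at hsoc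
    exact Set.mem_mul.1 hsoc
  have hrO := K.res_comm_of_invol hv hvs hcore
  have hoa : v * o * v⁻¹ = o := mul_inv_eq_iff_eq_mul.2 (hcore o ho)
  have hra : v * r * v⁻¹ ∈ res X := (res_normal (X := X)).conj_mem r hr v
  have hro : r * o = o * r := hrO r hr o ho
  have hsq : o * o ∈ res X := by
    have h1 : v * r * v⁻¹ * o = (r * o)⁻¹ := by
      calc v * r * v⁻¹ * o = v * r * v⁻¹ * (v * o * v⁻¹) := by rw [hoa]
        _ = v * (r * o) * v⁻¹ := by group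
        _ = (r * o)⁻¹ := by rw [e1, hfi]
    have h2 : o * o = (r * (v * r * v⁻¹))⁻¹ := by
      rw [eq_inv_iff_mul_eq_one]
      calc o * o * (r * (v * r * v⁻¹)) = r * o * (o * (v * r * v⁻¹)) := by
            rw [show o * o * (r * (v * r * v⁻¹)) = o * (o * r) * (v * r * v⁻¹) by group, ← hro,
              ← mul_assoc o r o, ← hro]
            group
        _ = r * o * (v * r * v⁻¹ * o) := by rw [← hrO _ hra o ho]
        _ = 1 := by rw [h1, mul_inv_cancel]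
    rw [h2]
    exact inv_mem (mul_mem hr hra)
  obtain ⟨j, hj⟩ := odd_of_mem_core ho
  rw [← e1]
  refine mul_mem hr ?_
  have e2 : o = (o * o) ^ (j + 1) := by
    rw [← pow_two, ← pow_mul, show 2 * (j + 1) = orderOf o + 1 by omega, pow_succ, pow_orderOf_eq_one,
      one_mul]
  rw [e2]
  exact pow_mem hsq _

namespace Core

variable {G : Type u} [Group G] [Finite G] {c : Core G} {a : G} {q : ℕ} [hq : Fact q.Prime]

/-- In the centraliser of the Sylow subgroup of `W` the four-group is inner and centralises the odd core. -/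
theorem Cross.centraliser_inner (cr : c.Cross a q) (ha : c.Refl a) (hq2 : q ≠ 2) (hC : IsCoatom c.C)
    {X : Subgroup G} (hX0 : X ≠ ⊥) (hX : X ≤ c.Qc q ⊓ c.W a) :
    c.Inner a (Subgroup.centralizer (cr.R : Set G)) ∧
      ∀ o ∈ Cfsg.oddCore (Subgroup.centralizer (cr.R : Set G)),
        (o : G) * c.d.z = c.d.z * o ∧ (o : G) * a = a * o := by
  haveI := c.simple
  obtain ⟨N, hN, hXN⟩ : ∃ N, IsCoatom N ∧ Subgroup.normalizer (X : Set G) ≤ N :=
    (eq_top_or_exists_le_coatom _).resolve_left (ha.normalizer_ne_top hX0 (hX.trans inf_le_right))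
  have hl := cr.layer_ne_bot ha hq2 hC hX0 hX hN hXN
  set H := Subgroup.centralizer (cr.R : Set G) with hHdef
  have hRH : Subgroup.centralizer (cr.R : Set G) ≤ H := le_rfl
  have hHN : H ≤ N :=
    ((Subgroup.centralizer_le (cr.le_R ha hX)).trans (Subgroup.centralizer_le_normalizer _)).trans hXN
  have hK := cr.inner ha hN.1 (hRH.trans hHN) hl
  have hIH := hK.mono ha hRH (fun e => hN.1 (top_le_iff.1 (e ▸ hHN)))
  refine ⟨hIH, ?_⟩
  obtain ⟨hzH, haH, ⟨S⟩, s1, s2⟩ := hIH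
  obtain ⟨hzN, haN, ⟨SN⟩, n1, n2⟩ := hK.mono ha (hRH.trans hHN) hN.1
  have hzo : orderOf (⟨c.d.z, hzN⟩ : N) = 2 := by rw [← Subgroup.orderOf_coe]; exact c.z_order
  have hao : orderOf (⟨a, haN⟩ : N) = 2 := by rw [← Subgroup.orderOf_coe]; exact ha.order
  have hNz : ∀ y ∈ Cfsg.oddCore N, c.d.z * (y : G) = y * c.d.z := fun y hy =>
    congrArg Subtype.val (SN.invol_comm_core hl hzo n1 y hy)
  have hNa : ∀ y ∈ Cfsg.oddCore N, a * (y : G) = y * a := fun y hy =>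
    congrArg Subtype.val (SN.invol_comm_core hl hao n2 y hy)
  have hd := ha.dihSylow H hzH haH
  have hzo' : orderOf (⟨c.d.z, hzH⟩ : H) = 2 := by rw [← Subgroup.orderOf_coe]; exact c.z_order
  have hao' : orderOf (⟨a, haH⟩ : H) = 2 := by rw [← Subgroup.orderOf_coe]; exact ha.order
  have hzao' : orderOf (⟨c.d.z, hzH⟩ * ⟨a, haH⟩ : H) = 2 := by
    rw [← Subgroup.orderOf_coe]; exact ha.z_mul_order
  obtain ⟨v, hv, hvs, hvo, hvc⟩ : ∃ v : H, v * v = 1 ∧ v ∈ socPre H ∧ orderOf v = 2 ∧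
      ∀ o ∈ Cfsg.oddCore H, v * o = o * v := by
    obtain ⟨v, hv, hcore⟩ := ha.four_core hHN hN.1 hzH haH
    have hvH : v ∈ H := by rcases hv with rfl | rfl | rfl <;> [exact hzH; exact haH; exact mul_mem hzH haH]
    have hvs : (⟨v, hvH⟩ : H) ∈ socPre H ∧ orderOf (⟨v, hvH⟩ : H) = 2 ∧
        ∀ y ∈ Cfsg.oddCore N, v * (y : G) = y * v := by
      rcases hv with rfl | rfl | rfl
      · exact ⟨s1, hzo', hNz⟩
      · exact ⟨s2, hao', hNa⟩
      · refine ⟨mul_mem s1 s2, hzao', fun y hy => ?_⟩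
        exact ((show Commute c.d.z (y : G) from hNz y hy).mul_left (hNa y hy)).eq
    refine ⟨⟨v, hvH⟩, sq_one hvs.2.1, hvs.1, hvs.2.1, fun o ho => Subtype.ext ?_⟩
    obtain ⟨y, hy, e⟩ := hcore o ho
    have hvv : v * v = 1 := congrArg Subtype.val (sq_one hvs.2.1)
    have hfix : v * (y : G) * v⁻¹ = y := by rw [hvs.2.2 y hy, mul_inv_cancel_right]
    have hinv : v * (y : G) * v⁻¹ = (y : G)⁻¹ := by
      rw [e]
      calc v * (v * (o : G) * v⁻¹ * (o : G)⁻¹) * v⁻¹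
          = (v * v) * (o : G) * v⁻¹ * (o : G)⁻¹ * v⁻¹ := by group
        _ = (o : G) * v * (o : G)⁻¹ * v⁻¹ := by
          rw [hvv, one_mul, inv_eq_of_mul_eq_one_right hvv]
        _ = (v * (o : G) * v⁻¹ * (o : G)⁻¹)⁻¹ := by group
    have hy1 : (y : G) = 1 := eq_one_of_sq_odd
      (by nth_rewrite 1 [hfix.symm.trans hinv]; rw [inv_mul_cancel])
      (by rw [Subgroup.orderOf_coe]; exact odd_of_mem_core hy)
    rw [hy1, eq_comm, mul_inv_eq_one, mul_inv_eq_iff_eq_mul] at e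
    exact e
  intro o ho
  exact ⟨(congrArg Subtype.val (S.core_cent hd hvo hzo' hvs s1 hvc o ho)).symm,
    (congrArg Subtype.val (S.core_cent hd hvo hao' hvs s2 hvc o ho)).symm⟩

/-- A reflection acts as a given one on what the rotations centralise. -/
theorem Refl.act_eq {v : G} (ha : c.Refl a) (hv : c.Refl v) {g : G}
    (hx : c.d.x * g = g * c.d.x) (hai : a * g * a⁻¹ = g⁻¹) : v * g * v⁻¹ = g⁻¹ := by
  obtain ⟨i, hi⟩ := c.d.idx a ha.1 v hv.1 ha.2 hv.2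
  simp only at hi
  have e : v = a * c.d.x ^ i := by rw [hi, mul_inv_cancel_left]
  have hc : Commute (c.d.x ^ i) g := (show Commute c.d.x g from hx).zpow_left i
  rw [e, show a * c.d.x ^ i * g * (a * c.d.x ^ i)⁻¹ = a * (c.d.x ^ i * g * (c.d.x ^ i)⁻¹) * a⁻¹ by group,
    hc.eq, mul_inv_cancel_right, hai]

variable {e f y : G}

namespace Red

variable (R : c.Red a q e f y)

include R

theorem conj_line {g : G} (hg : g ∈ c.C) {w : G} (hw : w ∈ zpowers f) : g * w * g⁻¹ ∈ zpowers f :=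
  (mem_normalizer_iff.1 (R.normal hg) w).1 hw

theorem y_comm_line {w : G} (hw : w ∈ zpowers f) (i : ℤ) : Commute (y ^ i) w := by
  obtain ⟨j, rfl⟩ := hw
  exact (show Commute y f from R.yf).zpow_zpow i j

/-- The scalar of an element of `C` on the plane modulo the line. -/
theorem exists_scalar {g : G} (hg : g ∈ c.C) : ∃ β : ℤ, g * y * g⁻¹ * (y ^ β)⁻¹ ∈ zpowers f := by
  have hmem : g * y * g⁻¹ ∈ zpowers y ⊔ zpowers f :=
    (mem_normalizer_iff.1 (R.normA hg) y).1 (mem_sup_left (mem_zpowers y))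
  have hle : zpowers f ≤ normalizer (zpowers y : Set G) := le_trans (zpowers_le.2
    (mem_centralizer_iff.2 (by
      rintro _ ⟨i, rfl⟩; exact ((show Commute y f from R.yf).zpow_left i).eq)))
    (centralizer_le_normalizer _)
  rw [← SetLike.mem_coe, coe_mul_of_right_le_normalizer_left _ _ hle] at hmem
  obtain ⟨d, ⟨β, rfl⟩, w, hw, hdw⟩ := Set.mem_mul.1 hmem
  refine ⟨β, ?_⟩
  simp only at hdw
  rw [← hdw, (R.y_comm_line hw β).eq, mul_inv_cancel_right]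
  exact hw

theorem scalar_mul {g h : G} (hg : g ∈ c.C) {β γ : ℤ} (h1 : g * y * g⁻¹ * (y ^ β)⁻¹ ∈ zpowers f)
    (h2 : h * y * h⁻¹ * (y ^ γ)⁻¹ ∈ zpowers f) :
    g * h * y * (g * h)⁻¹ * (y ^ (β * γ))⁻¹ ∈ zpowers f := by
  set w1 := g * y * g⁻¹ * (y ^ β)⁻¹ with hw1
  set w2 := h * y * h⁻¹ * (y ^ γ)⁻¹ with hw2
  have e1 : g * y * g⁻¹ = w1 * y ^ β := by rw [hw1, inv_mul_cancel_right]
  have e2 : h * y * h⁻¹ = w2 * y ^ γ := by rw [hw2, inv_mul_cancel_right]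
  have e3 : g * h * y * (g * h)⁻¹ = g * w2 * g⁻¹ * (g * y * g⁻¹) ^ γ := by
    rw [show g * h * y * (g * h)⁻¹ = g * (h * y * h⁻¹) * g⁻¹ by group, e2, conj_zpow]; group
  rw [e3, e1, (R.y_comm_line h1 β).symm.mul_zpow, ← zpow_mul, ← mul_assoc (g * w2 * g⁻¹),
    mul_inv_cancel_right]
  exact mul_mem (R.conj_line hg h2) (zpow_mem h1 γ)

/-- A commutator in `C` fixes the line and acts trivially on the plane modulo it. -/
theorem comm_scalar {g h : G} (hg : g ∈ c.C) (hh : h ∈ c.C) :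
    g * h * g⁻¹ * h⁻¹ * f = f * (g * h * g⁻¹ * h⁻¹) ∧
      g * h * g⁻¹ * h⁻¹ * y * (g * h * g⁻¹ * h⁻¹)⁻¹ * y⁻¹ ∈ zpowers f := by
  have hg' := inv_mem hg
  have hh' := inv_mem hh
  obtain ⟨α1, hα1⟩ : ∃ α : ℤ, f ^ α = g⁻¹ * f * g⁻¹⁻¹ := R.conj_line hg' (mem_zpowers f)
  obtain ⟨α2, hα2⟩ : ∃ α : ℤ, f ^ α = h⁻¹ * f * h⁻¹⁻¹ := R.conj_line hh' (mem_zpowers f)
  obtain ⟨β1, hβ1⟩ := R.exists_scalar hg'
  obtain ⟨β2, hβ2⟩ := R.exists_scalar hh'
  have hk : g * h * g⁻¹ * h⁻¹ = (h⁻¹ * g⁻¹)⁻¹ * (g⁻¹ * h⁻¹) := by group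
  constructor
  · have e1 : g⁻¹ * h⁻¹ * f * (g⁻¹ * h⁻¹)⁻¹ = f ^ (α1 * α2) := by
      rw [show g⁻¹ * h⁻¹ * f * (g⁻¹ * h⁻¹)⁻¹ = g⁻¹ * (h⁻¹ * f * h⁻¹⁻¹) * g⁻¹⁻¹ by group, ← hα2,
        ← conj_zpow, ← hα1, ← zpow_mul]
    have e2 : h⁻¹ * g⁻¹ * f * (h⁻¹ * g⁻¹)⁻¹ = f ^ (α1 * α2) := by
      rw [show h⁻¹ * g⁻¹ * f * (h⁻¹ * g⁻¹)⁻¹ = h⁻¹ * (g⁻¹ * f * g⁻¹⁻¹) * h⁻¹⁻¹ by group, ← hα1,
        ← conj_zpow, ← hα2, ← zpow_mul, mul_comm]
    refine mul_inv_eq_iff_eq_mul.1 ?_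
    rw [hk]
    calc (h⁻¹ * g⁻¹)⁻¹ * (g⁻¹ * h⁻¹) * f * ((h⁻¹ * g⁻¹)⁻¹ * (g⁻¹ * h⁻¹))⁻¹
        = (h⁻¹ * g⁻¹)⁻¹ * (g⁻¹ * h⁻¹ * f * (g⁻¹ * h⁻¹)⁻¹) * (h⁻¹ * g⁻¹) := by group
      _ = (h⁻¹ * g⁻¹)⁻¹ * (h⁻¹ * g⁻¹ * f * (h⁻¹ * g⁻¹)⁻¹) * (h⁻¹ * g⁻¹) := by rw [e1, e2]
      _ = f := by group
  · have s1 := R.scalar_mul hg' hβ1 hβ2
    have s2 := R.scalar_mul hh' hβ2 hβ1
    rw [mul_comm β2 β1] at s2
    set p := g⁻¹ * h⁻¹ with hp
    set r := h⁻¹ * g⁻¹ with hr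
    set yy := y ^ (β1 * β2) with hyy
    have key : p * y * p⁻¹ * (r * y * r⁻¹)⁻¹ ∈ zpowers f := by
      have := mul_mem s1 (inv_mem s2)
      rwa [mul_inv_rev (r * y * r⁻¹), inv_inv, ← mul_assoc, inv_mul_cancel_right] at this
    have hrC : r⁻¹ ∈ c.C := inv_mem (mul_mem hh' hg')
    have := R.conj_line hrC key
    rw [hk]
    rwa [show r⁻¹ * p * y * (r⁻¹ * p)⁻¹ * y⁻¹ = r⁻¹ * (p * y * p⁻¹ * (r * y * r⁻¹)⁻¹) * r⁻¹⁻¹ by group]

/-- The elements of `q`-power order of `O_q(C)` centralise the line. -/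
theorem line_central {g : G} (hg : g ∈ c.Qc q) : g * f = f * g := by
  obtain ⟨i, hi⟩ : ∃ i : ℤ, f ^ i = g * f * g⁻¹ := R.conj_line (c.Qc_le_C q hg) (mem_zpowers f)
  obtain ⟨k, hk⟩ := IsPGroup.iff_orderOf.1 (coreIn_pGroup q c.C) ⟨g, hg⟩
  rw [orderOf_mk] at hk
  have hit : ∀ n : ℕ, g ^ n * f * (g ^ n)⁻¹ = f ^ (i ^ n) := by
    intro n
    induction n with
    | zero => simp
    | succ n ih =>
      rw [pow_succ' g, show g * g ^ n * f * (g * g ^ n)⁻¹ = g * (g ^ n * f * (g ^ n)⁻¹) * g⁻¹ by group,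
        ih, ← conj_zpow, ← hi, ← zpow_mul, pow_succ' i]
  have h1 := hit (q ^ k)
  rw [← hk, pow_orderOf_eq_one, one_mul, inv_one, mul_one, hk] at h1
  have h2 : (q : ℤ) ∣ i ^ (q ^ k) - 1 := by
    have h5 : (orderOf f : ℤ) ∣ i ^ (q ^ k) - 1 := by
      rw [orderOf_dvd_iff_zpow_eq_one, zpow_sub, zpow_one, ← h1, mul_inv_cancel]
    rwa [R.f_order] at h5
  have h3 : (q : ℤ) ∣ i - 1 := by
    rw [← ZMod.intCast_zmod_eq_zero_iff_dvd] at h2 ⊢
    push_cast at h2 ⊢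
    rwa [ZMod.pow_card_pow] at h2
  obtain ⟨t, ht⟩ := h3
  refine mul_inv_eq_iff_eq_mul.1 ?_
  rw [← hi, show i = (q : ℤ) * t + 1 by omega, zpow_add, zpow_mul, zpow_natCast, R.f_pow, one_zpow,
    one_mul, zpow_one]

/-- The other reflection inverts `y` exactly. -/
theorem exact_inv {b : G} (hb : b * b = 1) (hbf : b * f * b⁻¹ = f⁻¹)
    (hby : b * y * b⁻¹ * y ∈ zpowers f) : b * y * b⁻¹ = y⁻¹ := by
  obtain ⟨i, hi⟩ := hby
  simp only at hi
  have e1 : b * y * b⁻¹ = f ^ i * y⁻¹ := by rw [hi, mul_inv_cancel_right]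
  have hc : Commute y (f ^ i) := (show Commute y f from R.yf).zpow_right i
  have h2 : f ^ i * f ^ i = 1 := by
    have h3 : y = (f ^ i)⁻¹ * (y * (f ^ i)⁻¹) := by
      calc y = b * (b * y * b⁻¹) * b⁻¹ := by
            rw [show b * (b * y * b⁻¹) * b⁻¹ = b * b * y * (b * b)⁻¹ by group, hb, one_mul, inv_one,
              mul_one]
        _ = b * (f ^ i * y⁻¹) * b⁻¹ := by rw [e1]
        _ = (b * f ^ i * b⁻¹) * (b * y * b⁻¹)⁻¹ := by group
        _ = _ := by rw [e1, ← conj_zpow, hbf, inv_zpow, mul_inv_rev, inv_inv]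
    have h4 : (f ^ i)⁻¹ * (f ^ i)⁻¹ = 1 := by
      have := hc.inv_right.eq
      rw [this, ← mul_assoc] at h3
      exact mul_eq_right.1 h3.symm
    rwa [← mul_inv_rev, inv_eq_one] at h4
  rw [e1, eq_one_of_sq_odd h2 (c.odd_of_mem_U (zpow_mem R.f_U i)), one_mul]

end Red

end Core

end Cfsg.Agent.GW
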