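import Cfsg.Agent.Lib.GW.Local
import Cfsg.Agent.Lib.GW.Inverted
import Cfsg.Agent.Lib.GW.SectionFacts
import Cfsg.Agent.Lib.GW.Mixed

/-!
The numerical facts of a section in which the four-group of a reflection is inner and centralises the
odd core, at the level of the ambient group.
-/

set_option autoImplicit false
set_option linter.unusedSectionVars false
set_option linter.style.haveILetI false

namespace Cfsg.Agent.GW

open Cfsg.Agent.TwoFus Subgroup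

universe u

section

variable {X : Type u} [Group X] [Finite X]

/-- Two involutions congruent modulo the odd core, the first centralising it, are equal. -/
theorem invol_eq_of_mo {v w : X} (hv : v * v = 1) (hw : w * w = 1)
    (hc : ∀ o ∈ Cfsg.oddCore X, v * o = o * v) (e : mo X v = mo X w) : v = w := by
  have hm : v⁻¹ * w ∈ Cfsg.oddCore X := (mo_ker _).1 (by rw [map_mul, map_inv, e, inv_mul_cancel])
  have h1 : v⁻¹ * w * (v⁻¹ * w) = 1 := by
    calc v⁻¹ * w * (v⁻¹ * w) = v⁻¹ * (v⁻¹ * w * v) * (v⁻¹ * w) := by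
          rw [← hc _ hm, ← mul_assoc v⁻¹ v, inv_mul_cancel, one_mul]
      _ = v⁻¹ * v⁻¹ * (w * w) := by group
      _ = 1 := by rw [hw, inv_eq_of_mul_eq_one_right hv, hv, one_mul]
  exact inv_mul_eq_one.1 (eq_one_of_sq_odd h1 (odd_of_mem_core hm))

/-- At most `N ^ 2` elements conjugate `y` into its centraliser, if that has order at most `N`. -/
theorem card_le_div {X : Type u} [Group X] [Finite X] (y : X) (N : ℕ) (hN : Nat.card (centralizer ({y} : Set X)) ≤ N) :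
    Nat.card {x : X // x * y * x⁻¹ * y = y * (x * y * x⁻¹)} ≤ N * N := by
  classical
  let val : {x : X // x * y * x⁻¹ * y = y * (x * y * x⁻¹)} → centralizer ({y} : Set X) :=
    fun x => ⟨x.1 * y * x.1⁻¹, mem_centralizer_singleton_iff.2 x.2⟩
  let rep : centralizer ({y} : Set X) → X := fun v =>
    if h : ∃ x : X, x * y * x⁻¹ = (v : X) then h.choose else 1
  have hrep : ∀ x, rep (val x) * y * (rep (val x))⁻¹ = x.1 * y * x.1⁻¹ := by
    intro x
    have h : ∃ x' : X, x' * y * x'⁻¹ = (val x : X) := ⟨x.1, rfl⟩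
    simp only [rep, dif_pos h]
    exact h.choose_spec
  let f : {x : X // x * y * x⁻¹ * y = y * (x * y * x⁻¹)} →
      centralizer ({y} : Set X) × centralizer ({y} : Set X) :=
    fun x => (val x, ⟨(rep (val x))⁻¹ * x.1, mem_centralizer_singleton_iff.2 (by
      calc (rep (val x))⁻¹ * x.1 * y = (rep (val x))⁻¹ * (x.1 * y * x.1⁻¹) * x.1 := by group
        _ = (rep (val x))⁻¹ * (rep (val x) * y * (rep (val x))⁻¹) * x.1 := by rw [hrep]
        _ = y * ((rep (val x))⁻¹ * x.1) := by group)⟩)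
  have hf : Function.Injective f := by
    intro x x' e
    obtain ⟨e1, e2⟩ := Prod.ext_iff.1 e
    have e3 : (rep (val x))⁻¹ * x.1 = (rep (val x'))⁻¹ * x'.1 := congrArg Subtype.val e2
    rw [show val x = val x' from e1] at e3
    exact Subtype.ext (mul_left_cancel e3)
  refine (Nat.card_le_card_of_injective f hf).trans ?_
  rw [Nat.card_prod]
  exact Nat.mul_le_mul hN hN

/-- A centraliser is contained, up to the index, in that of a smaller group. -/
theorem relIndex_inf_le_index (C L : Subgroup X) : (L ⊓ C).relIndex L ≤ C.index := by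
  rw [inf_relIndex_left, ← relIndex_top_right]
  exact relIndex_le_of_le_right le_top (by
    rw [relIndex_top_right]; exact index_ne_zero_of_finite)

end

namespace Core

variable {G : Type u} [Group G] [Finite G] (c : Core G) {a : G} {H : Subgroup G}

/-- The data of a section with the four-group inner and centralising the odd core. -/
structure SecHyp (ha : c.Refl a) (H : Subgroup G) : Prop where
  z_mem : c.d.z ∈ H
  a_mem : a ∈ H
  core : ∀ o ∈ Cfsg.oddCore H, (o : G) * c.d.z = c.d.z * o ∧ (o : G) * a = a * o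

variable {c} {ha : c.Refl a}

namespace SecHyp

variable (hs : c.SecHyp ha H)

/-- The image of the central involution. -/
abbrev zb : H ⧸ Cfsg.oddCore H := mo H ⟨c.d.z, hs.z_mem⟩

/-- The image of the reflection. -/
abbrev ab : H ⧸ Cfsg.oddCore H := mo H ⟨a, hs.a_mem⟩

include hs

theorem z_ord : orderOf (⟨c.d.z, hs.z_mem⟩ : H) = 2 := by
  rw [← Subgroup.orderOf_coe]; exact c.z_order

theorem a_ord : orderOf (⟨a, hs.a_mem⟩ : H) = 2 := by
  rw [← Subgroup.orderOf_coe]; exact ha.order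

theorem z_core : ∀ o ∈ Cfsg.oddCore H, (⟨c.d.z, hs.z_mem⟩ : H) * o = o * ⟨c.d.z, hs.z_mem⟩ :=
  fun o ho => Subtype.ext (hs.core o ho).1.symm

theorem a_core : ∀ o ∈ Cfsg.oddCore H, (⟨a, hs.a_mem⟩ : H) * o = o * ⟨a, hs.a_mem⟩ :=
  fun o ho => Subtype.ext (hs.core o ho).2.symm

theorem za_comm : hs.zb * hs.ab = hs.ab * hs.zb := by
  rw [← map_mul, ← map_mul]; exact congrArg _ (Subtype.ext ha.comm.symm)

theorem za_ne : hs.ab ≠ hs.zb := fun e =>
  ha.ne_z (congrArg Subtype.val (invol_eq_of_mo (sq_one hs.a_ord) (sq_one hs.z_ord) hs.a_core e))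

/-- Membership in the centraliser is detected modulo the odd core. -/
theorem mem_C_iff (g : H) : (g : G) ∈ c.C ↔ mo H g * hs.zb = hs.zb * mo H g := by
  constructor
  · intro hg
    rw [← map_mul, ← map_mul]; exact congrArg _ (Subtype.ext (c.mem_C.1 hg))
  · intro h
    set zH : H := ⟨c.d.z, hs.z_mem⟩
    have hzz := sq_one hs.z_ord
    have e : zH = g * zH * g⁻¹ := by
      refine invol_eq_of_mo hzz ?_ hs.z_core ?_
      · calc g * zH * g⁻¹ * (g * zH * g⁻¹) = g * (zH * zH) * g⁻¹ := by group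
          _ = 1 := by rw [hzz, mul_one, mul_inv_cancel]
      · rw [map_mul, map_mul, map_inv, h, mul_inv_cancel_right]
    refine c.mem_C.2 ?_
    have h2 : c.d.z = (g : G) * c.d.z * (g : G)⁻¹ := congrArg Subtype.val e
    exact mul_inv_eq_iff_eq_mul.1 h2.symm

/-- The index of the centraliser is the index of the centraliser of the image. -/
theorem relIndex_C : c.C.relIndex H = (centralizer ({hs.zb} : Set (H ⧸ Cfsg.oddCore H))).index := by
  rw [← index_comap_of_surjective (f := mo H) _ (QuotientGroup.mk'_surjective _)]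
  show (c.C.subgroupOf H).index = _
  congr 1
  ext g
  rw [mem_subgroupOf, hs.mem_C_iff, mem_comap, mem_centralizer_singleton_iff]

theorem mem_H_inf (g : H) (hg : (g : G) ∈ c.C) : (g : G) ∈ H ⊓ c.C := ⟨g.2, hg⟩

/-- The conjugates of `a` under `H ∩ C` are detected modulo the odd core. -/
theorem orbit_le (S : Set (H ⧸ Cfsg.oddCore H)) (hS : ∀ g : H, mo H g * hs.zb = hs.zb * mo H g →
    mo H g * hs.ab * (mo H g)⁻¹ ∈ S) :
    (centralizer ({a} : Set G)).relIndex (H ⊓ c.C) ≤ Nat.card S := by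
  set K := H ⊓ c.C
  set R := (centralizer ({a} : Set G)).subgroupOf K
  let ι : K → H := fun g => ⟨g, g.2.1⟩
  have hiff : ∀ g g' : K, g⁻¹ * g' ∈ R ↔
      mo H (ι g) * hs.ab * (mo H (ι g))⁻¹ = mo H (ι g') * hs.ab * (mo H (ι g'))⁻¹ := by
    intro g g'
    rw [mem_subgroupOf, mem_centralizer_singleton_iff, coe_mul, coe_inv]
    set aH : H := ⟨a, hs.a_mem⟩
    constructor
    · intro h
      rw [← map_inv, ← map_inv, ← map_mul, ← map_mul, ← map_mul, ← map_mul]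
      refine congrArg _ (Subtype.ext ?_)
      show (g : G) * a * (g : G)⁻¹ = g' * a * (g' : G)⁻¹
      calc (g : G) * a * (g : G)⁻¹ = g * (a * ((g : G)⁻¹ * g')) * (g' : G)⁻¹ := by group
        _ = g * ((g : G)⁻¹ * g' * a) * (g' : G)⁻¹ := by rw [h]
        _ = g' * a * (g' : G)⁻¹ := by group
    · intro h
      have haa := sq_one hs.a_ord
      have e : aH = (ι g)⁻¹ * ι g' * aH * ((ι g)⁻¹ * ι g')⁻¹ := by
        refine invol_eq_of_mo haa ?_ hs.a_core ?_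
        · calc (ι g)⁻¹ * ι g' * aH * ((ι g)⁻¹ * ι g')⁻¹ * ((ι g)⁻¹ * ι g' * aH * ((ι g)⁻¹ * ι g')⁻¹)
              = (ι g)⁻¹ * ι g' * (aH * aH) * ((ι g)⁻¹ * ι g')⁻¹ := by group
            _ = 1 := by rw [haa, mul_one, mul_inv_cancel]
        · simp only [map_mul, map_inv]
          calc hs.ab = (mo H (ι g))⁻¹ * (mo H (ι g) * hs.ab * (mo H (ι g))⁻¹) * mo H (ι g) := by group
            _ = _ := by rw [h]; show _ = _ * hs.ab * _; group
      have e' : a = (g : G)⁻¹ * g' * a * ((g : G)⁻¹ * g')⁻¹ := congrArg Subtype.val e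
      exact mul_inv_eq_iff_eq_mul.1 e'.symm
  let f : K ⧸ R → S := Quotient.lift
    (fun g : K => (⟨_, hS (ι g) ((hs.mem_C_iff (ι g)).1 g.2.2)⟩ : S))
    fun g g' h => Subtype.ext ((hiff g g').1 (QuotientGroup.leftRel_apply.1 h))
  refine Nat.card_le_card_of_injective f fun x y => ?_
  induction x using QuotientGroup.induction_on with
  | _ g =>
    induction y using QuotientGroup.induction_on with
    | _ g' => exact fun h => QuotientGroup.eq.2 ((hiff g g').2 (congrArg Subtype.val h))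

/-- The inverted elements form a cyclic group embedded in a cyclic group containing their images. -/
theorem exists_T {TL : Subgroup (H ⧸ Cfsg.oddCore H)} (hTL : IsCyclic TL)
    (hmem : ∀ y : H, (y : G) ∈ c.U → a * (y : G) * a⁻¹ = (y : G)⁻¹ → mo H y ∈ TL) :
    ∃ T : Subgroup G, IsCyclic T ∧ (∀ y, y ∈ T ↔ y ∈ H ∧ y ∈ c.U ∧ a * y * a⁻¹ = y⁻¹) ∧
      Odd (Nat.card T) ∧ Nat.card T ∣ Nat.card TL := by
  set Y : Set H := {y : H | (y : G) ∈ c.U ∧ a * (y : G) * a⁻¹ = (y : G)⁻¹}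
  haveI := oddCore_normal (X := H)
  have hfixO : ∀ y ∈ Y, ∀ o ∈ Cfsg.oddCore H, y * o = o * y := by
    intro y hy o ho
    refine Subtype.ext (inverted_comm hy.2 (c.odd_of_mem_U hy.1)
      (mul_inv_eq_iff_eq_mul.2 (hs.core o ho).2.symm) ?_)
    exact mul_inv_eq_iff_eq_mul.2 (hs.core _ ((oddCore_normal (X := H)).conj_mem o ho y)).2.symm
  set D := closure Y with hD
  have hDO : D ≤ centralizer (Cfsg.oddCore H : Set H) := (closure_le _).2 fun y hy =>
    mem_centralizer_iff.2 fun o ho => (hfixO y hy o ho).symm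
  have hDTL : D ≤ TL.comap (mo H) := (closure_le _).2 fun y hy => hmem y hy.1 hy.2
  let f : D →* TL := ((mo H).comp D.subtype).codRestrict TL fun y => hDTL y.2
  have hker : f.ker ≤ Subgroup.center D := by
    intro k hk
    have hk' : (k : H) ∈ Cfsg.oddCore H := (mo_ker _).1 (congrArg Subtype.val hk)
    exact Subgroup.mem_center_iff.2 fun d => Subtype.ext
      (mem_centralizer_iff.1 (hDO d.2) (k : H) hk').symm
  haveI := hTL
  have hcomm : ∀ y ∈ Y, ∀ y' ∈ Y, (y : G) * (y' : G) = y' * y := fun y hy y' hy' =>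
    congrArg (fun d : D => ((d : H) : G))
      (commutative_of_cyclic_center_quotient f hker ⟨y, subset_closure hy⟩ ⟨y', subset_closure hy'⟩)
  let T : Subgroup G :=
    { carrier := {y | y ∈ H ∧ y ∈ c.U ∧ a * y * a⁻¹ = y⁻¹}
      one_mem' := ⟨one_mem _, one_mem _, by simp⟩
      mul_mem' := by
        rintro x y ⟨hx, hxU, hxa⟩ ⟨hy, hyU, hya⟩
        refine ⟨mul_mem hx hy, mul_mem hxU hyU, ?_⟩
        rw [show a * (x * y) * a⁻¹ = (a * x * a⁻¹) * (a * y * a⁻¹) by group, hxa, hya, ← mul_inv_rev,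
          (hcomm ⟨x, hx⟩ ⟨hxU, hxa⟩ ⟨y, hy⟩ ⟨hyU, hya⟩ : x * y = y * x)]
      inv_mem' := by
        rintro x ⟨hx, hxU, hxa⟩
        refine ⟨inv_mem hx, inv_mem hxU, ?_⟩
        rw [show a * x⁻¹ * a⁻¹ = (a * x * a⁻¹)⁻¹ by group, hxa] }
  let φ : T →* TL :=
    { toFun := fun y => ⟨mo H ⟨y, y.2.1⟩, hmem _ y.2.2.1 y.2.2.2⟩
      map_one' := Subtype.ext ((congrArg (mo H) (Subtype.ext rfl)).trans (map_one _))
      map_mul' := fun x y => Subtype.ext ((congrArg (mo H) (Subtype.ext rfl :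
        (⟨((x * y : T) : G), (x * y : T).2.1⟩ : H) = ⟨x, x.2.1⟩ * ⟨y, y.2.1⟩)).trans (map_mul _ _ _)) }
  have hφ : Function.Injective φ := by
    rw [injective_iff_map_eq_one]
    intro y hy
    have hyO : (⟨y, y.2.1⟩ : H) ∈ Cfsg.oddCore H := (mo_ker _).1 (congrArg Subtype.val hy)
    refine Subtype.ext (eq_one_of_sq_odd ?_ (c.odd_of_mem_U y.2.2.1))
    have h1 : a * (y : G) * a⁻¹ = y := mul_inv_eq_iff_eq_mul.2 (hs.core _ hyO).2.symm
    nth_rewrite 1 [h1.symm.trans y.2.2.2]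
    rw [inv_mul_cancel]
  refine ⟨T, isCyclic_of_injective φ hφ, fun y => Iff.rfl, ?_, Subgroup.card_dvd_of_injective φ hφ⟩
  exact c.U_odd.of_dvd_nat (Subgroup.card_dvd_of_le fun y hy => hy.2.1)

/-- The image of a nontrivial inverted element. -/
theorem mo_T {y : G} (hy : y ∈ H ∧ y ∈ c.U ∧ a * y * a⁻¹ = y⁻¹) (hy1 : y ≠ 1) :
    mo H ⟨y, hy.1⟩ ≠ 1 ∧ Odd (orderOf (mo H ⟨y, hy.1⟩)) ∧
      mo H ⟨y, hy.1⟩ * hs.zb = hs.zb * mo H ⟨y, hy.1⟩ := by
  refine ⟨fun e => hy1 (eq_one_of_sq_odd ?_ (c.odd_of_mem_U hy.2.1)), ?_,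
    (hs.mem_C_iff ⟨y, hy.1⟩).1 (c.U_le hy.2.1)⟩
  · have h1 : a * y * a⁻¹ = y :=
      mul_inv_eq_iff_eq_mul.2 (hs.core ⟨y, hy.1⟩ ((mo_ker _).1 e)).2.symm
    nth_rewrite 1 [h1.symm.trans hy.2.2]
    rw [inv_mul_cancel]
  · have ho : Odd (orderOf (⟨y, hy.1⟩ : H)) := by
      rw [← Subgroup.orderOf_coe]; exact c.odd_of_mem_U hy.2.1
    exact ho.of_dvd_nat (orderOf_map_dvd _ _)

/-- The conjugates of `z` whose conjugating element keeps `y` commuting with itself, for `|C(z)| = 24`. -/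
theorem seven_count {y : G} (hyH : y ∈ H) {T : Subgroup (H ⧸ Cfsg.oddCore H)}
    (hT : ∀ x, x * hs.zb = hs.zb * x → Odd (orderOf x) → x ∈ T) (hgen : T ≤ zpowers (mo H ⟨y, hyH⟩))
    (hyz : mo H ⟨y, hyH⟩ * hs.zb = hs.zb * mo H ⟨y, hyH⟩) (hyo : Odd (orderOf (mo H ⟨y, hyH⟩)))
    (h24 : Nat.card (centralizer ({hs.zb} : Set (H ⧸ Cfsg.oddCore H))) = 24)
    (h36 : Nat.card (centralizer ({mo H ⟨y, hyH⟩} : Set (H ⧸ Cfsg.oddCore H))) ≤ 36) :
    Nat.card {v : G // ∃ g ∈ H, g * c.d.z * g⁻¹ = v ∧ Commute (g * y * g⁻¹) y} ≤ 75 := by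
  set yb := mo H ⟨y, hyH⟩ with hyb
  set Cz := centralizer ({hs.zb} : Set (H ⧸ Cfsg.oddCore H))
  set V := {v : G // ∃ g ∈ H, g * c.d.z * g⁻¹ = v ∧ Commute (g * y * g⁻¹) y}
  choose g hgH hgv hgc using fun v : V => v.2
  have hpow : ∀ x ∈ Cz, ∃ i : ℤ, x * yb * x⁻¹ = yb ^ i := by
    intro x hx
    have hxz := mem_centralizer_singleton_iff.1 hx
    have h1 : x * yb * x⁻¹ * hs.zb = hs.zb * (x * yb * x⁻¹) :=
      (((show Commute x hs.zb from hxz).mul_left hyz).mul_left (Commute.inv_left hxz)).eq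
    obtain ⟨i, hi⟩ := hgen (hT _ h1 (by rw [← MulAut.conj_apply, MulEquiv.orderOf_eq]; exact hyo))
    exact ⟨i, hi.symm⟩
  let f : V × Cz → {x : H ⧸ Cfsg.oddCore H // x * yb * x⁻¹ * yb = yb * (x * yb * x⁻¹)} := fun p =>
    ⟨mo H ⟨g p.1, hgH p.1⟩ * (p.2 : H ⧸ Cfsg.oddCore H), by
      obtain ⟨i, hi⟩ := hpow _ p.2.2
      set x := mo H ⟨g p.1, hgH p.1⟩ with hx
      have e : x * p.2 * yb * (x * p.2)⁻¹ = (x * yb * x⁻¹) ^ i := by
        rw [conj_zpow, ← hi]; group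
      rw [e]
      refine (Commute.zpow_left ?_ i).eq
      show x * yb * x⁻¹ * yb = yb * (x * yb * x⁻¹)
      simp only [hx, hyb, ← map_inv, ← map_mul]
      exact congrArg _ (Subtype.ext (hgc p.1).eq)⟩
  have hf : Function.Injective f := by
    rintro ⟨v, k⟩ ⟨v', k'⟩ e
    have e1 : mo H ⟨g v, hgH v⟩ * (k : H ⧸ Cfsg.oddCore H) = mo H ⟨g v', hgH v'⟩ * k' :=
      congrArg Subtype.val e
    have hk := mem_centralizer_singleton_iff.1 k.2
    have hk' := mem_centralizer_singleton_iff.1 k'.2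
    set w : H := (⟨g v', hgH v'⟩ : H)⁻¹ * ⟨g v, hgH v⟩ with hw
    have hwC : (w : G) ∈ c.C := by
      rw [hs.mem_C_iff]
      have : mo H w = (k' : H ⧸ Cfsg.oddCore H) * (k : H ⧸ Cfsg.oddCore H)⁻¹ := by
        rw [hw, map_mul, map_inv, eq_mul_inv_iff_mul_eq, mul_assoc, e1, inv_mul_cancel_left]
      rw [this]
      exact ((show Commute (k' : H ⧸ Cfsg.oddCore H) hs.zb from hk').mul_left
        (Commute.inv_left hk)).eq
    have h2 := c.mem_C.1 hwC
    have hvv : v = v' := Subtype.ext (by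
      rw [← hgv v, ← hgv v']
      calc g v * c.d.z * (g v)⁻¹ = g v' * (((g v')⁻¹ * g v) * c.d.z) * (g v)⁻¹ := by group
        _ = g v' * (c.d.z * ((g v')⁻¹ * g v)) * (g v)⁻¹ := by rw [show (g v')⁻¹ * g v * c.d.z = c.d.z * ((g v')⁻¹ * g v) from h2]
        _ = g v' * c.d.z * (g v')⁻¹ := by group)
    subst hvv
    exact Prod.ext rfl (Subtype.ext (mul_left_cancel e1))
  have h := (Nat.card_le_card_of_injective f hf).trans (card_le_div yb 36 h36)
  rw [Nat.card_prod, h24] at h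
  omega

end SecHyp

namespace SecHyp

variable (hs : c.SecHyp ha H)

include hs

theorem inv_clause {T : Subgroup G} {TL : Subgroup (H ⧸ Cfsg.oddCore H)}
    (hT : ∀ y, y ∈ T ↔ y ∈ H ∧ y ∈ c.U ∧ a * y * a⁻¹ = y⁻¹)
    (hmem : ∀ y : H, (y : G) ∈ c.U → a * (y : G) * a⁻¹ = (y : G)⁻¹ → mo H y ∈ TL)
    (hinv : ∀ w : H, (w : G) * (w : G) = 1 → mo H w * hs.zb = hs.zb * mo H w → ∀ x ∈ TL, x ≠ 1 →
      Odd (orderOf x) → mo H w * x * (mo H w)⁻¹ = x⁻¹ → ∀ x' ∈ TL, mo H w * x' * (mo H w)⁻¹ = x'⁻¹) :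
    ∀ w ∈ H ⊓ c.C, w * w = 1 → ∀ y ∈ T, y ≠ 1 → w * y * w⁻¹ = y⁻¹ → ∀ y' ∈ T,
      ∃ o ∈ Cfsg.oddCore H, w * y' * w⁻¹ * y' = (o : G) := by
  intro w hw hww y hy hy1 hwy y' hy'
  obtain ⟨h1, h2, -⟩ := hs.mo_T ((hT y).1 hy) hy1
  obtain ⟨hy'H, hy'U, hy'a⟩ := (hT y').1 hy'
  obtain ⟨hyH, hyU, hya⟩ := (hT y).1 hy
  set wH : H := ⟨w, hw.1⟩
  have h := hinv wH hww ((hs.mem_C_iff wH).1 hw.2) _ (hmem ⟨y, hyH⟩ hyU hya) h1 h2
    (by rw [← map_inv, ← map_mul, ← map_mul, ← map_inv]; exact congrArg _ (Subtype.ext hwy))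
    _ (hmem ⟨y', hy'H⟩ hy'U hy'a)
  refine ⟨wH * ⟨y', hy'H⟩ * wH⁻¹ * ⟨y', hy'H⟩, (mo_ker _).1 ?_, rfl⟩
  rw [map_mul, map_mul, map_mul, map_inv, h, inv_mul_cancel]

theorem socle_clauses {L : Subgroup (H ⧸ Cfsg.oddCore H)} (hf : SocleFacts (H ⧸ Cfsg.oddCore H) L)
    (hzL : hs.zb ∈ L) (haL : hs.ab ∈ L)
    {TL : Subgroup (H ⧸ Cfsg.oddCore H)} (hcyc : IsCyclic TL) (hzT : hs.zb ∈ TL)
    (hcard : 2 * Nat.card TL = Nat.card (L ⊓ centralizer ({hs.zb} : Set _) : Subgroup _))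
    (hodd : ∀ x ∈ L, x * hs.zb = hs.zb * x → Odd (orderOf x) → x ∈ TL)
    (hrot : ∀ b g, b * b = 1 → b ≠ 1 → b ≠ hs.zb → b * hs.zb = hs.zb * b → g * hs.zb = hs.zb * g →
      b * (g * b * g⁻¹) ∈ TL)
    (hor : ∀ w, orderOf w = 2 → w * hs.zb = hs.zb * w →
      (∀ x ∈ TL, w * x = x * w) ∨ (∀ x ∈ TL, w * x * w⁻¹ = x⁻¹)) :
    ∃ T : Subgroup G, IsCyclic T ∧ (∀ y, y ∈ T ↔ y ∈ H ∧ y ∈ c.U ∧ a * y * a⁻¹ = y⁻¹) ∧
      4 * Nat.card T ≤ Nat.card (L ⊓ centralizer ({hs.zb} : Set _) : Subgroup _) ∧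
      2 * (centralizer ({a} : Set G)).relIndex (H ⊓ c.C) ≤
        Nat.card (L ⊓ centralizer ({hs.zb} : Set _) : Subgroup _) ∧
      (∀ w ∈ H ⊓ c.C, w * w = 1 → ∀ y ∈ T, y ≠ 1 → w * y * w⁻¹ = y⁻¹ → ∀ y' ∈ T,
        ∃ o ∈ Cfsg.oddCore H, w * y' * w⁻¹ * y' = (o : G)) ∧
      ((Nat.card (L ⊓ centralizer ({hs.zb} : Set _) : Subgroup _) - 1) *
          (Nat.card (L ⊓ centralizer ({hs.zb} : Set _) : Subgroup _) - 2) ≤ 2 * c.C.relIndex H ∧
        ∀ y ∈ T, y ≠ 1 → ∀ g ∈ H, Commute (g * y * g⁻¹) y → g ∈ c.C) := by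
  haveI := hf.normal
  set X := H ⧸ Cfsg.oddCore H
  have hzo : orderOf hs.zb = 2 := invol_mo hs.z_ord
  have hao : orderOf hs.ab = 2 := invol_mo hs.a_ord
  have hmem : ∀ y : H, (y : G) ∈ c.U → a * (y : G) * a⁻¹ = (y : G)⁻¹ → mo H y ∈ TL := by
    intro y hyU hya
    have ho : Odd (orderOf (mo H y)) := by
      refine Odd.of_dvd_nat ?_ (orderOf_map_dvd _ _)
      rw [← Subgroup.orderOf_coe]; exact c.odd_of_mem_U hyU
    refine hodd _ (hf.inverted_mem hs.ab _ (sq_one hao) ho ?_) ((hs.mem_C_iff y).1 (c.U_le hyU)) ho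
    rw [← map_inv, ← map_mul, ← map_mul, ← map_inv]
    exact congrArg _ (Subtype.ext hya)
  obtain ⟨T, hTc, hT, hTo, hTd⟩ := hs.exists_T hcyc hmem
  refine ⟨T, hTc, hT, ?_, ?_, hs.inv_clause hT hmem ?_, ?_, ?_⟩
  · have h2 : 2 ∣ Nat.card TL := by
      have h := Subgroup.orderOf_dvd_natCard _ hzT
      rwa [hzo] at h
    have := Nat.le_of_dvd Nat.card_pos ((Nat.coprime_two_left.2 hTo).mul_dvd_of_dvd_of_dvd h2 hTd)
    exact le_trans (by omega : 4 * Nat.card T ≤ 2 * Nat.card TL) hcard.le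
  · rw [← hcard]
    refine Nat.mul_le_mul_left 2 ((hs.orbit_le (Set.range fun x : TL => hs.ab * x) ?_).trans
      (Finite.card_range_le _))
    intro g hg
    refine ⟨⟨hs.ab * (mo H g * hs.ab * (mo H g)⁻¹), hrot _ _ (sq_one hao) (fun e => ?_) hs.za_ne
      hs.za_comm.symm hg⟩, ?_⟩
    · rw [e, orderOf_one] at hao; omega
    · show hs.ab * (hs.ab * (mo H g * hs.ab * (mo H g)⁻¹)) = _
      rw [← mul_assoc, sq_one hao, one_mul]
  · intro w hww hwz x hx hx1 hxo hwx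
    have hne : x ≠ x⁻¹ := fun e => hx1 (eq_one_of_sq_odd (mul_eq_one_iff_eq_inv.2 e) hxo)
    have hw2 : orderOf (mo H w) = 2 := by
      refine Invol.order_two_of_sq ?_ fun e => ?_
      · rw [← map_mul, ← map_one (mo H)]; exact congrArg _ (Subtype.ext hww)
      · rw [e, one_mul, inv_one, mul_one] at hwx
        exact hne hwx
    rcases hor _ hw2 hwz with h | h
    · rw [h x hx, mul_inv_cancel_right] at hwx
      exact absurd hwx hne
    · exact h
  · refine (hf.many _ hzL hzo).trans (Nat.mul_le_mul_left 2 ?_)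
    rw [hs.relIndex_C]
    exact relIndex_inf_le_index _ _
  · intro y hy hy1 g hgH hc
    obtain ⟨hyH, hyU, hya⟩ := (hT y).1 hy
    obtain ⟨h1, h2, h3⟩ := hs.mo_T ((hT y).1 hy) hy1
    set x := mo H ⟨y, hyH⟩
    set gb := mo H ⟨g, hgH⟩ with hgb
    have hxL : x ∈ L := hf.inverted_mem hs.ab x (sq_one hao) h2 (by
      rw [← map_inv, ← map_mul, ← map_mul, ← map_inv]; exact congrArg _ (Subtype.ext hya))
    refine (hs.mem_C_iff ⟨g, hgH⟩).2 ?_
    set z' := gb * hs.zb * gb⁻¹ with hz'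
    set x' := gb * x * gb⁻¹ with hx'
    have hz'o : orderOf z' = 2 := by
      rw [hz', ← MulAut.conj_apply, MulEquiv.orderOf_eq]; exact hzo
    have hx'o : Odd (orderOf x') := by rw [hx', ← MulAut.conj_apply, MulEquiv.orderOf_eq]; exact h2
    have hz'L : z' ∈ L := hf.normal.conj_mem _ hzL gb
    have hxx' : x * x' = x' * x := by
      simp only [hx', hgb, x, ← map_inv, ← map_mul]
      exact congrArg _ (Subtype.ext hc.eq.symm)
    have hz'x' : z' * x' = x' * z' := by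
      rw [hz', hx', conj_mul, conj_mul, h3]
    have hz'x : z' * x = x * z' := hf.torus z' x' x hz'o (hf.normal.conj_mem _ hxL gb)
      (fun e => h1 (conj_eq_one_iff.1 e)) hx'o hz'x' hxL hxx'
    have hzz' : hs.zb * z' = z' * hs.zb := hf.torus hs.zb x z' hzo hxL h1 h2 h3.symm hz'L hz'x
    by_contra hno
    exact h1 (hf.klein_cent hs.zb z' x hzL hz'L hzo hz'o (fun e => hno (mul_inv_eq_iff_eq_mul.1 e.symm))
      hzz' hxL h2 h3.symm hz'x)

theorem concl_socle {L : Subgroup (H ⧸ Cfsg.oddCore H)} (hf : SocleFacts (H ⧸ Cfsg.oddCore H) L)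
    (hzL : hs.zb ∈ L) (haL : hs.ab ∈ L)
    {TL : Subgroup (H ⧸ Cfsg.oddCore H)} (hcyc : IsCyclic TL) (hzT : hs.zb ∈ TL)
    (hcard : 2 * Nat.card TL = Nat.card (L ⊓ centralizer ({hs.zb} : Set _) : Subgroup _))
    (hodd : ∀ x ∈ L, x * hs.zb = hs.zb * x → Odd (orderOf x) → x ∈ TL)
    (hrot : ∀ b g, b * b = 1 → b ≠ 1 → b ≠ hs.zb → b * hs.zb = hs.zb * b → g * hs.zb = hs.zb * g →
      b * (g * b * g⁻¹) ∈ TL)
    (hor : ∀ w, orderOf w = 2 → w * hs.zb = hs.zb * w →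
      (∀ x ∈ TL, w * x = x * w) ∨ (∀ x ∈ TL, w * x * w⁻¹ = x⁻¹)) :
    c.SecData a H := by
  obtain ⟨T, h1, h2, h3, h4, h5, h6⟩ := hs.socle_clauses hf hzL haL hcyc hzT hcard hodd hrot hor
  exact ⟨T, _, h1, h2, h3, h4, h5, Or.inl h6⟩

theorem seven_clauses {TL : Subgroup (H ⧸ Cfsg.oddCore H)} (hcyc : IsCyclic TL) (h3 : Nat.card TL = 3)
    (hodd : ∀ x, x * hs.zb = hs.zb * x → Odd (orderOf x) → x ∈ TL)
    (h24 : Nat.card (centralizer ({hs.zb} : Set (H ⧸ Cfsg.oddCore H))) = 24)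
    (h36 : ∀ x : H ⧸ Cfsg.oddCore H, x ≠ 1 → Odd (orderOf x) →
      Nat.card (centralizer ({x} : Set (H ⧸ Cfsg.oddCore H))) ≤ 36)
    (hX : Nat.card (H ⧸ Cfsg.oddCore H) = 2520) :
    ∃ T : Subgroup G, IsCyclic T ∧ (∀ y, y ∈ T ↔ y ∈ H ∧ y ∈ c.U ∧ a * y * a⁻¹ = y⁻¹) ∧
      4 * Nat.card T ≤ 12 ∧ 2 * (centralizer ({a} : Set G)).relIndex (H ⊓ c.C) ≤ 12 ∧
      (∀ w ∈ H ⊓ c.C, w * w = 1 → ∀ y ∈ T, y ≠ 1 → w * y * w⁻¹ = y⁻¹ → ∀ y' ∈ T,
        ∃ o ∈ Cfsg.oddCore H, w * y' * w⁻¹ * y' = (o : G)) ∧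
      (c.C.relIndex H = 105 ∧ ∀ y ∈ T, y ≠ 1 →
        Nat.card {v : G // ∃ g ∈ H, g * c.d.z * g⁻¹ = v ∧ Commute (g * y * g⁻¹) y} ≤ 75) := by
  set X := H ⧸ Cfsg.oddCore H
  have hgen : ∀ x ∈ TL, x ≠ 1 → TL ≤ zpowers x := by
    intro x hx hx1
    refine (Subgroup.eq_of_le_of_card_ge (zpowers_le.2 hx) ?_).ge
    have hd : Nat.card (zpowers x) ∣ 3 := h3 ▸ Subgroup.card_dvd_of_le (zpowers_le.2 hx)
    rcases (Nat.dvd_prime Nat.prime_three).1 hd with e | e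
    · rw [Nat.card_zpowers, orderOf_eq_one_iff] at e; exact absurd e hx1
    · omega
  have hmem : ∀ y : H, (y : G) ∈ c.U → a * (y : G) * a⁻¹ = (y : G)⁻¹ → mo H y ∈ TL := by
    intro y hyU _
    refine hodd _ ((hs.mem_C_iff y).1 (c.U_le hyU)) (Odd.of_dvd_nat ?_ (orderOf_map_dvd _ _))
    rw [← Subgroup.orderOf_coe]; exact c.odd_of_mem_U hyU
  obtain ⟨T, hTc, hT, -, hTd⟩ := hs.exists_T hcyc hmem
  refine ⟨T, hTc, hT, ?_, ?_, hs.inv_clause hT hmem ?_, ?_, ?_⟩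
  · have := Nat.le_of_dvd (by omega) (h3 ▸ hTd)
    omega
  · set S : Set X := {w | ∃ x ∈ centralizer ({hs.zb} : Set X), x * hs.ab * x⁻¹ = w} with hS
    refine le_trans (Nat.mul_le_mul_left 2 (hs.orbit_le S fun g hg =>
      ⟨_, mem_centralizer_singleton_iff.2 hg, rfl⟩)) ?_
    set V := closure ({hs.zb, hs.ab} : Set X) with hV
    have hV4 : Nat.card V = 4 :=
      (klein_closure (invol_mo hs.z_ord) (invol_mo hs.a_ord) hs.za_ne.symm hs.za_comm).card_four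
    have hVC : V ≤ centralizer ({hs.zb} : Set X) ⊓ centralizer ({hs.ab} : Set X) := by
      rw [hV, closure_le]
      rintro x (rfl | rfl)
      · exact ⟨mem_centralizer_singleton_iff.2 rfl, mem_centralizer_singleton_iff.2 hs.za_comm⟩
      · exact ⟨mem_centralizer_singleton_iff.2 hs.za_comm.symm, mem_centralizer_singleton_iff.2 rfl⟩
    choose x hx hxw using fun w : S => w.2
    let f : S × V → centralizer ({hs.zb} : Set X) := fun p => ⟨x p.1 * p.2, mul_mem (hx p.1) (hVC p.2.2).1⟩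
    have hf : Function.Injective f := by
      rintro ⟨w, v⟩ ⟨w', v'⟩ e
      have e1 : x w * (v : X) = x w' * v' := congrArg Subtype.val e
      have key : ∀ (u : S) (k : V), x u * k * hs.ab * (x u * k)⁻¹ = u := fun u k => by
        rw [mul_assoc (x u), show (k : X) * hs.ab = hs.ab * k from
          mem_centralizer_singleton_iff.1 (hVC k.2).2, ← hxw u]
        group
      have hw : w = w' := Subtype.ext (by rw [← key w v, e1, key w' v'])
      subst hw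
      exact Prod.ext rfl (Subtype.ext (mul_left_cancel e1))
    have := Nat.card_le_card_of_injective f hf
    rw [Nat.card_prod, hV4, h24] at this
    omega
  · intro w _ hwz x hx hx1 _ hwx x' hx'
    obtain ⟨i, rfl⟩ := hgen x hx hx1 hx'
    show mo H w * x ^ i * (mo H w)⁻¹ = (x ^ i)⁻¹
    rw [← conj_zpow, hwx, inv_zpow]
  · rw [hs.relIndex_C]
    have := (centralizer ({hs.zb} : Set X)).card_mul_index
    rw [h24, hX] at this
    omega
  · intro y hy hy1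
    obtain ⟨hyH, hyU, hya⟩ := (hT y).1 hy
    obtain ⟨h1, h2, h3⟩ := hs.mo_T ((hT y).1 hy) hy1
    exact hs.seven_count hyH hodd (hgen _ (hmem ⟨y, hyH⟩ hyU hya) h1) h3 h2 h24 (h36 _ h1 h2)

theorem concl_seven {TL : Subgroup (H ⧸ Cfsg.oddCore H)} (hcyc : IsCyclic TL) (h3 : Nat.card TL = 3)
    (hodd : ∀ x, x * hs.zb = hs.zb * x → Odd (orderOf x) → x ∈ TL)
    (h24 : Nat.card (centralizer ({hs.zb} : Set (H ⧸ Cfsg.oddCore H))) = 24)
    (h36 : ∀ x : H ⧸ Cfsg.oddCore H, x ≠ 1 → Odd (orderOf x) →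
      Nat.card (centralizer ({x} : Set (H ⧸ Cfsg.oddCore H))) ≤ 36)
    (hX : Nat.card (H ⧸ Cfsg.oddCore H) = 2520) : c.SecData a H := by
  obtain ⟨T, h1, h2, h4, h5, h6, h7⟩ := hs.seven_clauses hcyc h3 hodd h24 h36 hX
  exact ⟨T, 12, h1, h2, h4, h5, h6, Or.inr ⟨rfl, h7⟩⟩

end SecHyp

end Core

end Cfsg.Agent.GW
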