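import Cfsg.Agent.Lib.GW.TorusFacts
import Cfsg.Agent.Lib.GW.OddInvPSL

/-!
Conjugates of an involution whose odd centraliser generates a subgroup of odd order with that of the
involution: they come from the points fixed on the projective line.
-/

set_option autoImplicit false
set_option linter.style.haveILetI false
set_option linter.unusedSectionVars false

namespace Cfsg.Agent.GW

open Matrix Cfsg.Agent.AutPSL

namespace Pairs

variable {F : Type} [Field F]

/-- The matrix fixes the point `(1 : 0)`, respectively `(x : 1)`. -/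
def Fixes (g : Matrix (Fin 2) (Fin 2) F) : Option F → Prop
  | none => g 1 0 = 0
  | some x => g 1 0 * x ^ 2 + (g 1 1 - g 0 0) * x - g 0 1 = 0

/-- The involutions fixing a point, normalised. -/
def invMat : Option F → F → Matrix (Fin 2) (Fin 2) F
  | none, c => !![1, c; 0, -1]
  | some x, c => !![c * x - 1, x * (2 - c * x); c, 1 - c * x]

theorem invMat_det (p : Option F) (c : F) : (invMat p c).det = -1 := by
  cases p <;> simp [invMat, Matrix.det_fin_two] <;> ring

theorem at_most_two {g : Matrix (Fin 2) (Fin 2) F}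
    (hg : g 0 1 ≠ 0 ∨ g 1 0 ≠ 0 ∨ g 0 0 ≠ g 1 1) {p q r : Option F} (hp : Fixes g p) (hq : Fixes g q)
    (hr : Fixes g r) (hpq : p ≠ q) (hpr : p ≠ r) (hqr : q ≠ r) : False := by
  have key : ∀ x y : F, x ≠ y → Fixes g (some x) → Fixes g (some y) →
      g 1 0 * (x + y) + (g 1 1 - g 0 0) = 0 := by
    intro x y hxy hx hy
    simp only [Fixes] at hx hy
    refine (mul_eq_zero.1 (show (x - y) * (g 1 0 * (x + y) + (g 1 1 - g 0 0)) = 0 by
      linear_combination hx - hy)).resolve_left (sub_ne_zero.2 hxy)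
  have kill : g 1 0 = 0 → ∀ x y : F, x ≠ y → Fixes g (some x) → Fixes g (some y) → False := by
    intro hc x y hxy hx hy
    have hd : g 1 1 - g 0 0 = 0 := by linear_combination key x y hxy hx hy - (x + y) * hc
    simp only [Fixes] at hx
    rcases hg with e | e | e
    · exact e (by linear_combination -hx + x ^ 2 * hc + x * hd)
    · exact e hc
    · exact e (by linear_combination -hd)
  rcases p with _ | x <;> rcases q with _ | y <;> rcases r with _ | w
  all_goals first
    | exact hpq rfl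
    | exact hpr rfl
    | exact hqr rfl
    | skip
  · exact kill hp y w (fun e => hqr (congrArg some e)) hq hr
  · exact kill hq x w (fun e => hpr (congrArg some e)) hp hr
  · exact kill hr x y (fun e => hpq (congrArg some e)) hp hq
  · have hxy : x ≠ y := fun e => hpq (congrArg some e)
    have hxw : x ≠ w := fun e => hpr (congrArg some e)
    have hyw : y ≠ w := fun e => hqr (congrArg some e)
    have h1 := key x y hxy hp hq
    have h2 := key x w hxw hp hr
    have hc : g 1 0 = 0 := (mul_eq_zero.1 (show (y - w) * g 1 0 = 0 by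
      linear_combination h1 - h2)).resolve_left (sub_ne_zero.2 hyw)
    exact kill hc x y hxy hp hq

theorem card_fixes_le [Fintype F] {g : Matrix (Fin 2) (Fin 2) F}
    (hg : g 0 1 ≠ 0 ∨ g 1 0 ≠ 0 ∨ g 0 0 ≠ g 1 1) : Nat.card {p : Option F // Fixes g p} ≤ 2 := by
  classical
  rw [Nat.card_eq_fintype_card, Fintype.card_subtype]
  by_contra hlt
  obtain ⟨p, q, r, hp, hq, hr, h1, h2, h3⟩ := Finset.two_lt_card_iff.1 (Nat.lt_of_not_le hlt)
  rw [Finset.mem_filter] at hp hq hr
  exact at_most_two hg hp.2 hq.2 hr.2 h1 h2 h3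

theorem fixes_of_commute {g k : Matrix (Fin 2) (Fin 2) F}
    (hg : g 0 1 ≠ 0 ∨ g 1 0 ≠ 0 ∨ g 0 0 ≠ g 1 1) (hk : k * g = g * k) {p : Option F}
    (hp : Fixes g p) : Fixes k p := by
  simp only [← Matrix.ext_iff, Fin.forall_fin_two, Matrix.mul_apply, Fin.sum_univ_two] at hk
  obtain ⟨⟨e00, e01⟩, e10, e11⟩ := hk
  rcases p with _ | x <;> simp only [Fixes] at hp ⊢
  · rcases hg with e | e | e
    · apply mul_left_cancel₀ e; grind
    · exact absurd hp e
    · apply mul_left_cancel₀ (sub_ne_zero.2 e); grind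
  · rcases hg with e | e | e
    · apply mul_left_cancel₀ e; grind
    · apply mul_left_cancel₀ e; grind
    · apply mul_left_cancel₀ (sub_ne_zero.2 e); grind

theorem normal_form {k : Matrix (Fin 2) (Fin 2) F} (htr : k 1 1 = -k 0 0) (hdet : k.det ≠ 0)
    {p : Option F} (hp : Fixes k p) : ∃ (l : Fˣ) (c : F), k = (l : F) • invMat p c := by
  rw [Matrix.det_fin_two] at hdet
  rcases p with _ | x <;> simp only [Fixes] at hp
  · have h0 : k 0 0 ≠ 0 := fun e => hdet (by rw [e, hp]; ring)
    refine ⟨Units.mk0 _ h0, k 0 1 / k 0 0, ?_⟩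
    ext i j
    fin_cases i <;> fin_cases j <;> simp [invMat, htr, hp, mul_div_cancel₀ _ h0]
  · have hl : k 1 0 * x + k 1 1 ≠ 0 := fun e => hdet (by
      grind)
    refine ⟨Units.mk0 _ hl, k 1 0 / (k 1 0 * x + k 1 1), ?_⟩
    have hc := mul_div_cancel₀ (k 1 0) hl
    generalize k 1 0 / (k 1 0 * x + k 1 1) = c at hc
    ext i j
    fin_cases i <;> fin_cases j <;> simp [invMat] <;> grind

variable [DecidableEq F]

/-- The fixed point of a matrix with a repeated eigenvalue. -/
def axisPt (M : Matrix (Fin 2) (Fin 2) F) : Option F :=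
  if M 1 0 = 0 then none else some ((M 0 0 - M 1 1) / (2 * M 1 0))

/-- A matrix normalising the commutative algebra of a non-scalar `M`: its square centralises `M`, or it
fixes the point of `M`. -/
theorem normaliser_cases (h2 : (2 : F) ≠ 0) {g m : GL (Fin 2) F}
    (hm : m.1 0 1 ≠ 0 ∨ m.1 1 0 ≠ 0 ∨ m.1 0 0 ≠ m.1 1 1)
    (hc : (g * m * g⁻¹) * m = m * (g * m * g⁻¹)) :
    ((m.1 0 0 - m.1 1 1) ^ 2 + 4 * (m.1 0 1 * m.1 1 0) ≠ 0 → g * g * m = m * (g * g)) ∧
      ((m.1 0 0 - m.1 1 1) ^ 2 + 4 * (m.1 0 1 * m.1 1 0) = 0 → Fixes g.1 (axisPt m.1)) := by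
  obtain ⟨m', hm'⟩ : ∃ m' : GL (Fin 2) F, m' = g * m * g⁻¹ := ⟨_, rfl⟩
  rw [← hm'] at hc
  have hgm : g.1 * m.1 = m'.1 * g.1 := by
    rw [← Units.val_mul, ← Units.val_mul, hm', inv_mul_cancel_right]
  have htr : m'.1.trace = m.1.trace := by
    rw [hm', Units.val_mul, Units.val_mul, trace_units_conj]
  have hdet : m'.1.det = m.1.det := by
    rw [hm', Units.val_mul, Units.val_mul, det_units_conj]
  have hc' := congrArg Units.val hc
  rw [Units.val_mul, Units.val_mul] at hc'
  clear hc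
  rw [Matrix.trace_fin_two, Matrix.trace_fin_two] at htr
  rw [Matrix.det_fin_two, Matrix.det_fin_two] at hdet
  simp only [← Matrix.ext_iff, Fin.forall_fin_two, Matrix.mul_apply, Fin.sum_univ_two] at hc'
  obtain ⟨⟨c00, c01⟩, c10, c11⟩ := hc'
  obtain ⟨b, b01, b10, bd⟩ : ∃ b : F, m'.1 0 1 = b * m.1 0 1 ∧ m'.1 1 0 = b * m.1 1 0 ∧
      m'.1 0 0 - m'.1 1 1 = b * (m.1 0 0 - m.1 1 1) := by
    rcases hm with e | e | e
    · refine ⟨m'.1 0 1 / m.1 0 1, (div_mul_cancel₀ _ e).symm, ?_, ?_⟩ <;>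
        rw [div_mul_eq_mul_div, eq_div_iff e] <;> grind
    · refine ⟨m'.1 1 0 / m.1 1 0, ?_, (div_mul_cancel₀ _ e).symm, ?_⟩ <;>
        rw [div_mul_eq_mul_div, eq_div_iff e] <;> grind
    · have e' := sub_ne_zero.2 e
      refine ⟨(m'.1 0 0 - m'.1 1 1) / (m.1 0 0 - m.1 1 1), ?_, ?_, (div_mul_cancel₀ _ e').symm⟩ <;>
        rw [div_mul_eq_mul_div, eq_div_iff e'] <;> grind
  refine ⟨fun hD => ?_, fun hD => ?_⟩
  · have hb : b * b = 1 := by
      have h0 : (b * b - 1) * ((m.1 0 0 - m.1 1 1) ^ 2 + 4 * (m.1 0 1 * m.1 1 0)) = 0 := by grind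
      exact sub_eq_zero.1 ((mul_eq_zero.1 h0).resolve_right hD)
    rcases mul_self_eq_one_iff.1 hb with rfl | rfl
    · have e : m'.1 = m.1 := by
        ext i j
        fin_cases i <;> fin_cases j <;> first
          | (simpa using b01)
          | (simpa using b10)
          | (apply mul_left_cancel₀ h2; simp; grind)
      have h : g * m = m * g := Units.ext (by rw [Units.val_mul, Units.val_mul, hgm, e])
      exact ((show Commute g m from h).mul_left h).eq
    · have e : m'.1 = (m.1 0 0 + m.1 1 1) • (1 : Matrix (Fin 2) (Fin 2) F) - m.1 := by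
        ext i j
        fin_cases i <;> fin_cases j <;> first
          | (simp [b01]; done)
          | (simp [b10]; done)
          | (apply mul_left_cancel₀ h2; simp; grind)
      refine Units.ext ?_
      simp only [Units.val_mul]
      rw [mul_assoc, hgm, ← mul_assoc]
      nth_rewrite 1 [e]
      simp only [mul_sub, hgm, e, sub_mul, mul_smul_comm, smul_mul_assoc, mul_one, one_mul,
        sub_sub_cancel, mul_assoc]
  · have hb : b ≠ 0 := by
      intro hb
      have e : m'.1 = m'.1 0 0 • (1 : Matrix (Fin 2) (Fin 2) F) := by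
        ext i j
        fin_cases i <;> fin_cases j <;> simp <;> grind
      have e2 : m.1 = g⁻¹.1 * m'.1 * g.1 := by
        rw [mul_assoc, ← hgm, Units.inv_mul_cancel_left]
      rw [e, mul_smul_comm, mul_one, smul_mul_assoc, Units.inv_mul] at e2
      rcases hm with h | h | h <;> exact h (by rw [e2]; simp)
    simp only [← Matrix.ext_iff, Fin.forall_fin_two, Matrix.mul_apply, Fin.sum_univ_two] at hgm
    obtain ⟨⟨g00, g01⟩, g10, g11⟩ := hgm
    unfold axisPt
    split_ifs with h0
    · show g.1 1 0 = 0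
      have hd : m.1 0 0 = m.1 1 1 := by
        refine sub_eq_zero.1 (pow_eq_zero_iff (two_ne_zero) |>.1 ?_)
        linear_combination hD - 4 * m.1 0 1 * h0
      have h01 : m.1 0 1 ≠ 0 := by tauto
      have hd' : m'.1 1 1 = m.1 1 1 := by apply mul_left_cancel₀ h2; grind
      apply mul_left_cancel₀ h01
      grind
    · show g.1 1 0 * _ ^ 2 + (g.1 1 1 - g.1 0 0) * _ - g.1 0 1 = 0
      set x := (m.1 0 0 - m.1 1 1) / (2 * m.1 1 0) with hx
      have hd : m.1 0 0 - m.1 1 1 = 2 * m.1 1 0 * x := (mul_div_cancel₀ _ (mul_ne_zero h2 h0)).symm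
      clear_value x
      have h01 : m.1 0 1 = -(m.1 1 0 * x ^ 2) := by
        apply mul_left_cancel₀ h0; apply mul_left_cancel₀ h2; apply mul_left_cancel₀ h2; grind
      have h11 : m'.1 1 1 = m.1 1 1 + (1 - b) * (m.1 1 0 * x) := by
        apply mul_left_cancel₀ h2; grind
      apply mul_left_cancel₀ (mul_ne_zero hb h0)
      grind

variable [Fintype F]

local notation "PSL2" => Matrix.ProjectiveSpecialLinearGroup (Fin 2) F

omit [DecidableEq F] in
theorem nonscalar_of_sq {h : GL (Fin 2) F} (hh : (semi h 1 : MulAut PSL2) * semi h 1 ≠ 1) :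
    h.1 0 1 ≠ 0 ∨ h.1 1 0 ≠ 0 ∨ h.1 0 0 ≠ h.1 1 1 := by
  by_contra hno
  push Not at hno
  obtain ⟨e1, e2, e3⟩ := hno
  refine hh ?_
  rw [semi_mul', mapGL_one, one_mul, semi_eq_one_iff le_rfl]
  have h00 : h.1 0 0 ≠ 0 := fun e0 =>
    ((Matrix.isUnit_iff_isUnit_det _).1 h.isUnit).ne_zero (by
      rw [Matrix.det_fin_two, ← e3, e0, e1]; ring)
  refine ⟨rfl, Units.mk0 (h.1 0 0 * h.1 0 0) (mul_ne_zero h00 h00), Units.ext ?_⟩
  rw [Units.val_mul, GeneralLinearGroup.coe_scalar, Units.val_mk0]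
  ext i j
  fin_cases i <;> fin_cases j <;> simp [Matrix.mul_apply, Fin.sum_univ_two, e1, e2, ← e3]

omit [DecidableEq F] in
theorem trace_of_sq {h : GL (Fin 2) F} (hh : (semi h 1 : MulAut PSL2) * semi h 1 = 1)
    (h1 : (semi h 1 : MulAut PSL2) ≠ 1) : h.1 1 1 = -h.1 0 0 := by
  rw [semi_mul', mapGL_one, one_mul, semi_eq_one_iff le_rfl] at hh
  obtain ⟨-, c, hc⟩ := hh
  have hc' := congrArg Units.val hc
  rw [Units.val_mul, GeneralLinearGroup.coe_scalar, ← Matrix.ext_iff] at hc'
  simp [Fin.forall_fin_two, Matrix.mul_apply, Fin.sum_univ_two] at hc'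
  obtain ⟨⟨e00, e01⟩, e10, e11⟩ := hc'
  by_contra htr
  have ht : h.1 0 0 + h.1 1 1 ≠ 0 := fun e => htr (by linear_combination e)
  have h01 : h.1 0 1 = 0 := (mul_eq_zero.1 (show h.1 0 1 * (h.1 0 0 + h.1 1 1) = 0 by
    linear_combination e01)).resolve_right ht
  have h10 : h.1 1 0 = 0 := (mul_eq_zero.1 (show h.1 1 0 * (h.1 0 0 + h.1 1 1) = 0 by
    linear_combination e10)).resolve_right ht
  have hd : h.1 0 0 = h.1 1 1 := sub_eq_zero.1 ((mul_eq_zero.1
    (show (h.1 0 0 - h.1 1 1) * (h.1 0 0 + h.1 1 1) = 0 by linear_combination e00 - e11)).resolve_right ht)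
  refine h1 ((semi_eq_one_iff le_rfl).2 ⟨rfl, ?_⟩)
  have h00 : h.1 0 0 ≠ 0 := fun e0 =>
    ((Matrix.isUnit_iff_isUnit_det _).1 h.isUnit).ne_zero (by
      rw [Matrix.det_fin_two, e0, h01]; ring)
  refine ⟨Units.mk0 _ h00, Units.ext (Matrix.ext fun a b => ?_)⟩
  fin_cases a <;> fin_cases b <;> simp [h01, h10, ← hd]

omit [DecidableEq F] in
/-- Commuting in `PGL₂` with an element of order greater than two is commuting in `GL₂`. -/
theorem commute_lift {g h : GL (Fin 2) F} (hh : (semi h 1 : MulAut PSL2) * semi h 1 ≠ 1)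
    (hg : (semi g 1 : MulAut PSL2) * semi h 1 = semi h 1 * semi g 1) : g * h = h * g := by
  rw [semi_mul', semi_mul', mapGL_one, mapGL_one, one_mul, semi_eq_semi le_rfl] at hg
  obtain ⟨-, c, hc⟩ := hg
  by_cases hc1 : c = 1
  · rw [hc, hc1, map_one, one_mul]
  exfalso
  have hdet := congrArg GeneralLinearGroup.det hc
  rw [map_mul, map_mul, map_mul, det_scalar, mul_comm (GeneralLinearGroup.det g),
    eq_comm, mul_eq_right] at hdet
  have hcm : (c : F) = -1 := by
    rcases mul_self_eq_one_iff.1 (show (c : F) * c = 1 by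
      rw [← pow_two, ← Units.val_pow_eq_pow_val, hdet, Units.val_one]) with e | e
    · exact absurd (Units.ext e) hc1
    · exact e
  have hneg : g.1 * h.1 = -(h.1 * g.1) := by
    have := congrArg Units.val hc
    rw [Units.val_mul, Units.val_mul, Units.val_mul, GeneralLinearGroup.coe_scalar, hcm] at this
    rw [this]; ext i j; simp
  have htr : h.1 0 0 + h.1 1 1 = 0 := by
    have h1 : g.1 * h.1 * g⁻¹.1 = -h.1 := by
      rw [hneg, neg_mul, mul_assoc, Units.mul_inv, mul_one]
    have h2 := congrArg Matrix.trace h1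
    rw [trace_units_conj, trace_neg, Matrix.trace_fin_two] at h2
    have h3 : (2 : F) * (h.1 0 0 + h.1 1 1) = 0 := by linear_combination h2
    refine (mul_eq_zero.1 h3).resolve_left fun e => hc1 (Units.ext ?_)
    rw [hcm, Units.val_one]
    linear_combination -e
  refine hh ?_
  rw [semi_mul', mapGL_one, one_mul, semi_eq_one_iff le_rfl]
  have hd : h.1.det ≠ 0 := ((Matrix.isUnit_iff_isUnit_det _).1 h.isUnit).ne_zero
  refine ⟨rfl, Units.mk0 (-h.1.det) (neg_ne_zero.2 hd), Units.ext ?_⟩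
  rw [Units.val_mul, GeneralLinearGroup.coe_scalar, Units.val_mk0]
  ext i j
  fin_cases i <;> fin_cases j <;>
    simp [Matrix.mul_apply, Fin.sum_univ_two, Matrix.det_fin_two] <;> grind

end Pairs

universe u

variable {F : Type} [Field F] [Fintype F]

local notation "PSL2" => Matrix.ProjectiveSpecialLinearGroup (Fin 2) F

/-- Few conjugates of an involution of the socle have an element of their odd centraliser generating,
with a given one of the involution's, a subgroup of odd order. -/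
theorem odd_pairs {X : Type u} [Group X] [Finite X] [IsSimpleGroup PSL2] (h : DihSylow X)
    (hnc : ¬ IsMulCommutative PSL2) (hodd : Odd (Fintype.card F)) (h3 : 3 < Fintype.card F)
    (L : Subgroup X) (hLn : L.Normal) (hLs : IsSimpleGroup L) (hLnc : ¬ IsMulCommutative L)
    (ι : X →* MulAut PSL2) (hι : Function.Injective ι) (hL : L.map ι = Cfsg.Inn PSL2)
    (hfld : ∀ x : X, Odd (orderOf (fldHom (ι x)))) :
    ∀ v z : X, v ∈ L → orderOf v = 2 → z ∈ L → z ≠ 1 → Odd (orderOf z) → v * z = z * v →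
      Nat.card {w : X // ∃ g ∈ L, g * v * g⁻¹ = w ∧
          Odd (Nat.card (Subgroup.closure ({z, g * z * g⁻¹} : Set X)))} ≤
        2 * Nat.card (L ⊓ Subgroup.centralizer ({v} : Set X) : Subgroup X) + 3 := by
  classical
  intro v z hv hvo hz hz1 hzo hvz
  haveI := hLn
  have facts := socleFacts h hnc hodd h3 L hLn hLs hLnc ι hι hL hfld
  have h2 : (2 : F) ≠ 0 := fun e => by
    have hc : CharP F 2 := CharP.ringChar_of_prime_eq_zero Nat.prime_two (by exact_mod_cast e) ▸
      ringChar.charP F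
    obtain ⟨n, -, hn⟩ := FiniteField.card F 2
    rw [hn] at hodd
    exact Nat.not_odd_iff_even.2 (Even.pow_of_ne_zero (by norm_num) n.2.ne') hodd
  have hmemL : ∀ x : X, x ∈ L ↔ ι x ∈ Cfsg.Inn PSL2 := fun x => by
    rw [← hL, Subgroup.mem_map_iff_mem hι]
  have hinn : ∀ x ∈ L, ι x ∈ Cfsg.inndiagPSL 2 F := fun x hx => by
    rw [mem_inndiag_iff_fld]; exact fldHom_inn ((hmemL x).1 hx)
  have hlift : ∀ x ∈ L, ∃ g : GL (Fin 2) F, ι x = AutPSL.conjHom g := fun x hx => by
    obtain ⟨g, hg⟩ := mem_inndiag.1 (hinn x hx)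
    exact ⟨g, hg.trans (AutPSL.conjHom_apply g).symm⟩
  have hsq : ∀ x : X, x ≠ 1 → Odd (orderOf x) → ι x * ι x ≠ 1 := fun x hx1 hxo e =>
    hx1 (eq_one_of_sq_odd (hι (by rw [map_mul, e, map_one])) hxo)
  obtain ⟨G, hG⟩ := hlift z hz
  have hGns : G.1 0 1 ≠ 0 ∨ G.1 1 0 ≠ 0 ∨ G.1 0 0 ≠ G.1 1 1 := by
    refine Pairs.nonscalar_of_sq ?_
    rw [← AutPSL.conjHom_apply, ← hG]
    exact hsq z hz1 hzo
  let f : {p : Option F // Pairs.Fixes G.1 p} × F → MulAut PSL2 := fun pc =>
    semi (GeneralLinearGroup.mkOfDetNeZero (Pairs.invMat pc.1.1 pc.2)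
      (by rw [Pairs.invMat_det]; exact neg_ne_zero.2 one_ne_zero)) 1
  have key : ∀ w : X, w ≠ v → ∀ g ∈ L, g * v * g⁻¹ = w →
      Odd (Nat.card (Subgroup.closure ({z, g * z * g⁻¹} : Set X))) → ∃ pc, f pc = ι w := by
    intro w hwv g hg hgw hHo
    set z' := g * z * g⁻¹ with hz'
    have hwL : w ∈ L := hgw ▸ hLn.conj_mem v hv g
    have hwo : orderOf w = 2 := by rw [← hgw, Invol.order_conj, hvo]
    have hz'L : z' ∈ L := hLn.conj_mem z hz g
    have hz'o : Odd (orderOf z') := by rw [hz', Invol.order_conj]; exact hzo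
    have hz'1 : z' ≠ 1 := fun e => hz1 (conj_eq_one_iff.1 e)
    have hwz' : w * z' = z' * w := by
      rw [← hgw, hz', conj_mul, conj_mul, hvz]
    have hncom : z * z' ≠ z' * z := by
      intro hcom
      have hvz' : v * z' = z' * v := facts.torus v z z' hvo hz hz1 hzo hvz hz'L hcom.symm
      have hvw : v * w = w * v := facts.torus_comm v z' v w hvo hz'L hz'1 hz'o hvz' hv hvz' hwL hwz'
      exact hz'1 (facts.klein_cent v w z' hv hwL hvo hwo hwv.symm hvw hz'L hz'o hvz' hwz')
    set H := Subgroup.closure ({z, z'} : Set X) with hH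
    have hzH : z ∈ H := Subgroup.subset_closure (Set.mem_insert _ _)
    have hz'H : z' ∈ H := Subgroup.subset_closure (Set.mem_insert_of_mem _ rfl)
    have hHL : H ≤ L := by
      rw [hH, Subgroup.closure_le]
      rintro x (rfl | rfl)
      exacts [hz, hz'L]
    obtain ⟨R, hRH, hRne, hRc, hNR⟩ := exists_char_comm hHo fun e =>
      hz1 (Subgroup.mem_bot.1 (e ▸ hzH))
    obtain ⟨⟨r, hrR⟩, hr1⟩ := Subgroup.ne_bot_iff_exists_ne_one.1 hRne
    have hr1' : r ≠ 1 := fun e => hr1 (Subtype.ext e)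
    have hro : Odd (orderOf r) := hHo.of_dvd_nat (Subgroup.orderOf_dvd_natCard _ (hRH hrR))
    have hrsq := hsq r hr1' hro
    obtain ⟨m, hm⟩ := hlift r (hHL (hRH hrR))
    have hmns : m.1 0 1 ≠ 0 ∨ m.1 1 0 ≠ 0 ∨ m.1 0 0 ≠ m.1 1 1 := by
      refine Pairs.nonscalar_of_sq ?_
      rw [← AutPSL.conjHom_apply, ← hm]
      exact hrsq
    obtain ⟨K, hK⟩ := hlift z' hz'L
    have hnorm : ∀ x : X, x ∈ H → ∀ A : GL (Fin 2) F, ι x = AutPSL.conjHom A →
        (A * m * A⁻¹) * m = m * (A * m * A⁻¹) := by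
      intro x hx A hA
      have hc := congrArg ι (show x * r * x⁻¹ * r = r * (x * r * x⁻¹) from
        congrArg Subtype.val (mul_comm'
          (⟨_, ((Subgroup.mem_normalizer_iff.1 (hNR (Subgroup.le_normalizer hx))) r).1 hrR⟩ : R)
          ⟨r, hrR⟩))
      simp only [map_mul, map_inv, hA, hm] at hc
      refine Pairs.commute_lift (by rw [← AutPSL.conjHom_apply, ← hm]; exact hrsq) ?_
      simp only [← AutPSL.conjHom_apply, map_mul, map_inv]
      exact hc
    obtain ⟨hz_ne, hz_eq⟩ := Pairs.normaliser_cases h2 hmns (hnorm z hzH G hG)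
    obtain ⟨hz'_ne, hz'_eq⟩ := Pairs.normaliser_cases h2 hmns (hnorm z' hz'H K hK)
    have hcent : ∀ x : X, Odd (orderOf x) → ∀ A : GL (Fin 2) F, ι x = AutPSL.conjHom A →
        A * A * m = m * (A * A) → x * r = r * x := by
      intro x hxo A hA he
      have h1 : (x * x) * r = r * (x * x) := hι (by
        simp only [map_mul, hA, hm]
        simp only [← map_mul, he])
      obtain ⟨k, hk⟩ := hxo
      have e : x = (x * x) ^ (k + 1) := by
        rw [← pow_two, ← pow_mul, show 2 * (k + 1) = orderOf x + 1 by omega, pow_succ,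
          pow_orderOf_eq_one, one_mul]
      rw [e]
      exact ((show Commute (x * x) r from h1).pow_left _).eq
    have hD : (m.1 0 0 - m.1 1 1) ^ 2 + 4 * (m.1 0 1 * m.1 1 0) = 0 := by
      by_contra hD
      refine hncom (hι ((map_mul ι z z').trans (Eq.trans ?_ (map_mul ι z' z).symm)))
      refine inndiag_centraliser_comm (hinn r (hHL (hRH hrR))) hrsq (hinn z hz) (hinn z' hz'L) ?_ ?_
      · rw [← map_mul, ← map_mul, hcent z hzo G hG (hz_ne hD)]
      · rw [← map_mul, ← map_mul, hcent z' hz'o K hK (hz'_ne hD)]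
    obtain ⟨k, hk⟩ := hlift w hwL
    have hKns : K.1 0 1 ≠ 0 ∨ K.1 1 0 ≠ 0 ∨ K.1 0 0 ≠ K.1 1 1 := by
      refine Pairs.nonscalar_of_sq ?_
      rw [← AutPSL.conjHom_apply, ← hK]
      exact hsq z' hz'1 hz'o
    have hkK : k * K = K * k := by
      refine Pairs.commute_lift (by rw [← AutPSL.conjHom_apply, ← hK]; exact hsq z' hz'1 hz'o) ?_
      rw [← AutPSL.conjHom_apply, ← AutPSL.conjHom_apply, ← hk, ← hK, ← map_mul, ← map_mul, hwz']
    have hfix : Pairs.Fixes k.1 (Pairs.axisPt m.1) :=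
      Pairs.fixes_of_commute hKns (by rw [← Units.val_mul, ← Units.val_mul, hkK]) (hz'_eq hD)
    have htr : k.1 1 1 = -k.1 0 0 := by
      refine Pairs.trace_of_sq (F := F) ?_ ?_
      · rw [← AutPSL.conjHom_apply, ← hk, ← map_mul,
          show w * w = 1 by rw [← pow_two, ← hwo, pow_orderOf_eq_one], map_one]
      · rw [← AutPSL.conjHom_apply, ← hk]
        intro e
        rw [hι (e.trans (map_one ι).symm), orderOf_one] at hwo
        omega
    obtain ⟨l, c, hlc⟩ := Pairs.normal_form htr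
      ((Matrix.isUnit_iff_isUnit_det _).1 k.isUnit).ne_zero hfix
    refine ⟨(⟨_, hz_eq hD⟩, c), ?_⟩
    rw [hk, AutPSL.conjHom_apply]
    show semi _ 1 = _
    conv_rhs => rw [show k = GeneralLinearGroup.scalar (Fin 2) l *
      GeneralLinearGroup.mkOfDetNeZero (Pairs.invMat (Pairs.axisPt m.1) c)
        (by rw [Pairs.invMat_det]; exact neg_ne_zero.2 one_ne_zero) from Units.ext (by
          rw [Units.val_mul, GeneralLinearGroup.coe_scalar, hlc]
          ext i j
          simp [Matrix.diagonal_mul])]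
    rw [semi_scalar_mul]
  set S := {w : X // ∃ g ∈ L, g * v * g⁻¹ = w ∧
          Odd (Nat.card (Subgroup.closure ({z, g * z * g⁻¹} : Set X)))}
  have hS : Nat.card S ≤ 2 * Fintype.card F + 1 := by
    let Φ : S → Option ({p : Option F // Pairs.Fixes G.1 p} × F) := fun s =>
      if hs : s.1 = v then none else some (Classical.choose (key s.1 hs _ s.2.choose_spec.1
        s.2.choose_spec.2.1 s.2.choose_spec.2.2))
    have hΦ : Function.Injective Φ := by
      intro a b e
      simp only [Φ] at e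
      split_ifs at e with ha hb hb
      · exact Subtype.ext (ha.trans hb.symm)
      · refine Subtype.ext (hι ?_)
        rw [← Classical.choose_spec (key a.1 ha _ a.2.choose_spec.1 a.2.choose_spec.2.1 a.2.choose_spec.2.2),
          ← Classical.choose_spec (key b.1 hb _ b.2.choose_spec.1 b.2.choose_spec.2.1 b.2.choose_spec.2.2),
          Option.some.inj e]
    have := Nat.card_le_card_of_injective Φ hΦ
    rw [Finite.card_option, Nat.card_prod, Nat.card_eq_fintype_card (α := F)] at this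
    have := Nat.mul_le_mul_right (Fintype.card F) (Pairs.card_fixes_le hGns)
    omega
  -- the centraliser of `v` in the socle has order `q ± 1`
  have hC : Fintype.card F - 1 ≤ Nat.card (L ⊓ Subgroup.centralizer ({v} : Set X) : Subgroup X) := by
    obtain ⟨p, hp⟩ := (hmemL v).1 hv
    have hp2 : p * p = 1 := conj_injective hnc (by
      rw [map_mul, hp, ← map_mul, show v * v = 1 by rw [← pow_two, ← hvo, pow_orderOf_eq_one],
        map_one, map_one])
    have hp1 : p ≠ 1 := fun e => by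
      rw [e, map_one, ← map_one ι] at hp
      rw [← hι hp, orderOf_one] at hvo
      omega
    set C := L ⊓ Subgroup.centralizer ({v} : Set X) with hCdef
    have hmap : (Subgroup.centralizer ({p} : Set PSL2)).map MulAut.conj ≤ C.map ι := by
      rintro _ ⟨r, hr, rfl⟩
      obtain ⟨x, hx, hxr⟩ := Subgroup.mem_map.1
        (show MulAut.conj r ∈ L.map ι by rw [hL]; exact ⟨r, rfl⟩)
      refine ⟨x, ⟨hx, Subgroup.mem_centralizer_singleton_iff.2 (hι ?_)⟩, hxr⟩
      rw [map_mul, map_mul, hxr, ← hp, ← map_mul, ← map_mul,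
        Subgroup.mem_centralizer_singleton_iff.1 hr]
    have hn := Subgroup.card_le_of_le hmap
    rw [Subgroup.card_map_of_injective hι, Subgroup.card_map_of_injective (conj_injective hnc)] at hn
    obtain ⟨c, hc⟩ := isConj_iff.1 (PSL2Inv.isConj_pr_w h2 hp2 hp1)
    obtain ⟨e⟩ := centralizer_conj_equiv (⊤ : Subgroup PSL2) (PSL2Inv.pr SL2Inv.w) c trivial
    rw [hc, top_inf_eq, top_inf_eq] at e
    rw [Nat.card_congr e.toEquiv, PSL2Inv.card_centralizer h2, SL2Inv.card_C h2,
      Nat.card_eq_fintype_card] at hn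
    split_ifs at hn <;> omega
  omega

end Cfsg.Agent.GW
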