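import Cfsg.Agent.Lib.GW.SecAll
import Cfsg.Agent.Lib.GW.TorusPairs

/-!
In a socle section, few conjugates of the central involution give pairs of torus elements generating an
odd group.
-/

set_option autoImplicit false
set_option linter.unusedSectionVars false
set_option linter.style.haveILetI false

namespace Cfsg.Agent.GW

open Cfsg.Agent.TwoFus Subgroup Cfsg.Agent.AutPSL

universe u

local notation "P2" F => Matrix.ProjectiveSpecialLinearGroup (Fin 2) F

theorem zpowers_eq_of_cyclic {X : Type u} [Group X] [Finite X] {T : Subgroup X} (hT : IsCyclic T)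
    {a b : X} (ha : a ∈ T) (hb : b ∈ T) (h : orderOf a = orderOf b) : zpowers a = zpowers b := by
  classical
  haveI := hT
  haveI := Fintype.ofFinite T
  set n := orderOf a with hn
  have hn0 : 0 < n := orderOf_pos a
  let F : Finset T := Finset.univ.filter fun x => x ^ n = 1
  have hF : F.card ≤ n := IsCyclic.card_pow_eq_one_le hn0
  have key : ∀ c : X, c ∈ T → orderOf c = n → ∀ x : T, x ∈ F ↔ (x : X) ∈ zpowers c := by
    intro c hc hcn
    let S : Finset T := Finset.univ.filter fun x => (x : X) ∈ zpowers c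
    have hsub : S ⊆ F := by
      intro x hx
      obtain ⟨i, hi⟩ := (Finset.mem_filter.1 hx).2
      refine Finset.mem_filter.2 ⟨Finset.mem_univ _, Subtype.ext ?_⟩
      show (x : X) ^ n = 1
      rw [← hi, ← zpow_natCast, ← zpow_mul, mul_comm, zpow_mul, zpow_natCast, ← hcn, pow_orderOf_eq_one,
        one_zpow]
    have hS : n = S.card := by
      rw [← hcn, ← Nat.card_zpowers, ← Nat.card_congr (Subgroup.subgroupOfEquivOfLe (zpowers_le.2 hc)).toEquiv,
        Nat.card_eq_fintype_card, Fintype.card_of_subtype S fun x => by simp [S, mem_subgroupOf]]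
    have e : S = F := Finset.eq_of_subset_of_card_le hsub (hF.trans hS.le)
    intro x
    rw [← e]
    simp [S]
  ext x
  constructor
  · intro hx
    have hxT : x ∈ T := zpowers_le.2 ha hx
    exact (key b hb h.symm ⟨x, hxT⟩).1 ((key a ha rfl ⟨x, hxT⟩).2 hx)
  · intro hx
    have hxT : x ∈ T := zpowers_le.2 hb hx
    exact (key a ha rfl ⟨x, hxT⟩).1 ((key b hb h.symm ⟨x, hxT⟩).2 hx)

theorem closure_pair_le {X : Type u} [Group X] {x g l : X}
    (h : zpowers (l⁻¹ * g * x * (l⁻¹ * g)⁻¹) = zpowers x) :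
    closure ({x, l * x * l⁻¹} : Set X) ≤ closure ({x, g * x * g⁻¹} : Set X) := by
  rw [closure_le]
  rintro w (rfl | rfl)
  · exact subset_closure (Set.mem_insert _ _)
  · obtain ⟨i, hi⟩ := (h.ge : zpowers x ≤ _) (mem_zpowers x)
    have hmem : (g * x * g⁻¹) ^ i ∈ closure ({x, g * x * g⁻¹} : Set X) :=
      zpow_mem (subset_closure (Set.mem_insert_of_mem x (Set.mem_singleton (g * x * g⁻¹)))) i
    change (l⁻¹ * g * x * (l⁻¹ * g)⁻¹) ^ i = x at hi
    have e : (g * x * g⁻¹) ^ i = l * x * l⁻¹ := by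
      conv_rhs => rw [← hi, conj_zpow]
      rw [conj_zpow]; group
    exact e ▸ hmem

theorem odd_closure_image {G : Type u} [Group G] [Finite G] {H : Subgroup G} {X : Type u} [Group X]
    (f : H →* X) (y y' : H) (h : Odd (Nat.card (closure ({(y : G), (y' : G)} : Set G)))) :
    Odd (Nat.card (closure ({f y, f y'} : Set X))) := by
  have e : (closure ({y, y'} : Set H)).map H.subtype = closure ({(y : G), (y' : G)} : Set G) := by
    rw [MonoidHom.map_closure, Set.image_pair]; rfl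
  rw [← e, Subgroup.card_map_of_injective H.subtype_injective] at h
  rw [← Set.image_pair f, ← MonoidHom.map_closure]
  exact h.of_dvd_nat (Subgroup.card_map_dvd _ _)

/-- A lift of a conjugate of an involution centralising the odd core is unique. -/
theorem conj_eq_of_mo {X : Type u} [Group X] [Finite X] {z g g' : X} (hz : z * z = 1)
    (hc : ∀ o ∈ Cfsg.oddCore X, z * o = o * z)
    (e : mo X g * mo X z * (mo X g)⁻¹ = mo X g' * mo X z * (mo X g')⁻¹) :
    g * z * g⁻¹ = g' * z * g'⁻¹ := by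
  have hsq : ∀ h : X, h * z * h⁻¹ * (h * z * h⁻¹) = 1 := fun h => by
    rw [conj_mul, hz, mul_one, mul_inv_cancel]
  refine invol_eq_of_mo (hsq g) (hsq g') (fun o ho => ?_) (by simp only [map_mul, map_inv]; exact e)
  have h' := hc _ ((oddCore_normal (X := X)).conj_mem o ho g⁻¹)
  calc g * z * g⁻¹ * o = g * (z * (g⁻¹ * o * g⁻¹⁻¹)) * g⁻¹ := by group
    _ = g * (g⁻¹ * o * g⁻¹⁻¹ * z) * g⁻¹ := by rw [h']
    _ = o * (g * z * g⁻¹) := by group

namespace Core

variable {G : Type u} [Group G] [Finite G]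

/-- The numerical facts of a section, with the count of odd pairs in the socle case. -/
def SecPairs (c : Core G) (a : G) (H : Subgroup G) : Prop :=
  ∃ (T : Subgroup G) (cc : ℕ), IsCyclic T ∧
    (∀ y, y ∈ T ↔ y ∈ H ∧ y ∈ c.U ∧ a * y * a⁻¹ = y⁻¹) ∧ 4 * Nat.card T ≤ cc ∧
    2 * (centralizer ({a} : Set G)).relIndex (H ⊓ c.C) ≤ cc ∧
    (∀ w ∈ H ⊓ c.C, w * w = 1 → ∀ y ∈ T, y ≠ 1 → w * y * w⁻¹ = y⁻¹ →
      ∀ y' ∈ T, ∃ o ∈ Cfsg.oddCore H, w * y' * w⁻¹ * y' = (o : G)) ∧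
    (((cc - 1) * (cc - 2) ≤ 2 * c.C.relIndex H ∧
        (∀ y ∈ T, y ≠ 1 → ∀ g ∈ H, Commute (g * y * g⁻¹) y → g ∈ c.C) ∧
        ∀ y ∈ T, y ≠ 1 → Nat.card {v : G // ∃ g ∈ H, g * c.d.z * g⁻¹ = v ∧
          Odd (Nat.card (closure ({y, g * y * g⁻¹} : Set G)))} ≤ 2 * cc + 5) ∨
      (cc = 12 ∧ c.C.relIndex H = 105 ∧ ∀ y ∈ T, y ≠ 1 →
        Nat.card {v : G // ∃ g ∈ H, g * c.d.z * g⁻¹ = v ∧ Commute (g * y * g⁻¹) y} ≤ 75))

variable {c : Core G} {a : G} {H : Subgroup G} {ha : c.Refl a}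

theorem SecHyp.pair_count (hs : c.SecHyp ha H) {L : Subgroup (H ⧸ Cfsg.oddCore H)}
    (hf : SocleFacts (H ⧸ Cfsg.oddCore H) L) (hzL : hs.zb ∈ L)
    {TL : Subgroup (H ⧸ Cfsg.oddCore H)} (hcyc : IsCyclic TL)
    (hodd : ∀ x ∈ L, x * hs.zb = hs.zb * x → Odd (orderOf x) → x ∈ TL) {N : ℕ}
    (hN : ∀ x, x ∈ L → x ≠ 1 → Odd (orderOf x) → hs.zb * x = x * hs.zb →
      Nat.card {w : H ⧸ Cfsg.oddCore H // ∃ g ∈ L, g * hs.zb * g⁻¹ = w ∧
        Odd (Nat.card (closure ({x, g * x * g⁻¹} : Set (H ⧸ Cfsg.oddCore H))))} ≤ N)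
    {y : G} (hyH : y ∈ H) (hyU : y ∈ c.U) (hya : a * y * a⁻¹ = y⁻¹) (hy1 : y ≠ 1) :
    Nat.card {v : G // ∃ g ∈ H, g * c.d.z * g⁻¹ = v ∧
      Odd (Nat.card (closure ({y, g * y * g⁻¹} : Set G)))} ≤ N := by
  haveI := hf.normal
  haveI := oddCore_normal (X := H)
  set X := H ⧸ Cfsg.oddCore H
  obtain ⟨h1, h2, h3⟩ := hs.mo_T ⟨hyH, hyU, hya⟩ hy1
  set x := mo H ⟨y, hyH⟩ with hx
  have hao : orderOf hs.ab = 2 := invol_mo hs.a_ord
  have hzo : orderOf hs.zb = 2 := invol_mo hs.z_ord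
  have hxL : x ∈ L := hf.inverted_mem hs.ab x (sq_one hao) h2 (by
    rw [hx, ← map_inv, ← map_mul, ← map_mul, ← map_inv]; exact congrArg _ (Subtype.ext hya))
  refine le_trans ?_ (hN x hxL h1 h2 h3.symm)
  set V := {v : G // ∃ g ∈ H, g * c.d.z * g⁻¹ = v ∧
    Odd (Nat.card (closure ({y, g * y * g⁻¹} : Set G)))}
  choose g hgH hgv hgo using fun v : V => v.2
  let gb : V → X := fun v => mo H ⟨g v, hgH v⟩
  have hex : ∀ v : V, ∃ l ∈ L, l * hs.zb * l⁻¹ = gb v * hs.zb * (gb v)⁻¹ ∧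
      Odd (Nat.card (closure ({x, l * x * l⁻¹} : Set X))) := by
    intro v
    obtain ⟨l, hl, e⟩ := hf.one_class hs.zb (gb v * hs.zb * (gb v)⁻¹) hzL
      (hf.normal.conj_mem _ hzL _) hzo (by rw [← MulAut.conj_apply, MulEquiv.orderOf_eq]; exact hzo)
    refine ⟨l, hl, e, ?_⟩
    set k := l⁻¹ * gb v with hk
    have hkz : Commute k hs.zb := by
      show k * hs.zb = hs.zb * k
      calc k * hs.zb = l⁻¹ * (gb v * hs.zb * (gb v)⁻¹) * gb v := by rw [hk]; group
        _ = l⁻¹ * (l * hs.zb * l⁻¹) * gb v := by rw [e]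
        _ = hs.zb * k := by rw [hk]; group
    have hx' : k * x * k⁻¹ * hs.zb = hs.zb * (k * x * k⁻¹) :=
      ((hkz.mul_left h3).mul_left hkz.inv_left).eq
    have hord : orderOf (k * x * k⁻¹) = orderOf x := by
      rw [← MulAut.conj_apply, MulEquiv.orderOf_eq]
    have hpow : zpowers (k * x * k⁻¹) = zpowers x := zpowers_eq_of_cyclic hcyc
      (hodd _ (hf.normal.conj_mem _ hxL k) hx' (hord ▸ h2)) (hodd _ hxL h3 h2) hord
    refine Odd.of_dvd_nat ?_ (Subgroup.card_dvd_of_le (closure_pair_le (x := x) (g := gb v) (l := l) hpow))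
    set yH : H := ⟨y, hyH⟩ with hyHd
    set gH : H := ⟨g v, hgH v⟩ with hgHd
    have h0 : ((gH * yH * gH⁻¹ : H) : G) = g v * y * (g v)⁻¹ := by
      rw [Subgroup.coe_mul, Subgroup.coe_mul, Subgroup.coe_inv]
    have h9 := odd_closure_image (mo H) yH (gH * yH * gH⁻¹) (by rw [h0]; exact hgo v)
    rw [map_mul, map_mul, map_inv] at h9
    exact h9
  choose l hl hlz hlo using hex
  let f : V → {w : X // ∃ g ∈ L, g * hs.zb * g⁻¹ = w ∧
      Odd (Nat.card (closure ({x, g * x * g⁻¹} : Set X)))} :=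
    fun v => ⟨gb v * hs.zb * (gb v)⁻¹, l v, hl v, hlz v, hlo v⟩
  refine Nat.card_le_card_of_injective f fun v v' e => ?_
  have e1 : gb v * hs.zb * (gb v)⁻¹ = gb v' * hs.zb * (gb v')⁻¹ := congrArg Subtype.val e
  have e2 := conj_eq_of_mo (g := (⟨g v, hgH v⟩ : H)) (g' := ⟨g v', hgH v'⟩)
    (sq_one hs.z_ord) hs.z_core e1
  refine Subtype.ext ?_
  rw [← hgv v, ← hgv v']
  exact congrArg Subtype.val e2

theorem secPairs (c : Core G) : ∀ (a : G) (H : Subgroup G), c.Refl a → c.Inner a H →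
    (∀ o ∈ Cfsg.oddCore H, (o : G) * c.d.z = c.d.z * o ∧ (o : G) * a = a * o) → c.SecPairs a H := by
  rintro a H ha ⟨hz, haH, ⟨S⟩, s1, s2⟩ hO
  have hs : c.SecHyp ha H := ⟨hz, haH, hO⟩
  have hd : DihSylow (H ⧸ Cfsg.oddCore H) := (ha.dihSylow H hz haH).quotient _ oddCore_odd
  haveI := S.normal
  haveI := S.simple
  have hzL : hs.zb ∈ S.L := S.mem_socPre.1 s1
  have haL : hs.ab ∈ S.L := S.mem_socPre.1 s2
  rcases almost_target hd S.L S.noncomm S.cent S.target with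
    ⟨-, ⟨e⟩⟩ | ⟨F, _, _, hodd, h3, ι, hι, hL, hfld⟩
  · obtain ⟨TL, hcyc, h3', hmem⟩ := seven_torus e (invol_mo hs.z_ord)
    obtain ⟨T, h1, h2, h4, h5, h6, h7⟩ := hs.seven_clauses hcyc h3' hmem
      (seven_cent_card e (invol_mo hs.z_ord)) (fun x u v => seven_cent_le e u v) (seven_order e)
    exact ⟨T, 12, h1, h2, h4, h5, h6, Or.inr ⟨rfl, h7⟩⟩
  · haveI : IsSimpleGroup (P2 F) :=
      Matrix.ProjectiveSpecialLinearGroup.rank_two_simple (by rw [Nat.card_eq_fintype_card]; omega)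
    have hnc : ¬ IsMulCommutative (P2 F) := fun hc => S.noncomm (by
      have hbot : S.L.map ι = ⊥ := by
        rw [hL, Cfsg.Inn, MonoidHom.range_eq_bot_iff]
        ext p x
        simp [hc.is_comm.comm p x]
      rw [Subgroup.map_eq_bot_iff_of_injective _ hι] at hbot
      rw [hbot]
      exact ⟨⟨fun a b => Subsingleton.elim _ _⟩⟩)
    obtain ⟨TL, -, hcyc, hzT, hcard, hoddT, hrot, hor⟩ :=
      torus_sub hd hnc hodd h3 S.L S.normal S.simple S.noncomm ι hι hL hfld hs.zb hzL (invol_mo hs.z_ord)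
    have hf := socleFacts hd hnc hodd h3 S.L S.normal S.simple S.noncomm ι hι hL hfld
    obtain ⟨T, h1, h2, h4, h5, h6, h7, h8⟩ :=
      hs.socle_clauses hf hzL haL hcyc hzT hcard hoddT hrot fun w hw => hor w (sq_one hw)
    refine ⟨T, _, h1, h2, h4, h5, h6, Or.inl ⟨h7, h8, fun y hy hy1 => ?_⟩⟩
    obtain ⟨u1, u2, u3⟩ := (h2 y).1 hy
    refine (hs.pair_count hf hzL hcyc hoddT (fun x m1 m2 m3 m4 =>
      odd_pairs hd hnc hodd h3 S.L S.normal S.simple S.noncomm ι hι hL hfld hs.zb x hzL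
        (invol_mo hs.z_ord) m1 m2 m3 m4) u1 u2 u3 hy1).trans ?_
    omega

end Core

end Cfsg.Agent.GW
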