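import Cfsg.Agent.Lib.GW.Structure
import Cfsg.Agent.Lib.BSW.Dihedral

/-!
The standing situation of the core proof: a simple group with dihedral Sylow 2-subgroup `P`, the
central involution `t` of `P` and the normal odd complement `U` of its centraliser.
-/

set_option autoImplicit false
set_option linter.unusedSectionVars false
set_option linter.style.haveILetI false

namespace Cfsg.Agent.GW

open Cfsg.Agent.TwoFus

universe u

/-- The standing situation. -/
structure Core (G : Type u) [Group G] [Finite G] where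
  simple : IsSimpleGroup G
  noncomm : ¬ IsMulCommutative G
  dih : DihSylow G
  known : KnownBelow.{u} (Nat.card G)
  P : Sylow 2 G
  d : Dih (P : Subgroup G)
  U : Subgroup G
  U_le : U ≤ Subgroup.centralizer ({d.z} : Set G)
  U_odd : Odd (Nat.card U)
  U_conj : ∀ g ∈ Subgroup.centralizer ({d.z} : Set G), ∀ u ∈ U, g * u * g⁻¹ ∈ U
  U_sup : ∀ g ∈ Subgroup.centralizer ({d.z} : Set G), ∃ u ∈ U, ∃ s ∈ (P : Subgroup G), g = u * s

namespace Core

variable {G : Type u} [Group G] [Finite G] (c : Core G)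

/-- The centraliser of the central involution. -/
abbrev C : Subgroup G := Subgroup.centralizer ({c.d.z} : Set G)

/-- `a` is a reflection of `P`: an element outside the rotations. -/
def Refl (a : G) : Prop := a ∈ (c.P : Subgroup G) ∧ a ∉ Subgroup.zpowers c.d.x

/-- The odd part of the centraliser of the four-group of a reflection. -/
def W (a : G) : Subgroup G := c.U ⊓ Subgroup.centralizer ({a} : Set G)

theorem mem_C {g : G} : g ∈ c.C ↔ g * c.d.z = c.d.z * g := Subgroup.mem_centralizer_singleton_iff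

theorem P_le : (c.P : Subgroup G) ≤ c.C := fun _ hs => c.mem_C.2 (c.d.z_comm hs)

theorem z_mem : c.d.z ∈ (c.P : Subgroup G) := Subgroup.zpowers_le.2 c.d.hx c.d.z_mem

theorem z_order : orderOf c.d.z = 2 := orderOf_eq_prime (by rw [pow_two, c.d.zz]) c.d.z_ne

include c in
theorem one_class (a b : G) (ha : orderOf a = 2) (hb : orderOf b = 2) : IsConj a b := by
  haveI := c.simple
  exact BSW.dih_simple_one_class c.noncomm c.P c.d a b ha hb

variable {c} {a : G}

namespace Refl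

variable (ha : c.Refl a)

include ha

theorem sq : a * a = 1 := c.d.out_sq a ha.1 ha.2

theorem comm : a * c.d.z = c.d.z * a := c.d.z_comm ha.1

theorem ne_one : a ≠ 1 := fun e => ha.2 (e ▸ one_mem _)

theorem ne_z : a ≠ c.d.z := fun e => ha.2 (e ▸ c.d.z_mem)

theorem inv_eq : a⁻¹ = a := inv_eq_of_mul_eq_one_right ha.sq

theorem order : orderOf a = 2 := orderOf_eq_prime (by rw [pow_two, ha.sq]) ha.ne_one

theorem mem_C : a ∈ c.C := c.P_le ha.1

theorem mul_z : c.Refl (c.d.z * a) :=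
  ⟨mul_mem c.z_mem ha.1, fun h => ha.2 (by
    have := mul_mem (inv_mem c.d.z_mem) h
    rwa [inv_mul_cancel_left] at this)⟩

theorem z_mul_ne_one : c.d.z * a ≠ 1 := ha.mul_z.ne_one

theorem ne_z_mul : a ≠ c.d.z * a := fun e => c.d.z_ne (mul_eq_right.1 e.symm)

/-- The four-group of a reflection. -/
theorem exists_klein : ∃ V : Subgroup G, V ≤ (c.P : Subgroup G) ∧ IsKleinFour V ∧ c.d.z ∈ V ∧
    a ∈ V ∧ ∀ v ∈ V, v = 1 ∨ v = c.d.z ∨ v = a ∨ v = c.d.z * a := by
  obtain ⟨i, hi⟩ : ∃ i : ℤ, a = c.d.x ^ i * c.d.y := by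
    rcases c.d.cases a ha.1 with ⟨i, hi⟩ | hi
    · exact absurd (hi ▸ zpow_mem (Subgroup.mem_zpowers _) i) ha.2
    · exact hi
  obtain ⟨V, hVP, hV, hz, hv⟩ := c.d.exists_klein i
  rw [← hi] at hv
  refine ⟨V, hVP, hV, hz, hv, fun v hvV => ?_⟩
  obtain ⟨hzV, -⟩ := c.d.klein_z_mem hV hVP
  classical
  haveI : Fintype V := Fintype.ofFinite V
  by_contra hne
  push Not at hne
  have hsub : ({1, ⟨c.d.z, hz⟩, ⟨a, hv⟩, ⟨c.d.z * a, mul_mem hz hv⟩, ⟨v, hvV⟩} : Finset V).card ≤ 4 := by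
    rw [← hV.card_four, Nat.card_eq_fintype_card]
    exact Finset.card_le_univ _
  rw [Finset.card_insert_of_notMem (by
      simp [Subtype.ext_iff, c.d.z_ne.symm, ha.ne_one.symm, ha.z_mul_ne_one.symm, hne.1.symm]),
    Finset.card_insert_of_notMem (by
      simp [Subtype.ext_iff, ha.ne_z.symm, hne.2.1.symm, ha.ne_one]),
    Finset.card_insert_of_notMem (by simp [Subtype.ext_iff, ha.ne_z_mul, hne.2.2.1.symm]),
    Finset.card_insert_of_notMem (by simp [Subtype.ext_iff, hne.2.2.2.symm])] at hsub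
  simp at hsub

/-- An element rotating the four-group: `t ↦ a ↦ ta ↦ t`. -/
theorem exists_rot : ∃ g : G, g * c.d.z * g⁻¹ = a ∧ g * a * g⁻¹ = c.d.z * a ∧
    g * (c.d.z * a) * g⁻¹ = c.d.z := by
  classical
  haveI := c.simple
  obtain ⟨V, hVP, hV, hz, hv, hall⟩ := ha.exists_klein
  have h3 : 3 ∣ (Subgroup.centralizer (V : Set G)).relIndex (Subgroup.normalizer (V : Set G)) := by
    have h6 := klein_relIndex_dvd hV
    by_contra h3
    obtain ⟨-, i, hi⟩ := c.d.klein_exists_form hV hVP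
    have hOT : OddTrivial V := klein_oddTrivial (by
      have hle := Nat.le_of_dvd (by norm_num) h6
      generalize (Subgroup.centralizer (V : Set G)).relIndex (Subgroup.normalizer (V : Set G)) = r at *
      interval_cases r <;> omega)
    obtain ⟨K, hK, hK2⟩ := dih_index_two c.P c.d (i + 1) fun E hEP hE => by
      by_cases hsmall : 4 < Nat.card (c.P : Subgroup G)
      · have h4 := c.d.four_dvd c.P.isPGroup' hsmall
        obtain ⟨-, j, hj⟩ := c.d.klein_exists_form hE hEP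
        rcases Int.even_or_odd (j - i) with he | he
        · left
          obtain ⟨s, -, hs⟩ := c.d.klein_conj hV hE hVP hEP hi hj he.two_dvd
          refine klein_oddTrivial ?_
          rw [← hs, relIndex_centralizer_conj]
          have hle := Nat.le_of_dvd (by norm_num) h6
          generalize (Subgroup.centralizer (V : Set G)).relIndex (Subgroup.normalizer (V : Set G)) = r at *
          interval_cases r <;> omega
        · right
          refine c.d.klein_le_half h4 hE hEP hj ?_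
          obtain ⟨k, hk⟩ := he
          exact ⟨k, by linarith⟩
      · left
        have e : E = V := by
          have h1 : V = (c.P : Subgroup G) := Subgroup.eq_of_le_of_card_ge hVP (by rw [hV.card_four]; omega)
          have h2 : E = (c.P : Subgroup G) := Subgroup.eq_of_le_of_card_ge hEP (by rw [hE.card_four]; omega)
          rw [h1, h2]
        rw [e]; exact hOT
    exact ZStarApps.no_index_two c.noncomm K hK hK2
  have hmaps : ∀ {w : G}, w ∈ Subgroup.normalizer (V : Set G) → ∀ {v : G}, v ∈ V → v ≠ 1 →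
      w * v * w⁻¹ = c.d.z ∨ w * v * w⁻¹ = a ∨ w * v * w⁻¹ = c.d.z * a := by
    intro w hw v hvV hv1
    rcases hall _ ((Subgroup.mem_normalizer_iff.1 hw v).1 hvV) with e | e
    · exact absurd (conj_eq_one_iff.1 e) hv1
    · exact e
  have hinj : ∀ {w u v : G}, w * u * w⁻¹ = w * v * w⁻¹ → u = v :=
    fun e => mul_left_cancel (mul_right_cancel e)
  have key : ∀ {g : G}, g ∈ Subgroup.normalizer (V : Set G) → g * c.d.z * g⁻¹ = a →
      g * a * g⁻¹ = c.d.z * a → g * (c.d.z * a) * g⁻¹ = c.d.z := by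
    intro g hg h1 h2
    rcases hmaps hg (mul_mem hz hv) ha.z_mul_ne_one with e | e | e
    · exact e
    · exact absurd (hinj (e.trans h1.symm)) ha.mul_z.ne_z
    · exact absurd (hinj (e.trans h2.symm)) ha.ne_z_mul.symm
  obtain ⟨w, hwN, hw, -⟩ := klein_transitive hV h3 hz hv c.d.z_ne ha.ne_one
  obtain ⟨w', hwN', hw', -⟩ := klein_transitive hV h3 hv (mul_mem hz hv) ha.ne_one ha.z_mul_ne_one
  rcases hmaps hwN hv ha.ne_one with e | e | e
  · rcases hmaps hwN' hz c.d.z_ne with e' | e' | e'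
    · -- `w' * w` is the inverse rotation
      have g1 : (w' * w)⁻¹ * c.d.z * (w' * w)⁻¹⁻¹ = a := by
        have : (w' * w) * a * (w' * w)⁻¹ = c.d.z := by
          rw [show w' * w * a * (w' * w)⁻¹ = w' * (w * a * w⁻¹) * w'⁻¹ by group, e, e']
        conv_lhs => rw [← this]
        group
      have g2 : (w' * w)⁻¹ * a * (w' * w)⁻¹⁻¹ = c.d.z * a := by
        have hwz : (w' * w) * c.d.z * (w' * w)⁻¹ = c.d.z * a := by
          rw [show w' * w * c.d.z * (w' * w)⁻¹ = w' * (w * c.d.z * w⁻¹) * w'⁻¹ by group, hw, hw']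
        have hN := mul_mem hwN' hwN
        rcases hmaps (inv_mem hN) hv ha.ne_one with q | q | q
        · exfalso
          have h5 : (w' * w) * c.d.z * (w' * w)⁻¹ = a := by
            conv_lhs => rw [← q]
            group
          exact ha.ne_z_mul (h5.symm.trans hwz)
        · exact absurd (hinj (g1.trans q.symm)) ha.ne_z.symm
        · exact q
      exact ⟨_, g1, g2, key (inv_mem (mul_mem hwN' hwN)) g1 g2⟩
    · exact ⟨w', e', hw', key hwN' e' hw'⟩
    · exact absurd (hinj (e'.trans hw'.symm)) ha.ne_z.symm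
  · exact absurd (hinj (e.trans hw.symm)) ha.ne_z
  · exact ⟨w, hw, e, key hwN hw e⟩

theorem W_le : c.W a ≤ c.U := inf_le_left

theorem mem_W {g : G} : g ∈ c.W a ↔ g ∈ c.U ∧ g * a = a * g := by
  rw [W, Subgroup.mem_inf, Subgroup.mem_centralizer_singleton_iff]

theorem W_eq : c.W (c.d.z * a) = c.W a := by
  ext g
  rw [ha.mul_z.mem_W, ha.mem_W]
  refine and_congr_right fun hg => ?_
  have h := c.mem_C.1 (c.U_le hg)
  constructor
  · intro e
    rw [← mul_assoc, h, mul_assoc, mul_assoc] at e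
    exact mul_left_cancel e
  · intro e
    rw [← mul_assoc, h, mul_assoc, e, ← mul_assoc]

end Refl

variable (c) in
/-- Elements of odd order of the centraliser lie in `U`. -/
theorem mem_U_of_odd {g : G} (hg : g ∈ c.C) (ho : Odd (orderOf g)) : g ∈ c.U := by
  haveI : Fact (Nat.Prime 2) := ⟨Nat.prime_two⟩
  haveI hn : (c.U.subgroupOf c.C).Normal := ⟨fun u hu h => by
    rw [Subgroup.mem_subgroupOf] at hu ⊢
    exact c.U_conj h h.2 u hu⟩
  have hp : IsPGroup 2 (c.C ⧸ c.U.subgroupOf c.C) := by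
    intro q
    obtain ⟨⟨h, hh⟩, rfl⟩ := QuotientGroup.mk'_surjective _ q
    obtain ⟨u, hu, s, hs, e⟩ := c.U_sup h hh
    obtain ⟨k, hk⟩ := c.P.isPGroup' ⟨s, hs⟩
    refine ⟨k, ?_⟩
    have h1 : (QuotientGroup.mk' (c.U.subgroupOf c.C)) ⟨h, hh⟩ =
        QuotientGroup.mk' _ ⟨s, c.P_le hs⟩ := by
      rw [QuotientGroup.mk'_eq_mk']
      refine ⟨⟨s⁻¹ * u⁻¹ * s, mul_mem (mul_mem (inv_mem (c.P_le hs)) (inv_mem (c.U_le hu)))
        (c.P_le hs)⟩, ?_, Subtype.ext (show h * (s⁻¹ * u⁻¹ * s) = s by rw [e]; group)⟩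
      rw [Subgroup.mem_subgroupOf]
      have := c.U_conj s⁻¹ (inv_mem (c.P_le hs)) u⁻¹ (inv_mem hu)
      rwa [inv_inv] at this
    rw [h1, ← map_pow]
    convert map_one (QuotientGroup.mk' (c.U.subgroupOf c.C))
    exact Subtype.ext (by simpa using congrArg Subtype.val hk)
  have h3 : (QuotientGroup.mk' (c.U.subgroupOf c.C) ⟨g, hg⟩) ^ orderOf g = 1 := by
    rw [← map_pow]
    convert map_one (QuotientGroup.mk' (c.U.subgroupOf c.C))
    exact Subtype.ext (by simp [pow_orderOf_eq_one])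
  have h4 : (QuotientGroup.mk' (c.U.subgroupOf c.C) ⟨g, hg⟩) = 1 := by
    obtain ⟨k, hk⟩ := hp (QuotientGroup.mk' (c.U.subgroupOf c.C) ⟨g, hg⟩)
    have h5 := Nat.dvd_gcd (orderOf_dvd_of_pow_eq_one h3) (orderOf_dvd_of_pow_eq_one hk)
    rw [(Nat.Coprime.pow_right k (Nat.coprime_two_right.2 ho)), Nat.dvd_one] at h5
    exact orderOf_eq_one_iff.1 h5
  exact Subgroup.mem_subgroupOf.1 ((QuotientGroup.eq_one_iff (⟨g, hg⟩ : c.C)).1 h4)

variable (c) in
theorem odd_of_mem_U {g : G} (hg : g ∈ c.U) : Odd (orderOf g) :=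
  c.U_odd.of_dvd_nat (Subgroup.orderOf_dvd_natCard _ hg)

namespace Refl

variable (ha : c.Refl a)

include ha

/-- A rotation normalises `W`. -/
theorem rot_W {g : G} (h1 : g * c.d.z * g⁻¹ = a) (h3 : g * (c.d.z * a) * g⁻¹ = c.d.z) {w : G}
    (hw : w ∈ c.W a) : g * w * g⁻¹ ∈ c.W a := by
  obtain ⟨hwU, hwa⟩ := ha.mem_W.1 hw
  have hwz : Commute w c.d.z := c.mem_C.1 (c.U_le hwU)
  have hwza : Commute w (c.d.z * a) := hwz.mul_right hwa
  have e : ∀ {v v' : G}, Commute w v → g * v * g⁻¹ = v' → g * w * g⁻¹ * v' = v' * (g * w * g⁻¹) := by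
    intro v v' hv hv'
    rw [← hv', conj_mul, conj_mul, hv.eq]
  refine ha.mem_W.2 ⟨c.mem_U_of_odd (c.mem_C.2 (e hwza h3)) ?_, e hwz h1⟩
  rw [← MulAut.conj_apply, MulEquiv.orderOf_eq]
  exact c.odd_of_mem_U hwU

/-- A Sylow subgroup of `W` and a rotation normalising it. -/
theorem exists_sylow_rot (q : ℕ) [Fact q.Prime] : ∃ (R : Subgroup G) (g : G), R ≤ c.W a ∧
    IsPGroup q R ∧ (∀ S : Subgroup G, R ≤ S → S ≤ c.W a → IsPGroup q S → S = R) ∧
    g ∈ Subgroup.normalizer (R : Set G) ∧ g * c.d.z * g⁻¹ = a ∧ g * a * g⁻¹ = c.d.z * a ∧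
    g * (c.d.z * a) * g⁻¹ = c.d.z := by
  classical
  obtain ⟨g, h1, h2, h3⟩ := ha.exists_rot
  obtain ⟨S₀⟩ : Nonempty (Sylow q (c.W a)) := inferInstance
  set W := c.W a
  let f : W →* W := MonoidHom.mk' (fun w => ⟨g * (w : G) * g⁻¹, ha.rot_W h1 h3 w.2⟩)
    fun x y => Subtype.ext (show g * ((x : G) * y) * g⁻¹ = g * x * g⁻¹ * (g * y * g⁻¹) by group)
  have hf : Function.Injective f := fun x y e => Subtype.ext ((MulAut.conj g).injective
    (congrArg (fun z : W => (z : G)) e))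
  have hfb : Function.Bijective f := ⟨hf, Finite.injective_iff_surjective.1 hf⟩
  let φ : W ≃* W := MulEquiv.ofBijective f hfb
  let S₁ : Sylow q W := S₀.comapOfInjective φ.symm.toMonoidHom φ.symm.injective
    (fun x _ => φ.symm.surjective x)
  obtain ⟨w, hw⟩ := MulAction.exists_smul_eq W S₁ S₀
  set R := (S₀ : Subgroup W).map W.subtype with hR
  have hwc : ∀ v, v = c.d.z ∨ v = a ∨ v = c.d.z * a → (w : G) * v * (w : G)⁻¹ = v := by
    have hwU := (ha.mem_W.1 w.2)
    have hz : Commute (w : G) c.d.z := c.mem_C.1 (c.U_le hwU.1)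
    rintro v (rfl | rfl | rfl)
    · rw [hz.eq, mul_inv_cancel_right]
    · rw [hwU.2, mul_inv_cancel_right]
    · rw [(hz.mul_right hwU.2).eq, mul_inv_cancel_right]
  refine ⟨R, (w : G) * g, Subgroup.map_subtype_le _, S₀.isPGroup'.map _, ?_, ?_, ?_, ?_, ?_⟩
  · intro S hRS hSW hS
    refine le_antisymm ?_ hRS
    have h := S₀.3 (Q := S.subgroupOf W) (hS.of_equiv (Subgroup.subgroupOfEquivOfLe hSW).symm)
      (fun x hx => hRS ⟨x, hx, rfl⟩)
    intro x hx
    exact ⟨⟨x, hSW hx⟩, h ▸ (show (⟨x, hSW hx⟩ : W) ∈ S.subgroupOf W from hx), rfl⟩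
  · refine Subgroup.mem_normalizer_iff_map_conj_eq.2
      (Subgroup.eq_of_le_of_card_ge ?_
        (Nat.card_congr (R.equivMapOfInjective _ (MulAut.conj ((w : G) * g)).injective).toEquiv).le)
    rintro _ ⟨_, ⟨x, hx, rfl⟩, rfl⟩
    refine ⟨w * φ x * w⁻¹, ?_, ?_⟩
    · have hx1 : φ x ∈ (S₁ : Subgroup W) := by
        show φ.symm (φ x) ∈ (S₀ : Subgroup W)
        rw [MulEquiv.symm_apply_apply]; exact hx
      rw [← hw]
      exact Subgroup.smul_mem_pointwise_smul _ _ _ hx1
    · show (w : G) * (g * (x : G) * g⁻¹) * (w : G)⁻¹ = (w : G) * g * (x : G) * ((w : G) * g)⁻¹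
      group
  · rw [show (w : G) * g * c.d.z * ((w : G) * g)⁻¹ = w * (g * c.d.z * g⁻¹) * (w : G)⁻¹ by group, h1,
      hwc a (Or.inr (Or.inl rfl))]
  · rw [show (w : G) * g * a * ((w : G) * g)⁻¹ = w * (g * a * g⁻¹) * (w : G)⁻¹ by group, h2,
      hwc _ (Or.inr (Or.inr rfl))]
  · rw [show (w : G) * g * (c.d.z * a) * ((w : G) * g)⁻¹ = w * (g * (c.d.z * a) * g⁻¹) * (w : G)⁻¹
      by group, h3, hwc _ (Or.inl rfl)]

end Refl

end Core

end Cfsg.Agent.GW
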