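import Cfsg.Agent.Lib.GW.SplitDef
import Cfsg.Agent.Lib.GW.MixedFree
import Cfsg.Agent.Lib.GW.PGroupStep
import Cfsg.Agent.Lib.LocalEven.OmegaOne

/-!
A reflection mixed on no abelian normal subgroup leaves the reducible or the irreducible configuration.
-/

set_option autoImplicit false
set_option linter.unusedSectionVars false
set_option linter.style.haveILetI false

namespace Cfsg.Agent.GW

open Cfsg.Agent.TwoFus Cfsg.Agent.BenderUnique Subgroup

universe u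

/-- An element of a line of prime order in a different line is trivial. -/
theorem eq_one_of_two_lines {G : Type u} [Group G] [Finite G] {q : ℕ} [hq : Fact q.Prime] {y v : G}
    {K : Subgroup G} (hy : y ^ q = 1) (hyK : y ∉ K) (hv : v ∈ zpowers y) (hvK : v ∈ K) : v = 1 := by
  by_contra h1
  have hvq : v ^ q = 1 := by
    obtain ⟨i, rfl⟩ := hv
    show (y ^ i) ^ q = 1
    rw [← zpow_natCast, ← zpow_mul, mul_comm, zpow_mul, zpow_natCast, hy, one_zpow]
  have he : zpowers v = zpowers y := eq_of_le_of_card_ge (zpowers_le.2 hv) (by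
    rw [Nat.card_zpowers, Nat.card_zpowers, orderOf_eq_prime hvq h1,
      orderOf_eq_prime hy (fun e => hyK (e ▸ one_mem K))])
  exact hyK ((zpowers_le.2 hvK) (he.symm ▸ mem_zpowers y))

/-- A commutator of fixed or of inverted elements, central and inverted, is trivial. -/
theorem comm_of_inverted {G : Type u} [Group G] [Finite G] {a x x' : G}
    (hd : a * (x * x' * x⁻¹ * x'⁻¹) * a⁻¹ = (x * x' * x⁻¹ * x'⁻¹)⁻¹)
    (hdo : Odd (orderOf (x * x' * x⁻¹ * x'⁻¹)))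
    (h : a * (x * x' * x⁻¹ * x'⁻¹) * a⁻¹ = x * x' * x⁻¹ * x'⁻¹) : x * x' = x' * x := by
  have h1 : x * x' * x⁻¹ * x'⁻¹ = 1 :=
    eq_one_of_sq_odd (by nth_rewrite 1 [h.symm.trans hd]; rw [inv_mul_cancel]) hdo
  rw [mul_inv_eq_one, mul_inv_eq_iff_eq_mul] at h1
  exact h1

namespace Core

variable {G : Type u} [Group G] [Finite G] {c : Core G} {a : G} {q : ℕ} [hq : Fact q.Prime]

/-- The standing data of the split: the unique central line. -/
structure CentralLine (c : Core G) (a : G) (q : ℕ) (f : G) : Prop where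
  refl : c.Refl a
  hC : IsCoatom c.C
  ne_two : q ≠ 2
  mixed : c.Mixed a q
  sec : c.SecAll
  mem : f ∈ c.Qc q
  ne : f ≠ 1
  pow : f ^ q = 1
  inv : a * f * a⁻¹ = f⁻¹
  cent : ∀ g ∈ c.Qc q, g * f = f * g

/-- Normal elementary abelian subgroups are inverted. -/
theorem inverted_of_no (ha : c.Refl a) (hC : IsCoatom c.C) (hq2 : q ≠ 2) (hm : c.Mixed a q)
    (hno : ∀ A, ¬ c.MixAb a q A) {A : Subgroup G} (hA : A ≤ c.Qc q)
    (hcomm : A ≤ centralizer (A : Set G)) (hpow : ∀ y ∈ A, y ^ q = 1)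
    (hn : c.C ≤ normalizer (A : Set G)) {y : G} (hy : y ∈ A) : a * y * a⁻¹ = y⁻¹ := by
  obtain ⟨r, -, hri, hw, hrz⟩ := ha.decomp (c.Qc_le_U hq2 (hA hy))
  have haA : a * y⁻¹ * a⁻¹ ∈ A := (mem_normalizer_iff.1 (hn ha.mem_C) _).1 (inv_mem hy)
  have hrA : r ∈ A := (zpowers_le.2 (mul_mem hy haA)) hrz
  have hm0 : r⁻¹ * y ∈ A ⊓ c.W a := ⟨A.mul_mem (A.inv_mem hrA) hy, hw⟩
  have hbot : A ⊓ c.W a = ⊥ := by
    by_contra hne
    by_cases hle : A ≤ c.W a
    · exact ha.no_normal hC hq2 hm (fun e => hne (by rw [e, bot_inf_eq])) (le_inf hA hle) hn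
    · exact hno A ⟨hA, hcomm, hpow, hn, hne, hle⟩
  rw [hbot, mem_bot, inv_mul_eq_one] at hm0
  exact hm0 ▸ hri

namespace CentralLine

variable {f : G} (Z : c.CentralLine a q f)

include Z

theorem odd {g : G} (hg : g ∈ c.Qc q) : Odd (orderOf g) :=
  c.odd_of_mem_U (c.Qc_le_U Z.ne_two hg)

theorem line_le : zpowers f ≤ c.Qc q := zpowers_le.2 Z.mem

theorem line_comm {g v : G} (hg : g ∈ c.Qc q) (hv : v ∈ zpowers f) : g * v = v * g := by
  obtain ⟨i, rfl⟩ := hv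
  exact ((show Commute g f from Z.cent g hg).zpow_right i).eq

theorem line_inv {v : G} (hv : v ∈ zpowers f) : a * v * a⁻¹ = v⁻¹ := by
  obtain ⟨i, rfl⟩ := hv
  show a * f ^ i * a⁻¹ = (f ^ i)⁻¹
  rw [← conj_zpow, Z.inv, inv_zpow]

/-- Inverted elements of order `q` commuting with a fixed element lie on the line. -/
theorem torus_line {e r : G} (he : e ∈ c.Qc q ⊓ c.W a) (he1 : e ≠ 1) (hr : r ∈ c.Qc q)
    (hrq : r ^ q = 1) (hri : a * r * a⁻¹ = r⁻¹) (hre : r * e = e * r) : r ∈ zpowers f := by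
  obtain ⟨cr⟩ := Z.refl.exists_cross Z.ne_two Z.mixed.2
  obtain ⟨hI, hO⟩ := cr.local_inner Z.refl Z.ne_two Z.hC
    (X := zpowers e) (H := centralizer (zpowers e : Set G))
    (fun e0 => he1 (mem_bot.1 (e0 ▸ mem_zpowers e)))
    (zpowers_le.2 he) le_rfl (centralizer_le_normalizer _)
  obtain ⟨T, cc, hT, hmem, -⟩ := Z.sec a _ Z.refl hI hO
  have key : ∀ {v : G}, v ∈ c.Qc q → a * v * a⁻¹ = v⁻¹ → v * e = e * v → v ∈ T := fun hv hvi hve =>
    (hmem _).2 ⟨mem_centralizer_iff.2 (by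
      rintro _ ⟨i, rfl⟩; exact ((show Commute _ e from hve).zpow_right i).eq.symm),
      c.Qc_le_U Z.ne_two hv, hvi⟩
  haveI := hT
  obtain ⟨i, hi⟩ := prime_pow_mem_zpowers hq.out
    (f := (⟨f, key Z.mem Z.inv (Z.cent e he.1).symm⟩ : T)) (y := ⟨r, key hr hri hre⟩)
    (Subtype.ext Z.pow) (fun e0 => Z.ne (congrArg Subtype.val e0)) (Subtype.ext hrq)
  exact ⟨i, congrArg Subtype.val hi⟩

theorem exists_fixed : ∃ e ∈ c.Qc q ⊓ c.W a, e ≠ 1 ∧ e ^ q = 1 ∧ e ∉ zpowers f := by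
  set X := c.Qc q ⊓ c.W a with hX
  haveI : Nontrivial X := (nontrivial_iff_ne_bot X).2 Z.mixed.1
  have hXp : IsPGroup q X := (coreIn_pGroup q c.C).to_le inf_le_left
  obtain ⟨n, hn0, hn⟩ := (IsPGroup.nontrivial_iff_card hXp).1 inferInstance
  obtain ⟨e, he⟩ := exists_prime_orderOf_dvd_card' (G := X) q (hn ▸ dvd_pow_self q hn0.ne')
  have he' : orderOf (e : G) = q := by rw [Subgroup.orderOf_coe, he]
  have he1 : (e : G) ≠ 1 := fun e0 => hq.out.one_lt.ne' (by rw [← he', e0, orderOf_one])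
  refine ⟨e, e.2, he1, by rw [← he', pow_orderOf_eq_one], fun hmem => he1 ?_⟩
  have h2 : a * (e : G) * a⁻¹ = e :=
    mul_inv_eq_iff_eq_mul.2 ((Z.refl.mem_W.1 e.2.2).2).symm
  exact eq_one_of_sq_odd (by nth_rewrite 1 [h2.symm.trans (Z.line_inv hmem)]; rw [inv_mul_cancel])
    (Z.odd e.2.1)

/-- The generator of the line adapted to a moved fixed element. -/
theorem rescale {e y : G} (he : e ∈ c.Qc q ⊓ c.W a) (he1 : e ≠ 1) (hy : y ∈ c.Qc q) (hyq : y ^ q = 1)
    (hyi : a * y * a⁻¹ = y⁻¹) (hyf : y ∉ zpowers f)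
    (hmv : ∀ g ∈ c.Qc q, g * y * g⁻¹ * y⁻¹ ∈ zpowers f) :
    ∃ f', c.CentralLine a q f' ∧ zpowers f' = zpowers f ∧ y * e * y⁻¹ = e * f' := by
  set f' := e⁻¹ * y * e * y⁻¹ with hf'
  have hm : f' ∈ zpowers f := by
    have := hmv e⁻¹ (inv_mem he.1)
    rwa [inv_inv] at this
  have hne : f' ≠ 1 := fun e0 => hyf (Z.torus_line he he1 hy hyq hyi (by
    rw [hf', mul_inv_eq_one, mul_assoc, inv_mul_eq_iff_eq_mul] at e0
    exact e0))
  have hpow : f' ^ q = 1 := by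
    obtain ⟨i, hi⟩ := hm
    rw [← hi]
    show (f ^ i) ^ q = 1
    rw [← zpow_natCast, ← zpow_mul, mul_comm, zpow_mul, zpow_natCast, Z.pow, one_zpow]
  refine ⟨f', ⟨Z.refl, Z.hC, Z.ne_two, Z.mixed, Z.sec, Z.line_le hm, hne, hpow, Z.line_inv hm,
    fun g hg => Z.line_comm hg hm⟩, ?_, by rw [hf']; group⟩
  exact eq_of_le_of_card_ge (zpowers_le.2 hm)
    (by rw [Nat.card_zpowers, Nat.card_zpowers, orderOf_eq_prime hpow hne, orderOf_eq_prime Z.pow Z.ne])

variable {e y : G} (he : e ∈ c.Qc q ⊓ c.W a) (he1 : e ≠ 1) (hy : y ∈ c.Qc q) (hyq : y ^ q = 1)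
  (hyi : a * y * a⁻¹ = y⁻¹) (hyf : y ∉ zpowers f) (hye : y * e * y⁻¹ = e * f)

include he he1 hy hyq hyi hye

theorem zpow_move (i : ℤ) : y ^ i * e = e * f ^ i * y ^ i := by
  have h1 : e⁻¹ * y * e = f * y := by
    calc e⁻¹ * y * e = e⁻¹ * (y * e * y⁻¹) * y := by group
      _ = f * y := by rw [hye]; group
  have h2 : e⁻¹ * y ^ i * e = (f * y) ^ i := by
    rw [← h1, show e⁻¹ * y * e = e⁻¹ * y * e⁻¹⁻¹ by rw [inv_inv], conj_zpow, inv_inv]
  rw [(show Commute f y from (Z.cent y hy).symm).mul_zpow] at h2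
  calc y ^ i * e = e * (e⁻¹ * y ^ i * e) := by group
    _ = e * f ^ i * y ^ i := by rw [h2, mul_assoc]

/-- Inverted elements commuting with `y` lie in the plane. -/
theorem mem_plane {r : G} (hr : r ∈ c.Qc q) (hrq : r ^ q = 1) (hri : a * r * a⁻¹ = r⁻¹)
    (hry : r * y = y * r) (hre : e⁻¹ * r * e * r⁻¹ ∈ zpowers f) : r ∈ zpowers y ⊔ zpowers f := by
  obtain ⟨i, hi⟩ := hre
  simp only at hi
  set s := (y ^ i)⁻¹ * r with hs
  have hc : Commute ((y ^ i)⁻¹) r := ((show Commute y r from hry.symm).zpow_left i).inv_left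
  have hsi : a * s * a⁻¹ = s⁻¹ := by
    rw [hs, ← conj_mul, ← conj_inv, ← conj_zpow, hyi, hri, mul_inv_rev, inv_inv, inv_zpow, inv_inv]
    exact (((show Commute y r from hry.symm).zpow_left i).inv_right).eq
  have hsq : s ^ q = 1 := by
    rw [hs, hc.mul_pow, hrq, mul_one, inv_pow, ← zpow_natCast, ← zpow_mul, mul_comm, zpow_mul,
      zpow_natCast, hyq, one_zpow, inv_one]
  have hse : s * e = e * s := by
    have h1 := Z.zpow_move he he1 hy hyq hyi hye i
    have h2 : r * e = e * (f ^ i)⁻¹⁻¹ * r := by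
      rw [inv_inv, hi]; group
    rw [hs, mul_assoc, h2, inv_inv]
    calc (y ^ i)⁻¹ * (e * f ^ i * r) = (y ^ i)⁻¹ * (e * f ^ i * y ^ i) * ((y ^ i)⁻¹ * r) := by group
      _ = (y ^ i)⁻¹ * (y ^ i * e) * ((y ^ i)⁻¹ * r) := by rw [h1]
      _ = e * ((y ^ i)⁻¹ * r) := by group
  have hsm := Z.torus_line he he1 (mul_mem (inv_mem (zpow_mem hy i)) hr) hsq hsi hse
  rw [show r = y ^ i * s by rw [hs, mul_inv_cancel_left]]
  exact mul_mem (mem_sup_left (zpow_mem (mem_zpowers y) i)) (mem_sup_right hsm)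

include hyf

/-- Fixed elements moved by `y` into the line are powers of `e`. -/
theorem fixed_line {x : G} (hx : x ∈ c.Qc q ⊓ c.W a) (hxy : x⁻¹ * y * x * y⁻¹ ∈ zpowers f) :
    x ∈ zpowers e := by
  obtain ⟨i, hi⟩ := hxy
  simp only at hi
  by_contra hne
  set x' := x * (e ^ i)⁻¹ with hx'
  have hm : x' ∈ c.Qc q ⊓ c.W a := mul_mem hx (inv_mem (zpow_mem he i))
  have hx1 : x' ≠ 1 := fun e0 => hne (by rw [hx', mul_inv_eq_one] at e0; exact ⟨i, e0.symm⟩)
  refine hyf (Z.torus_line hm hx1 hy hyq hyi ?_)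
  have h1 : y * x * y⁻¹ = x * f ^ i := by rw [hi]; group
  have h2 : y * e ^ i * y⁻¹ = e ^ i * f ^ i := by
    rw [← conj_zpow, hye, (show Commute e f from Z.cent e he.1).mul_zpow]
  refine mul_inv_eq_iff_eq_mul.1 ?_
  calc y * x' * y⁻¹ = (y * x * y⁻¹) * (y * e ^ i * y⁻¹)⁻¹ := by rw [hx']; group
    _ = x' := by rw [h1, h2, hx']; group

end CentralLine

/-- There is a central line, the only one. -/
theorem exists_central_line (ha : c.Refl a) (hC : IsCoatom c.C) (hq2 : q ≠ 2) (hm : c.Mixed a q)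
    (hS : c.SecAll) (hno : ∀ A, ¬ c.MixAb a q A) :
    ∃ f, c.CentralLine a q f ∧ c.C ≤ normalizer (zpowers f : Set G) := by
  set Q := c.Qc q with hQ
  have hQp : IsPGroup q Q := coreIn_pGroup q c.C
  haveI : Nontrivial Q := (nontrivial_iff_ne_bot Q).2 fun e => hm.1 (by rw [← hQ, e, bot_inf_eq])
  haveI := hQp.center_nontrivial
  obtain ⟨n, hn0, hn⟩ := (IsPGroup.nontrivial_iff_card (hQp.to_subgroup (center Q))).1 inferInstance
  obtain ⟨z, hz⟩ := exists_prime_orderOf_dvd_card' (G := center Q) q (hn ▸ dvd_pow_self q hn0.ne')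
  set f : G := ((z : Q) : G) with hf
  have hfo : orderOf f = q := by rw [hf, Subgroup.orderOf_coe, Subgroup.orderOf_coe, hz]
  have hfc : f ∈ centralizer (Q : Set G) := mem_centralizer_iff.2 fun g hg =>
    congrArg Subtype.val (mem_center_iff.1 z.2 ⟨g, hg⟩)
  -- the central elements of order dividing `q`
  let B : Subgroup G :=
    { carrier := {r | r ∈ Q ∧ r ∈ centralizer (Q : Set G) ∧ r ^ q = 1}
      one_mem' := ⟨one_mem _, one_mem _, one_pow _⟩
      mul_mem' := fun {r s} hr hs => ⟨mul_mem hr.1 hs.1, mul_mem hr.2.1 hs.2.1, by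
        rw [(show Commute r s from mem_centralizer_iff.1 hs.2.1 r hr.1).mul_pow, hr.2.2, hs.2.2, mul_one]⟩
      inv_mem' := fun {r} hr => ⟨inv_mem hr.1, inv_mem hr.2.1, by rw [inv_pow, hr.2.2, inv_one]⟩ }
  have hBn : c.C ≤ normalizer (B : Set G) := fun g hg => mem_normalizer_fintype fun r hr => by
    refine ⟨c.Qc_conj q hg hr.1, mem_centralizer_iff.2 fun v hv => ?_,
      by rw [conj_pow, hr.2.2, mul_one, mul_inv_cancel]⟩
    have hv' : g⁻¹ * v * g ∈ Q := by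
      have := c.Qc_conj q (inv_mem hg) hv
      rwa [inv_inv] at this
    have := mem_centralizer_iff.1 hr.2.1 _ hv'
    calc v * (g * r * g⁻¹) = g * ((g⁻¹ * v * g) * r) * g⁻¹ := by group
      _ = g * r * g⁻¹ * v := by rw [this]; group
  have hBc : B ≤ centralizer (B : Set G) := fun r hr =>
    mem_centralizer_iff.2 fun s hs => mem_centralizer_iff.1 hr.2.1 s hs.1
  have hfB : f ∈ B := ⟨(z : Q).2, hfc, by rw [← hfo, pow_orderOf_eq_one]⟩
  have hBi : ∀ r ∈ B, a * r * a⁻¹ = r⁻¹ := fun r hr =>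
    inverted_of_no ha hC hq2 hm hno (show B ≤ Q from fun _ hs => hs.1) hBc (show ∀ s ∈ B, s ^ q = 1 from fun _ hs => hs.2.2) hBn hr
  have Z : c.CentralLine a q f := ⟨ha, hC, hq2, hm, hS, hfB.1,
    fun e0 => hq.out.one_lt.ne' (by rw [← hfo, e0, orderOf_one]), hfB.2.2, hBi f hfB,
    fun g hg => mem_centralizer_iff.1 hfc g hg⟩
  obtain ⟨e, he, he1, -, -⟩ := Z.exists_fixed
  refine ⟨f, Z, fun g hg => mem_normalizer_fintype fun r hr => ?_⟩
  have hr' : g * r * g⁻¹ ∈ B := (mem_normalizer_iff.1 (hBn hg) r).1 ((zpowers_le.2 hfB) hr)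
  exact Z.torus_line he he1 hr'.1 hr'.2.2 (hBi _ hr') (mem_centralizer_iff.1 hr'.2.1 e he.1).symm

/-- The split. -/
theorem split_cases (ha : c.Refl a) (hC : IsCoatom c.C) (hq2 : q ≠ 2) (hm : c.Mixed a q) (hS : c.SecAll)
    (hno : ∀ A, ¬ c.MixAb a q A) :
    (∃ e f y, c.Red a q e f y) ∨ ∃ e f y N, c.Irr a q e f y N := by
  obtain ⟨f, Z, hfn⟩ := exists_central_line ha hC hq2 hm hS hno
  obtain ⟨e₀, he₀, he₀1, he₀q, he₀f⟩ := Z.exists_fixed
  set Q := c.Qc q with hQ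
  have hQp : IsPGroup q Q := coreIn_pGroup q c.C
  by_cases hA : ∃ A ≤ Q, A ≤ centralizer (A : Set G) ∧ (∀ r ∈ A, r ^ q = 1) ∧
      c.C ≤ normalizer (A : Set G) ∧ ¬ A ≤ zpowers f
  · left
    obtain ⟨A, hAQ, hAc, hApow, hAn, hAf⟩ := hA
    have hAi : ∀ r ∈ A, a * r * a⁻¹ = r⁻¹ := fun r hr =>
      inverted_of_no ha hC hq2 hm hno hAQ hAc hApow hAn hr
    haveI : (A.subgroupOf Q).Normal := ⟨fun r hr g => by
      rw [mem_subgroupOf] at hr ⊢
      exact (mem_normalizer_iff.1 (hAn (c.Qc_le_C q g.2)) _).1 hr⟩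
    obtain ⟨⟨y, hyQ⟩, hyA, hyf, hmv⟩ := exists_normal_moved hQp ((zpowers f).subgroupOf Q) (A.subgroupOf Q)
      (fun hle => hAf fun r hr => mem_subgroupOf.1 (hle (show (⟨r, hAQ hr⟩ : Q) ∈ A.subgroupOf Q from hr)))
    rw [mem_subgroupOf] at hyA hyf
    have hmv' : ∀ g ∈ Q, g * y * g⁻¹ * y⁻¹ ∈ zpowers f := fun g hg => mem_subgroupOf.1 (hmv ⟨g, hg⟩)
    obtain ⟨f', Z', hz, hye⟩ := Z.rescale he₀ he₀1 hyQ (hApow y hyA) (hAi y hyA) hyf hmv'
    rw [← hz] at hyf hfn hmv'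
    have hnA : c.C ≤ normalizer ((zpowers y ⊔ zpowers f' : Subgroup G) : Set G) := by
      intro g hg
      have hle : zpowers y ⊔ zpowers f' ≤
          (zpowers y ⊔ zpowers f').comap (MulAut.conj g).toMonoidHom := by
        refine sup_le (zpowers_le.2 ?_) (zpowers_le.2 ?_)
        · show g * y * g⁻¹ ∈ zpowers y ⊔ zpowers f'
          have hgA : g * y * g⁻¹ ∈ A := (mem_normalizer_iff.1 (hAn hg) y).1 hyA
          refine Z'.mem_plane he₀ he₀1 hyQ (hApow y hyA) (hAi y hyA) hye (hAQ hgA) (hApow _ hgA)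
            (hAi _ hgA) (mem_centralizer_iff.1 (hAc hgA) y hyA).symm ?_
          have he' : g⁻¹ * e₀ * g ∈ Q := by
            have := c.Qc_conj q (inv_mem hg) he₀.1
            rwa [inv_inv] at this
          have h1 := (mem_normalizer_iff.1 (hfn hg) _).1 (hmv' _ (inv_mem he'))
          have h2 : g * ((g⁻¹ * e₀ * g)⁻¹ * y * (g⁻¹ * e₀ * g)⁻¹⁻¹ * y⁻¹) * g⁻¹ =
              e₀⁻¹ * (g * y * g⁻¹) * e₀ * (g * y * g⁻¹)⁻¹ := by group
          rwa [h2] at h1
        · exact mem_sup_right ((mem_normalizer_iff.1 (hfn hg) f').1 (mem_zpowers f'))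
      exact mem_normalizer_fintype fun r hr => hle hr
    refine ⟨e₀, f', y, ⟨⟨ha, hC, hq2, he₀, he₀1, he₀q, Z'.mem, Z'.ne, Z'.pow, Z'.inv, hfn, hyQ,
      hApow y hyA, hAi y hyA, Z'.cent e₀ he₀.1, Z'.cent y hyQ, hye, fun w hw =>
        (mem_normalizer_iff.1 (hnA (c.U_le (ha.mem_W.1 hw).1)) y).1 (mem_sup_left (mem_zpowers y))⟩,
      hnA, le_antisymm (fun x hx => ?_) (zpowers_le.2 he₀)⟩⟩
    refine Z'.fixed_line he₀ he₀1 hyQ (hApow y hyA) (hAi y hyA) hyf hye hx ?_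
    have := hmv' x⁻¹ (inv_mem hx.1)
    rwa [inv_inv] at this
  right
  push Not at hA
  have hfQ : ∀ {g v : G}, g ∈ Q → v ∈ zpowers f → g * v = v * g := fun hg hv => Z.line_comm hg hv
  let N : Subgroup G :=
    { carrier := {r | r ∈ Q ∧ r ^ q = 1 ∧ ∀ g ∈ Q, g * r * g⁻¹ * r⁻¹ ∈ zpowers f}
      one_mem' := ⟨one_mem _, one_pow _, fun g _ => by simp⟩
      mul_mem' := fun {r s} hr hs => ⟨mul_mem hr.1 hs.1, by
        set d := s⁻¹ * r⁻¹ * s * r with hd
        have hdm : d ∈ zpowers f := by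
          have := hr.2.2 s⁻¹ (inv_mem hs.1)
          have h2 := hr.2.2 (r * s)⁻¹ (inv_mem (mul_mem hr.1 hs.1))
          have h3 := inv_mem this
          rw [show (s⁻¹ * r * s⁻¹⁻¹ * r⁻¹)⁻¹ = r * (s⁻¹ * r⁻¹ * s) by group] at h3
          have h4 : r⁻¹ * (r * (s⁻¹ * r⁻¹ * s)) * r = r * (s⁻¹ * r⁻¹ * s) := by
            rw [mul_assoc, ← hfQ hr.1 h3, inv_mul_cancel_left]
          rw [← h4] at h3
          rw [hd]
          convert h3 using 1
          group
        have hdq : d ^ q = 1 := by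
          obtain ⟨i, hi⟩ := hdm
          rw [← hi]
          show (f ^ i) ^ q = 1
          rw [← zpow_natCast, ← zpow_mul, mul_comm, zpow_mul, zpow_natCast, Z.pow, one_zpow]
        have hba : s * r = r * s * d := by rw [hd]; group
        rw [LEOmega.mul_pow_class_two hba (show Commute d r from (hfQ hr.1 hdm).symm)
          (show Commute d s from (hfQ hs.1 hdm).symm) q, hr.2.1, hs.2.1, one_mul, one_mul]
        obtain ⟨t, ht⟩ := hq.out.dvd_choose_self (k := 2) two_ne_zero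
          (lt_of_le_of_ne hq.out.two_le (Ne.symm hq2))
        rw [ht, pow_mul, hdq, one_pow], fun g hg => by
        have h1 := hr.2.2 g hg
        have h2 := hs.2.2 g hg
        rw [show g * (r * s) * g⁻¹ * (r * s)⁻¹ =
          (g * r * g⁻¹) * (g * s * g⁻¹ * s⁻¹) * r⁻¹ by group,
          hfQ (mul_mem (mul_mem hg hr.1) (inv_mem hg)) h2, mul_assoc]
        exact mul_mem h2 h1⟩
      inv_mem' := fun {r} hr => ⟨inv_mem hr.1, by rw [inv_pow, hr.2.1, inv_one], fun g hg => by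
        have h2 := inv_mem (hr.2.2 g hg)
        rw [show (g * r * g⁻¹ * r⁻¹)⁻¹ = r * (g * r⁻¹ * g⁻¹) by group] at h2
        have h3 := hfQ (inv_mem hr.1) h2
        rw [inv_mul_cancel_left] at h3
        rw [inv_inv]
        have h4 : g * r⁻¹ * g⁻¹ * r = r * (g * r⁻¹ * g⁻¹) := by
          nth_rewrite 1 [h3]; group
        rw [h4]; exact h2⟩ }
  have hNQ : N ≤ Q := fun r hr => hr.1
  have hNn : c.C ≤ normalizer (N : Set G) := fun g hg => mem_normalizer_fintype fun r hr => by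
    refine ⟨c.Qc_conj q hg hr.1, by rw [conj_pow, hr.2.1, mul_one, mul_inv_cancel], fun v hv => ?_⟩
    have hv' : g⁻¹ * v * g ∈ Q := by
      have := c.Qc_conj q (inv_mem hg) hv
      rwa [inv_inv] at this
    have := (mem_normalizer_iff.1 (hfn hg) _).1 (hr.2.2 _ hv')
    convert this using 1
    group
  have hNab : ¬ N ≤ centralizer (N : Set G) := by
    intro hc
    have hle := hA N hNQ hc (fun r hr => hr.2.1) hNn
    obtain ⟨⟨x, hxQ⟩, hxq, hxf, hmv⟩ := exists_small_moved hq2 hQp ((zpowers f).subgroupOf Q)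
      (by rw [Nat.card_congr (subgroupOfEquivOfLe Z.line_le).toEquiv, Nat.card_zpowers,
            orderOf_eq_prime Z.pow Z.ne])
      ⟨⟨e₀, he₀.1⟩, Subtype.ext he₀q, fun h => he₀f (mem_subgroupOf.1 h)⟩
    exact hxf (mem_subgroupOf.2 (hle ⟨hxQ, congrArg Subtype.val hxq, fun g hg =>
      mem_subgroupOf.1 (hmv ⟨g, hg⟩)⟩))
  -- the parts of an element of `N`
  have haN : ∀ r ∈ N, a * r * a⁻¹ ∈ N := fun r hr => (mem_normalizer_iff.1 (hNn ha.mem_C) r).1 hr
  have hdec : ∀ r ∈ N, ∃ s ∈ N, a * s * a⁻¹ = s⁻¹ ∧ s⁻¹ * r ∈ N ⊓ c.W a := by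
    intro r hr
    obtain ⟨s, -, hsi, hw, hsz⟩ := ha.decomp (c.Qc_le_U hq2 (hNQ hr))
    have hsN : s ∈ N := (zpowers_le.2 (mul_mem hr (haN _ (inv_mem hr)))) hsz
    exact ⟨s, hsN, hsi, N.mul_mem (N.inv_mem hsN) hr, hw⟩
  have hcd : ∀ r ∈ N, ∀ s ∈ N, r * s * r⁻¹ * s⁻¹ ∈ zpowers f := fun r hr s hs => hs.2.2 r hr.1
  have hfixc : ∀ r ∈ N ⊓ c.W a, ∀ s ∈ N ⊓ c.W a, r * s = s * r := by
    intro r hr s hs
    have hd := hcd r hr.1 s hs.1
    refine comm_of_inverted (Z.line_inv hd) (Z.odd (Z.line_le hd)) ?_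
    have h1 : r * s * r⁻¹ * s⁻¹ ∈ c.W a :=
      mul_mem (mul_mem (mul_mem hr.2 hs.2) (inv_mem hr.2)) (inv_mem hs.2)
    exact mul_inv_eq_iff_eq_mul.2 ((ha.mem_W.1 h1).2).symm
  have hinvc : ∀ r ∈ N, a * r * a⁻¹ = r⁻¹ → ∀ s ∈ N, a * s * a⁻¹ = s⁻¹ → r * s = s * r := by
    intro r hr hri s hs hsi
    have hd := hcd r hr s hs
    refine comm_of_inverted (Z.line_inv hd) (Z.odd (Z.line_le hd)) ?_
    set d := r * s * r⁻¹ * s⁻¹ with hdd
    have e1 : a * d * a⁻¹ = r⁻¹ * s⁻¹ * r * s := by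
      rw [hdd, ← conj_mul, ← conj_mul, ← conj_mul, ← conj_inv, ← conj_inv, hri, hsi, inv_inv, inv_inv]
    have e2 : r * s = d * (s * r) := by rw [hdd]; group
    rw [e1, mul_assoc, e2]
    calc r⁻¹ * s⁻¹ * (d * (s * r)) = r⁻¹ * (s⁻¹ * d) * (s * r) := by group
      _ = r⁻¹ * d * r := by rw [hfQ (inv_mem hs.1) hd]; group
      _ = d := by rw [hfQ (inv_mem hr.1) hd]; group
  obtain ⟨e, he, he1⟩ : ∃ e ∈ N ⊓ c.W a, e ≠ 1 := by
    by_contra hno'
    push Not at hno'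
    refine hNab fun r hr => mem_centralizer_iff.2 fun s hs => ?_
    have hall : ∀ r ∈ N, a * r * a⁻¹ = r⁻¹ := by
      intro r hr
      obtain ⟨t, -, hti, htw⟩ := hdec r hr
      have := hno' _ htw
      rw [inv_mul_eq_one] at this
      exact this ▸ hti
    exact hinvc s hs (hall s hs) r hr (hall r hr)
  obtain ⟨y, hy, hyi, hyf⟩ : ∃ y ∈ N, a * y * a⁻¹ = y⁻¹ ∧ y ∉ zpowers f := by
    by_contra hno'
    push Not at hno'
    refine hNab fun r hr => mem_centralizer_iff.2 fun s hs => ?_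
    obtain ⟨t, htN, hti, htw⟩ := hdec r hr
    obtain ⟨t', htN', hti', htw'⟩ := hdec s hs
    have c1 : Commute t' t := (hfQ (hNQ htN') (hno' t htN hti))
    have c2 : Commute t' (t⁻¹ * r) := (hfQ (hNQ htw.1) (hno' t' htN' hti')).symm
    have c3 : Commute (t'⁻¹ * s) t := hfQ (hNQ htw'.1) (hno' t htN hti)
    have c4 : Commute (t'⁻¹ * s) (t⁻¹ * r) := hfixc _ htw' _ htw
    have := (c1.mul_left c3).mul_right (c2.mul_left c4)
    rwa [mul_inv_cancel_left, mul_inv_cancel_left] at this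
  have heW : e ∈ Q ⊓ c.W a := ⟨hNQ he.1, he.2⟩
  obtain ⟨f', Z', hz, hye⟩ := Z.rescale heW he1 hy.1 hy.2.1 hyi hyf hy.2.2
  rw [← hz] at hyf hfn
  have hplane : ∀ r ∈ N, a * r * a⁻¹ = r⁻¹ → r ∈ zpowers y ⊔ zpowers f' := by
    intro r hr hri
    refine Z'.mem_plane heW he1 hy.1 hy.2.1 hyi hye hr.1 hr.2.1 hri (hinvc r hr hri y hy hyi) ?_
    have := hr.2.2 e⁻¹ (inv_mem heW.1)
    rwa [inv_inv, ← hz] at this
  have hline : ∀ r ∈ N ⊓ c.W a, r ∈ zpowers e := by
    intro r hr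
    refine Z'.fixed_line heW he1 hy.1 hy.2.1 hyi hyf hye ⟨hr.1.1, hr.2⟩ ?_
    have := hy.2.2 r⁻¹ (inv_mem hr.1.1)
    rwa [inv_inv, ← hz] at this
  have hf'N : f' ∈ N := ⟨Z'.mem, Z'.pow, fun g hg => by
    rw [Z'.cent g hg, mul_inv_cancel_right, mul_inv_cancel]; exact one_mem _⟩
  have hNeq : N = zpowers e ⊔ zpowers y ⊔ zpowers f' := by
    refine le_antisymm (fun r hr => ?_)
      (sup_le (sup_le (zpowers_le.2 he.1) (zpowers_le.2 hy)) (zpowers_le.2 hf'N))
    obtain ⟨s, hs, hsi, hsw⟩ := hdec r hr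
    rw [show r = s * (s⁻¹ * r) by group]
    refine mul_mem (SetLike.le_def.1 (sup_le_sup_right le_sup_right _) (hplane s hs hsi)) ?_
    exact mem_sup_left (mem_sup_left (hline _ hsw))
  have hcard : Nat.card N = q ^ 3 := by
    let φ : (zpowers y × zpowers f') × zpowers e → N := fun p =>
      ⟨(p.1.1 : G) * p.1.2 * p.2, mul_mem (mul_mem ((zpowers_le.2 hy) p.1.1.2)
        ((zpowers_le.2 hf'N) p.1.2.2)) ((zpowers_le.2 he.1) p.2.2)⟩
    have hinv : ∀ (v : zpowers y) (w : zpowers f'), a * ((v : G) * w) * a⁻¹ = ((v : G) * w)⁻¹ := by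
      intro v w
      have h1 : a * (v : G) * a⁻¹ = (v : G)⁻¹ := by
        obtain ⟨i, hi⟩ := v.2
        rw [← hi]
        show a * y ^ i * a⁻¹ = (y ^ i)⁻¹
        rw [← conj_zpow, hyi, inv_zpow]
      rw [← conj_mul, h1, Z'.line_inv w.2, mul_inv_rev]
      exact Z'.line_comm (inv_mem ((zpowers_le.2 hy.1) v.2)) (inv_mem w.2)
    have hφ : Function.Bijective φ := by
      constructor
      · rintro ⟨⟨v, w⟩, u⟩ ⟨⟨v', w'⟩, u'⟩ heq
        have heq' : (v : G) * w * u = v' * w' * u' := congrArg Subtype.val heq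
        have hvw : (v : G) * w * ((v' : G) * w')⁻¹ = 1 := by
          have hu : ((v' : G) * w')⁻¹ * ((v : G) * w) = (u' : G) * (u : G)⁻¹ := by
            rw [eq_mul_inv_iff_mul_eq, mul_assoc, heq', inv_mul_cancel_left]
          have hc : Commute ((v : G) * w) (((v' : G) * w')⁻¹) := by
            refine Commute.inv_right ?_
            have hcc : ∀ (v : zpowers y) (w : zpowers f'), Commute (v : G) w := fun v w =>
              Z'.line_comm ((zpowers_le.2 hy.1) v.2) w.2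
            have hvv : Commute (v : G) v' := by
              obtain ⟨i, hi⟩ := v.2
              obtain ⟨j, hj⟩ := v'.2
              rw [← hi, ← hj]
              exact (Commute.refl y).zpow_zpow i j
            have hww : Commute (w : G) w' := by
              obtain ⟨i, hi⟩ := w.2
              obtain ⟨j, hj⟩ := w'.2
              rw [← hi, ← hj]
              exact (Commute.refl f').zpow_zpow i j
            exact (hvv.mul_left (hcc v' w).symm).mul_right ((hcc v w').mul_left hww)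
          rw [hc.eq]
          have hmem : (u' : G) * (u : G)⁻¹ ∈ c.Qc q ⊓ c.W a :=
            mul_mem ((zpowers_le.2 heW) u'.2) (inv_mem ((zpowers_le.2 heW) u.2))
          have h2 : a * ((u' : G) * (u : G)⁻¹) * a⁻¹ = (u' : G) * (u : G)⁻¹ :=
            mul_inv_eq_iff_eq_mul.2 ((ha.mem_W.1 hmem.2).2).symm
          rw [← hu] at h2
          have h3 : a * (((v' : G) * w')⁻¹ * ((v : G) * w)) * a⁻¹ = (((v' : G) * w')⁻¹ * ((v : G) * w))⁻¹ := by
            rw [← conj_mul, ← conj_inv, hinv, hinv, inv_inv, mul_inv_rev (((v' : G) * w')⁻¹), inv_inv]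
            have hc2 := hc.inv_right
            rw [inv_inv] at hc2
            exact hc2.symm.inv_right.eq
          refine eq_one_of_sq_odd ?_ (Z.odd (hu ▸ hmem.1))
          nth_rewrite 1 [h2.symm.trans h3]
          rw [inv_mul_cancel]
        have huu : u = u' := by
          rw [mul_inv_eq_one] at hvw
          rw [hvw] at heq'
          exact Subtype.ext (mul_left_cancel heq')
        have hvv : (v' : G)⁻¹ * v = 1 := by
          refine eq_one_of_two_lines hy.2.1 hyf (mul_mem (inv_mem v'.2) v.2) ?_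
          rw [mul_inv_eq_one] at hvw
          rw [show (v' : G)⁻¹ * v = w' * (w : G)⁻¹ by
            rw [eq_mul_inv_iff_mul_eq, mul_assoc, hvw, inv_mul_cancel_left]]
          exact mul_mem w'.2 (inv_mem w.2)
        rw [inv_mul_eq_one] at hvv
        obtain rfl : v' = v := Subtype.ext hvv
        rw [mul_inv_eq_one] at hvw
        obtain rfl : w = w' := Subtype.ext (mul_left_cancel hvw)
        rw [huu]
      · rintro ⟨r, hr⟩
        obtain ⟨s, hs, hsi, hsw⟩ := hdec r hr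
        have hsp := hplane s hs hsi
        have hle : zpowers f' ≤ normalizer (zpowers y : Set G) := le_trans
          (fun v hv => mem_centralizer_iff.2 fun g hg => Z'.line_comm ((zpowers_le.2 hy.1) hg) hv)
          (centralizer_le_normalizer _)
        rw [← SetLike.mem_coe, coe_mul_of_right_le_normalizer_left _ _ hle] at hsp
        obtain ⟨v, hv, w, hw, hvw⟩ := Set.mem_mul.1 hsp
        refine ⟨((⟨v, hv⟩, ⟨w, hw⟩), ⟨_, hline _ hsw⟩), Subtype.ext ?_⟩
        show v * w * (s⁻¹ * r) = r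
        rw [hvw, mul_inv_cancel_left]
    rw [← Nat.card_eq_of_bijective φ hφ, Nat.card_prod, Nat.card_prod, Nat.card_zpowers, Nat.card_zpowers,
      Nat.card_zpowers, orderOf_eq_prime hy.2.1 (fun e0 => hyf (e0 ▸ one_mem _)),
      orderOf_eq_prime Z'.pow Z'.ne, orderOf_eq_prime he.1.2.1 he1]
    ring
  refine ⟨e, f', y, N, ⟨⟨ha, hC, hq2, heW, he1, he.1.2.1, Z'.mem, Z'.ne, Z'.pow, Z'.inv, hfn, hy.1,
    hy.2.1, hyi, Z'.cent e heW.1, Z'.cent y hy.1, hye, fun w hw => ?_⟩, hNQ, hNeq, hNn, hcard,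
    fun A hAN hAc hAn => ?_⟩⟩
  · have hwC := c.U_le (ha.mem_W.1 hw).1
    have haw : a * w * a⁻¹ = w := mul_inv_eq_iff_eq_mul.2 ((ha.mem_W.1 hw).2).symm
    refine hplane _ ((mem_normalizer_iff.1 (hNn hwC) y).1 hy) ?_
    rw [← conj_mul, ← conj_mul, ← conj_inv, haw, hyi]
    group
  · rw [hz]
    exact hA A (hAN.trans hNQ) hAc (fun r hr => (hAN hr).2.1) hAn

end Core

end Cfsg.Agent.GW
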