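import Cfsg.Agent.Lib.GW.HeisSocle

/-!
The two configurations left when a reflection is mixed on no abelian normal subgroup, and the action of
the other reflection on the normal line.
-/

set_option autoImplicit false
set_option linter.unusedSectionVars false
set_option linter.style.haveILetI false

namespace Cfsg.Agent.GW

open Cfsg.Agent.TwoFus Cfsg.Agent.BenderUnique Subgroup

universe u

namespace Core

variable {G : Type u} [Group G] [Finite G] {c : Core G}

/-- The reducible configuration: the plane `⟨y, f⟩` is normal in `C`. -/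
structure Red (c : Core G) (a : G) (q : ℕ) (e f y : G) : Prop extends c.Heis a q e f y where
  normA : c.C ≤ normalizer ((zpowers y ⊔ zpowers f : Subgroup G) : Set G)
  fixQ : c.Qc q ⊓ c.W a = zpowers e

/-- The irreducible configuration: a normal extraspecial subgroup of order `q ^ 3` without normal planes. -/
structure Irr (c : Core G) (a : G) (q : ℕ) (e f y : G) (N : Subgroup G) : Prop
    extends c.Heis a q e f y where
  N_le : N ≤ c.Qc q
  N_eq : N = zpowers e ⊔ zpowers y ⊔ zpowers f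
  N_norm : c.C ≤ normalizer (N : Set G)
  N_card : Nat.card N = q ^ 3
  no_plane : ∀ A : Subgroup G, A ≤ N → A ≤ centralizer (A : Set G) → c.C ≤ normalizer (A : Set G) →
    A ≤ zpowers f

variable {a : G} {q : ℕ} [hq : Fact q.Prime] {e f y : G}

theorem eq_or_inv_of_conj {b g : G} (hb : b * b = 1) (hg : b * g * b⁻¹ ∈ zpowers g) (hgq : g ^ q = 1) :
    b * g * b⁻¹ = g ∨ b * g * b⁻¹ = g⁻¹ := by
  obtain ⟨α, hα⟩ := hg
  simp only at hα
  by_cases hg1 : g = 1
  · left; rw [hg1, mul_one, mul_inv_cancel]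
  have hor : orderOf g = q := orderOf_eq_prime hgq hg1
  have h2 : g ^ (α * α) = g := by
    rw [zpow_mul, hα, conj_zpow, hα,
      show b * (b * g * b⁻¹) * b⁻¹ = b * b * g * (b * b)⁻¹ by group, hb, one_mul, inv_one, mul_one]
  have h3 : (q : ℤ) ∣ (α - 1) * (α + 1) := by
    rw [← hor, orderOf_dvd_iff_zpow_eq_one, show (α - 1) * (α + 1) = α * α - 1 by ring, zpow_sub, h2,
      zpow_one, mul_inv_cancel]
  rcases (Nat.prime_iff_prime_int.1 hq.out).dvd_or_dvd h3 with h | h
  · left
    rw [← hα]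
    conv_rhs => rw [← zpow_one g]
    rw [zpow_eq_zpow_iff_modEq, hor]
    exact (Int.modEq_iff_dvd.2 h).symm
  · right
    rw [← hα, ← zpow_neg_one, zpow_eq_zpow_iff_modEq, hor]
    exact (Int.modEq_iff_dvd.2 (by simpa using h)).symm

namespace Heis

variable (L : c.Heis a q e f y) (hF : c.SecFineAll)

include L hF

/-- The other reflection inverts the normal line. -/
theorem other_inv {b : G} (hb : c.Refl b) : b * f * b⁻¹ = f⁻¹ := by
  rcases eq_or_inv_of_conj hb.sq ((mem_normalizer_iff.1 (L.normal hb.mem_C) f).1 (mem_zpowers f)) L.f_pow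
    with hfix | h
  swap
  · exact h
  exfalso
  have hfW : f ∈ c.W b := hb.mem_W.2 ⟨L.f_U, (mul_inv_eq_iff_eq_mul.1 hfix).symm⟩
  by_cases hQ : c.Qc q ≤ c.W b
  · obtain ⟨T, cc, hS, hfT, -⟩ := L.exists_socle hF
    have hbH : b ∈ normalizer (zpowers e : Set G) :=
      centralizer_le_normalizer _ (mem_centralizer_iff.2 (by
        rintro _ ⟨i, rfl⟩
        exact ((show Commute e b from (hb.mem_W.1 (hQ L.e_mem.1)).2).zpow_left i).eq))
    rcases hS.invol b ⟨hbH, hb.mem_C⟩ hb.sq f hfT L.f_ne ((hb.mem_W.1 hfW).2).symm with e1 | e1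
    · exact hb.ne_one e1
    · exact hb.ne_z e1
  · have hne : zpowers f ≠ ⊥ := fun e0 => L.f_ne (mem_bot.1 (e0 ▸ mem_zpowers f))
    refine hb.no_normal L.hC L.ne_two ⟨fun e0 => L.f_ne ?_, hQ⟩ hne
      (zpowers_le.2 (⟨L.f_mem, hfW⟩ : f ∈ c.Qc q ⊓ c.W b)) L.normal
    have hm : f ∈ c.Qc q ⊓ c.W b := ⟨L.f_mem, hfW⟩
    rwa [e0, mem_bot] at hm

end Heis

namespace Red

variable (R : c.Red a q e f y)

include R

/-- An involution of `C` fixes or inverts `y` modulo the line. -/
theorem y_sign {b : G} (hb : b ∈ c.C) (hb2 : b * b = 1) :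
    b * y * b⁻¹ * y⁻¹ ∈ zpowers f ∨ b * y * b⁻¹ * y ∈ zpowers f := by
  have hmem : b * y * b⁻¹ ∈ zpowers y ⊔ zpowers f :=
    (mem_normalizer_iff.1 (R.normA hb) y).1 (mem_sup_left (mem_zpowers y))
  have hle : zpowers f ≤ normalizer (zpowers y : Set G) := le_trans (zpowers_le.2
    (mem_centralizer_iff.2 (by
      rintro _ ⟨i, rfl⟩; exact ((show Commute y f from R.yf).zpow_left i).eq)))
    (centralizer_le_normalizer _)
  rw [← SetLike.mem_coe, coe_mul_of_right_le_normalizer_left _ _ hle] at hmem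
  obtain ⟨d, ⟨α, rfl⟩, w, hw, hdw⟩ := Set.mem_mul.1 hmem
  simp only at hdw
  have hwb : b * w * b⁻¹ ∈ zpowers f := (mem_normalizer_iff.1 (R.normal hb) w).1 hw
  have hcomm : ∀ v ∈ zpowers f, ∀ i : ℤ, Commute (y ^ i) v := by
    rintro _ ⟨j, rfl⟩ i
    exact (show Commute y f from R.yf).zpow_zpow i j
  -- apply the involution twice
  have h2 : y ^ (α * α - 1) ∈ zpowers f := by
    have h1 : y = y ^ (α * α) * w ^ α * (b * w * b⁻¹) := by
      calc y = b * (b * y * b⁻¹) * b⁻¹ := by
            rw [show b * (b * y * b⁻¹) * b⁻¹ = b * b * y * (b * b)⁻¹ by group, hb2]; group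
        _ = (b * y * b⁻¹) ^ α * (b * w * b⁻¹) := by
            conv_lhs => rw [← hdw]
            rw [conj_zpow]; group
        _ = _ := by rw [← hdw, (hcomm w hw α).mul_zpow, ← zpow_mul]
    have e1 : y ^ (α * α - 1) = (w ^ α * (b * w * b⁻¹))⁻¹ := by
      refine eq_inv_of_mul_eq_one_left ?_
      rw [zpow_sub, zpow_one]
      have hc : Commute y⁻¹ (w ^ α * (b * w * b⁻¹)) := by
        have := hcomm _ (mul_mem (zpow_mem hw α) hwb) 1
        rw [zpow_one] at this
        exact this.inv_left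
      rw [mul_assoc, hc.eq, ← mul_assoc, ← mul_assoc, ← h1, mul_inv_cancel]
    rw [e1]
    exact inv_mem (mul_mem (zpow_mem hw α) hwb)
  have hyne : y ∉ zpowers f := fun hy => R.f_ne (by
    obtain ⟨i, rfl⟩ := hy
    have h1 := R.conj
    rw [((show Commute f e from R.ef.symm).zpow_left i).eq, mul_inv_cancel_right] at h1
    exact mul_eq_left.1 h1.symm)
  have h3 : (q : ℤ) ∣ (α - 1) * (α + 1) := by
    rw [show (α - 1) * (α + 1) = α * α - 1 by ring]
    by_contra hnd
    refine hyne ?_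
    obtain ⟨s, t, hst⟩ := Int.isCoprime_iff_gcd_eq_one.2 (by
      rw [Int.gcd_comm]
      exact (Nat.Prime.coprime_iff_not_dvd hq.out).2 (fun h => hnd (Int.natCast_dvd.2 h)) :
      Int.gcd (α * α - 1) q = 1)
    rw [← zpow_one y, ← hst, zpow_add, mul_comm s, zpow_mul, mul_comm t, zpow_mul, zpow_natCast, R.y_pow,
      one_zpow, mul_one]
    exact zpow_mem h2 s
  rcases (Nat.prime_iff_prime_int.1 hq.out).dvd_or_dvd h3 with h | h
  · left
    obtain ⟨t, ht⟩ := h
    rw [← hdw, show α = (q : ℤ) * t + 1 by omega, zpow_add, zpow_mul, zpow_natCast, R.y_pow, one_zpow,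
      one_mul, zpow_one]
    have hc := hcomm w hw 1
    rw [zpow_one] at hc
    rw [hc.eq, mul_inv_cancel_right]
    exact hw
  · right
    obtain ⟨t, ht⟩ := h
    rw [← hdw, show α = (q : ℤ) * t + -1 by omega, zpow_add, zpow_mul, zpow_natCast, R.y_pow, one_zpow,
      one_mul, zpow_neg_one]
    have hc := (hcomm w hw 1)
    rw [zpow_one] at hc
    rw [mul_assoc, ← hc.eq, inv_mul_cancel_left]
    exact hw

end Red

end Core

end Cfsg.Agent.GW
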