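import Cfsg.Agent.Lib.GW.StepALinks
import Cfsg.Agent.Lib.TW.Local
import Cfsg.Agent.Lib.PLocal.ZJ

/-!
First step of the core proof: the odd cores of a maximal subgroup above the centraliser of the central
involution centralise it.
-/

set_option autoImplicit false
set_option linter.style.haveILetI false
set_option linter.unusedSectionVars false

namespace Cfsg.Agent.GW

open Subgroup
open Cfsg.Agent.BenderUnique (coreIn fitIn layIn)
open Cfsg.Agent.TwoFus

universe u

variable {G : Type u} [Group G] [Finite G]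

theorem conj_act {h u x u' x' : G} (hu : h * u * h⁻¹ = u') {r : G} (hr : u * x * u = r)
    (hx' : h * x * h⁻¹ = x') : u' * x' * u' = h * r * h⁻¹ := by
  subst hu hx' hr; group

theorem mem_norm_zpowers {v x : G} (h : v * x * v⁻¹ = x ∨ v * x * v⁻¹ = x⁻¹) :
    v ∈ normalizer (zpowers x : Set G) := by
  refine mem_normalizer_fintype ?_
  rintro _ ⟨i, rfl⟩
  show v * x ^ i * v⁻¹ ∈ zpowers x
  rw [← conj_zpow]
  refine zpow_mem ?_ i
  rcases h with e | e <;> rw [e]
  · exact mem_zpowers x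
  · exact inv_mem (mem_zpowers x)

/-- If `v` inverts `x` then its powers invert or fix by parity. -/
theorem pow_act {v x : G} (h : v * x * v⁻¹ = x⁻¹) (j : ℕ) :
    v ^ (2 * j) * x = x * v ^ (2 * j) ∧ v ^ (2 * j + 1) * x * (v ^ (2 * j + 1))⁻¹ = x⁻¹ := by
  have h2 : Commute (v * v) x := by
    refine mul_inv_eq_iff_eq_mul.1 ?_
    calc v * v * x * (v * v)⁻¹ = v * (v * x * v⁻¹) * v⁻¹ := by group
      _ = v * x⁻¹ * v⁻¹ := by rw [h]
      _ = (v * x * v⁻¹)⁻¹ := by group
      _ = x := by rw [h, inv_inv]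
  have h3 : Commute (v ^ (2 * j)) x := by rw [pow_mul, pow_two]; exact h2.pow_left j
  refine ⟨h3.eq, ?_⟩
  rw [pow_succ', mul_inv_rev, mul_assoc v, h3.eq]
  calc v * (x * v ^ (2 * j)) * ((v ^ (2 * j))⁻¹ * v⁻¹) = v * x * v⁻¹ := by group
    _ = x⁻¹ := h

theorem eq_one_of_inv_eq {x : G} (ho : Odd (orderOf x)) (h : x⁻¹ = x) : x = 1 := by
  have h2 : x ^ 2 = 1 := by
    rw [pow_two]; nth_rewrite 1 [← h]; exact inv_mul_cancel x
  have h3 := Nat.dvd_gcd (orderOf_dvd_of_pow_eq_one h2) dvd_rfl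
  rw [Nat.gcd_comm, Nat.coprime_two_right.2 ho, Nat.dvd_one] at h3
  exact orderOf_eq_one_iff.1 h3

variable {P : Sylow 2 G} (d : Dih (P : Subgroup G)) {q : ℕ} [Fact q.Prime] {M : Subgroup G} {a g x : G}

/-- The standing data of the contradiction. -/
structure Moved (q : ℕ) (M : Subgroup G) (a g x : G) : Prop where
  ne_two : q ≠ 2
  coatom : IsCoatom M
  cent : centralizer ({d.z} : Set G) ≤ M
  lay : layIn M = ⊥
  two : coreIn 2 M = ⊥
  memP : a ∈ (P : Subgroup G)
  refl : a ∉ zpowers d.x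
  notConj : ∀ k ∈ M, k * d.z * k⁻¹ ≠ a
  notConj' : ∀ k ∈ M, k * d.z * k⁻¹ ≠ d.z * a
  rot₁ : g * d.z * g⁻¹ = a
  rot₂ : g * a * g⁻¹ = d.z * a
  rot₃ : g * (d.z * a) * g⁻¹ = d.z
  memO : x ∈ coreIn q M
  ne_one : x ≠ 1
  inv : d.z * x * d.z = x⁻¹
  fix : a * x * a = x
  cen : ∀ z ∈ coreIn q M, d.z * z = z * d.z → x * z = z * x

namespace Moved

variable {d} (h : Moved d q M a g x)

include h

theorem a_order : orderOf a = 2 := refl_order d h.memP h.refl

theorem z_comm_a : d.z * a = a * d.z := (d.z_comm h.memP).symm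

theorem z_ne_a : d.z ≠ a := fun e => h.refl (e ▸ d.z_mem)

theorem P_le : (P : Subgroup G) ≤ M := P_le_of_cent d h.cent

theorem z_mem : d.z ∈ M := h.P_le (zpow_mem d.hx _)

theorem a_mem : a ∈ M := h.P_le h.memP

theorem x_mem : x ∈ M := map_subtype_le _ h.memO

theorem x_odd : Odd (orderOf x) := by
  obtain ⟨k, hk⟩ := (BenderUnique.coreIn_pGroup q M).exists_card_eq
  exact (odd_of_qpow h.ne_two hk).of_dvd_nat (orderOf_dvd_natCard _ h.memO)

theorem inv_ne : x⁻¹ ≠ x := fun e => h.ne_one (eq_one_of_inv_eq h.x_odd e)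

theorem inv' : d.z * x * d.z⁻¹ = x⁻¹ := by rw [inv_eq_of_mul_eq_one_right d.zz, h.inv]

theorem comm_a : a * x = x * a := (DGroup.invol_conj_eq_iff (Invol.mul_self h.a_order)).1 h.fix

/-- The conjugate of `M` containing the centraliser of `a`. -/
theorem mem_conj {v : G} (hv : v * a = a * v) : v ∈ M.map (MulAut.conj g).toMonoidHom := by
  rw [mem_map_conj]
  refine h.cent (mem_centralizer_singleton_iff.2 ?_)
  refine mul_left_cancel (a := g) (mul_right_cancel (b := g⁻¹) ?_)
  calc g * (g⁻¹ * v * g * d.z) * g⁻¹ = v * (g * d.z * g⁻¹) := by group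
    _ = (g * d.z * g⁻¹) * v := by rw [h.rot₁, hv]
    _ = g * (d.z * (g⁻¹ * v * g)) * g⁻¹ := by group

theorem sq₁ : g * g * d.z * (g * g)⁻¹ = d.z * a := by
  rw [← h.rot₂, ← h.rot₁]; group

theorem sq₂ : g * g * a * (g * g)⁻¹ = d.z := by
  calc g * g * a * (g * g)⁻¹ = g * (g * a * g⁻¹) * g⁻¹ := by group
    _ = d.z := by rw [h.rot₂, h.rot₃]

theorem sq₃ : g * g * (d.z * a) * (g * g)⁻¹ = a := by
  calc g * g * (d.z * a) * (g * g)⁻¹ = g * (g * (d.z * a) * g⁻¹) * g⁻¹ := by group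
    _ = a := by rw [h.rot₃, h.rot₁]

theorem cube_mem : g * g * g ∈ M := by
  refine h.cent (mem_centralizer_singleton_iff.2 (mul_inv_eq_iff_eq_mul.1 ?_))
  calc g * g * g * d.z * (g * g * g)⁻¹ = g * g * (g * d.z * g⁻¹) * (g * g)⁻¹ := by group
    _ = d.z := by rw [h.rot₁, h.sq₂]

theorem conj_fix : d.z * (g * g * x * (g * g)⁻¹) = g * g * x * (g * g)⁻¹ * d.z := by
  rw [← h.sq₂, _root_.conj_mul, _root_.conj_mul, h.comm_a]

variable [IsSimpleGroup G] (hK : KnownBelow.{u} (Nat.card G))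

include hK

theorem x_core_conj : x ∈ coreIn q (M.map (MulAut.conj g).toMonoidHom) := by
  refine balance hK (dihSylow_of_dih P d) (isCoatom_map_conj h.coatom g).1 (z_order' d) h.a_order
    h.z_comm_a h.z_ne_a (h.mem_conj h.z_comm_a) (h.mem_conj rfl) (h.mem_conj h.comm_a.symm) h.ne_two h.inv
    (Y := coreIn q M ⊓ M.map (MulAut.conj g).toMonoidHom)
    ((BenderUnique.coreIn_pGroup q M).to_le inf_le_left) (mem_inf.2 ⟨h.memO, h.mem_conj h.comm_a.symm⟩) ?_
  intro c hc hct
  exact inf_normalizer_le_normalizer_inf (mem_inf.2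
    ⟨BenderUnique.normalizes_coreIn q M (h.cent (mem_centralizer_singleton_iff.2 hct)), le_normalizer hc⟩)

theorem conj_mem : g * g * x * (g * g)⁻¹ ∈ coreIn q M := by
  have h1 := h.x_core_conj hK
  rw [coreIn_map, mem_map_conj] at h1
  have h2 := (mem_normalizer_iff.1 (BenderUnique.normalizes_coreIn q M h.cube_mem) _).1 h1
  rwa [show g * g * g * (g⁻¹ * x * g) * (g * g * g)⁻¹ = g * g * x * (g * g)⁻¹ by group] at h2

theorem comm_conj : x * (g * g * x * (g * g)⁻¹) = g * g * x * (g * g)⁻¹ * x :=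
  h.cen _ (h.conj_mem hK) h.conj_fix

theorem core_of_mem {H : Subgroup G} (hH : IsCoatom H) (hz : d.z ∈ H) (ha : a ∈ H) (hx : x ∈ H) :
    x ∈ coreIn q H := by
  refine balance hK (dihSylow_of_dih P d) hH.1 (z_order' d) h.a_order h.z_comm_a h.z_ne_a hz ha hx
    h.ne_two h.inv (Y := coreIn q M ⊓ H) ((BenderUnique.coreIn_pGroup q M).to_le inf_le_left)
    (mem_inf.2 ⟨h.memO, hx⟩) ?_
  intro c hc hct
  exact inf_normalizer_le_normalizer_inf (mem_inf.2
    ⟨BenderUnique.normalizes_coreIn q M (h.cent (mem_centralizer_singleton_iff.2 hct)), le_normalizer hc⟩)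

/-- With another prime in the core there is no such element. -/
theorem false_of_primes (hnc : ¬ IsMulCommutative G) {s : ℕ} [Fact s.Prime] (hqs : q ≠ s)
    (hs : coreIn s M ≠ ⊥) : False := by
  classical
  haveI : Fact (Nat.Prime 2) := ⟨Nat.prime_two⟩
  have hd := dihSylow_of_dih P d
  have ha2 := h.a_order
  obtain ⟨N, hN, hxN⟩ : ∃ N, IsCoatom N ∧ normalizer (zpowers x : Set G) ≤ N := by
    rcases eq_top_or_exists_le_coatom (normalizer (zpowers x : Set G)) with e | e
    · exfalso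
      rcases (normalizer_eq_top_iff.1 e).eq_bot_or_eq_top with e' | e'
      · exact h.ne_one (zpowers_eq_bot.1 e')
      · exact h.coatom.1 (top_le_iff.1 (e' ▸ zpowers_le.2 h.x_mem))
    · exact e
  have hcN : ∀ {v : G}, v * x = x * v → v ∈ N := fun {v} hv =>
    hxN (mem_norm_zpowers (Or.inl (by rw [hv, mul_inv_cancel_right])))
  have hzN : d.z ∈ N := hxN (mem_norm_zpowers (Or.inr h.inv'))
  have haN : a ∈ N := hcN h.comm_a
  set N2 := N.map (MulAut.conj (g * g)).toMonoidHom with hN2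
  have hN2c : IsCoatom N2 := isCoatom_map_conj hN _
  have hmem2 : ∀ {v v' : G}, v ∈ N → g * g * v * (g * g)⁻¹ = v' → v' ∈ N2 :=
    fun {v v'} hv e => ⟨v, hv, e⟩
  have hxN2 : x ∈ N2 := by
    rw [hN2, mem_map_conj]
    refine hcN ?_
    refine mul_left_cancel (a := g * g) (mul_right_cancel (b := (g * g)⁻¹) ?_)
    calc g * g * ((g * g)⁻¹ * x * (g * g) * x) * (g * g)⁻¹ = x * (g * g * x * (g * g)⁻¹) := by group
      _ = g * g * x * (g * g)⁻¹ * x := h.comm_conj hK
      _ = g * g * (x * ((g * g)⁻¹ * x * (g * g))) * (g * g)⁻¹ := by group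
  have hxO := h.core_of_mem hK hN hzN haN (hcN rfl)
  have hxO2 := h.core_of_mem hK hN2c (hmem2 haN h.sq₂) (hmem2 (mul_mem hzN haN) h.sq₃) hxN2
  -- no components
  have hE : layIn N = ⊥ := by
    by_contra hne
    have heven : 2 ∣ Nat.card ↥(layIn N) := by
      by_contra h2
      obtain ⟨L, hL⟩ : ∃ L : Subgroup N, Cfsg.IsComponent L := by
        by_contra hno
        refine hne ?_
        rw [layIn, map_eq_bot_iff_of_injective _ N.subtype_injective, eq_bot_iff, Components.layer_le_iff]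
        exact fun L hL => absurd ⟨L, hL⟩ hno
      obtain ⟨T, hT, hTc⟩ := exists_noncyclic_two hL.2
      obtain ⟨k, hk⟩ := IsPGroup.iff_card.1 hT
      have hdv : Nat.card T ∣ Nat.card ↥(layIn N) := by
        refine (card_subgroup_dvd_card T).trans ?_
        rw [Nat.card_congr (L.equivMapOfInjective _ N.subtype_injective).toEquiv]
        exact card_dvd_of_le (map_mono (Components.component_le_layer hL))
      rcases k with _ | k
      · haveI : Subsingleton T := (Nat.card_eq_one_iff_unique.1 (by rw [hk, pow_zero])).1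
        exact hTc inferInstance
      · exact h2 ((hk ▸ dvd_pow_self 2 k.succ_ne_zero).trans hdv)
    haveI := Components.layer_normal (G := ↥N)
    obtain ⟨c, hc, hc2, hct, hca⟩ := exists_fixed_involution (E := layIn N) (z_order' d) ha2 h.z_comm_a
      h.z_ne_a hzN haN (map_subtype_le _) (BenderMax.le_normalizer_map _) heven
    have hcomm : ∀ {H : Subgroup G} {v : G}, v ∈ layIn H → x ∈ coreIn q H → v * x = x * v := by
      intro H v hv hx
      refine (BenderMax.commute_elems ?_ hv (BenderUnique.coreIn_le_fit Fact.out H hx)).eq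
      rw [layIn, fitIn, ← map_commutator, Components.layer_fitting_commute, Subgroup.map_bot]
    have hcx := hcomm hc hxO
    rcases comm_involution_cases hd (z_order' d) ha2 hc2 h.z_ne_a h.z_comm_a hct.symm hca.symm
      with e | e | e <;> subst e
    · exact h.inv_ne (by rw [← h.inv, hcx, mul_assoc, d.zz, mul_one])
    · -- then `t` lies in the layer of the conjugate
      have hzE : d.z ∈ layIn N2 := by
        rw [hN2, layIn_map]; exact ⟨c, hc, h.sq₂⟩
      exact h.inv_ne (by rw [← h.inv, hcomm hzE hxO2, mul_assoc, d.zz, mul_one])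
    · exact h.inv_ne (by
        have e1 : d.z * a * x * (d.z * a)⁻¹ = x := by rw [hcx, mul_inv_cancel_right]
        rw [mul_inv_rev, show d.z * a * x * (a⁻¹ * d.z⁻¹) = d.z * (a * x * a⁻¹) * d.z⁻¹ by group,
          Invol.inv_self ha2, h.fix, h.inv'] at e1
        exact e1)
  set M1 := M.map (MulAut.conj g).toMonoidHom with hM1
  have hM1c : IsCoatom M1 := isCoatom_map_conj h.coatom g
  have hbot : ∀ r : ℕ, r.Prime → coreIn r M = ⊥ → coreIn r M1 = ⊥ := by
    intro r hr e
    haveI := Fact.mk hr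
    rw [hM1, coreIn_map, e, Subgroup.map_bot]
  -- the primes of `N` occur in `M`
  have hπ : ∀ r : ℕ, r.Prime → coreIn r N ≠ ⊥ → coreIn r M ≠ ⊥ := by
    intro r hr hne hrM
    haveI := Fact.mk hr
    set D := coreIn r N with hD
    have hDM : ∀ v ∈ D, v ∈ M → v = 1 := fun v hv hvM => mem_bot.1
      (BenderUnique.part_ii h.coatom (leads_hQF (q := q) h.memO) (leads_hQN hxN) hrM ▸ mem_inf.2 ⟨hv, hvM⟩)
    have hDM1 : ∀ v ∈ D, v ∈ M1 → v = 1 := fun v hv hvM => mem_bot.1
      (BenderUnique.part_ii hM1c (leads_hQF (q := q) (h.x_core_conj hK)) (leads_hQN hxN)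
        (hbot r hr hrM) ▸ mem_inf.2 ⟨hv, hvM⟩)
    rcases eq_or_ne r 2 with rfl | hr2
    · -- no normal 2-subgroup
      haveI : Nontrivial D := (nontrivial_iff_ne_bot D).2 hne
      obtain ⟨k, hk0, hk⟩ := (IsPGroup.nontrivial_iff_card (BenderUnique.coreIn_pGroup 2 N)).1 inferInstance
      obtain ⟨c, hc, hc2, hct, hca⟩ := exists_fixed_involution (E := D) (z_order' d) ha2 h.z_comm_a
        h.z_ne_a hzN haN (map_subtype_le _) (BenderUnique.normalizes_coreIn 2 N)
        (hk ▸ dvd_pow_self 2 hk0.ne')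
      exact Invol.ne_one hc2 (hDM c hc (h.cent (mem_centralizer_singleton_iff.2 hct)))
    · have hrq : r ≠ q := fun e => h.ne_one (mem_bot.1 (hrM ▸ e ▸ h.memO))
      have hnD : ∀ v ∈ N, ∀ w ∈ D, v * w * v⁻¹ ∈ D := fun v hv w hw =>
        (mem_normalizer_iff.1 (BenderUnique.normalizes_coreIn r N hv) w).1 hw
      have hit := inverts_of_fpf (z_order' d) (hnD _ hzN) fun v hv hvc =>
        hDM v hv (h.cent (mem_centralizer_singleton_iff.2 hvc.symm))
      have hia := inverts_of_fpf ha2 (hnD _ haN) fun v hv hvc => hDM1 v hv (h.mem_conj hvc.symm)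
      -- the conjugate links back
      have hr2' : coreIn r N2 ≠ ⊥ := by
        rw [hN2, coreIn_map, Ne, map_eq_bot_iff_of_injective _ (MulAut.conj (g * g)).injective]
        exact hne
      have hNN : N2 = N := eq_of_leads hnc hN2c hN h.ne_one hxO2 hxN hxO hE hrq.symm hr2'
        fun u hu huN => by
          haveI := Fact.mk hu
          rw [hN2, coreIn_map, Ne, map_eq_bot_iff_of_injective _ (MulAut.conj (g * g)).injective]
          exact huN
      have hgN : g * g ∈ N := by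
        have hne' : N ≠ ⊥ := fun e => h.ne_one (mem_bot.1 (e ▸ hcN rfl))
        rw [← BenderMax.normalizer_eq hN le_rfl hne' le_normalizer]
        exact mem_normalizer_iff_map_conj_eq.2 hNN
      refine hne ((eq_bot_iff_forall _).2 fun v hv => ?_)
      obtain ⟨k, hk⟩ := (BenderUnique.coreIn_pGroup r N).exists_card_eq
      have hvo : Odd (orderOf v) := (odd_of_qpow hr2 hk).of_dvd_nat (orderOf_dvd_natCard _ hv)
      -- `ta` both inverts and centralises
      refine eq_one_of_inv_eq hvo ?_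
      have e1 : d.z * a * v * (d.z * a)⁻¹ = v := by
        rw [show d.z * a * v * (d.z * a)⁻¹ = d.z * (a * v * a⁻¹) * d.z⁻¹ by group, hia v hv,
          hit _ (inv_mem hv), inv_inv]
      set w := (g * g)⁻¹ * v * (g * g) with hw
      have hwD : w ∈ D := by
        have := hnD _ (inv_mem hgN) v hv
        rwa [inv_inv] at this
      refine Eq.trans ?_ e1
      rw [← h.sq₁]
      calc v⁻¹ = g * g * w⁻¹ * (g * g)⁻¹ := by rw [hw]; group
        _ = g * g * (d.z * w * d.z⁻¹) * (g * g)⁻¹ := by rw [hit w hwD]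
        _ = g * g * d.z * (g * g)⁻¹ * v * (g * g * d.z * (g * g)⁻¹)⁻¹ := by
          rw [hw]; simp only [mul_inv_rev, inv_inv, mul_assoc]
  -- all three subgroups coincide
  have hs1 : coreIn s M1 ≠ ⊥ := by
    rw [hM1, coreIn_map, Ne, map_eq_bot_iff_of_injective _ (MulAut.conj g).injective]
    exact hs
  have e1 : M = N := eq_of_leads hnc h.coatom hN h.ne_one h.memO hxN hxO hE hqs hs hπ
  have e2 : M1 = N := eq_of_leads hnc hM1c hN h.ne_one (h.x_core_conj hK) hxN hxO hE hqs hs1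
    fun u hu huN => by
      haveI := Fact.mk hu
      rw [hM1, coreIn_map, Ne, map_eq_bot_iff_of_injective _ (MulAut.conj g).injective]
      exact hπ u hu huN
  refine h.notConj g ?_ h.rot₁
  have hne' : M ≠ ⊥ := fun e => h.ne_one (mem_bot.1 (e ▸ h.x_mem))
  rw [← BenderMax.normalizer_eq h.coatom le_rfl hne' le_normalizer]
  exact mem_normalizer_iff_map_conj_eq.2 (e2.trans e1.symm)

/-- With a single prime in the core, `Z(J)` controls fusion and gives the contradiction. -/
theorem false_of_prime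
    (hone : ∀ s : ℕ, s.Prime → s ≠ q → coreIn s M = ⊥) : False := by
  classical
  haveI : Fact (Nat.Prime 2) := ⟨Nat.prime_two⟩
  have hd := dihSylow_of_dih P d
  have hq2 := h.ne_two
  have ha2 := h.a_order
  have hsl := not_involves_sl2 P d q hq2
  set K := Cfsg.pCore q ↥M with hKd
  have hgf : Cfsg.generalizedFittingSubgroup ↥M = K := by
    rw [gfit_eq_of_layIn h.lay]
    refine le_antisymm ?_ (FittingCores.pCore_le_fitting Fact.out)
    rw [FittingCores.fitting_eq_iSup_pCore]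
    refine iSup_le fun s => ?_
    by_cases hsq : (s : ℕ) = q
    · rw [hsq]
    · rw [(map_eq_bot_iff_of_injective _ M.subtype_injective).1 (hone s s.2 hsq)]
      exact bot_le
  have hcK : centralizer (K : Set ↥M) ≤ K := by
    rw [← hgf]; exact Components.centralizer_generalizedFitting_le
  have hquad : ZJ.IsQuad q ↥M := PStable.isQuad_of_not_involves_sl2 hq2
    (PStable.not_involves_section hsl ⟨M, MonoidHom.id _, fun y => ⟨y, rfl⟩⟩)
  obtain ⟨S0⟩ : Nonempty (Sylow q M) := inferInstance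
  haveI hJn := ZJ.zJ_normal hq2 hquad hcK S0 True
  set Sg := (S0 : Subgroup M).map M.subtype with hSg
  have hOS : coreIn q M ≤ Sg := map_mono (PBasic.pCore_le_sylow S0)
  have hJmap : (ZJ.zJ q True (S0 : Subgroup M)).map M.subtype = ZJ.zJ q True Sg :=
    ZJ.zJ_map M.subtype M.subtype_injective.injOn
  have hSne : Sg ≠ ⊥ := fun e => h.ne_one (mem_bot.1 (e ▸ hOS h.memO))
  have hSp : IsPGroup q Sg := S0.isPGroup'.map _
  have hJne : ZJ.zJ q True Sg ≠ ⊥ := fun e =>
    ZJ.zCore_ne_bot (e := True) hSp hSne (le_bot_iff.1 (e ▸ ZJ.zCore_le_zJ Sg))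
  have hNJ : normalizer (ZJ.zJ q True Sg : Set G) = M := by
    refine BenderMax.normalizer_eq h.coatom ?_ hJne ?_
    · rw [← hJmap]; exact map_subtype_le _
    · rw [← hJmap]; exact BenderMax.le_normalizer_map _
  obtain ⟨S, hS⟩ := hSp.exists_le_sylow
  have hSeq : (S : Subgroup G) = Sg := by
    refine le_antisymm (TW.le_of_normalizer_le hSp S.isPGroup' (hS.trans le_normalizer)
      ((ZJ.normalizer_le_normalizer_zJ (e := True) Sg).trans hNJ.le) ?_) hS
    intro v hv
    obtain ⟨hvS, hvM⟩ := mem_inf.1 hv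
    have h3 := S0.3 (Q := (S : Subgroup G).subgroupOf M)
      (S.isPGroup'.comap_of_injective M.subtype M.subtype_injective)
      (fun w hw => hS ⟨w, hw, rfl⟩)
    exact ⟨⟨v, hvM⟩, h3 ▸ (hvS : (⟨v, hvM⟩ : M) ∈ (S : Subgroup G).subgroupOf M), rfl⟩
  obtain ⟨n, hn, hfus⟩ := PStable.exists_mem_normalizer_zJ (e := True) hq2
    (fun Y _ _ hY _ => PStable.isQuad_of_not_involves_sl2 hq2 (PStable.not_involves_section hsl hY))
    S (A := {x}) (g := g * g) (Set.singleton_subset_iff.2 (hSeq ▸ hOS h.memO))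
    (by rw [Set.image_singleton, Set.singleton_subset_iff, hSeq]; exact hOS (h.conj_mem hK))
  rw [hSeq, hNJ] at hn
  have hnx : n * x * n⁻¹ = g * g * x * (g * g)⁻¹ := hfus x rfl
  set t₁ := n⁻¹ * d.z * n with ht₁
  have ht₁M : t₁ ∈ M := mul_mem (mul_mem (inv_mem hn) h.z_mem) hn
  have ht₁2 : orderOf t₁ = 2 := by
    rw [ht₁, show n⁻¹ * d.z * n = n⁻¹ * d.z * n⁻¹⁻¹ by group, Invol.order_conj, z_order' d]
  have ht₁x : t₁ * x = x * t₁ := by
    have e := h.conj_fix
    rw [← hnx] at e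
    calc t₁ * x = n⁻¹ * (d.z * (n * x * n⁻¹)) * n := by rw [ht₁]; group
      _ = n⁻¹ * (n * x * n⁻¹ * d.z) * n := by rw [e]
      _ = x * t₁ := by rw [ht₁]; group
  have ht₁c : n⁻¹ * d.z * n⁻¹⁻¹ = t₁ := by rw [ht₁, inv_inv]
  -- an involution of `M` conjugate to `t`, commuting with `a` and centralising `x`
  obtain ⟨c, hcM, ⟨k, hk, hkc⟩, hcx, hca⟩ :
      ∃ c ∈ M, (∃ k ∈ M, k * d.z * k⁻¹ = c) ∧ c * x = x * c ∧ c * a = a * c := by
    by_cases hcom : a * t₁ = t₁ * a
    · exact ⟨t₁, ht₁M, ⟨n⁻¹, inv_mem hn, ht₁c⟩, ht₁x, hcom.symm⟩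
    have heven : Even (orderOf (a * t₁)) := by
      refine Nat.not_odd_iff_even.1 fun ho => ?_
      obtain ⟨u, hu, hue⟩ := Invol.conj_of_odd ha2 ht₁2 ho
      have huM : u ∈ M := (closure_le _).2 (by
        rintro _ (rfl | rfl)
        · exact h.a_mem
        · exact ht₁M) hu
      refine h.notConj (u⁻¹ * n⁻¹) (mul_mem (inv_mem huM) (inv_mem hn)) ?_
      rw [show u⁻¹ * n⁻¹ * d.z * (u⁻¹ * n⁻¹)⁻¹ = u⁻¹ * (n⁻¹ * d.z * n⁻¹⁻¹) * u by group, ht₁c, ← hue]
      group
    obtain ⟨j, hj⟩ := heven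
    set z₀ := (a * t₁) ^ j with hz₀
    have hpos := orderOf_pos (a * t₁)
    have hz₀1 : z₀ ≠ 1 := pow_ne_one_of_lt_orderOf (by omega) (by omega)
    have hz₀2 : orderOf z₀ = 2 := Invol.order_two_of_sq
      (by rw [hz₀, ← pow_add, ← hj, pow_orderOf_eq_one]) hz₀1
    have hz₀a : a * z₀ = z₀ * a := by
      have e := Invol.conj_pow (Invol.conj_mul ha2 ht₁2) j
      rw [← hz₀, Invol.inv_self hz₀2] at e
      exact mul_inv_eq_iff_eq_mul.1 e
    have hz₀t : t₁ * z₀ = z₀ * t₁ := by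
      have e : Commute (a * t₁) z₀ := (Commute.refl (a * t₁)).pow_right j
      have e' : Commute (a⁻¹ * (a * t₁)) z₀ := Commute.mul_left (Commute.inv_left hz₀a) e
      rw [inv_mul_cancel_left] at e'
      exact e'.eq
    have hne : a ≠ z₀ := fun e => hcom (by
      have := hz₀t
      rw [← e] at this
      exact this.symm)
    have hz₀M : z₀ ∈ M := pow_mem (mul_mem h.a_mem ht₁M) j
    have hz₀x : z₀ * x = x * z₀ :=
      ((Commute.mul_left (h.comm_a : Commute a x) ht₁x).pow_left j).eq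
    obtain ⟨k, hk, e | e | e⟩ := four_meets d h.P_le ha2 hz₀2 hz₀a hne h.a_mem hz₀M
    · exact absurd e (h.notConj k hk)
    · exact ⟨z₀, hz₀M, ⟨k, hk, e⟩, hz₀x, hz₀a.symm⟩
    · exact ⟨a * z₀, mul_mem h.a_mem hz₀M, ⟨k, hk, e⟩,
        (Commute.mul_left (h.comm_a : Commute a x) hz₀x).eq,
        (Commute.mul_left (Commute.refl a) (hz₀a.symm : Commute z₀ a)).eq⟩
  have hc2 : orderOf c = 2 := by rw [← hkc, Invol.order_conj, z_order' d]
  have hcz : c ≠ d.z := fun e => h.inv_ne (by rw [← h.inv, ← e, hcx, mul_assoc, Invol.mul_self hc2, mul_one])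
  have hact : d.z * c * x * (d.z * c)⁻¹ = x⁻¹ := by
    rw [show d.z * c * x * (d.z * c)⁻¹ = d.z * (c * x * c⁻¹) * d.z⁻¹ by group, hcx, mul_inv_cancel_right,
      h.inv']
  have heven : Even (orderOf (d.z * c)) := by
    refine Nat.not_odd_iff_even.1 fun ho => ?_
    obtain ⟨i, hi⟩ := ho
    have e := (pow_act hact i).2
    rw [← hi, pow_orderOf_eq_one, one_mul, inv_one, mul_one] at e
    exact h.inv_ne e.symm
  obtain ⟨i, hi⟩ := heven
  set w := (d.z * c) ^ i with hw
  have hpos := orderOf_pos (d.z * c)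
  have hw1 : w ≠ 1 := pow_ne_one_of_lt_orderOf (by omega) (by omega)
  have hw2 : orderOf w = 2 := Invol.order_two_of_sq
    (by rw [hw, ← pow_add, ← hi, pow_orderOf_eq_one]) hw1
  have hwz : d.z * w = w * d.z := by
    have e := Invol.conj_pow (Invol.conj_mul (z_order' d) hc2) i
    rw [← hw, Invol.inv_self hw2] at e
    exact mul_inv_eq_iff_eq_mul.1 e
  have hwc : c * w = w * c := by
    have e : Commute (d.z * c) w := (Commute.refl (d.z * c)).pow_right i
    have e' : Commute (d.z⁻¹ * (d.z * c)) w := Commute.mul_left (Commute.inv_left hwz) e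
    rw [inv_mul_cancel_left] at e'
    exact e'.eq
  have hwa : w * a = a * w := ((Commute.mul_left (h.z_comm_a : Commute d.z a) hca).pow_left i).eq
  have hcomm : d.z * c = c * d.z := by
    rcases comm_involution_cases hd (z_order' d) ha2 hw2 h.z_ne_a h.z_comm_a hwz hwa.symm with e | e | e
    · rw [e] at hwc; exact hwc.symm
    · exfalso
      rcases Nat.even_or_odd' i with ⟨j, rfl | rfl⟩
      · refine h.notConj' ((d.z * c) ^ (j : ℤ)) (zpow_mem (mul_mem h.z_mem hcM) _) ?_
        rw [Invol.zpow_mul_conj (Invol.conj_mul (z_order' d) hc2), show (2 : ℤ) * j = ((2 * j : ℕ) : ℤ) by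
          push_cast; rfl, zpow_natCast, ← hw, e]
        exact h.z_comm_a.symm
      · have e' := (pow_act hact j).2
        rw [← hw, e, h.comm_a, mul_inv_cancel_right] at e'
        exact h.inv_ne e'.symm
    · rw [e] at hwc
      have e' : c * (d.z * a * a) = d.z * a * a * c :=
        (Commute.mul_right (show Commute c (d.z * a) from hwc) hca).eq
      rw [mul_assoc d.z, Invol.mul_self ha2, mul_one] at e'
      exact e'.symm
  rcases comm_involution_cases hd (z_order' d) ha2 hc2 h.z_ne_a h.z_comm_a hcomm hca.symm with e | e | e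
  · exact hcz e
  · exact h.notConj k hk (hkc.trans e)
  · exact h.notConj' k hk (hkc.trans e)

end Moved

/-- Step A. -/
theorem stepA [IsSimpleGroup G] (hnc : ¬ IsMulCommutative G) (P : Sylow 2 G)
    (d : Dih (P : Subgroup G)) (hK : KnownBelow.{u} (Nat.card G)) {M : Subgroup G} (hM : IsCoatom M)
    (hCM : centralizer ({d.z} : Set G) ≤ M) (q : ℕ) [Fact q.Prime] (hq : q ≠ 2) :
    coreIn q M ≤ centralizer ({d.z} : Set G) := by
  classical
  by_cases h2 : coreIn 2 M = ⊥
  swap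
  · exact coreIn_le_cent_of_two d hnc hM hCM hq h2
  by_cases hE : layIn M = ⊥
  swap
  · exact coreIn_le_cent_of_layer d hCM hE
  intro x₀ hx₀
  by_contra hx₀c
  have hx₀c' : d.z * x₀ ≠ x₀ * d.z := fun e => hx₀c (mem_centralizer_singleton_iff.2 e.symm)
  obtain ⟨b, hb, hbx, hnb, hnzb⟩ := exists_bad_refl d hnc hM hCM hq hx₀ hx₀c'
  obtain ⟨x, hx, hx1, hxi, hfix, hcen⟩ := exists_moved d (P_le_of_cent d hCM) hq hb hbx hx₀ hx₀c'
  obtain ⟨a, ha, hax, hna, hnza, hxa⟩ : ∃ a ∈ (P : Subgroup G), a ∉ zpowers d.x ∧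
      (∀ k ∈ M, k * d.z * k⁻¹ ≠ a) ∧ (∀ k ∈ M, k * d.z * k⁻¹ ≠ d.z * a) ∧ a * x * a = x := by
    rcases hfix with e | e
    · exact ⟨b, hb, hbx, hnb, hnzb, e⟩
    · refine ⟨d.z * b, mul_mem (zpow_mem d.hx _) hb,
        fun h => hbx ((Subgroup.mul_mem_cancel_left _ d.z_mem).1 h), hnzb, ?_, e⟩
      intro k hk
      rw [← mul_assoc, d.zz, one_mul]
      exact hnb k hk
  obtain ⟨g, h1, h2', h3⟩ := refl_rot d hnc ha hax
  have h : Moved d q M a g x :=
    ⟨hq, hM, hCM, hE, h2, ha, hax, hna, hnza, h1, h2', h3, hx, hx1, hxi, hxa, hcen⟩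
  by_cases hs : ∃ s : ℕ, s.Prime ∧ s ≠ q ∧ coreIn s M ≠ ⊥
  · obtain ⟨s, hs, hsq, hsne⟩ := hs
    haveI := Fact.mk hs
    exact h.false_of_primes hK hnc hsq.symm hsne
  · push Not at hs
    exact h.false_of_prime hK hs

end Cfsg.Agent.GW
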