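import Cfsg.Agent.Lib.GW.Balance
import Cfsg.Agent.Lib.GW.DihBasic
import Cfsg.Agent.Lib.TwoGroups.DihFusion
import Cfsg.Agent.Lib.PStable.FusionControl
import Cfsg.Agent.Lib.LocalEven.Basic

/-!
Lemmas for the first step of the core proof of the dihedral theorem.
-/

set_option autoImplicit false
set_option linter.style.haveILetI false
set_option linter.unusedSectionVars false

namespace Cfsg.Agent.GW

open Subgroup
open Cfsg.Agent.BenderUnique (coreIn fitIn layIn)
open Cfsg.Agent.TwoFus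

universe u

variable {G : Type u} [Group G] [Finite G]

/-- A description of the Sylow 2-subgroup gives the dihedral hypothesis. -/
theorem dihSylow_of_dih (P : Sylow 2 G) (d : Dih (P : Subgroup G)) : DihSylow G := by
  refine ⟨P, d.m, d.two_le, TwoLift.dihedral_equiv d.hm d.yy d.inv d.ynot
    (le_antisymm (fun a ha => ?_) ((closure_le _).2 ?_))⟩
  · rcases d.cases a ha with ⟨i, rfl⟩ | ⟨i, rfl⟩
    · exact zpow_mem (subset_closure (by simp)) i
    · exact mul_mem (zpow_mem (subset_closure (by simp)) i) (subset_closure (by simp))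
  · rintro _ (rfl | rfl)
    · exact d.hx
    · exact d.hy

theorem klein_of_comm {u v : G} (hu : orderOf u = 2) (hv : orderOf v = 2) (h : u * v = v * u)
    (hne : u ≠ v) : IsKleinFour (closure ({u, v} : Set G)) := by
  refine isKleinFour_of_pair (Invol.mul_self hu) (Invol.mul_self hv) h.symm (Invol.ne_one hu) ?_
  rintro ⟨i, hi⟩
  change u ^ i = v at hi
  rcases Int.even_or_odd i with ⟨j, rfl⟩ | ⟨j, rfl⟩
  · rw [← two_mul, zpow_mul, zpow_two, Invol.mul_self hu, one_zpow] at hi
    exact Invol.ne_one hv hi.symm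
  · rw [zpow_add, zpow_mul, zpow_two, Invol.mul_self hu, one_zpow, one_mul, zpow_one] at hi
    exact hne hi

/-- An involution of a commutative pair and its product with the other. -/
theorem order_mul_of_comm {u v : G} (hu : orderOf u = 2) (hv : orderOf v = 2) (h : u * v = v * u)
    (hne : u ≠ v) : orderOf (u * v) = 2 := by
  refine Invol.order_two_of_sq ?_ fun e => hne ?_
  · rw [mul_assoc, ← mul_assoc v, ← h, mul_assoc u v v, Invol.mul_self hv, mul_one, Invol.mul_self hu]
  · rw [eq_inv_of_mul_eq_one_left e, Invol.inv_self hv]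

/-! ### Transport -/

theorem coreIn_map (e : G ≃* G) (q : ℕ) [Fact q.Prime] (M : Subgroup G) :
    coreIn q (M.map e.toMonoidHom) = (coreIn q M).map e.toMonoidHom := by
  have h := LEBasic.map_pCore_equiv (p := q) (M.equivMapOfInjective e.toMonoidHom e.injective)
  simp only [coreIn, ← h, map_map]
  rfl

theorem layIn_map (e : G ≃* G) (M : Subgroup G) :
    layIn (M.map e.toMonoidHom) = (layIn M).map e.toMonoidHom := by
  have h := Components.layer_map_equiv (M.equivMapOfInjective e.toMonoidHom e.injective)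
  simp only [layIn, ← h, map_map]
  rfl

theorem mem_map_conj {g v : G} {M : Subgroup G} :
    v ∈ M.map (MulAut.conj g).toMonoidHom ↔ g⁻¹ * v * g ∈ M := by
  constructor
  · rintro ⟨w, hw, rfl⟩
    show g⁻¹ * (g * w * g⁻¹) * g ∈ M
    rwa [show g⁻¹ * (g * w * g⁻¹) * g = w by group]
  · intro h
    refine ⟨_, h, ?_⟩
    show g * (g⁻¹ * v * g) * g⁻¹ = v
    group

theorem isCoatom_map_conj {M : Subgroup G} (hM : IsCoatom M) (g : G) :
    IsCoatom (M.map (MulAut.conj g).toMonoidHom) :=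
  ((MulAut.conj g : G ≃* G).mapSubgroup.isCoatom_iff M).2 hM

/-! ### Fixed involutions and four-groups -/

/-- A four-group normalising a subgroup of even order centralises an involution in it. -/
theorem exists_fixed_involution {N E : Subgroup G} {t a : G} (ht : orderOf t = 2) (ha : orderOf a = 2)
    (hta : t * a = a * t) (hne : t ≠ a) (htN : t ∈ N) (haN : a ∈ N) (hEN : E ≤ N)
    (hn : N ≤ normalizer (E : Set G)) (h2 : 2 ∣ Nat.card E) :
    ∃ c ∈ E, orderOf c = 2 ∧ c * t = t * c ∧ c * a = a * c := by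
  haveI : Fact (Nat.Prime 2) := ⟨Nat.prime_two⟩
  have hV := klein_of_comm ht ha hta hne
  have hVN : closure ({t, a} : Set G) ≤ N := (closure_le _).2 (by
    rintro _ (rfl | rfl) <;> assumption)
  have hV' : IsPGroup 2 ((closure ({t, a} : Set G)).subgroupOf N) :=
    IsPGroup.of_card (n := 2) (by
      rw [Nat.card_congr (subgroupOfEquivOfLe hVN).toEquiv, hV.card_four]; norm_num)
  obtain ⟨R, hR⟩ := hV'.exists_le_sylow
  haveI : (E.subgroupOf N).Normal := normal_subgroupOf_iff_le_normalizer hEN |>.2 hn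
  obtain ⟨c₀, hc₀⟩ := exists_prime_orderOf_dvd_card' (G := E.subgroupOf N) 2
    (by rwa [Nat.card_congr (subgroupOfEquivOfLe hEN).toEquiv])
  rw [← orderOf_coe] at hc₀
  obtain ⟨g, hg⟩ := exists_conj_mem R (a := (c₀ : N)) (k := 1) (by rw [hc₀]; rfl)
  have hne' : (E.subgroupOf N).subgroupOf (R : Subgroup N) ≠ ⊥ := by
    intro hb
    have hm : (⟨g * (c₀ : N) * g⁻¹, hg⟩ : (R : Subgroup N)) ∈ (E.subgroupOf N).subgroupOf (R : Subgroup N) :=
      (inferInstance : (E.subgroupOf N).Normal).conj_mem _ c₀.2 g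
    rw [hb, mem_bot] at hm
    have h1 : g * (c₀ : N) * g⁻¹ = 1 := congrArg Subtype.val hm
    rw [conj_eq_one_iff] at h1
    rw [h1, orderOf_one] at hc₀
    omega
  haveI := R.isPGroup'.isNilpotent
  have hZ := SolvStruct.inf_center_ne_bot hne'
  obtain ⟨z, hz, hz2⟩ : ∃ z ∈ (E.subgroupOf N).subgroupOf (R : Subgroup N) ⊓ center _,
      orderOf z = 2 := by
    set Z := (E.subgroupOf N).subgroupOf (R : Subgroup N) ⊓ center (R : Subgroup N)
    haveI : Nontrivial Z := (nontrivial_iff_ne_bot Z).2 hZ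
    obtain ⟨k, hk0, hk⟩ := (IsPGroup.nontrivial_iff_card (R.isPGroup'.to_subgroup Z)).1 inferInstance
    obtain ⟨z, hz⟩ := exists_prime_orderOf_dvd_card' (G := Z) 2 (hk ▸ dvd_pow_self 2 hk0.ne')
    exact ⟨z, z.2, by rw [orderOf_coe, hz]⟩
  rw [← orderOf_coe, ← orderOf_coe] at hz2
  have hcomm : ∀ v (hv : v ∈ N), v ∈ closure ({t, a} : Set G) →
      ((z : N) : G) * v = v * ((z : N) : G) := by
    intro v hv hvV
    exact (congrArg (fun r : (R : Subgroup N) => ((r : N) : G))
      (mem_center_iff.1 hz.2 ⟨⟨v, hv⟩, hR hvV⟩)).symm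
  exact ⟨_, hz.1, hz2, hcomm t htN (subset_closure (by simp)),
    hcomm a haN (subset_closure (by simp))⟩

/-- Every four-group in a subgroup above the Sylow 2-subgroup meets the class of its central
involution there. -/
theorem four_meets {P : Sylow 2 G} (d : Dih (P : Subgroup G)) {M : Subgroup G}
    (hPM : (P : Subgroup G) ≤ M) {u v : G} (hu : orderOf u = 2) (hv : orderOf v = 2)
    (huv : u * v = v * u) (hne : u ≠ v) (huM : u ∈ M) (hvM : v ∈ M) :
    ∃ k ∈ M, k * d.z * k⁻¹ = u ∨ k * d.z * k⁻¹ = v ∨ k * d.z * k⁻¹ = u * v := by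
  haveI : Fact (Nat.Prime 2) := ⟨Nat.prime_two⟩
  set U := closure ({u, v} : Set G) with hUdef
  have hUM : U ≤ M := (closure_le _).2 (by rintro _ (rfl | rfl) <;> assumption)
  have hU : IsKleinFour U := klein_of_comm hu hv huv hne
  obtain ⟨g, hg⟩ := exists_klein_conj_le (P.subtype hPM) (subgroupOf_klein hU hUM)
  have hle : U.map (MulAut.conj (g : G)).toMonoidHom ≤ (P : Subgroup G) := by
    rintro _ ⟨w, hw, rfl⟩
    have := hg ⟨⟨w, hUM hw⟩, hw, rfl⟩
    rw [Sylow.coe_subtype] at this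
    exact this
  obtain ⟨hz, -⟩ := d.klein_z_mem (klein_map_conj hU _) hle
  obtain ⟨w, hw, he⟩ := hz
  change (g : G) * w * (g : G)⁻¹ = d.z at he
  haveI : IsMulCommutative U := hU.isMulCommutative
  have hwc : ∀ x ∈ U, x * w = w * x := fun x hx =>
    congrArg Subtype.val (mul_comm' (⟨x, hx⟩ : U) ⟨w, hw⟩)
  have hw2 : orderOf w = 2 := by
    rw [← Invol.order_conj (g : G) w, he]; exact Invol.order_two_of_sq d.zz d.z_ne
  have hk : (g : G)⁻¹ * d.z * (g : G)⁻¹⁻¹ = w := by rw [← he]; group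
  refine ⟨(g : G)⁻¹, inv_mem g.2, ?_⟩
  rcases comm_involution_cases (dihSylow_of_dih P d) hu hv hw2 hne huv
    (hwc u (subset_closure (by simp))) (hwc v (subset_closure (by simp))) with e | e | e
  · exact Or.inl (hk.trans e)
  · exact Or.inr (Or.inl (hk.trans e))
  · exact Or.inr (Or.inr (hk.trans e))

/-- A reflection of `P`. -/
theorem refl_order {P : Sylow 2 G} (d : Dih (P : Subgroup G)) {a : G} (ha : a ∈ (P : Subgroup G))
    (hax : a ∉ zpowers d.x) : orderOf a = 2 :=
  Invol.order_two_of_sq (d.out_sq a ha hax) fun e => hax (e ▸ one_mem _)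

/-- The square of the rotation generator lies in a normalised subgroup with a reflection. -/
theorem x_sq_mem {P : Sylow 2 G} (d : Dih (P : Subgroup G)) {H : Subgroup G}
    (hn : (P : Subgroup G) ≤ normalizer (H : Set G)) {a : G} (ha : a ∈ H) (haP : a ∈ (P : Subgroup G))
    (hax : a ∉ zpowers d.x) : d.x * d.x ∈ H := by
  obtain ⟨i, rfl⟩ : ∃ i : ℤ, a = d.x ^ i * d.y := by
    rcases d.cases a haP with ⟨i, rfl⟩ | h
    · exact absurd (zpow_mem (mem_zpowers d.x) i) hax
    · exact h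
  have h1 := mul_mem ((mem_normalizer_iff.1 (hn d.hx) _).1 ha) (inv_mem ha)
  have h2 : d.y * d.x⁻¹ = d.x * d.y := by
    have := d.swap (-1)
    simpa using this
  have e : d.x * (d.x ^ i * d.y) * d.x⁻¹ * (d.x ^ i * d.y)⁻¹ = d.x * d.x := by
    calc d.x * (d.x ^ i * d.y) * d.x⁻¹ * (d.x ^ i * d.y)⁻¹
        = d.x * d.x ^ i * (d.y * d.x⁻¹) * d.y⁻¹ * (d.x ^ i)⁻¹ := by group
      _ = d.x * d.x ^ i * (d.x * d.y) * d.y⁻¹ * (d.x ^ i)⁻¹ := by rw [h2]
      _ = d.x * d.x := by group; rw [zpow_two]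
  rwa [e] at h1

theorem z_mem_of_sq {P : Sylow 2 G} (d : Dih (P : Subgroup G)) {H : Subgroup G} (h : d.x * d.x ∈ H)
    (h4 : 4 ∣ d.m) : d.z ∈ H := by
  obtain ⟨k, hk⟩ := h4
  have e : d.z = (d.x * d.x) ^ (k : ℤ) := by
    rw [Dih.z, ← zpow_two, ← zpow_mul, hk]
    congr 1
    push_cast
    omega
  exact e ▸ zpow_mem h _

theorem m_cases {P : Sylow 2 G} (d : Dih (P : Subgroup G)) : d.m = 2 ∨ 4 ∣ d.m := by
  by_cases h : 4 < Nat.card (P : Subgroup G)
  · exact Or.inr (d.four_dvd P.isPGroup' h)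
  · left
    have := d.card
    have := d.two_le
    omega

/-- A normalised non-cyclic subgroup of `P` contains the central involution. -/
theorem z_mem_of_noncyclic {P : Sylow 2 G} (d : Dih (P : Subgroup G)) {H : Subgroup G}
    (hHP : H ≤ (P : Subgroup G)) (hn : (P : Subgroup G) ≤ normalizer (H : Set G))
    (hH : ¬ IsCyclic H) : d.z ∈ H := by
  obtain ⟨a, ha, hax⟩ : ∃ a ∈ H, a ∉ zpowers d.x := by
    by_contra h
    push Not at h
    exact hH (isCyclic_of_le (fun a ha => h a ha : H ≤ zpowers d.x))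
  rcases m_cases d with hm | hm
  · have hP : Nat.card (P : Subgroup G) = 4 := by rw [d.card, hm]
    have hd := hP ▸ card_dvd_of_le hHP
    have hne : Nat.card H = 4 := by
      obtain ⟨k, hk, he⟩ := (Nat.dvd_prime_pow Nat.prime_two).1 (show Nat.card H ∣ 2 ^ 2 from hd)
      rw [he]
      interval_cases k
      · exfalso
        refine hH ?_
        haveI : Subsingleton H := (Nat.card_eq_one_iff_unique.1 (by rw [he]; rfl)).1
        infer_instance
      · exfalso
        haveI : Fact (Nat.Prime 2) := ⟨Nat.prime_two⟩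
        exact hH (isCyclic_of_prime_card (p := 2) (by rw [he]; rfl))
      · rfl
    rw [Subgroup.eq_of_le_of_card_ge hHP (by rw [hne, hP])]
    exact zpow_mem d.hx _
  · exact z_mem_of_sq d (x_sq_mem d hn ha (hHP ha) hax) hm

/-- The preimage in a quasisimple group of a four-group: some 2-subgroup is not cyclic. -/
theorem exists_noncyclic_two {L : Type u} [Group L] [Finite L] (h : Cfsg.IsQuasisimple L) :
    ∃ T : Subgroup L, IsPGroup 2 T ∧ ¬ IsCyclic T := by
  haveI : Fact (Nat.Prime 2) := ⟨Nat.prime_two⟩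
  haveI := h.2
  have hncyc : ¬ IsCyclic (L ⧸ center L) := fun hc =>
    Components.quasisimple_not_commutative h ⟨⟨(MonoidHom.isMulCommutative_of_isCyclic_of_ker_le_center
      (QuotientGroup.mk' (center L)) (QuotientGroup.ker_mk' _).le).is_comm.comm⟩⟩
  obtain ⟨E, hE⟩ := S0204.result hncyc
  haveI := hE
  obtain ⟨R⟩ : Nonempty (Sylow 2 L) := inferInstance
  refine ⟨R, R.isPGroup', fun hc => ?_⟩
  obtain ⟨R', hR'⟩ := (IsPGroup.of_card (n := 2) hE.card_four : IsPGroup 2 E).exists_le_sylow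
  set R₁ := R.mapSurjective (QuotientGroup.mk'_surjective (center L))
  haveI : IsCyclic (R₁ : Subgroup (L ⧸ center L)) :=
    isCyclic_of_surjective ((QuotientGroup.mk' (center L)).subgroupMap (R : Subgroup L))
      (MonoidHom.subgroupMap_surjective _ _)
  haveI : IsCyclic (R' : Subgroup (L ⧸ center L)) :=
    isCyclic_of_surjective (R₁.equiv R').toMonoidHom (MulEquiv.surjective _)
  exact IsKleinFour.not_isCyclic (isCyclic_of_le hR' : IsCyclic E)

/-- A layer contains the central involution of the Sylow 2-subgroup. -/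
theorem z_mem_layIn {P : Sylow 2 G} (d : Dih (P : Subgroup G)) {M : Subgroup G}
    (hPM : (P : Subgroup G) ≤ M) (hE : layIn M ≠ ⊥) : d.z ∈ layIn M := by
  haveI : Fact (Nat.Prime 2) := ⟨Nat.prime_two⟩
  obtain ⟨L, hL⟩ : ∃ L : Subgroup M, Cfsg.IsComponent L := by
    by_contra hno
    refine hE ?_
    rw [layIn, (map_eq_bot_iff_of_injective _ M.subtype_injective), eq_bot_iff, Components.layer_le_iff]
    exact fun L hL => absurd ⟨L, hL⟩ hno
  obtain ⟨T, hT, hTc⟩ := exists_noncyclic_two hL.2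
  set T' := T.map L.subtype with hT'
  obtain ⟨R, hR⟩ := (hT.map L.subtype).exists_le_sylow
  obtain ⟨k, hk⟩ := MulAction.exists_smul_eq M R (P.subtype hPM)
  haveI := Components.layer_normal (G := ↥M)
  have hmap : T'.map ((MulAut.conj k).toMonoidHom) ≤
      (layIn M ⊓ (P : Subgroup G)).subgroupOf M := by
    rintro _ ⟨v, hv, rfl⟩
    obtain ⟨w, hw, rfl⟩ := hv
    refine mem_subgroupOf.2 (mem_inf.2 ⟨⟨(MulAut.conj k) (w : M), ?_, rfl⟩, ?_⟩)
    · exact (inferInstance : (Cfsg.layer ↥M).Normal).conj_mem _ (Components.component_le_layer hL w.2) k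
    · have h1 : (MulAut.conj k) (w : M) ∈ ((k • R : Sylow 2 M) : Subgroup M) :=
        smul_mem_pointwise_smul (L.subtype w) (MulAut.conj k) (R : Subgroup M) (hR ⟨w, hw, rfl⟩)
      rw [hk, Sylow.coe_subtype] at h1
      exact h1
  refine (mem_inf.1 (z_mem_of_noncyclic d (H := layIn M ⊓ (P : Subgroup G)) inf_le_right
    ((le_inf (hPM.trans (BenderMax.le_normalizer_map _)) le_normalizer).trans
      inf_normalizer_le_normalizer_inf) fun hc => hTc ?_)).1
  haveI := hc
  haveI : IsCyclic ((layIn M ⊓ (P : Subgroup G)).subgroupOf M) :=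
    isCyclic_of_surjective (subgroupOfEquivOfLe (inf_le_right.trans hPM)).symm.toMonoidHom
      (MulEquiv.surjective _)
  haveI : IsCyclic (T'.map (MulAut.conj k).toMonoidHom) := isCyclic_of_le hmap
  haveI : IsCyclic T' := isCyclic_of_surjective
    (T'.equivMapOfInjective (MulAut.conj k).toMonoidHom (MulAut.conj k).injective).symm.toMonoidHom (MulEquiv.surjective _)
  exact isCyclic_of_surjective (T.equivMapOfInjective _ L.subtype_injective).symm.toMonoidHom
    (MulEquiv.surjective _)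

/-! ### The special linear group is not involved -/

theorem comm_of_sq {P : Sylow 2 G} (d : Dih (P : Subgroup G)) {a b : G} (ha : a ∈ (P : Subgroup G))
    (hb : b ∈ (P : Subgroup G)) (ha2 : a * a ≠ 1) (hb2 : b * b ≠ 1) : a * b = b * a := by
  have hax : a ∈ zpowers d.x := by_contra fun h => ha2 (d.out_sq a ha h)
  have hbx : b ∈ zpowers d.x := by_contra fun h => hb2 (d.out_sq b hb h)
  obtain ⟨i, rfl⟩ := hax
  obtain ⟨j, rfl⟩ := hbx
  exact (Commute.zpow_zpow_self d.x i j).eq

theorem not_involves_sl2 (P : Sylow 2 G) (d : Dih (P : Subgroup G)) (q : ℕ) [Fact q.Prime]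
    (hq : q ≠ 2) : ¬ Cfsg.Involves (Matrix.SpecialLinearGroup (Fin 2) (ZMod q)) G := by
  intro h
  haveI : Fact (Nat.Prime 2) := ⟨Nat.prime_two⟩
  haveI : Fact (2 < q) := ⟨lt_of_le_of_ne (Fact.out : q.Prime).two_le (Ne.symm hq)⟩
  obtain ⟨K, ψ, hψ⟩ := PStable.exists_surjective_of_involves h
  obtain ⟨u, v, huv⟩ := ZMod.sq_add_sq q (-1 : ZMod q)
  have huv' : u * u + v * v = -1 := by rw [← huv]; ring
  let A : Matrix.SpecialLinearGroup (Fin 2) (ZMod q) :=
    ⟨!![0, 1; -1, 0], by simp [Matrix.det_fin_two_of]⟩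
  let B : Matrix.SpecialLinearGroup (Fin 2) (ZMod q) :=
    ⟨!![u, v; v, -u], by rw [Matrix.det_fin_two_of]; linear_combination -huv'⟩
  have hAA : A * A = -1 := by
    refine Subtype.ext ?_
    show !![(0 : ZMod q), 1; -1, 0] * !![0, 1; -1, 0] = -1
    ext i j
    fin_cases i <;> fin_cases j <;> simp [Matrix.mul_apply, Fin.sum_univ_two]
  have hBB : B * B = -1 := by
    refine Subtype.ext ?_
    show !![u, v; v, -u] * !![u, v; v, -u] = -1
    ext i j
    fin_cases i <;> fin_cases j <;> simp [Matrix.mul_apply, Fin.sum_univ_two]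
    all_goals first | linear_combination huv' | ring
  have hn1 : (-1 : Matrix.SpecialLinearGroup (Fin 2) (ZMod q)) ≠ 1 := fun e => by
    have := congrArg (fun m : Matrix.SpecialLinearGroup (Fin 2) (ZMod q) =>
      (m : Matrix (Fin 2) (Fin 2) (ZMod q)) 0 0) e
    simp at this
    exact ZMod.neg_one_ne_one this
  have hBA : B * A = -(A * B) := by
    refine Subtype.ext ?_
    show !![u, v; v, -u] * !![(0 : ZMod q), 1; -1, 0] = -(!![(0 : ZMod q), 1; -1, 0] * !![u, v; v, -u])
    ext i j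
    fin_cases i <;> fin_cases j <;> simp [Matrix.mul_apply, Fin.sum_univ_two]
  have hpow : ∀ {C : Matrix.SpecialLinearGroup (Fin 2) (ZMod q)}, C * C = -1 →
      IsPGroup 2 (zpowers C) := fun {C} hC => IsPGroup.of_card (n := 2) (by
    rw [Nat.card_zpowers, orderOf_eq_prime_pow (p := 2) (n := 1) ?_ ?_]
    · rw [pow_one, pow_two, hC]; exact hn1
    · rw [show 2 ^ (1 + 1) = 2 + 2 by norm_num, pow_add, pow_two, hC, neg_mul_neg, one_mul])
  have hN : zpowers B ≤ normalizer (zpowers A : Set (Matrix.SpecialLinearGroup (Fin 2) (ZMod q))) := by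
    rw [zpowers_le]
    refine mem_normalizer_fintype ?_
    rintro _ ⟨i, rfl⟩
    show B * A ^ i * B⁻¹ ∈ zpowers A
    rw [← conj_zpow]
    refine zpow_mem ?_ i
    rw [hBA, ← neg_one_mul (A * B), ← hAA, mul_assoc (A * A), mul_inv_cancel_right]
    exact mul_mem (mul_mem (mem_zpowers A) (mem_zpowers A)) (mem_zpowers A)
  obtain ⟨S, hS⟩ := ((hpow hBB).to_sup_of_normal_right' (hpow hAA) hN).exists_le_sylow
  obtain ⟨R⟩ : Nonempty (Sylow 2 K) := inferInstance
  obtain ⟨k, hk⟩ := MulAction.exists_smul_eq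
    (Matrix.SpecialLinearGroup (Fin 2) (ZMod q)) (R.mapSurjective hψ) S
  obtain ⟨k₀, rfl⟩ := hψ k
  have hlift : ∀ C ∈ (S : Subgroup (Matrix.SpecialLinearGroup (Fin 2) (ZMod q))),
      ∃ c ∈ (R : Subgroup K), ψ k₀ * ψ c * (ψ k₀)⁻¹ = C := by
    intro C hC
    rw [← hk, Sylow.smul_def, Sylow.pointwise_smul_def, mem_pointwise_smul_iff_inv_smul_mem] at hC
    obtain ⟨c, hc, he⟩ := hC
    refine ⟨c, hc, ?_⟩
    rw [he, ← map_inv, MulAut.smul_def, MulAut.conj_apply, inv_inv]
    group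
  obtain ⟨a₀, ha₀, hA⟩ := hlift A (hS (mem_sup_right (mem_zpowers A)))
  obtain ⟨b₀, hb₀, hB⟩ := hlift B (hS (mem_sup_left (mem_zpowers B)))
  obtain ⟨Q, hQ⟩ := (R.isPGroup'.map K.subtype).exists_le_sylow
  obtain ⟨g, hg⟩ := MulAction.exists_smul_eq G Q P
  have hmem : ∀ c ∈ (R : Subgroup K), g * (c : G) * g⁻¹ ∈ (P : Subgroup G) := fun c hc => by
    rw [← hg]
    exact smul_mem_pointwise_smul _ (MulAut.conj g) _ (hQ ⟨c, hc, rfl⟩)
  have hsq : ∀ {c : K} {C : Matrix.SpecialLinearGroup (Fin 2) (ZMod q)},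
      ψ k₀ * ψ c * (ψ k₀)⁻¹ = C → C * C = -1 → g * (c : G) * g⁻¹ * (g * (c : G) * g⁻¹) ≠ 1 := by
    intro c C hc hC e
    have h1 : c * c = 1 := by
      refine Subtype.ext ?_
      have : g * ((c : G) * c) * g⁻¹ = 1 := by rw [← e]; group
      simpa using conj_eq_one_iff.1 this
    apply hn1
    rw [← hC, ← hc, _root_.conj_mul, ← map_mul, h1, map_one, mul_one, mul_inv_cancel]
  have h1 := comm_of_sq d (hmem a₀ ha₀) (hmem b₀ hb₀) (hsq hA hAA) (hsq hB hBB)
  rw [_root_.conj_mul, _root_.conj_mul] at h1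
  have h2 : a₀ * b₀ = b₀ * a₀ := Subtype.ext (mul_left_cancel (mul_right_cancel h1))
  have h3 : A * B = B * A := by
    rw [← hA, ← hB, _root_.conj_mul, _root_.conj_mul, ← map_mul ψ a₀, ← map_mul ψ b₀, h2]
  apply hn1
  rw [hBA] at h3
  have h4 : (1 : Matrix.SpecialLinearGroup (Fin 2) (ZMod q)) * (A * B) = (-1) * (A * B) := by
    rw [one_mul, neg_one_mul]; exact h3
  exact (mul_right_cancel h4).symm

end Cfsg.Agent.GW
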