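import Cfsg.Agent.Lib.GW.StepARot
import Cfsg.Agent.Lib.DGroup.Five
import Cfsg.Agent.Lib.DGroup.Ratio
import Cfsg.Agent.Lib.BSW.Dihedral

/-!
Preparatory reductions for a maximal subgroup above the centraliser of the central involution.
-/

set_option autoImplicit false
set_option linter.style.haveILetI false
set_option linter.unusedSectionVars false

namespace Cfsg.Agent.GW

open Subgroup
open Cfsg.Agent.BenderUnique (coreIn fitIn layIn)
open Cfsg.Agent.TwoFus

universe u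

variable {G : Type u} [Group G] [Finite G] {q : ℕ} [Fact q.Prime]
  {P : Sylow 2 G} (d : Dih (P : Subgroup G)) {M : Subgroup G}

theorem P_le_of_cent (hCM : centralizer ({d.z} : Set G) ≤ M) : (P : Subgroup G) ≤ M :=
  fun _ hs => hCM (mem_centralizer_singleton_iff.2 (d.z_comm hs))

theorem z_order' : orderOf d.z = 2 := Invol.order_two_of_sq d.zz d.z_ne

theorem coreIn_le_cent_of_two (hnc : ¬ IsMulCommutative G) [IsSimpleGroup G] (hM : IsCoatom M)
    (hCM : centralizer ({d.z} : Set G) ≤ M) (hq : q ≠ 2) (h : coreIn 2 M ≠ ⊥) :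
    coreIn q M ≤ centralizer ({d.z} : Set G) := by
  haveI : Fact (Nat.Prime 2) := ⟨Nat.prime_two⟩
  have hPM := P_le_of_cent d hCM
  set T := coreIn 2 M with hT
  have hTP : T ≤ (P : Subgroup G) := by
    rintro _ ⟨v, hv, rfl⟩
    have := PBasic.pCore_le_sylow (P.subtype hPM) hv
    rw [Sylow.coe_subtype] at this
    exact this
  have hn : (P : Subgroup G) ≤ normalizer (T : Set G) :=
    hPM.trans (BenderUnique.normalizes_coreIn 2 M)
  by_cases hzT : d.z ∈ T
  · intro v hv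
    rw [mem_centralizer_singleton_iff]
    exact (BenderMax.commute_elems (BenderUnique.coreIn_commute (Ne.symm hq) M) hzT hv).eq.symm
  obtain ⟨a, haT, ha1⟩ : ∃ a ∈ T, orderOf a = 2 := by
    haveI : Nontrivial T := (nontrivial_iff_ne_bot T).2 h
    obtain ⟨k, hk0, hk⟩ := (IsPGroup.nontrivial_iff_card (BenderUnique.coreIn_pGroup 2 M)).1 inferInstance
    obtain ⟨a, ha⟩ := exists_prime_orderOf_dvd_card' (G := T) 2 (hk ▸ dvd_pow_self 2 hk0.ne')
    exact ⟨a, a.2, by rw [orderOf_coe, ha]⟩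
  have hax : a ∉ zpowers d.x := fun hx =>
    (d.sq_cases hx (Invol.mul_self ha1)).elim (Invol.ne_one ha1) (fun e => hzT (e ▸ haT))
  rcases m_cases d with hm | hm
  swap
  · exact absurd (z_mem_of_sq d (x_sq_mem d hn haT (hTP haT) hax) hm) hzT
  -- `P` is a four-group and `T` has order two
  obtain ⟨V, hVP, hV, -, -, hall⟩ := refl_klein d (hTP haT) hax
  have hVeq : V = (P : Subgroup G) :=
    Subgroup.eq_of_le_of_card_ge hVP (by rw [hV.card_four, d.card, hm])
  have hcen : M ≤ centralizer ({a} : Set G) := by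
    intro m hmM
    rw [mem_centralizer_singleton_iff]
    have h1 := (mem_normalizer_iff.1 (BenderUnique.normalizes_coreIn 2 M hmM) a).1 haT
    rcases hall _ (hVeq ▸ hTP h1) with e | e | e | e
    · exact absurd (conj_eq_one_iff.1 e) (Invol.ne_one ha1)
    · exact absurd (e ▸ h1) hzT
    · exact mul_inv_eq_iff_eq_mul.1 e
    · exact absurd (by
        have := mul_mem (e ▸ h1) (inv_mem haT)
        rwa [mul_inv_cancel_right] at this) hzT
  have hMa : centralizer ({a} : Set G) = M := by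
    rcases hM.le_iff.1 hcen with e | e
    · exfalso
      refine hnc ?_
      have hc : a ∈ center G := mem_center_iff.2 fun y =>
        mem_centralizer_singleton_iff.1 (e ▸ mem_top y)
      rcases (inferInstance : (center G).Normal).eq_bot_or_eq_top with e' | e'
      · exact absurd (mem_bot.1 (e' ▸ hc)) (Invol.ne_one ha1)
      · exact ⟨⟨fun x y => mem_center_iff.1 (e' ▸ mem_top y) x⟩⟩
    · exact e
  obtain ⟨g, hg⟩ := isConj_iff.1
    (BSW.dih_simple_one_class hnc P d a d.z ha1 (z_order' d))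
  have hcard : Nat.card M ≤ Nat.card (centralizer ({d.z} : Set G)) := by
    rw [Nat.card_congr (M.equivMapOfInjective (MulAut.conj g).toMonoidHom (MulAut.conj g).injective).toEquiv]
    refine Nat.le_of_dvd Nat.card_pos (card_dvd_of_le ?_)
    rintro _ ⟨m, hm, rfl⟩
    rw [mem_centralizer_singleton_iff]
    show g * m * g⁻¹ * d.z = d.z * (g * m * g⁻¹)
    rw [← hg, _root_.conj_mul, _root_.conj_mul, mem_centralizer_singleton_iff.1 (hcen hm)]
  rw [Subgroup.eq_of_le_of_card_ge hCM hcard]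
  exact map_subtype_le _

theorem coreIn_le_cent_of_layer (hCM : centralizer ({d.z} : Set G) ≤ M) (h : layIn M ≠ ⊥) :
    coreIn q M ≤ centralizer ({d.z} : Set G) := by
  have hz := z_mem_layIn d (P_le_of_cent d hCM) h
  intro v hv
  rw [mem_centralizer_singleton_iff]
  refine (BenderMax.commute_elems ?_ hz (BenderUnique.coreIn_le_fit Fact.out M hv)).eq.symm
  rw [layIn, fitIn, ← map_commutator, Components.layer_fitting_commute, Subgroup.map_bot]

/-- Two reflections with the same rotation part and `m = 2`: no element of `M` moves `t` to `t * b`. -/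
theorem no_fusion_klein (hCM : centralizer ({d.z} : Set G) ≤ M) {b : G} (hb : b ∈ (P : Subgroup G))
    (hbx : b ∉ zpowers d.x) (hnb : ∀ k ∈ M, k * d.z * k⁻¹ ≠ b) :
    ∀ k ∈ M, k * d.z * k⁻¹ ≠ d.z * b := by
  classical
  haveI : Fact (Nat.Prime 2) := ⟨Nat.prime_two⟩
  have hb2 := refl_order d hb hbx
  have hPM := P_le_of_cent d hCM
  have hzP : d.z ∈ (P : Subgroup G) := zpow_mem d.hx _
  intro k hk hkz
  rcases m_cases d with hm | ⟨j, hj⟩
  swap
  · -- the rotation of order four conjugates `b` to `t * b`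
    obtain ⟨i, hi⟩ : ∃ i : ℤ, b = d.x ^ i * d.y := by
      rcases d.cases b hb with ⟨i, rfl⟩ | h
      · exact absurd (zpow_mem (mem_zpowers d.x) i) hbx
      · exact h
    have e : d.x ^ (j : ℤ) * b * (d.x ^ (j : ℤ))⁻¹ = d.z * b := by
      rw [hi, ← zpow_neg, mul_assoc (d.x ^ (j : ℤ)), mul_assoc (d.x ^ i), d.swap, neg_neg, Dih.z,
        ← mul_assoc, ← mul_assoc, ← mul_assoc, ← zpow_add, ← zpow_add, ← zpow_add, hj]
      congr 2
      push_cast
      omega
    refine hnb ((d.x ^ (j : ℤ))⁻¹ * k) (mul_mem (inv_mem (hPM (zpow_mem d.hx _))) hk) ?_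
    calc (d.x ^ (j : ℤ))⁻¹ * k * d.z * ((d.x ^ (j : ℤ))⁻¹ * k)⁻¹
        = (d.x ^ (j : ℤ))⁻¹ * (k * d.z * k⁻¹) * d.x ^ (j : ℤ) := by group
      _ = b := by rw [hkz, ← e]; group
  obtain ⟨V, hVP, hV, hzV, hbV, hall⟩ := refl_klein d hb hbx
  have hVeq : V = (P : Subgroup G) :=
    Subgroup.eq_of_le_of_card_ge hVP (by rw [hV.card_four, d.card, hm])
  haveI : IsMulCommutative V := hV.isMulCommutative
  have hPc : ∀ v ∈ (P : Subgroup G), ∀ w ∈ (P : Subgroup G), v * w = w * v := fun v hv w hw =>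
    congrArg Subtype.val (mul_comm' (⟨v, hVeq ▸ hv⟩ : V) ⟨w, hVeq ▸ hw⟩)
  set P' : Sylow 2 M := P.subtype hPM with hP'
  have hmem : ∀ v : M, v ∈ (P' : Subgroup M) ↔ (v : G) ∈ (P : Subgroup G) := fun v => by
    rw [hP', Sylow.coe_subtype, mem_subgroupOf]
  haveI : IsMulCommutative (P' : Subgroup M) := ⟨⟨fun v w => Subtype.ext (Subtype.ext
    (hPc _ ((hmem v).1 v.2) _ ((hmem w).1 w.2)))⟩⟩
  obtain ⟨n, hn, he⟩ := P'.conj_eq_normalizer_conj_of_mem ⟨d.z, hPM hzP⟩ ⟨k, hk⟩⁻¹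
    ((hmem _).2 hzP) ((hmem _).2 (by
      show k⁻¹⁻¹ * d.z * k⁻¹ ∈ (P : Subgroup G)
      rw [inv_inv, hkz]; exact mul_mem hzP hb))
  set r := n⁻¹ with hr
  have hrt : (r : G) * d.z * (r : G)⁻¹ = d.z * b := by
    have h1 : k⁻¹⁻¹ * d.z * k⁻¹ = (n : G)⁻¹ * d.z * n := congrArg Subtype.val he
    rw [inv_inv, hkz] at h1
    rw [h1, hr, coe_inv, inv_inv]
  have hrN : r ∈ normalizer (P' : Set M) := inv_mem hn
  have hrb : (r : G) * b * (r : G)⁻¹ = b := by
    have h1 := (hmem _).1 ((mem_normalizer_iff.1 hrN ⟨b, hPM hb⟩).1 ((hmem _).2 hb))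
    change (r : G) * b * (r : G)⁻¹ ∈ (P : Subgroup G) at h1
    rcases hall _ (hVeq ▸ h1) with e | e | e | e
    · exact absurd (conj_eq_one_iff.1 e) (Invol.ne_one hb2)
    · exact absurd (show (r : G)⁻¹ * d.z * (r : G)⁻¹⁻¹ = b by rw [← e]; group) (hnb _ (inv_mem r.2))
    · exact e
    · exfalso
      have e1 : b = d.z := mul_left_cancel (mul_right_cancel (e.trans hrt.symm))
      exact hbx (e1 ▸ d.z_mem)
  have hr2 : Commute ((r : G) * r) d.z := by
    refine mul_inv_eq_iff_eq_mul.1 ?_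
    rw [mul_inv_rev, show (r : G) * r * d.z * ((r : G)⁻¹ * (r : G)⁻¹) =
      (r : G) * ((r : G) * d.z * (r : G)⁻¹) * (r : G)⁻¹ by group, hrt, ← _root_.conj_mul, hrb, hrt,
      mul_assoc, Invol.mul_self hb2, mul_one]
  obtain ⟨e, l, ⟨i, rfl⟩, hord⟩ := Nat.exists_eq_two_pow_mul_odd (orderOf_pos r).ne'
  have hrlP : r ^ (2 * i + 1) ∈ (P' : Subgroup M) := by
    have hp : IsPGroup 2 (zpowers (r ^ (2 * i + 1))) := by
      obtain ⟨f, -, hf⟩ := (Nat.dvd_prime_pow Nat.prime_two).1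
        (orderOf_dvd_of_pow_eq_one (x := r ^ (2 * i + 1)) (n := 2 ^ e) (by
          rw [← pow_mul, mul_comm, ← hord, pow_orderOf_eq_one]))
      exact IsPGroup.of_card (n := f) (by rw [Nat.card_zpowers, hf])
    have hs := P'.is_maximal' (hp.to_sup_of_normal_right' P'.isPGroup'
      (zpowers_le.2 (pow_mem hrN _))) le_sup_right
    exact hs.le (mem_sup_left (mem_zpowers _))
  have h1 := hPc _ ((hmem _).1 hrlP) _ hzP
  rw [SubmonoidClass.coe_pow, pow_succ', pow_mul, pow_two] at h1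
  have h2 : Commute (((r : G) * r) ^ i) d.z := hr2.pow_left i
  rw [mul_assoc, h2.eq, ← mul_assoc, ← mul_assoc] at h1
  have h3 := mul_inv_eq_iff_eq_mul.2 (mul_right_cancel h1)
  rw [hrt] at h3
  exact Invol.ne_one hb2 (mul_eq_left.1 h3)

/-- Some reflection has both its four-group partners outside the class of `t` in `M`. -/
theorem exists_bad_refl [IsSimpleGroup G] (hnc : ¬ IsMulCommutative G) (hM : IsCoatom M)
    (hCM : centralizer ({d.z} : Set G) ≤ M) (hq : q ≠ 2) {x₀ : G} (hx₀ : x₀ ∈ coreIn q M)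
    (hx₀c : d.z * x₀ ≠ x₀ * d.z) :
    ∃ b ∈ (P : Subgroup G), b ∉ zpowers d.x ∧ (∀ k ∈ M, k * d.z * k⁻¹ ≠ b) ∧
      (∀ k ∈ M, k * d.z * k⁻¹ ≠ d.z * b) := by
  classical
  haveI : Fact (Nat.Prime 2) := ⟨Nat.prime_two⟩
  have hPM := P_le_of_cent d hCM
  obtain ⟨b₀, hb₀, hb₀2, hb₀c⟩ : ∃ b₀ ∈ M, orderOf b₀ = 2 ∧ ∀ k ∈ M, k * d.z * k⁻¹ ≠ b₀ := by
    by_contra hno
    push Not at hno
    have h2 : ∀ u ∈ M, ∀ v ∈ M, orderOf u = 2 → orderOf v = 2 → ∃ k ∈ M, k * u * k⁻¹ = v := by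
      intro u hu v hv hu2 hv2
      obtain ⟨r, hr, e⟩ := hno u hu hu2
      obtain ⟨r', hr', e'⟩ := hno v hv hv2
      exact ⟨r' * r⁻¹, mul_mem hr' (inv_mem hr), by rw [← e, ← e']; group⟩
    have h1 := BSW.dih_simple_one_class hnc P d
    have h5 := DGroup.index_le_five P d h1 hPM hCM h2
    have hcore : M.normalCore = ⊥ := M.normalCore_normal.eq_bot_or_eq_top.resolve_right fun e =>
      hM.1 (top_le_iff.1 (e ▸ M.normalCore_le))
    have hy : d.y ∈ (P : Subgroup G) := d.hy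
    have hy2 := refl_order d hy d.ynot
    have hyz : d.z ≠ d.y := fun e => d.ynot (e ▸ d.z_mem)
    have hzy2 := order_mul_of_comm (z_order' d) hy2 (d.z_comm hy).symm hyz
    have hzP : d.z ∈ (P : Subgroup G) := zpow_mem d.hx _
    have hFour : DGroup.Four d.y (d.z * d.y) d.z :=
      ⟨Invol.mul_self hy2, Invol.mul_self hzy2, by
        rw [← mul_assoc, d.z_comm hy],
        by rw [← mul_assoc, d.z_comm hy, mul_assoc, Invol.mul_self hy2, mul_one]⟩
    have hinv : ∀ v ∈ (P : Subgroup G), orderOf v = 2 → ∀ w ∈ coreIn q M, v * w * v ∈ coreIn q M := by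
      intro v hv hv2 w hw
      have := (mem_normalizer_iff.1 (BenderUnique.normalizes_coreIn q M (hPM hv)) w).1 hw
      rwa [Invol.inv_self hv2] at this
    obtain ⟨k, hk⟩ := (BenderUnique.coreIn_pGroup q M).exists_card_eq
    have ho := odd_of_qpow hq hk
    obtain ⟨w, hw, hw1, -, hfix⟩ := exists_axis hFour ho (hinv _ hy hy2)
      (hinv _ (mul_mem hzP hy) hzy2) hx₀ hx₀c
    have hwo : Odd (orderOf w) := ho.of_dvd_nat (orderOf_dvd_natCard _ hw)
    rcases hfix with e | e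
    · exact DGroup.false_of_index_le_five h5 hcore (z := d.y) (v := d.z) d.yy (Invol.ne_one hy2)
        (h1 _ _ hy2 (z_order' d)) (h1 _ _ hy2 (by
          rw [d.z_comm hy]; exact hzy2)) hwo hw1 ((DGroup.invol_conj_eq_iff d.yy).1 e)
    · exact DGroup.false_of_index_le_five h5 hcore (z := d.z * d.y) (v := d.z)
        (Invol.mul_self hzy2) (Invol.ne_one hzy2) (h1 _ _ hzy2 (z_order' d)) (h1 _ _ hzy2 (by
          rw [mul_assoc, d.z_comm hy, ← mul_assoc, d.zz, one_mul]; exact hy2)) hwo hw1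
        ((DGroup.invol_conj_eq_iff (Invol.mul_self hzy2)).1 e)
  have ho : orderOf (⟨b₀, hb₀⟩ : M) = 2 ^ 1 := by rw [orderOf_mk, hb₀2]; rfl
  obtain ⟨m, hm⟩ := exists_conj_mem (P.subtype hPM) ho
  rw [Sylow.coe_subtype, mem_subgroupOf] at hm
  change (m : G) * b₀ * (m : G)⁻¹ ∈ (P : Subgroup G) at hm
  have hnb : ∀ k ∈ M, k * d.z * k⁻¹ ≠ (m : G) * b₀ * (m : G)⁻¹ := fun k hk e =>
    hb₀c ((m : G)⁻¹ * k) (mul_mem (inv_mem m.2) hk) (by
      rw [show (m : G)⁻¹ * k * d.z * ((m : G)⁻¹ * k)⁻¹ = (m : G)⁻¹ * (k * d.z * k⁻¹) * m by group, e]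
      group)
  have hb2 : orderOf ((m : G) * b₀ * (m : G)⁻¹) = 2 := by rw [Invol.order_conj, hb₀2]
  have hbx : (m : G) * b₀ * (m : G)⁻¹ ∉ zpowers d.x := fun h =>
    (d.sq_cases h (Invol.mul_self hb2)).elim (Invol.ne_one hb2) fun e =>
      hnb 1 (one_mem M) (by rw [e]; group)
  exact ⟨_, hm, hbx, hnb, no_fusion_klein d hCM hm hbx hnb⟩

end Cfsg.Agent.GW
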