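import Cfsg.Agent.Lib.GW.StepAInit
import Cfsg.Agent.S1312

/-!
Maximal subgroups linked through a cyclic subgroup of the core; the minimal moved element of the core.
-/

set_option autoImplicit false
set_option linter.style.haveILetI false
set_option linter.unusedSectionVars false

namespace Cfsg.Agent.GW

open Subgroup
open Cfsg.Agent.BenderUnique (coreIn fitIn layIn)
open Cfsg.Agent.TwoFus
open scoped commutatorElement

universe u

variable {G : Type u} [Group G] [Finite G]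

theorem gfit_eq_of_layIn {N : Subgroup G} (h : layIn N = ⊥) :
    Cfsg.generalizedFittingSubgroup ↥N = Cfsg.fittingSubgroup ↥N := by
  rw [layIn, map_eq_bot_iff_of_injective _ N.subtype_injective] at h
  rw [Cfsg.generalizedFittingSubgroup, h, bot_sup_eq]

theorem eq_of_pgroup_gfit {N : Subgroup G} {p s : ℕ} (hp : p.Prime) [hs : Fact s.Prime]
    (h : IsPGroup p ↥(Cfsg.generalizedFittingSubgroup ↥N)) (hne : coreIn s N ≠ ⊥) : s = p := by
  haveI := Fact.mk hp
  by_contra hsp
  refine hne ((map_eq_bot_iff_of_injective _ N.subtype_injective).2 ?_)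
  have hle : Cfsg.pCore s ↥N ≤ Cfsg.generalizedFittingSubgroup ↥N :=
    (FittingCores.pCore_le_fitting hs.out).trans le_sup_right
  exact disjoint_self.1 (IsPGroup.disjoint_of_ne s p hsp _ _ (FittingCores.pCore_isPGroup s)
    (h.to_le hle))

section

variable {M N : Subgroup G} {x : G} {q s : ℕ} [Fact q.Prime] [Fact s.Prime]

theorem leads_hQN (hxN : normalizer (zpowers x : Set G) ≤ N) :
    (Cfsg.generalizedFittingSubgroup ↥M).map M.subtype ⊓ normalizer (zpowers x : Set G) ≤ N :=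
  inf_le_right.trans hxN

theorem leads_hQF (hx : x ∈ coreIn q M) : zpowers x ≤ fitIn M :=
  zpowers_le.2 (BenderUnique.coreIn_le_fit Fact.out M hx)

/-- Linked maximal subgroups, one without components and the other with two primes, are equal. -/
theorem eq_of_leads [IsSimpleGroup G] (hna : ¬ IsMulCommutative G) (hM : IsCoatom M) (hN : IsCoatom N) (hx1 : x ≠ 1)
    (hx : x ∈ coreIn q M) (hxN : normalizer (zpowers x : Set G) ≤ N) (hxq : x ∈ coreIn q N)
    (hE : layIn N = ⊥) (hqs : q ≠ s) (hs : coreIn s M ≠ ⊥)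
    (hπ : ∀ r : ℕ, r.Prime → coreIn r N ≠ ⊥ → coreIn r M ≠ ⊥) : M = N := by
  have hQF := leads_hQF (q := q) hx
  have hQN := leads_hQN (M := M) hxN
  have hqM : coreIn q M ≠ ⊥ := fun e => hx1 (mem_bot.1 (e ▸ hx))
  have hfit : fitIn N ≤ M := BenderUnique.fitIn_le_iff.2 fun r hr => by
    by_cases hrN : coreIn r N = ⊥
    · rw [hrN]; exact bot_le
    haveI := Fact.mk hr
    rcases eq_or_ne r q with rfl | hrq
    · exact BenderUnique.part_i hM hQF hQN hqs.symm hs hqM
    · exact BenderUnique.part_i hM hQF hQN hrq.symm hqM (hπ r hr hrN)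
  have hNF : (Cfsg.generalizedFittingSubgroup ↥N).map N.subtype ≤ M := by
    rw [gfit_eq_of_layIn hE]; exact hfit
  have htwo : ∀ p : ℕ, p.Prime → ¬ IsPGroup p ↥(Cfsg.generalizedFittingSubgroup ↥M) := fun p hp h =>
    hqs ((eq_of_pgroup_gfit hp h hqM).trans (eq_of_pgroup_gfit hp h hs).symm)
  rcases BenderUnique.symmetric hM hN (zpowers_ne_bot.2 hx1) hQF hQN
      (R := fitIn N) (fun e => hx1 (mem_bot.1 (e ▸ BenderUnique.coreIn_le_fit Fact.out N hxq)))
      le_rfl (inf_le_left.trans hNF) with h | ⟨h1, h2⟩ | ⟨p, hp, h, -⟩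
  · exact h
  · by_contra hne
    obtain ⟨p, hp, h, -⟩ := S1312.result hna M N hM hN hne h1 h2
    exact htwo p hp h
  · exact absurd h (htwo p hp)

end

variable {q : ℕ} [Fact q.Prime] {P : Sylow 2 G} (d : Dih (P : Subgroup G)) {M : Subgroup G}

/-- An element of the core moved by `t`, central modulo the elements fixed by `t`, inverted by `t` and
fixed by a reflection. -/
theorem exists_moved (hPM : (P : Subgroup G) ≤ M) (hq : q ≠ 2) {b : G} (hb : b ∈ (P : Subgroup G))
    (hbx : b ∉ zpowers d.x) {x₀ : G} (hx₀ : x₀ ∈ coreIn q M) (hx₀c : d.z * x₀ ≠ x₀ * d.z) :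
    ∃ x ∈ coreIn q M, x ≠ 1 ∧ d.z * x * d.z = x⁻¹ ∧ (b * x * b = x ∨ d.z * b * x * (d.z * b) = x) ∧
      ∀ z ∈ coreIn q M, d.z * z = z * d.z → x * z = z * x := by
  classical
  haveI : Fact (Nat.Prime 2) := ⟨Nat.prime_two⟩
  set K := Cfsg.pCore q ↥M with hK
  haveI : K.Normal := FittingCores.pCore_normal q
  haveI : Group.IsNilpotent ↥K := (FittingCores.pCore_isPGroup q).isNilpotent
  let Z : ℕ → Subgroup G := fun j =>
    ((Subgroup.upperCentralSeries ↥K j).map K.subtype).map M.subtype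
  have hZle : ∀ j, Z j ≤ coreIn q M := fun j => map_mono (map_subtype_le _)
  have hZn : ∀ j, M ≤ normalizer (Z j : Set G) := fun j => by
    haveI : ((Subgroup.upperCentralSeries ↥K j).map K.subtype).Normal := inferInstance
    exact BenderMax.le_normalizer_map _
  have hex : ∃ j, ∃ v ∈ Z j, d.z * v ≠ v * d.z := by
    obtain ⟨n, hn⟩ := Group.IsNilpotent.nilpotent (G := ↥K)
    refine ⟨n, x₀, ?_, hx₀c⟩
    show x₀ ∈ ((Subgroup.upperCentralSeries ↥K n).map K.subtype).map M.subtype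
    rwa [hn, ← MonoidHom.range_eq_map, Subgroup.range_subtype]
  obtain ⟨i, hi⟩ : ∃ i, Nat.find hex = i + 1 := by
    refine Nat.exists_eq_add_one_of_ne_zero fun e => ?_
    obtain ⟨v, hv, hvc⟩ := e ▸ Nat.find_spec hex
    apply hvc
    have hv' : v ∈ ((Subgroup.upperCentralSeries ↥K 0).map K.subtype).map M.subtype := hv
    rw [Subgroup.upperCentralSeries_zero, Subgroup.map_bot, Subgroup.map_bot, mem_bot] at hv'
    rw [hv', mul_one, one_mul]
  obtain ⟨v, hv, hvc⟩ := hi ▸ Nat.find_spec hex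
  have hlow : ∀ w ∈ Z i, d.z * w = w * d.z := fun w hw => by
    by_contra h
    exact absurd (Nat.find_min' hex ⟨w, hw, h⟩) (by omega)
  have hzP : d.z ∈ (P : Subgroup G) := zpow_mem d.hx _
  have hb2 := refl_order d hb hbx
  have hzb2 := order_mul_of_comm (z_order' d) hb2 (d.z_comm hb).symm fun e => hbx (e ▸ d.z_mem)
  have hFour : DGroup.Four b (d.z * b) d.z :=
    ⟨Invol.mul_self hb2, Invol.mul_self hzb2, by rw [← mul_assoc, d.z_comm hb],
      by rw [← mul_assoc, d.z_comm hb, mul_assoc, Invol.mul_self hb2, mul_one]⟩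
  have hinv : ∀ u ∈ (P : Subgroup G), orderOf u = 2 → ∀ w ∈ Z (i + 1), u * w * u ∈ Z (i + 1) := by
    intro u hu hu2 w hw
    have := (mem_normalizer_iff.1 (hZn (i + 1) (hPM hu)) w).1 hw
    rwa [Invol.inv_self hu2] at this
  obtain ⟨k, hk⟩ := ((BenderUnique.coreIn_pGroup q M).to_le (hZle (i + 1))).exists_card_eq
  have ho := odd_of_qpow hq hk
  obtain ⟨x, hx, hx1, hxt, hfix⟩ := exists_axis hFour ho (hinv _ hb hb2)
    (hinv _ (mul_mem hzP hb) hzb2) hv hvc
  refine ⟨x, hZle _ hx, hx1, hxt, hfix, fun z hz hzc => ?_⟩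
  have hc : x * z * x⁻¹ * z⁻¹ ∈ Z i := by
    obtain ⟨x', ⟨x'', hx', rfl⟩, rfl⟩ := hx
    obtain ⟨z', hz', rfl⟩ := hz
    refine ⟨_, ⟨⁅x'', ⟨z', hz'⟩⁆, Subgroup.mem_upperCentralSeries_succ_iff.1 hx' ⟨z', hz'⟩, rfl⟩, ?_⟩
    rw [map_commutatorElement, map_commutatorElement, commutatorElement_def]
    rfl
  have e1 := (DGroup.invol_conj_eq_iff d.zz).2 (hlow _ hc)
  rw [DGroup.invol_conj_mul d.zz, DGroup.invol_conj_mul d.zz, DGroup.invol_conj_mul d.zz,
    DGroup.invol_conj_inv d.zz, DGroup.invol_conj_inv d.zz, hxt,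
    (DGroup.invol_conj_eq_iff d.zz).2 hzc, inv_inv] at e1
  have e2 : x⁻¹ * z * x = x * z * x⁻¹ := mul_right_cancel e1
  have h2 : Commute (x * x) z := by
    show x * x * z = z * (x * x)
    calc x * x * z = x * (x * z * x⁻¹) * x := by group
      _ = x * (x⁻¹ * z * x) * x := by rw [e2]
      _ = z * (x * x) := by group
  obtain ⟨l, hl⟩ := ho.of_dvd_nat (orderOf_dvd_natCard _ hx)
  have h3 := h2.pow_left (l + 1)
  rw [← pow_two, ← pow_mul, show 2 * (l + 1) = orderOf x + 1 by omega, pow_succ, pow_orderOf_eq_one,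
    one_mul] at h3
  exact h3.eq

end Cfsg.Agent.GW
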