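import Cfsg.Agent.Lib.GW.StepABasic
import Cfsg.Agent.Lib.GW.Setup

/-!
The four-group of a reflection and its rotation, needing only the Sylow 2-subgroup.
-/

set_option autoImplicit false
set_option linter.style.haveILetI false
set_option linter.unusedSectionVars false

namespace Cfsg.Agent.GW

open Cfsg.Agent.TwoFus

universe u

variable {G : Type u} [Group G] [Finite G] {P : Sylow 2 G} (d : Dih (P : Subgroup G)) {a : G}

theorem refl_klein (ha : a ∈ (P : Subgroup G)) (hax : a ∉ Subgroup.zpowers d.x) :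
    ∃ V : Subgroup G, V ≤ (P : Subgroup G) ∧ IsKleinFour V ∧ d.z ∈ V ∧
      a ∈ V ∧ ∀ v ∈ V, v = 1 ∨ v = d.z ∨ v = a ∨ v = d.z * a := by
  obtain ⟨i, hi⟩ : ∃ i : ℤ, a = d.x ^ i * d.y := by
    rcases d.cases a ha with ⟨i, hi⟩ | hi
    · exact absurd (hi ▸ zpow_mem (Subgroup.mem_zpowers _) i) hax
    · exact hi
  obtain ⟨V, hVP, hV, hz, hv⟩ := d.exists_klein i
  rw [← hi] at hv
  refine ⟨V, hVP, hV, hz, hv, fun v hvV => ?_⟩
  haveI : IsMulCommutative V := hV.isMulCommutative
  by_cases hv1 : v = 1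
  · exact Or.inl hv1
  have hc : ∀ u ∈ V, u * v = v * u := fun u hu =>
    congrArg Subtype.val (mul_comm' (⟨u, hu⟩ : V) ⟨v, hvV⟩)
  exact Or.inr (comm_involution_cases (dihSylow_of_dih P d) (Invol.order_two_of_sq d.zz d.z_ne)
    (refl_order d ha hax) (Invol.order_two_of_sq (congrArg Subtype.val (hV.mul_self (⟨v, hvV⟩ : V))) hv1)
    (fun e => hax (e ▸ d.z_mem)) (d.z_comm ha).symm (hc _ hz) (hc _ hv))

/-- An element rotating the four-group: `t ↦ a ↦ ta ↦ t`. -/
theorem refl_rot [IsSimpleGroup G] (hnc : ¬ IsMulCommutative G) (ha : a ∈ (P : Subgroup G))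
    (hax : a ∉ Subgroup.zpowers d.x) :
    ∃ g : G, g * d.z * g⁻¹ = a ∧ g * a * g⁻¹ = d.z * a ∧ g * (d.z * a) * g⁻¹ = d.z := by
  classical
  obtain ⟨V, hVP, hV, hz, hv, hall⟩ := refl_klein d ha hax
  have hne1 := Invol.ne_one (refl_order d ha hax)
  have hnez : a ≠ d.z := fun e => hax (e ▸ d.z_mem)
  have hnezm : a ≠ d.z * a := fun e => d.z_ne (mul_eq_right.1 e.symm)
  have hzm1 : d.z * a ≠ 1 := fun e => hnez (by
    rw [eq_inv_of_mul_eq_one_right e, inv_eq_of_mul_eq_one_right d.zz])
  have hzmz : d.z * a ≠ d.z := fun e => hne1 (mul_eq_left.1 e)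
  have h3 : 3 ∣ (Subgroup.centralizer (V : Set G)).relIndex (Subgroup.normalizer (V : Set G)) := by
    have h6 := klein_relIndex_dvd hV
    by_contra h3
    obtain ⟨-, i, hi⟩ := d.klein_exists_form hV hVP
    have hOT : OddTrivial V := klein_oddTrivial (by
      have hle := Nat.le_of_dvd (by norm_num) h6
      generalize (Subgroup.centralizer (V : Set G)).relIndex (Subgroup.normalizer (V : Set G)) = r at *
      interval_cases r <;> omega)
    obtain ⟨K, hK, hK2⟩ := dih_index_two P d (i + 1) fun E hEP hE => by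
      by_cases hsmall : 4 < Nat.card (P : Subgroup G)
      · have h4 := d.four_dvd P.isPGroup' hsmall
        obtain ⟨-, j, hj⟩ := d.klein_exists_form hE hEP
        rcases Int.even_or_odd (j - i) with he | he
        · left
          obtain ⟨s, -, hs⟩ := d.klein_conj hV hE hVP hEP hi hj he.two_dvd
          refine klein_oddTrivial ?_
          rw [← hs, relIndex_centralizer_conj]
          have hle := Nat.le_of_dvd (by norm_num) h6
          generalize (Subgroup.centralizer (V : Set G)).relIndex (Subgroup.normalizer (V : Set G)) = r at *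
          interval_cases r <;> omega
        · right
          refine d.klein_le_half h4 hE hEP hj ?_
          obtain ⟨k, hk⟩ := he
          exact ⟨k, by linarith⟩
      · left
        have e : E = V := by
          have h1 : V = (P : Subgroup G) := Subgroup.eq_of_le_of_card_ge hVP (by rw [hV.card_four]; omega)
          have h2 : E = (P : Subgroup G) := Subgroup.eq_of_le_of_card_ge hEP (by rw [hE.card_four]; omega)
          rw [h1, h2]
        rw [e]; exact hOT
    exact ZStarApps.no_index_two hnc K hK hK2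
  have hmaps : ∀ {w : G}, w ∈ Subgroup.normalizer (V : Set G) → ∀ {v : G}, v ∈ V → v ≠ 1 →
      w * v * w⁻¹ = d.z ∨ w * v * w⁻¹ = a ∨ w * v * w⁻¹ = d.z * a := by
    intro w hw v hvV hv1
    rcases hall _ ((Subgroup.mem_normalizer_iff.1 hw v).1 hvV) with e | e
    · exact absurd (conj_eq_one_iff.1 e) hv1
    · exact e
  have hinj : ∀ {w u v : G}, w * u * w⁻¹ = w * v * w⁻¹ → u = v :=
    fun e => mul_left_cancel (mul_right_cancel e)
  have key : ∀ {g : G}, g ∈ Subgroup.normalizer (V : Set G) → g * d.z * g⁻¹ = a →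
      g * a * g⁻¹ = d.z * a → g * (d.z * a) * g⁻¹ = d.z := by
    intro g hg h1 h2
    rcases hmaps hg (mul_mem hz hv) hzm1 with e | e | e
    · exact e
    · exact absurd (hinj (e.trans h1.symm)) hzmz
    · exact absurd (hinj (e.trans h2.symm)) hnezm.symm
  obtain ⟨w, hwN, hw, -⟩ := klein_transitive hV h3 hz hv d.z_ne hne1
  obtain ⟨w', hwN', hw', -⟩ := klein_transitive hV h3 hv (mul_mem hz hv) hne1 hzm1
  rcases hmaps hwN hv hne1 with e | e | e
  · rcases hmaps hwN' hz d.z_ne with e' | e' | e'
    · -- `w' * w` is the inverse rotation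
      have g1 : (w' * w)⁻¹ * d.z * (w' * w)⁻¹⁻¹ = a := by
        have : (w' * w) * a * (w' * w)⁻¹ = d.z := by
          rw [show w' * w * a * (w' * w)⁻¹ = w' * (w * a * w⁻¹) * w'⁻¹ by group, e, e']
        conv_lhs => rw [← this]
        group
      have g2 : (w' * w)⁻¹ * a * (w' * w)⁻¹⁻¹ = d.z * a := by
        have hwz : (w' * w) * d.z * (w' * w)⁻¹ = d.z * a := by
          rw [show w' * w * d.z * (w' * w)⁻¹ = w' * (w * d.z * w⁻¹) * w'⁻¹ by group, hw, hw']
        have hN := mul_mem hwN' hwN
        rcases hmaps (inv_mem hN) hv hne1 with q | q | q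
        · exfalso
          have h5 : (w' * w) * d.z * (w' * w)⁻¹ = a := by
            conv_lhs => rw [← q]
            group
          exact hnezm (h5.symm.trans hwz)
        · exact absurd (hinj (g1.trans q.symm)) hnez.symm
        · exact q
      exact ⟨_, g1, g2, key (inv_mem (mul_mem hwN' hwN)) g1 g2⟩
    · exact ⟨w', e', hw', key hwN' e' hw'⟩
    · exact absurd (hinj (e'.trans hw'.symm)) hnez.symm
  · exact absurd (hinj (e.trans hw.symm)) hnez
  · exact ⟨w, hw, e, key hwN hw e⟩

end Cfsg.Agent.GW
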