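import Cfsg.Agent.Lib.GW.StepCPair
import Cfsg.Agent.Lib.GW.Index
import Cfsg.Agent.Lib.GW.RatioCount

/-!
The count that rules out outer involutions in a maximal subgroup above the centraliser of the central
involution: the graph on its conjugates is triangle free and so has too many vertices.
-/

set_option autoImplicit false
set_option linter.unusedSectionVars false
set_option linter.style.haveILetI false

namespace Cfsg.Agent.GW

open Cfsg.Agent.TwoFus

universe u

variable {G : Type u} [Group G] [Finite G]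

theorem map_conj_of_norm {M K : Subgroup G} (h : ∀ g ∈ M, ∀ s ∈ K, g * s * g⁻¹ ∈ K) {k : G} (hk : k ∈ M) :
    K.map (MulAut.conj k).toMonoidHom = K := by
  ext x
  rw [mem_map_conj]
  refine ⟨fun hx => ?_, fun hx => ?_⟩
  · have := h k hk _ hx
    rwa [show k * (k⁻¹ * x * k) * k⁻¹ = x by group] at this
  · have := h k⁻¹ (inv_mem hk) _ hx
    rwa [inv_inv] at this

theorem num_contra {α β I M : ℕ} (hα : 2 ≤ α) (hβ : 3 ≤ β) (h1 : 16 * I ≤ 15 * M ^ 2)
    (hM : M ≤ 2 * α * (1 + β)) (hI : 2 * ((α + β) * α) * ((α + β) * β) ≤ I) : False := by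
  have h2 : M ^ 2 ≤ (2 * α * (1 + β)) ^ 2 := Nat.pow_le_pow_left hM 2
  have h3 : 32 * (α * β) * (α + β) ^ 2 ≤ 60 * α ^ 2 * (1 + β) ^ 2 := by nlinarith
  have h4 : 4 * (α * β) ≤ (α + β) ^ 2 := by nlinarith [sq_nonneg ((α : ℤ) - β)]
  have h5 : 128 * (α * β) * (α * β) ≤ 60 * α ^ 2 * (1 + β) ^ 2 := by
    calc 128 * (α * β) * (α * β) = 32 * (α * β) * (4 * (α * β)) := by ring
      _ ≤ 32 * (α * β) * (α + β) ^ 2 := Nat.mul_le_mul_left _ h4
      _ ≤ _ := h3
  have h6 : 128 * β ^ 2 ≤ 60 * (1 + β) ^ 2 := by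
    refine le_of_mul_le_mul_left (a := α ^ 2) ?_ (by positivity)
    calc α ^ 2 * (128 * β ^ 2) = 128 * (α * β) * (α * β) := by ring
      _ ≤ 60 * α ^ 2 * (1 + β) ^ 2 := h5
      _ = α ^ 2 * (60 * (1 + β) ^ 2) := by ring
  nlinarith

/-- The members of the family. -/
noncomputable def famMap {M : Subgroup G} (K : Subgroup G) (i : G ⧸ M) : Subgroup G :=
  K.map (MulAut.conj i.out).toMonoidHom

namespace Core

variable (c : Core G) {M S R O : Subgroup G} {α β : ℕ}

theorem mem_famMap {K : Subgroup G} (hK : ∀ g ∈ M, ∀ s ∈ K, g * s * g⁻¹ ∈ K) (g v : G) :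
    v ∈ famMap K (g : G ⧸ M) ↔ g⁻¹ * v * g ∈ K := by
  obtain ⟨k, hk⟩ := QuotientGroup.mk_out_eq_mul M g
  rw [famMap, mem_map_conj, hk]
  constructor
  · intro h
    have := hK k k.2 _ h
    rwa [show (k : G) * ((g * k)⁻¹ * v * (g * k)) * (k : G)⁻¹ = g⁻¹ * v * g by group] at this
  · intro h
    have := hK _ (inv_mem k.2) _ h
    rwa [show (k : G)⁻¹ * (g⁻¹ * v * g) * (k : G)⁻¹⁻¹ = (g * k)⁻¹ * v * (g * k) by group] at this

/-- The family of the conjugates of `M`. -/
theorem picFam (h : Pic M S R O α β c.d.m) (hcop : α.Coprime β) (hzS : c.d.z ∈ S) :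
    PicFam (G ⧸ M) (famMap M) (famMap S) (famMap R) (famMap O) α β c.d.m := by
  refine ⟨fun i => h.map (MulAut.conj i.out), hcop, fun v hv => ?_, fun i j v hv hi hj => ?_⟩
  · obtain ⟨g, hg⟩ := isConj_iff.1 (c.one_class _ _ c.z_order hv)
    refine ⟨(g : G ⧸ M), (mem_famMap h.norm_S g v).2 ?_⟩
    rwa [← hg, show g⁻¹ * (g * c.d.z * g⁻¹) * g = c.d.z by group]
  · induction i using QuotientGroup.induction_on with
    | _ a =>
    induction j using QuotientGroup.induction_on with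
    | _ b =>
    have hi' := (mem_famMap h.norm_S a v).1 hi
    have hj' := (mem_famMap h.norm_S b v).1 hj
    have ho : ∀ x : G, orderOf (x⁻¹ * v * x) = 2 := fun x => by
      rw [show x⁻¹ * v * x = x⁻¹ * v * x⁻¹⁻¹ by rw [inv_inv], Invol.order_conj, hv]
    obtain ⟨r, hr, e⟩ := h.one_class _ _ hi' hj' (ho a) (ho b)
    have hm : a⁻¹ * b * r ∈ M := by
      refine h.cent _ hi' (ho a) _ ?_
      calc a⁻¹ * b * r * (a⁻¹ * v * a) = a⁻¹ * b * (r * (a⁻¹ * v * a) * r⁻¹) * r := by group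
        _ = a⁻¹ * b * (b⁻¹ * v * b) * r := by rw [e]
        _ = a⁻¹ * v * a * (a⁻¹ * b * r) := by group
    rw [QuotientGroup.eq]
    have := mul_mem hm (inv_mem (h.SN (h.RS hr)))
    rwa [mul_inv_cancel_right] at this

/-- Outer involutions are impossible. -/
theorem false_of_pic (hCM : c.C ≤ M) (h : Pic M S R O α β c.d.m) (hcop : α.Coprime β) (hα : 2 ≤ α)
    (hβ : 3 ≤ β) (hzS : c.d.z ∈ S) : False := by
  classical
  haveI : Fact (Nat.Prime 2) := ⟨Nat.prime_two⟩
  haveI := c.simple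
  haveI := Fintype.ofFinite G
  haveI := Fintype.ofFinite (G ⧸ M)
  have hF := c.picFam h hcop hzS
  set i₀ : G ⧸ M := ((1 : G) : G ⧸ M) with hi₀
  have h0S : ∀ v, v ∈ famMap S i₀ ↔ v ∈ S := fun v => by
    rw [hi₀, mem_famMap h.norm_S, inv_one, one_mul, mul_one]
  have h0N : ∀ v, v ∈ famMap M i₀ ↔ v ∈ M := fun v => by
    rw [hi₀, mem_famMap (fun g hg s hs => mul_mem (mul_mem hg hs) (inv_mem hg)), inv_one, one_mul,
      mul_one]
  have h0O : ∀ v, v ∈ famMap O i₀ ↔ v ∈ O := fun v => by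
    rw [hi₀, mem_famMap h.norm_O, inv_one, one_mul, mul_one]
  have hPM : (c.P : Subgroup G) ≤ M := c.P_le.trans hCM
  have hzo := c.z_order
  -- a reflection in `S` and its partner outside
  obtain ⟨a, ha, haS, hbS⟩ : ∃ a, c.Refl a ∧ a ∈ S ∧ c.d.x * a ∉ S := by
    obtain ⟨u, v, hu, hv, hu2, hv2, hne, huv⟩ := h.four
    obtain ⟨r, hr, hru⟩ := h.one_class u c.d.z hu hzS hu2 hzo
    set v' := r * v * r⁻¹ with hv'
    have hv'S : v' ∈ S := h.norm_S r (h.SN (h.RS hr)) v hv
    have hv'o : orderOf v' = 2 := by rw [hv', Invol.order_conj, hv2]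
    have hv'C : v' ∈ c.C := c.mem_C.2 (by
      rw [← hru, hv']
      calc r * v * r⁻¹ * (r * u * r⁻¹) = r * (v * u) * r⁻¹ := by group
        _ = r * (u * v) * r⁻¹ := by rw [huv]
        _ = r * u * r⁻¹ * (r * v * r⁻¹) := by group)
    obtain ⟨k, hk⟩ := exists_conj_mem (c.P.subtype c.P_le) (a := (⟨v', hv'C⟩ : c.C)) (k := 1)
      (by rw [Subgroup.orderOf_mk, hv'o, pow_one])
    set a := (k : G) * v' * (k : G)⁻¹ with ha'
    have haP : a ∈ (c.P : Subgroup G) := by
      rw [Sylow.coe_subtype, Subgroup.mem_subgroupOf] at hk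
      exact hk
    have haS : a ∈ S := h.norm_S k (hCM k.2) v' hv'S
    have ha : c.Refl a := by
      refine ⟨haP, fun hx => ?_⟩
      rcases c.d.sq_cases hx (sq_one (by rw [ha', Invol.order_conj, hv'o])) with e | e
      · have := conj_eq_one_iff.1 e
        rw [this, orderOf_one] at hv'o
        omega
      · refine hne ?_
        have h1 : v' = c.d.z := by
          have hk' : (k : G) * c.d.z * (k : G)⁻¹ = c.d.z := by
            rw [c.mem_C.1 k.2, mul_inv_cancel_right]
          exact mul_left_cancel (mul_right_cancel (e.trans hk'.symm))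
        exact (mul_left_cancel (mul_right_cancel (h1.trans hru.symm))).symm
    refine ⟨a, ha, haS, fun hb => ?_⟩
    have hx : c.d.x ∈ S := by
      have := mul_mem hb (inv_mem haS)
      rwa [mul_inv_cancel_right] at this
    have hPS : (c.P : Subgroup G) ≤ S := by
      intro s hs
      by_cases hsx : s ∈ Subgroup.zpowers c.d.x
      · exact (Subgroup.zpowers_le.2 hx) hsx
      · have := mul_mem haS ((Subgroup.zpowers_le.2 hx) (c.d.idx a ha.1 s hs ha.2 hsx))
        rwa [mul_inv_cancel_left] at this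
    obtain ⟨T, hT, hT', -⟩ := h.outer
    obtain ⟨w, hw⟩ := Finset.card_pos.1 (lt_of_lt_of_le (by positivity) hT)
    obtain ⟨hwM, hw2, hwS⟩ := hT' w hw
    obtain ⟨g, hg⟩ := exists_conj_mem (c.P.subtype hPM) (a := (⟨w, hwM⟩ : M)) (k := 1)
      (by rw [Subgroup.orderOf_mk, hw2, pow_one])
    rw [Sylow.coe_subtype, Subgroup.mem_subgroupOf] at hg
    refine hwS ?_
    have := h.norm_S _ (inv_mem g.2) _ (hPS hg)
    simpa [mul_assoc] using this
  set b := c.d.x * a with hb
  have hbR : c.Refl b := c.x_mul_refl ha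
  have haM : a ∈ M := hPM ha.1
  have hbM : b ∈ M := hPM hbR.1
  have hUM : c.U ≤ M := c.U_le.trans hCM
  have hUz : ∀ w ∈ c.U, c.d.z * w = w * c.d.z := fun w hw => (c.mem_C.1 (c.U_le hw)).symm
  have hnum : ∀ {s : G}, c.Refl s → numInv c.U s = (c.W s).relIndex c.U := by
    intro s hs
    have h1 := numInv_mul_card c.U_odd hs.sq (fun w hw => c.U_conj s hs.mem_C w hw)
    have h2 : Nat.card {w : c.U // (w : G) * s = s * w} = Nat.card (c.W s) :=
      Nat.card_congr
        { toFun := fun w => ⟨w.1, hs.mem_W.2 ⟨w.1.2, w.2⟩⟩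
          invFun := fun w => ⟨⟨w, (hs.mem_W.1 w.2).1⟩, (hs.mem_W.1 w.2).2⟩
          left_inv := fun w => rfl
          right_inv := fun w => rfl }
    rw [h2, ← c.relIndex_mul_card_W s] at h1
    exact Nat.eq_of_mul_eq_mul_right Nat.card_pos h1
  let T : G → Finset G := fun s =>
    Finset.univ.filter fun w => w ∈ c.U ∧ s * w * s⁻¹ = w⁻¹
  have hTcard : ∀ s, (T s).card = numInv c.U s := by
    intro s
    rw [numInv, ← Fintype.card_coe, ← Nat.card_eq_fintype_card]
    exact Nat.card_congr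
      { toFun := fun w => ⟨⟨w.1, (Finset.mem_filter.1 w.2).2.1⟩, (Finset.mem_filter.1 w.2).2.2⟩
        invFun := fun w => ⟨w.1.1, Finset.mem_filter.2 ⟨Finset.mem_univ _, w.1.2, w.2⟩⟩
        left_inv := fun w => rfl
        right_inv := fun w => rfl }
  have hTmem : ∀ s, s ∈ M → s * s = 1 → ∀ w ∈ T s,
      w ∈ S ∧ Odd (orderOf w) ∧ c.d.z * w = w * c.d.z := by
    intro s hsM hss w hw
    obtain ⟨-, hwU, hsw⟩ := Finset.mem_filter.1 hw
    exact ⟨h.inverted s w hsM (hUM hwU) hss (c.odd_of_mem_U hwU) hsw, c.odd_of_mem_U hwU, hUz w hwU⟩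
  have hra : c.d.m * (c.W a).relIndex c.U ≤ 2 * α := by
    rw [← hnum ha, ← hTcard a]
    refine h.card_inner c.d.z hzS hzo _ (hTmem a haM ha.sq) fun w hw w' hw' hk => ?_
    obtain ⟨-, hwU, hsw⟩ := Finset.mem_filter.1 hw
    obtain ⟨-, -, hsw'⟩ := Finset.mem_filter.1 hw'
    set k := w⁻¹ * w' with hk'
    have hak : a * k * a⁻¹ = k := by rw [h.cent_O a haS ha.order k hk, mul_inv_cancel_right]
    have h4 : w⁻¹ * k = k⁻¹ * w⁻¹ := by
      calc w⁻¹ * k = (a * w * a⁻¹) * (a * k * a⁻¹) := by rw [hsw, hak]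
        _ = a * w' * a⁻¹ := by rw [hk']; group
        _ = w'⁻¹ := hsw'
        _ = k⁻¹ * w⁻¹ := by rw [hk']; group
    have hk1 : k = 1 := eq_one_of_odd_conj_inv (o := w⁻¹) (by rw [orderOf_inv]; exact c.odd_of_mem_U hwU)
      (h.odd k hk) (by rw [h4, mul_inv_cancel_right])
    rw [hk', inv_mul_eq_one] at hk1
    exact hk1
  have hrb : c.d.m * (c.W b).relIndex c.U ≤ 2 * α * β := by
    rw [← hnum hbR, ← hTcard b]
    haveI := Fintype.ofFinite (G ⧸ O)
    set Q : Finset (G ⧸ O) := (T b).image (fun w : G => (w : G ⧸ O)) with hQ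
    have hQb : c.d.m * Q.card ≤ 2 * α := by
      have hex : ∀ q : Q, ∃ w ∈ T b, ((w : G) : G ⧸ O) = q.1 := fun q => by
        have := q.2
        simp only [hQ, Finset.mem_image] at this
        exact this
      choose f hf hf' using hex
      have hfi : Function.Injective f := fun p q e => Subtype.ext (by rw [← hf' p, ← hf' q, e])
      have := h.card_inner c.d.z hzS hzo (Finset.univ.image f)
        (fun w hw => by
          obtain ⟨q, -, rfl⟩ := Finset.mem_image.1 hw
          exact hTmem b hbM hbR.sq _ (hf q))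
        (fun w hw w' hw' e => by
          obtain ⟨p, -, rfl⟩ := Finset.mem_image.1 hw
          obtain ⟨q, -, rfl⟩ := Finset.mem_image.1 hw'
          have : p = q := Subtype.ext (by rw [← hf' p, ← hf' q]; exact QuotientGroup.eq.2 e)
          rw [this])
      rwa [Finset.card_image_of_injective _ hfi, Finset.card_univ, Fintype.card_coe] at this
    have hfib : (T b).card ≤ β * Q.card := by
      rw [hQ]
      refine Finset.card_le_mul_card_image _ β fun q hq => ?_
      obtain ⟨w₀, hw₀, rfl⟩ := Finset.mem_image.1 hq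
      obtain ⟨-, hw₀U, hbw₀⟩ := Finset.mem_filter.1 hw₀
      set b' := b * w₀ with hb'
      have hb'S : b' ∉ S := fun hm => hbS (by
        have := mul_mem hm (inv_mem (hTmem b hbM hbR.sq w₀ hw₀).1)
        rwa [hb', mul_inv_cancel_right] at this)
      have hb'2 : orderOf b' = 2 := by
        refine Invol.order_two_of_sq ?_ fun e => hb'S (e ▸ one_mem _)
        rw [hb']
        calc b * w₀ * (b * w₀) = b * w₀ * b⁻¹ * w₀ := by rw [hbR.inv_eq]; group
          _ = 1 := by rw [hbw₀, inv_mul_cancel]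
      have hb'z : c.d.z * b' = b' * c.d.z :=
        ((show Commute c.d.z b from hbR.comm.symm).mul_right (show Commute c.d.z w₀ from hUz w₀ hw₀U)).eq
      obtain ⟨j, hj⟩ := hF.exists_inner b' hb'2
      have hne : i₀ ≠ j := fun e => hb'S ((h0S b').1 (e ▸ hj))
      have hedge : PicEdge (famMap S) i₀ j c.d.z b' := ⟨hne, hzo, hb'2, (h0S _).2 hzS, hj, hb'z⟩
      have hmap := hF.card_inverted c.noncomm c.dih c.known hedge
        (((T b).filter fun w => ((w : G) : G ⧸ O) = (w₀ : G ⧸ O)).image fun w => w₀⁻¹ * w) (by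
          intro o ho
          obtain ⟨w, hw, rfl⟩ := Finset.mem_image.1 ho
          obtain ⟨hwT, hwq⟩ := Finset.mem_filter.1 hw
          obtain ⟨-, -, hbw⟩ := Finset.mem_filter.1 hwT
          refine ⟨(h0O _).2 (QuotientGroup.eq.1 hwq.symm), ?_⟩
          calc b' * (w₀⁻¹ * w) * b'⁻¹ = (b * w * b⁻¹) * (b * w₀⁻¹ * b⁻¹) := by rw [hb']; group
            _ = w⁻¹ * (b * w₀ * b⁻¹)⁻¹ := by rw [hbw]; group
            _ = (w₀⁻¹ * w)⁻¹ := by rw [hbw₀]; group)
      rwa [Finset.card_image_of_injective _ (mul_right_injective w₀⁻¹)] at hmap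
    calc c.d.m * (T b).card ≤ c.d.m * (β * Q.card) := Nat.mul_le_mul_left _ hfib
      _ = c.d.m * Q.card * β := by ring
      _ ≤ 2 * α * β := Nat.mul_le_mul_right _ hQb
  -- the number of conjugates of `M`
  have hnb : ∀ i : G ⧸ M, ∃ Nb : Finset (G ⧸ M), (α + β) * α ≤ Nb.card ∧
      ∀ j ∈ Nb, ∃ t v, PicEdge (famMap S) i j t v := by
    intro i
    obtain ⟨To, hTo, hTo', hd⟩ := (hF.pic i).outer
    have hex : ∀ v : To, ∃ j t, PicEdge (famMap S) i j t (v : G) := by
      intro v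
      obtain ⟨hvN, hv2, hvS⟩ := hTo' v v.2
      obtain ⟨t, htS, ht2, htv⟩ := (hF.pic i).partner v hvN hv2 hvS
      obtain ⟨j, hj⟩ := hF.exists_inner v hv2
      exact ⟨j, t, fun e => hvS (e ▸ hj), ht2, hv2, htS, hj, htv⟩
    choose f t hft using hex
    refine ⟨Finset.univ.image f, ?_, fun j hj => ?_⟩
    · rwa [Finset.card_image_of_injective _ fun v w e => Subtype.ext
        (hd v v.2 w w.2 (hF.edge_mod (hft v) (e ▸ hft w))), Finset.card_univ, Fintype.card_coe]
    · obtain ⟨v, -, rfl⟩ := Finset.mem_image.1 hj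
      exact ⟨t v, v, hft v⟩
  have hindex : 2 * ((α + β) * α) ≤ M.index := by
    obtain ⟨Nb, hNb, hNb'⟩ := hnb i₀
    obtain ⟨j, hj⟩ := Finset.card_pos.1 (lt_of_lt_of_le (by positivity) hNb)
    obtain ⟨t, v, hedge⟩ := hNb' j hj
    obtain ⟨Nb', hNb2, hNb2'⟩ := hnb j
    have hdis : Disjoint Nb Nb' := Finset.disjoint_left.2 fun k hk hk' => by
      obtain ⟨t₁, v₁, e₁⟩ := hNb' k hk
      obtain ⟨t₂, v₂, e₂⟩ := hNb2' k hk'
      exact hF.no_triangle c.noncomm c.dih c.known hedge e₁ e₂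
    have := Finset.card_le_univ (Nb ∪ Nb')
    rw [Finset.card_union_of_disjoint hdis, ← Nat.card_eq_fintype_card, ← Subgroup.index_eq_card] at this
    omega
  -- the number of inner involutions
  have hrel : (α + β) * β ≤ c.C.relIndex M := by
    obtain ⟨Ti, hTi, hTi'⟩ := h.inner
    have hex : ∀ v : Ti, ∃ r ∈ M, r * c.d.z * r⁻¹ = v := by
      intro v
      obtain ⟨r, hr, e⟩ := h.one_class c.d.z v hzS (hTi' v v.2).1 hzo (hTi' v v.2).2
      exact ⟨r, h.SN (h.RS hr), e⟩
    choose f hf hf' using hex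
    refine hTi.trans ?_
    rw [Subgroup.relIndex, Subgroup.index_eq_card, ← Fintype.card_coe, ← Nat.card_eq_fintype_card]
    refine Nat.card_le_card_of_injective (fun v : Ti => ((⟨f v, hf v⟩ : M) : M ⧸ c.C.subgroupOf M)) ?_
    intro v w e
    have hm : (f v)⁻¹ * f w ∈ c.C := Subgroup.mem_subgroupOf.1 (QuotientGroup.eq.1 e)
    refine Subtype.ext ?_
    rw [← hf' v, ← hf' w]
    calc f v * c.d.z * (f v)⁻¹ = f v * (c.d.z * ((f v)⁻¹ * f w)) * (f w)⁻¹ := by group
      _ = f v * ((f v)⁻¹ * f w * c.d.z) * (f w)⁻¹ := by rw [c.mem_C.1 hm]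
      _ = f w * c.d.z * (f w)⁻¹ := by group
  refine num_contra hα hβ (c.index_bound ha) ?_ ?_
  · calc c.d.m * ((c.W a).relIndex c.U + (c.W (c.d.x * a)).relIndex c.U)
        = c.d.m * (c.W a).relIndex c.U + c.d.m * (c.W b).relIndex c.U := by rw [mul_add, hb]
      _ ≤ 2 * α + 2 * α * β := add_le_add hra hrb
      _ = 2 * α * (1 + β) := by ring
  · rw [← Subgroup.relIndex_mul_index hCM]
    calc 2 * ((α + β) * α) * ((α + β) * β) ≤ M.index * c.C.relIndex M := Nat.mul_le_mul hindex hrel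
      _ = c.C.relIndex M * M.index := mul_comm _ _

end Core

end Cfsg.Agent.GW
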