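import Cfsg.Agent.Lib.GW.OddInvPSL
import Cfsg.Agent.Lib.Classical.FourGroup

/-!
A group over `PSL₂(q)` with dihedral Sylow 2-subgroups and an outer involution: the numbers of
involutions of both kinds and the odd parts of their centralisers.
-/

set_option autoImplicit false
set_option linter.unusedSectionVars false
set_option linter.style.haveILetI false

namespace Cfsg.Agent.GW

open Matrix Cfsg.Agent.AutPSL

universe u

/-- What step C uses about an almost simple section with an outer involution. -/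
structure OuterFacts (X : Type u) [Group X] (L : Subgroup X) (q α β : ℕ) : Prop where
  add : α + β = q
  beta : 3 ≤ β
  alpha : 2 ≤ α
  cop : α.Coprime β
  out_mul : ∀ u v : X, orderOf u = 2 → orderOf v = 2 → u ∉ L → v ∉ L → u * v ∈ L
  partner : ∀ v : X, orderOf v = 2 → ∃ u ∈ L, orderOf u = 2 ∧ u * v = v * u
  four : ∃ u v : X, u ∈ L ∧ v ∈ L ∧ orderOf u = 2 ∧ orderOf v = 2 ∧ u ≠ v ∧ u * v = v * u
  lift : ∀ u v : X, u ∈ L → orderOf u = 2 → v ∉ L → orderOf v = 2 → u * v = v * u →
    ∃ z ∈ L, z ≠ 1 ∧ Odd (orderOf z) ∧ v * z = z * v ∧ u * z * u⁻¹ = z⁻¹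
  ord_inner : ∀ u z : X, u ∈ L → orderOf u = 2 → z ∈ L → Odd (orderOf z) → u * z = z * u →
    z ^ α = 1
  ord_outer : ∀ v z : X, v ∉ L → orderOf v = 2 → z ∈ L → Odd (orderOf z) → v * z = z * v →
    z ^ β = 1
  card_inner : ∀ (P : Sylow 2 X) (u : X), u ∈ L → orderOf u = 2 →
    Nat.card (P : Subgroup X) * Nat.card {z : X // z ∈ L ∧ Odd (orderOf z) ∧ u * z = z * u} ≤ 4 * α
  card_outer : ∀ v : X, v ∉ L → orderOf v = 2 →
    Nat.card {z : X // z ∈ L ∧ Odd (orderOf z) ∧ v * z = z * v} ≤ β
  unique : ∀ v w z : X, orderOf v = 2 → orderOf w = 2 → v ∉ L → z ∈ L → z ≠ 1 → Odd (orderOf z) →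
    v * z = z * v → w * z = z * w → w = v
  inner_many : q * β ≤ Nat.card {u : X // u ∈ L ∧ orderOf u = 2}
  outer_many : q * α ≤ Nat.card {v : X // v ∉ L ∧ orderOf v = 2}

variable {F : Type} [Field F]

/-- A matrix commuting with a non-scalar one is a combination of it and the identity. -/
theorem eq_add_smul {g k : Matrix (Fin 2) (Fin 2) F}
    (hg : g 0 1 ≠ 0 ∨ g 1 0 ≠ 0 ∨ g 0 0 ≠ g 1 1) (hk : k * g = g * k) :
    ∃ a b : F, k = a • (1 : Matrix (Fin 2) (Fin 2) F) + b • g := by
  simp only [← Matrix.ext_iff, Fin.forall_fin_two, Matrix.mul_apply, Fin.sum_univ_two] at hk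
  obtain ⟨⟨e00, e01⟩, e10, e11⟩ := hk
  rcases hg with e | e | e
  · refine ⟨k 0 0 - k 0 1 / g 0 1 * g 0 0, k 0 1 / g 0 1, ?_⟩
    ext i j
    fin_cases i <;> fin_cases j <;>
      simp [Matrix.add_apply, Matrix.smul_apply] <;> field_simp <;> grind
  · refine ⟨k 0 0 - k 1 0 / g 1 0 * g 0 0, k 1 0 / g 1 0, ?_⟩
    ext i j
    fin_cases i <;> fin_cases j <;>
      simp [Matrix.add_apply, Matrix.smul_apply] <;> field_simp <;> grind
  · have e' := sub_ne_zero.2 e
    refine ⟨k 0 0 - (k 0 0 - k 1 1) / (g 0 0 - g 1 1) * g 0 0,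
      (k 0 0 - k 1 1) / (g 0 0 - g 1 1), ?_⟩
    ext i j
    fin_cases i <;> fin_cases j <;>
      simp [Matrix.add_apply, Matrix.smul_apply] <;> field_simp <;> grind

variable [Fintype F]

local notation "PSL2" => Matrix.ProjectiveSpecialLinearGroup (Fin 2) F

/-- An involution of `PGL₂` is not scalar. -/
theorem nonscalar_of_ne_one {g : GL (Fin 2) F} (h : (semi g 1 : MulAut PSL2) ≠ 1) :
    g.1 0 1 ≠ 0 ∨ g.1 1 0 ≠ 0 ∨ g.1 0 0 ≠ g.1 1 1 := by
  by_contra hno
  push Not at hno
  obtain ⟨e1, e2, e3⟩ := hno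
  refine h ((semi_eq_one_iff le_rfl).2 ⟨rfl, ?_⟩)
  have h00 : g.1 0 0 ≠ 0 := fun e0 =>
    ((Matrix.isUnit_iff_isUnit_det _).1 g.isUnit).ne_zero (by rw [Matrix.det_fin_two, e0, e1]; ring)
  refine ⟨Units.mk0 _ h00, Units.ext (Matrix.ext fun a b => ?_)⟩
  fin_cases a <;> fin_cases b <;> simp [e1, e2, ← e3]

/-- If `semi h` commutes with `semi g` then `h * h` commutes with `g`. -/
theorem sq_comm {g h : GL (Fin 2) F}
    (e : (semi h 1 : MulAut PSL2) * semi g 1 = semi g 1 * semi h 1) : (h * h) * g = g * (h * h) := by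
  rw [semi_mul', semi_mul', mapGL_one, mapGL_one, one_mul, semi_eq_semi le_rfl] at e
  obtain ⟨-, c, hc⟩ := e
  have hcc : c * c = 1 := by
    have hdet := congrArg GeneralLinearGroup.det hc
    rw [map_mul, map_mul, map_mul, det_scalar, mul_comm (GeneralLinearGroup.det h), eq_comm,
      mul_eq_right, pow_two] at hdet
    exact hdet
  calc h * h * g = h * (GeneralLinearGroup.scalar (Fin 2) c * (g * h)) := by rw [mul_assoc, hc]
    _ = GeneralLinearGroup.scalar (Fin 2) c * (h * g) * h := by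
      rw [← mul_assoc h, ← AutPSL.scalar_comm]; simp only [mul_assoc]
    _ = GeneralLinearGroup.scalar (Fin 2) (c * c) * (g * h) * h := by
      rw [hc, map_mul]; simp only [mul_assoc]
    _ = g * (h * h) := by rw [hcc, map_one, one_mul, mul_assoc]

/-- Squares of elements of `PGL₂` commuting with an involution commute. -/
theorem inndiag_sq_comm {v a b : MulAut PSL2} (hv : v ∈ Cfsg.inndiagPSL 2 F) (hv1 : v ≠ 1)
    (ha : a ∈ Cfsg.inndiagPSL 2 F) (hb : b ∈ Cfsg.inndiagPSL 2 F) (hav : a * v = v * a)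
    (hbv : b * v = v * b) : (a * a) * (b * b) = (b * b) * (a * a) := by
  obtain ⟨g, rfl⟩ := mem_inndiag.1 hv
  obtain ⟨h, rfl⟩ := mem_inndiag.1 ha
  obtain ⟨k, rfl⟩ := mem_inndiag.1 hb
  have hgk : (h * h) * (k * k) = (k * k) * (h * h) := Units.ext (by
    simp only [Units.val_mul]
    refine commute_of_nonscalar (nonscalar_of_ne_one hv1) ?_ ?_
    · simpa [Units.val_mul] using congrArg Units.val (sq_comm hav)
    · simpa [Units.val_mul] using congrArg Units.val (sq_comm hbv))
  simp only [semi_mul', mapGL_one, one_mul, hgk]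

/-- No element of order `p`, the characteristic, commutes with an involution of `PGL₂`. -/
theorem inndiag_char_free {p : ℕ} [Fact p.Prime] [CharP F p] (hp2 : p ≠ 2) {v z : MulAut PSL2}
    (hv : v ∈ Cfsg.inndiagPSL 2 F) (hv1 : v ≠ 1) (hvv : v * v = 1) (hz : z ∈ Cfsg.inndiagPSL 2 F)
    (hzv : z * v = v * z) (hzp : z ^ p = 1) : z = 1 := by
  obtain ⟨g, rfl⟩ := mem_inndiag.1 hv
  obtain ⟨h, rfl⟩ := mem_inndiag.1 hz
  have hns := nonscalar_of_ne_one hv1
  obtain ⟨a, b, hab⟩ := eq_add_smul hns (by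
    simpa [Units.val_mul] using congrArg Units.val (sq_comm hzv))
  rw [semi_mul', mapGL_one, one_mul, semi_eq_one_iff le_rfl] at hvv
  obtain ⟨-, l, hl⟩ := hvv
  have hl' : g.1 * g.1 = (l : F) • (1 : Matrix (Fin 2) (Fin 2) F) := by
    have := congrArg Units.val hl
    rw [Units.val_mul, GeneralLinearGroup.coe_scalar] at this
    rw [this]; ext i j; fin_cases i <;> fin_cases j <;> simp
  obtain ⟨k, hk⟩ : Odd p := (Fact.out : p.Prime).odd_of_ne_two hp2
  have hgp : g.1 ^ p = ((l : F) ^ k) • g.1 := by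
    rw [hk, pow_succ, pow_mul, pow_two, hl', smul_pow, one_pow, smul_mul_assoc, one_mul]
  have hhp : ∃ c : Fˣ, (h * h) ^ p = GeneralLinearGroup.scalar (Fin 2) c := by
    have e : (semi ((h * h) ^ p) 1 : MulAut PSL2) = 1 := by
      rw [← AutPSL.conjHom_apply, map_pow, map_mul, AutPSL.conjHom_apply, ← pow_two, ← pow_mul,
        mul_comm, pow_mul, hzp, one_pow]
    exact ((semi_eq_one_iff le_rfl).1 e).2
  obtain ⟨c, hc⟩ := hhp
  have hc' := congrArg Units.val hc
  rw [Units.val_pow_eq_pow_val, Units.val_mul, hab, GeneralLinearGroup.coe_scalar] at hc'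
  rw [add_pow_char_of_commute p ((Commute.one_left _).smul_left a |>.smul_right b), smul_pow,
    one_pow, smul_pow, hgp, smul_smul] at hc'
  have hb0 : b ^ p * (l : F) ^ k = 0 := by
    simp only [← Matrix.ext_iff, Fin.forall_fin_two, Matrix.add_apply, Matrix.smul_apply,
      smul_eq_mul] at hc'
    obtain ⟨⟨e00, e01⟩, e10, e11⟩ := hc'
    simp at e00 e01 e10 e11
    rcases hns with e | e | e
    · by_contra hne; apply e; simp_all
    · by_contra hne; apply e; simp_all
    · by_contra hne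
      refine e (mul_left_cancel₀ hne ?_)
      linear_combination e00 - e11
  rw [mul_eq_zero, pow_eq_zero_iff (Fact.out : p.Prime).ne_zero] at hb0
  have hb0' : b = 0 := hb0.resolve_right (pow_ne_zero _ l.ne_zero)
  rw [hb0', zero_smul, add_zero] at hab
  have hz2 : (semi h 1 : MulAut PSL2) * semi h 1 = 1 := by
    rw [semi_mul', mapGL_one, one_mul, semi_eq_one_iff le_rfl]
    have ha : a ≠ 0 := fun e => (h * h).isUnit.ne_zero (by rw [Units.val_mul, hab, e, zero_smul])
    refine ⟨rfl, Units.mk0 a ha, Units.ext ?_⟩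
    rw [Units.val_mul, hab, GeneralLinearGroup.coe_scalar]
    ext i j; fin_cases i <;> fin_cases j <;> simp
  calc (semi h 1 : MulAut PSL2) = semi h 1 * (semi h 1 * semi h 1) ^ k := by rw [hz2, one_pow, mul_one]
    _ = (semi h 1) ^ p := by rw [hk, ← pow_two, ← pow_mul, ← pow_succ']
    _ = 1 := hzp

/-- At least `q²` involutions in `PGL₂(q)`. -/
theorem le_card_invol_inndiag (h2 : (2 : F) ≠ 0) :
    Fintype.card F * Fintype.card F ≤
      Nat.card {β : MulAut PSL2 // β ∈ Cfsg.inndiagPSL 2 F ∧ β * β = 1 ∧ β ≠ 1} := by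
  classical
  set q := Fintype.card F with hq
  haveI : Finite (MulAut PSL2) :=
    Finite.of_injective (fun e : MulAut PSL2 => (e : PSL2 → PSL2)) DFunLike.coe_injective
  let Good := {p : F × F × F // p.1 * p.1 + p.2.1 * p.2.2 ≠ 0}
  let Cone := {p : F × F × F // ¬ (p.1 * p.1 + p.2.1 * p.2.2 ≠ 0)}
  have hcone : Nat.card Cone ≤ q * q := by
    let f : Cone → F × F := fun p => if p.1.2.1 = 0 then (p.1.2.2, 0) else (p.1.1, p.1.2.1)
    have hf : Function.Injective f := by
      rintro ⟨⟨a, b, c⟩, hp⟩ ⟨⟨a', b', c'⟩, hp'⟩ e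
      push Not at hp hp'
      simp only [f] at e hp hp'
      refine Subtype.ext ?_
      by_cases hb : b = 0 <;> by_cases hb' : b' = 0 <;> simp [hb, hb'] at e ⊢
      · subst hb hb'
        simp at hp hp'
        exact ⟨by rw [hp, hp'], e⟩
      · exact absurd e.2.symm hb'
      · obtain ⟨rfl, rfl⟩ := e
        exact ⟨rfl, rfl, mul_left_cancel₀ hb (by linear_combination hp - hp')⟩
    have := Nat.card_le_card_of_injective f hf
    rwa [Nat.card_prod, Nat.card_eq_fintype_card (α := F), ← hq] at this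
  have hsplit : Nat.card Good + Nat.card Cone = q * (q * q) := by
    rw [← Nat.card_sum, Nat.card_congr (Equiv.sumCompl _), Nat.card_prod, Nat.card_prod,
      Nat.card_eq_fintype_card (α := F)]
  have hdet : ∀ p : Good, (!![p.1.1, p.1.2.1; p.1.2.2, -p.1.1]).det ≠ 0 := fun p => by
    rw [Matrix.det_fin_two_of]
    intro e
    exact p.2 (by linear_combination -e)
  let mg : Good → GL (Fin 2) F := fun p => GeneralLinearGroup.mkOfDetNeZero _ (hdet p)
  have hmg : ∀ p, (mg p).1 = !![p.1.1, p.1.2.1; p.1.2.2, -p.1.1] := fun p => rfl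
  let I := {β : MulAut PSL2 // β ∈ Cfsg.inndiagPSL 2 F ∧ β * β = 1 ∧ β ≠ 1}
  have hI : ∀ p, (semi (mg p) 1 : MulAut PSL2) ∈ Cfsg.inndiagPSL 2 F ∧
      (semi (mg p) 1 : MulAut PSL2) * semi (mg p) 1 = 1 ∧ (semi (mg p) 1 : MulAut PSL2) ≠ 1 := by
    intro p
    refine ⟨mem_inndiag.2 ⟨_, rfl⟩, ?_, ?_⟩
    · rw [semi_mul', mapGL_one, one_mul, semi_eq_one_iff le_rfl]
      refine ⟨rfl, Units.mk0 _ p.2, Units.ext ?_⟩
      rw [Units.val_mul, hmg, GeneralLinearGroup.coe_scalar]
      ext i j
      fin_cases i <;> fin_cases j <;> simp [Matrix.mul_apply, Fin.sum_univ_two] <;> ring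
    · intro e
      obtain ⟨-, c, hc⟩ := (semi_eq_one_iff le_rfl).1 e
      have hc' := congrArg Units.val hc
      rw [hmg, GeneralLinearGroup.coe_scalar] at hc'
      have e00 := congrFun (congrFun hc' 0) 0
      have e11 := congrFun (congrFun hc' 1) 1
      simp at e00 e11
      have : (2 : F) * (c : F) = 0 := by linear_combination -e00 - e11
      exact (mul_ne_zero h2 c.ne_zero) this
  -- scalar multiples of the chosen representatives
  let π : Good → I := fun p => ⟨_, hI p⟩
  have hfib : ∀ β : I, Nat.card {p : Good // π p = β} ≤ q - 1 := by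
    intro β
    by_cases hne : Nonempty {p : Good // π p = β}
    swap
    · haveI := not_nonempty_iff.1 hne
      simp
    obtain ⟨⟨p₀, hp₀⟩⟩ := hne
    have hex : ∀ p : {p : Good // π p = β}, ∃ c : Fˣ,
        mg p.1 = GeneralLinearGroup.scalar (Fin 2) c * mg p₀ := fun p => by
      have := congrArg Subtype.val (p.2.trans hp₀.symm)
      exact ((semi_eq_semi le_rfl).1 this).2
    choose f hf using hex
    refine le_of_le_of_eq (Nat.card_le_card_of_injective f fun p p' e => ?_) ?_
    · have hm : mg p.1 = mg p'.1 := by rw [hf p, hf p', e]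
      have hm' := congrArg Units.val hm
      rw [hmg, hmg] at hm'
      refine Subtype.ext (Subtype.ext (Prod.ext ?_ (Prod.ext ?_ ?_)))
      · exact congrFun (congrFun hm' 0) 0
      · exact congrFun (congrFun hm' 0) 1
      · exact congrFun (congrFun hm' 1) 0
    · rw [Nat.card_units, Nat.card_eq_fintype_card]
  have hgood : Nat.card Good ≤ Nat.card I * (q - 1) := by
    haveI := Fintype.ofFinite I
    rw [Nat.card_congr (Equiv.sigmaFiberEquiv π).symm, Nat.card_sigma, Nat.card_eq_fintype_card (α := I)]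
    exact (Finset.sum_le_card_nsmul _ _ _ fun β _ => hfib β).trans_eq (by rw [smul_eq_mul]; rfl)
  have hq2 : 2 ≤ q := Fintype.one_lt_card
  show q * q ≤ Nat.card I
  refine Nat.le_of_mul_le_mul_right (c := q - 1) ?_ (by omega)
  rw [Nat.mul_sub_one]
  have : q * q * q = q * (q * q) := mul_comm _ _
  omega

theorem orbit_small {q α β a n k : ℕ} (hq : α + β = q) (hα : 2 ≤ α) (hβ : 3 ≤ β)
    (hn : n ≤ q * q + q + 1) (hk : k + q * β ≤ n) (hT : k * a = 2 * q * α * β) : 2 < a := by
  by_contra hle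
  push Not at hle
  have h1 : k * a ≤ k * 2 := Nat.mul_le_mul_left k hle
  have h2 : q * q = q * α + q * β := by rw [← hq]; ring
  have h3 : q * α * 3 ≤ q * α * β := Nat.mul_le_mul_left _ hβ
  have h4 : q * 2 ≤ q * α := Nat.mul_le_mul_left _ hα
  have h5 : 2 * q * α * β = 2 * (q * α * β) := by ring
  omega

/-- The facts on a group over `PSL₂(q)` with an outer involution. -/
theorem outerFacts {X : Type u} [Group X] [Finite X] [IsSimpleGroup PSL2] (h : DihSylow X)
    (hnc : ¬ IsMulCommutative PSL2) (hodd : Odd (Fintype.card F)) (h3 : 3 < Fintype.card F)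
    (L : Subgroup X) (hLn : L.Normal) (hLs : IsSimpleGroup L) (hLnc : ¬ IsMulCommutative L)
    (ι : X →* MulAut PSL2) (hι : Function.Injective ι) (hL : L.map ι = Cfsg.Inn PSL2)
    (hfld : ∀ x : X, Odd (orderOf (fldHom (ι x)))) (hout : ∃ v : X, orderOf v = 2 ∧ v ∉ L) :
    ∃ α β : ℕ, OuterFacts X L (Fintype.card F) α β := by
  classical
  haveI := hLn
  haveI : Fact (Nat.Prime 2) := ⟨Nat.prime_two⟩
  haveI : Finite (MulAut PSL2) :=
    Finite.of_injective (fun e : MulAut PSL2 => (e : PSL2 → PSL2)) DFunLike.coe_injective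
  set q := Fintype.card F with hq
  have facts := socleFacts h hnc hodd h3 L hLn hLs hLnc ι hι hL hfld
  have hord2 : ∀ w : X, orderOf w = 2 → w * w = 1 := fun w hw => by
    rw [← pow_two, ← hw, pow_orderOf_eq_one]
  have hne1 : ∀ w : X, orderOf w = 2 → w ≠ 1 := fun w hw e => by rw [e, orderOf_one] at hw; omega
  have hmemL : ∀ x : X, x ∈ L ↔ ι x ∈ Cfsg.Inn PSL2 := fun x => by
    rw [← hL, Subgroup.mem_map_iff_mem hι]
  have hinL : ∀ x ∈ L, ι x ∈ Cfsg.inndiagPSL 2 F := fun x hx => by
    rw [mem_inndiag_iff_fld]; exact fldHom_inn ((hmemL x).1 hx)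
  have hinv : ∀ w : X, orderOf w = 2 → ι w ∈ Cfsg.inndiagPSL 2 F := by
    intro w hw
    rw [mem_inndiag_iff_fld]
    refine eq_one_of_sq_odd ?_ (hfld w)
    rw [← map_mul, ← map_mul, hord2 w hw, map_one, map_one]
  have h2 : (2 : F) ≠ 0 := fun e => by
    have hc : CharP F 2 := CharP.ringChar_of_prime_eq_zero Nat.prime_two (by exact_mod_cast e) ▸
      ringChar.charP F
    obtain ⟨n, -, hn⟩ := FiniteField.card F 2
    rw [hq, hn] at hodd
    exact Nat.not_odd_iff_even.2 (Even.pow_of_ne_zero (by norm_num) n.2.ne') hodd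
  have hoo : ∀ u v : X, orderOf u = 2 → orderOf v = 2 → u ∉ L → v ∉ L → u * v ∈ L := by
    intro u v hu hv huL hvL
    rw [hmemL, map_mul]
    exact (inn_mul_mem hodd (hinv u hu) (hinv v hv)).2
      (iff_of_false (fun e => huL ((hmemL u).2 e)) fun e => hvL ((hmemL v).2 e))
  obtain ⟨v₀, hv₀, hv₀L⟩ := hout
  have hrange : ∀ b ∈ Cfsg.inndiagPSL 2 F, ∃ x : X, ι x = b := by
    intro b hb
    by_cases hbi : b ∈ Cfsg.Inn PSL2
    · obtain ⟨x, -, hx⟩ := Subgroup.mem_map.1 (hL ▸ hbi)
      exact ⟨x, hx⟩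
    · have hbv : b * ι v₀ ∈ Cfsg.Inn PSL2 := (inn_mul_mem hodd hb (hinv v₀ hv₀)).2
        (iff_of_false hbi fun e => hv₀L ((hmemL v₀).2 e))
      obtain ⟨x, -, hx⟩ := Subgroup.mem_map.1 (hL ▸ hbv)
      exact ⟨x * v₀, by rw [map_mul, hx, mul_assoc, ← map_mul, hord2 v₀ hv₀, map_one, mul_one]⟩
  have hpart : ∀ v : X, orderOf v = 2 → ∃ u ∈ L, orderOf u = 2 ∧ u * v = v * u := by
    intro v hv
    obtain ⟨w, hwL, hwo, hw⟩ := socle_involution L hLs hLnc
      (IsPGroup.of_card (n := 1) (by rw [Nat.card_zpowers, hv, pow_one]) :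
        IsPGroup 2 (Subgroup.zpowers v))
    exact ⟨w, hwL, hwo, (hw v (Subgroup.mem_zpowers v)).symm⟩
  -- no odd element is centralised by an inner and an outer involution
  have hno : ∀ u v z : X, u ∈ L → orderOf u = 2 → v ∉ L → orderOf v = 2 → z ∈ L →
      Odd (orderOf z) → u * z = z * u → v * z = z * v → z = 1 := by
    intro u v z huL hu hvL hv hzL hzo huz hvz
    by_contra hz1
    have hz2 : ι z * ι z ≠ 1 := fun e =>
      hz1 (eq_one_of_sq_odd (hι (by rw [map_mul, e, map_one])) hzo)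
    have hcom : u * v = v * u := hι (by
      rw [map_mul, map_mul]
      exact inndiag_centraliser_comm (hinL z hzL) hz2 (hinv u hu) (hinv v hv)
        (by rw [← map_mul, ← map_mul, huz]) (by rw [← map_mul, ← map_mul, hvz]))
    exact hz1 (no_four_cent h hnc hodd L hLs hLnc ι hι hL hfld hu hv (fun e => hvL (e ▸ huL)) hcom
      hzL hzo huz hvz)
  -- the odd elements of the socle centralised by an involution form a group
  have hTcomm : ∀ v a b : X, orderOf v = 2 → a ∈ L → b ∈ L → Odd (orderOf a) → Odd (orderOf b) →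
      v * a = a * v → v * b = b * v → Commute a b := by
    intro v a b hv ha hb hao hbo hva hvb
    have h' : Commute (a * a) (b * b) := hι (by
      simp only [map_mul]
      exact inndiag_sq_comm (hinv v hv) (fun e => hne1 v hv (hι (e.trans (map_one ι).symm)))
        (hinL a ha) (hinL b hb) (by rw [← map_mul, ← map_mul, hva])
        (by rw [← map_mul, ← map_mul, hvb]))
    obtain ⟨i, hi⟩ := hao
    obtain ⟨j, hj⟩ := hbo
    have ea : a = (a * a) ^ (i + 1) := by
      rw [← pow_two, ← pow_mul, show 2 * (i + 1) = orderOf a + 1 by omega, pow_succ,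
        pow_orderOf_eq_one, one_mul]
    have eb : b = (b * b) ^ (j + 1) := by
      rw [← pow_two, ← pow_mul, show 2 * (j + 1) = orderOf b + 1 by omega, pow_succ,
        pow_orderOf_eq_one, one_mul]
    rw [ea, eb]
    exact h'.pow_pow _ _
  let T : ∀ v : X, orderOf v = 2 → Subgroup X := fun v hv =>
    { carrier := {z | z ∈ L ∧ Odd (orderOf z) ∧ v * z = z * v}
      one_mem' := ⟨one_mem L, by rw [orderOf_one]; exact odd_one, by rw [mul_one, one_mul]⟩
      mul_mem' := fun {a b} ha hb => ⟨mul_mem ha.1 hb.1,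
        (ha.2.1.mul hb.2.1).of_dvd_nat
          ((hTcomm v a b hv ha.1 hb.1 ha.2.1 hb.2.1 ha.2.2 hb.2.2).orderOf_mul_dvd_mul_orderOf),
        ((show Commute v a from ha.2.2).mul_right (show Commute v b from hb.2.2)).eq⟩
      inv_mem' := fun {a} ha => ⟨inv_mem ha.1, by rw [orderOf_inv]; exact ha.2.1,
        ((show Commute v a from ha.2.2).inv_right).eq⟩ }
  have hTmem : ∀ v hv z, z ∈ T v hv ↔ z ∈ L ∧ Odd (orderOf z) ∧ v * z = z * v := fun v hv z => Iff.rfl
  have hTodd : ∀ v hv, Odd (Nat.card (T v hv)) := by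
    intro v hv
    rw [Nat.odd_iff, ← Nat.two_dvd_ne_zero]
    intro hd
    obtain ⟨z, hz⟩ := exists_prime_orderOf_dvd_card' 2 hd
    have := ((hTmem v hv z).1 z.2).2.1
    rw [Subgroup.orderOf_coe, hz] at this
    exact absurd this (by decide)
  -- inner involutions
  obtain ⟨u₀, hu₀L, hu₀, hu₀v⟩ := hpart v₀ hv₀
  have hLcard : Nat.card L = Nat.card PSL2 := by
    rw [← Subgroup.card_map_of_injective (K := L) hι, hL]
    exact (Nat.card_congr (MonoidHom.ofInjective (conj_injective hnc)).toEquiv).symm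
  set n := Nat.card (SL2Inv.C : Subgroup (Matrix.SpecialLinearGroup (Fin 2) F)) with hn
  have hDcard : ∀ u ∈ L, orderOf u = 2 →
      Nat.card (L ⊓ Subgroup.centralizer ({u} : Set X) : Subgroup X) = n := by
    intro u hu huo
    obtain ⟨p, hp⟩ := (hmemL u).1 hu
    have hpp : p * p = 1 := conj_injective hnc (by
      rw [map_mul, map_one, hp, ← map_mul, hord2 u huo, map_one])
    have hp1 : p ≠ 1 := fun e => hne1 u huo (hι (by rw [← hp, e, map_one, map_one]))
    set C := L ⊓ Subgroup.centralizer ({u} : Set X) with hC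
    have hmap : C.map ι = (Subgroup.centralizer ({p} : Set PSL2)).map MulAut.conj := by
      ext b
      simp only [Subgroup.mem_map, hC, Subgroup.mem_inf, Subgroup.mem_centralizer_singleton_iff]
      constructor
      · rintro ⟨x, ⟨hx, hxu⟩, rfl⟩
        obtain ⟨r, hr⟩ := (hmemL x).1 hx
        exact ⟨r, conj_injective hnc (by rw [map_mul, map_mul, hr, hp, ← map_mul, ← map_mul, hxu]), hr⟩
      · rintro ⟨r, hr, rfl⟩
        obtain ⟨x, hx, hxr⟩ := Subgroup.mem_map.1
          (show MulAut.conj r ∈ L.map ι by rw [hL]; exact ⟨r, rfl⟩)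
        exact ⟨x, ⟨hx, hι (by rw [map_mul, map_mul, hxr, ← hp, ← map_mul, ← map_mul, hr])⟩, hxr⟩
    obtain ⟨c, hc⟩ := isConj_iff.1 (PSL2Inv.isConj_pr_w h2 hpp hp1)
    obtain ⟨e⟩ := centralizer_conj_equiv (⊤ : Subgroup PSL2) (PSL2Inv.pr SL2Inv.w) c trivial
    rw [hc, top_inf_eq, top_inf_eq] at e
    rw [← Subgroup.card_map_of_injective (K := C) hι, hmap,
      Subgroup.card_map_of_injective (conj_injective hnc), Nat.card_congr e.toEquiv,
      PSL2Inv.card_centralizer h2]
  -- the numbers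
  have hnq : n = q - 1 ∨ n = q + 1 := by
    rw [hn, SL2Inv.card_C h2, Nat.card_eq_fintype_card]
    split_ifs <;> simp [hq]
  obtain ⟨uu, vv, huuL, hvvL, huu, hvv, huv, huvc⟩ :
      ∃ u v : X, u ∈ L ∧ v ∈ L ∧ orderOf u = 2 ∧ orderOf v = 2 ∧ u ≠ v ∧ u * v = v * u := by
    obtain ⟨Kd, -, -, -, -, A, s, -, -, huA, hsL, hsu, hss, hsA, -⟩ :=
      psl_centralizer (F := F) hnc hodd L ι hι hL hfld hu₀L hu₀
    exact ⟨u₀, s, hu₀L, hsL, hu₀, Invol.order_two_of_sq hss fun e => hsA (e ▸ one_mem A),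
      fun e => hsA (e ▸ huA), hsu.symm⟩
  have h4n : 4 ∣ n := by
    rw [← hDcard uu huuL huu]
    have hK := TwoFus.isKleinFour_of_pair (hord2 uu huu) (hord2 vv hvv) huvc.symm (hne1 uu huu)
      (fun hm => by
        rcases Subgroup.mem_zpowers_iff.1 hm with ⟨i, hi⟩
        rcases Int.even_or_odd' i with ⟨j, rfl | rfl⟩
        · rw [_root_.zpow_mul, zpow_two, hord2 uu huu, _root_.one_zpow] at hi
          exact hne1 vv hvv hi.symm
        · rw [_root_.zpow_add, _root_.zpow_mul, zpow_two, hord2 uu huu, _root_.one_zpow, one_mul, _root_.zpow_one] at hi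
          exact huv hi)
    rw [← hK.card_four]
    refine Subgroup.card_dvd_of_le ((Subgroup.closure_le _).2 ?_)
    rintro x (rfl | rfl)
    · exact ⟨huuL, Subgroup.mem_centralizer_singleton_iff.2 rfl⟩
    · exact ⟨hvvL, Subgroup.mem_centralizer_singleton_iff.2 huvc.symm⟩
  obtain ⟨α, hα⟩ : 2 ∣ n := (dvd_trans (by norm_num) h4n)
  set β := q - α with hβ
  obtain ⟨hadd, hα2, hβ3, hαe⟩ : α + β = q ∧ 2 ≤ α ∧ 3 ≤ β ∧ 2 ∣ α := by
    obtain ⟨j, hj⟩ := h4n
    obtain ⟨k, hk⟩ := hodd
    rcases hnq with e | e <;> omega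
  have hαq : α.Coprime q := by
    refine Nat.coprime_of_dvd fun l hl hla hlq => ?_
    have hln : l ∣ n := hα ▸ dvd_mul_of_dvd_right hla 2
    have h1 : l ∣ 1 := by
      rcases hnq with e | e
      · have := Nat.dvd_sub hlq hln
        rwa [e, Nat.sub_sub_self (by omega)] at this
      · have := Nat.dvd_sub hln hlq
        rwa [e, Nat.add_sub_cancel_left] at this
    exact hl.not_dvd_one h1
  have hcop : α.Coprime β := by
    rw [← Nat.coprime_add_self_right, add_comm β, hadd]
    exact hαq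
  have hLq : Nat.card L = 2 * α * (q * β) := by
    have h1 := PSL2Inv.card_sl_eq (F := F) h2
    rw [SL2Inv.card_sl2, ← hLcard, Nat.card_eq_fintype_card, ← hq] at h1
    have h4 : (q - 1) * (q + 1) = 4 * (α * β) := by
      rcases hnq with e | e
      · rw [show q - 1 = 2 * α by omega, show q + 1 = 2 * β by omega]; ring
      · rw [show q + 1 = 2 * α by omega, show q - 1 = 2 * β by omega]; ring
    rw [mul_assoc, h4] at h1
    have : 2 * Nat.card L = 2 * (2 * α * (q * β)) := by rw [← h1]; ring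
    omega
  -- the inner involutions
  set J := {u : X // u ∈ L ∧ orderOf u = 2} with hJ
  set O := {v : X // v ∉ L ∧ orderOf v = 2} with hO
  have hJcard : Nat.card J = q * β := by
    let J' := {p : PSL2 // p * p = 1 ∧ p ≠ 1}
    have hm := PSL2Inv.card_involutions_mul (F := F) h2
    rw [← hLcard, hLq, ← hn, hα] at hm
    have hJ' : Nat.card J' = q * β :=
      Nat.eq_of_mul_eq_mul_right (show 0 < 2 * α by omega) (hm.trans (mul_comm _ _))
    rw [← hJ']
    have hex : ∀ u : J, ∃ p : J', MulAut.conj p.1 = ι u.1 := by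
      rintro ⟨u, hu, huo⟩
      obtain ⟨p, hp⟩ := (hmemL u).1 hu
      exact ⟨⟨p, conj_injective hnc (by rw [map_mul, map_one, hp, ← map_mul, hord2 u huo, map_one]),
        fun e => hne1 u huo (hι (by rw [← hp, e, map_one, map_one]))⟩, hp⟩
    choose f hf using hex
    refine Nat.card_eq_of_bijective f ⟨fun a b e => Subtype.ext (hι (by rw [← hf, ← hf, e])), ?_⟩
    rintro ⟨p, hpp, hp1⟩
    obtain ⟨x, hx, hxp⟩ := Subgroup.mem_map.1
      (show MulAut.conj p ∈ L.map ι by rw [hL]; exact ⟨p, rfl⟩)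
    refine ⟨⟨x, hx, ?_⟩, Subtype.ext (conj_injective hnc ((hf _).trans hxp))⟩
    refine Invol.order_two_of_sq (hι ?_) fun e => hp1 (conj_injective hnc ?_)
    · rw [map_mul, hxp, ← map_mul, hpp, map_one, map_one]
    · rw [← hxp, e, map_one, map_one]
  let I := {b : MulAut PSL2 // b ∈ Cfsg.inndiagPSL 2 F ∧ b * b = 1 ∧ b ≠ 1}
  have hIeq : Nat.card J + Nat.card O = Nat.card I := by
    rw [← Nat.card_sum]
    let g : J ⊕ O → I := fun s =>
      let x : {x : X // orderOf x = 2} := Sum.elim (fun u => ⟨u.1, u.2.2⟩) (fun v => ⟨v.1, v.2.2⟩) s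
      ⟨ι x.1, hinv _ x.2, by rw [← map_mul, hord2 _ x.2, map_one],
        fun e => hne1 _ x.2 (hι (e.trans (map_one ι).symm))⟩
    refine Nat.card_eq_of_bijective g ⟨?_, ?_⟩
    · rintro (a | a) (b | b) e <;> have e' := hι (congrArg Subtype.val e) <;>
        simp only [g, Sum.elim_inl, Sum.elim_inr] at e'
      · exact congrArg Sum.inl (Subtype.ext e')
      · exact absurd (e' ▸ a.2.1) b.2.1
      · exact absurd (e'.symm ▸ b.2.1) a.2.1
      · exact congrArg Sum.inr (Subtype.ext e')
    · rintro ⟨b, hb, hbb, hb1⟩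
      obtain ⟨x, hx⟩ := hrange b hb
      have hxo : orderOf x = 2 := Invol.order_two_of_sq (hι (by rw [map_mul, hx, hbb, map_one]))
        fun e => hb1 (by rw [← hx, e, map_one])
      by_cases hxL : x ∈ L
      · exact ⟨Sum.inl ⟨x, hxL, hxo⟩, Subtype.ext hx⟩
      · exact ⟨Sum.inr ⟨x, hxL, hxo⟩, Subtype.ext hx⟩
  have hsq : q * q = q * α + q * β := by rw [← hadd]; ring
  have houtmany : q * α ≤ Nat.card O := by
    have h1 : q * q ≤ Nat.card I := le_card_invol_inndiag h2
    omega
  -- an odd element centralised by an outer involution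
  have hz0 : ∀ v : X, v ∉ L → orderOf v = 2 →
      ∃ z ∈ L, z ≠ 1 ∧ Odd (orderOf z) ∧ v * z = z * v := by
    intro v hvL hv
    by_contra hnone
    push Not at hnone
    set D := L ⊓ Subgroup.centralizer ({v} : Set X) with hD
    have hD2 : IsPGroup 2 D := by
      intro c
      refine ⟨(orderOf (c : X)).factorization 2, Subtype.ext ?_⟩
      rw [SubmonoidClass.coe_pow, Subgroup.coe_one]
      by_contra hc1
      refine hnone _ (pow_mem c.2.1 _) hc1 ?_
        ((show Commute v (c : X) from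
          (Subgroup.mem_centralizer_singleton_iff.1 c.2.2).symm).pow_right _).eq
      rw [orderOf_pow, Nat.gcd_eq_right (Nat.ordProj_dvd _ 2)]
      exact Nat.odd_iff.2 (Nat.two_dvd_ne_zero.1 (Nat.not_dvd_ordCompl Nat.prime_two
        (orderOf_pos _).ne'))
    have hDle : Nat.card D ≤ 2 := by
      obtain ⟨j, hj⟩ := IsPGroup.iff_card.1 hD2
      by_contra hgt
      have h22 : 2 ^ 2 ∣ Nat.card D := by
        rw [hj] at hgt ⊢
        refine pow_dvd_pow 2 ?_
        by_contra hlt
        interval_cases j <;> simp at hgt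
      obtain ⟨T4, hT4⟩ := Sylow.exists_subgroup_card_pow_prime 2 h22
      set T' := T4.map D.subtype with hT'
      have hT'c : Nat.card T' = 4 := by
        rw [hT', Subgroup.card_map_of_injective D.subtype_injective, hT4]; rfl
      haveI : IsMulCommutative T4 := IsPGroup.isMulCommutative_of_card_eq_prime_sq (p := 2) hT4
      haveI : IsMulCommutative T' := Subgroup.map_isMulCommutative _ _
      have hT'D : T' ≤ D := Subgroup.map_subtype_le T4
      have hzc : Subgroup.zpowers v ≤ Subgroup.centralizer (T' : Set X) :=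
        Subgroup.zpowers_le.2 (Subgroup.mem_centralizer_iff.2 fun c hc =>
          Subgroup.mem_centralizer_singleton_iff.1 (hT'D hc).2)
      obtain ⟨τ, hτ⟩ := exists_prime_orderOf_dvd_card' 2
        (show 2 ∣ Nat.card T' by rw [hT'c]; norm_num)
      rw [← Subgroup.orderOf_coe] at hτ
      have hτv : (τ : X) ≠ v := fun e => hvL (e ▸ (hT'D τ.2).1)
      have hcomT : ∀ a ∈ T', ∀ b ∈ T', a * b = b * a := fun a ha b hb =>
        congrArg Subtype.val (mul_comm' (⟨a, ha⟩ : T') ⟨b, hb⟩)
      have hvT : ∀ a ∈ T', a * v = v * a := fun a ha =>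
        Subgroup.mem_centralizer_singleton_iff.1 (hT'D ha).2
      have hT'sq : ∀ a ∈ T', a * a = 1 := by
        intro a ha
        by_contra ha2
        have ho : orderOf a ∣ 4 := hT'c ▸ Subgroup.orderOf_dvd_natCard T' ha
        have ho4 : orderOf a = 4 := by
          rcases (Nat.dvd_prime_pow Nat.prime_two).1 (show orderOf a ∣ 2 ^ 2 from ho) with ⟨i, hi, e⟩
          interval_cases i
          · exact absurd (show a * a = 1 by
              rw [orderOf_eq_one_iff.1 (show orderOf a = 1 by simpa using e), one_mul]) ha2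
          · exact absurd (hord2 a (by simpa using e)) ha2
          · simpa using e
        -- then `T'` and `v` generate a forbidden abelian group
        have hB2 : IsPGroup 2 (T' ⊔ Subgroup.zpowers v : Subgroup X) :=
          IsPGroup.to_sup_of_normal_left' (IsPGroup.of_card (n := 2) hT'c)
            (IsPGroup.of_card (n := 1) (by rw [Nat.card_zpowers, hv, pow_one]))
            (hzc.trans (Subgroup.centralizer_le_normalizer _))
        haveI hBc : IsMulCommutative (T' ⊔ Subgroup.zpowers v : Subgroup X) :=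
          Subgroup.le_centralizer_iff_isMulCommutative.1 (by
            refine sup_le ?_ ?_ <;> rw [Subgroup.le_centralizer_iff] <;> refine sup_le ?_ ?_
            · exact Subgroup.le_centralizer_iff_isMulCommutative.2 inferInstance
            · exact hzc
            · exact Subgroup.le_centralizer_iff.1 hzc
            · exact Subgroup.le_centralizer_iff_isMulCommutative.2 inferInstance)
        rcases h.comm_subgroup hB2 hBc with hcyc | hle
        · haveI := hcyc
          haveI := Fintype.ofFinite (T' ⊔ Subgroup.zpowers v : Subgroup X)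
          let τ' : (T' ⊔ Subgroup.zpowers v : Subgroup X) := ⟨τ, Subgroup.mem_sup_left τ.2⟩
          let v'' : (T' ⊔ Subgroup.zpowers v : Subgroup X) :=
            ⟨v, Subgroup.mem_sup_right (Subgroup.mem_zpowers v)⟩
          have := IsCyclic.card_pow_eq_one_le (α := (T' ⊔ Subgroup.zpowers v : Subgroup X)) (n := 2) two_pos
          have hsub : ({1, τ', v''} : Finset _) ⊆
              Finset.univ.filter (fun b : (T' ⊔ Subgroup.zpowers v : Subgroup X) => b ^ 2 = 1) := by
            intro b hb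
            simp only [Finset.mem_insert, Finset.mem_singleton] at hb
            rw [Finset.mem_filter]
            refine ⟨Finset.mem_univ _, ?_⟩
            rcases hb with rfl | rfl | rfl
            · exact one_pow 2
            · exact Subtype.ext (by rw [SubmonoidClass.coe_pow, pow_two]; exact hord2 _ hτ)
            · exact Subtype.ext (by rw [SubmonoidClass.coe_pow, pow_two]; exact hord2 v hv)
          have hc3 := Finset.card_le_card hsub
          rw [Finset.card_insert_of_notMem, Finset.card_pair] at hc3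
          · omega
          · intro e1; exact hτv (congrArg Subtype.val e1 :)
          · simp only [Finset.mem_insert, Finset.mem_singleton, τ', v'', Subtype.ext_iff,
              Subgroup.coe_one]
            rintro (e1 | e1)
            · exact hne1 _ hτ e1.symm
            · exact hne1 v hv e1.symm
        · have heq : T' = T' ⊔ Subgroup.zpowers v :=
            Subgroup.eq_of_le_of_card_ge le_sup_left (by rw [hT'c]; exact hle)
          exact hvL (hT'D (heq ▸ Subgroup.mem_sup_right (Subgroup.mem_zpowers v))).1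
      -- three commuting involutions
      haveI := Fintype.ofFinite T'
      obtain ⟨σ, hσ1, hστ⟩ : ∃ σ : T', σ ≠ 1 ∧ σ ≠ τ := by
        by_contra hall
        push Not at hall
        have hsub : (Finset.univ : Finset T') ⊆ {1, τ} := fun σ _ => by
          simp only [Finset.mem_insert, Finset.mem_singleton]
          exact (em (σ = 1)).imp_right (hall σ)
        have := (Finset.card_le_card hsub).trans Finset.card_le_two
        rw [Finset.card_univ, ← Nat.card_eq_fintype_card, hT'c] at this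
        omega
      have hσ : orderOf (σ : X) = 2 :=
        Invol.order_two_of_sq (hT'sq σ σ.2) fun e => hσ1 (Subtype.ext e)
      rcases comm_involution_cases h hτ hσ hv (fun e => hστ (Subtype.ext e.symm)) (hcomT _ τ.2 _ σ.2)
        (hvT _ τ.2) (hvT _ σ.2) with e | e | e
      · exact hvL (e ▸ (hT'D τ.2).1)
      · exact hvL (e ▸ (hT'D σ.2).1)
      · exact hvL (e ▸ mul_mem (hT'D τ.2).1 (hT'D σ.2).1)
    -- the orbit of `v` is short
    have horb : D.relIndex L ≤ Nat.card O := by
      rw [Subgroup.relIndex, Subgroup.index_eq_card]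
      let f : L ⧸ D.subgroupOf L → O := Quotient.lift
        (fun g : L => ⟨(g : X) * v * (g : X)⁻¹, fun hm => hvL (by
            have := mul_mem (mul_mem (inv_mem g.2) hm) g.2
            rwa [show (g : X)⁻¹ * ((g : X) * v * (g : X)⁻¹) * g = v by group] at this),
          by rw [Invol.order_conj, hv]⟩)
        (fun g g' hgg => Subtype.ext (by
          have := Subgroup.mem_centralizer_singleton_iff.1
            (Subgroup.mem_subgroupOf.1 (QuotientGroup.leftRel_apply.1 hgg)).2
          simp only [Subgroup.coe_mul, InvMemClass.coe_inv] at this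
          calc (g : X) * v * (g : X)⁻¹ = (g : X) * (v * ((g : X)⁻¹ * g')) * (g' : X)⁻¹ := by group
            _ = (g : X) * ((g : X)⁻¹ * g' * v) * (g' : X)⁻¹ := by rw [this]
            _ = g' * v * (g' : X)⁻¹ := by group))
      refine Nat.card_le_card_of_injective f ?_
      intro a b e
      induction a using QuotientGroup.induction_on with
      | _ g =>
      induction b using QuotientGroup.induction_on with
      | _ g' =>
        have e' : (g : X) * v * (g : X)⁻¹ = g' * v * (g' : X)⁻¹ := congrArg Subtype.val e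
        rw [QuotientGroup.eq]
        refine Subgroup.mem_subgroupOf.2 ⟨(g⁻¹ * g').2, Subgroup.mem_centralizer_singleton_iff.2 ?_⟩
        simp only [Subgroup.coe_mul, InvMemClass.coe_inv]
        calc (g : X)⁻¹ * g' * v = (g : X)⁻¹ * (g' * v * (g' : X)⁻¹) * g' := by group
          _ = (g : X)⁻¹ * (g * v * (g : X)⁻¹) * g' := by rw [e']
          _ = v * ((g : X)⁻¹ * g') := by group
    have hrel := Subgroup.card_mul_index (D.subgroupOf L)
    rw [Nat.card_congr (Subgroup.subgroupOfEquivOfLe (inf_le_left : D ≤ L)).toEquiv, hLq] at hrel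
    have hIle : Nat.card I ≤ q * q + q + 1 := card_invol_inndiag
    have := orbit_small (k := D.relIndex L) (a := Nat.card D) hadd hα2 hβ3 hIle (by omega) (by
      rw [Subgroup.relIndex, mul_comm, hrel]; ring)
    omega
  -- the orders
  have hTinner : ∀ u hu, u ∈ L → Nat.card (T u hu) ∣ 2 * α := by
    intro u hu huL
    rw [← hα, ← hDcard u huL hu]
    exact Subgroup.card_dvd_of_le fun z hz =>
      ⟨hz.1, Subgroup.mem_centralizer_singleton_iff.2 hz.2.2.symm⟩
  have hpow : ∀ v hv z d, z ∈ T v hv → Nat.card (T v hv) ∣ d → z ^ d = 1 := fun v hv z d hz hd =>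
    orderOf_dvd_iff_pow_eq_one.1 ((Subgroup.orderOf_dvd_natCard _ hz).trans hd)
  have hTα : ∀ u hu, u ∈ L → Nat.card (T u hu) ∣ α := fun u hu huL =>
    (Nat.coprime_two_right.2 (hTodd u hu)).dvd_of_dvd_mul_left (hTinner u hu huL)
  have hTouter : ∀ v hv, v ∉ L → Nat.card (T v hv) ∣ β := by
    intro v hv hvL
    have hfree : ∀ l : ℕ, l.Prime → l ∣ Nat.card (T v hv) → ¬ l ∣ q ∧ ¬ l ∣ α := by
      intro l hl hld
      haveI := Fact.mk hl
      have hl2 : l ≠ 2 := fun e => (hTodd v hv).not_two_dvd_nat (e ▸ hld)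
      obtain ⟨z, hz⟩ := exists_prime_orderOf_dvd_card' l hld
      rw [← Subgroup.orderOf_coe] at hz
      obtain ⟨hzL, hzo, hvz⟩ := (hTmem v hv z).1 z.2
      have hz1 : (z : X) ≠ 1 := fun e => by
        rw [e, orderOf_one] at hz; exact hl.ne_one hz.symm
      refine ⟨fun hlq => hz1 (hι ?_), fun hla => ?_⟩
      · obtain ⟨p, hp, ⟨k, hpp, hpk⟩⟩ : ∃ p, CharP F p ∧ ∃ k : ℕ+, p.Prime ∧ Nat.card F = p ^ (k : ℕ) := by
          obtain ⟨k, hpp, hk⟩ := FiniteField.card F (ringChar F)
          exact ⟨ringChar F, ringChar.charP F, k, hpp, by rw [Nat.card_eq_fintype_card, hk]⟩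
        rw [Nat.card_eq_fintype_card, ← hq] at hpk
        have hlp : l = p := (Nat.prime_dvd_prime_iff_eq hl hpp).1 (hl.dvd_of_dvd_pow (hpk ▸ hlq))
        subst hlp
        rw [map_one]
        refine inndiag_char_free (p := l) hl2 (hinv v hv)
          (fun e => hne1 v hv (hι (e.trans (map_one ι).symm))) ?_ (hinL _ hzL) ?_ ?_
        · rw [← map_mul, hord2 v hv, map_one]
        · rw [← map_mul, ← map_mul, hvz]
        · rw [← map_pow, ← hz, pow_orderOf_eq_one, map_one]
      · set D := L ⊓ Subgroup.centralizer ({u₀} : Set X) with hD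
        obtain ⟨R, -⟩ := (inferInstance : Nonempty (Sylow l D)) |> fun ⟨R⟩ => (⟨R, trivial⟩ : ∃ _ : Sylow l D, True)
        set R' : Subgroup X := (R : Subgroup D).map D.subtype with hR'
        have hR'L : R'.subgroupOf L ≤ ⊤ := le_top
        have hcardR : Nat.card (R'.subgroupOf L) = l ^ (Nat.card D).factorization l := by
          rw [Nat.card_congr (Subgroup.subgroupOfEquivOfLe
              ((Subgroup.map_subtype_le _).trans inf_le_left : R' ≤ L)).toEquiv,
            Subgroup.card_map_of_injective D.subtype_injective, Sylow.card_eq_multiplicity]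
        have hfac : (Nat.card L).factorization l = (Nat.card D).factorization l := by
          rw [hDcard u₀ hu₀L hu₀, hα, hLq, Nat.factorization_mul (by omega) (by positivity)]
          have : ¬ l ∣ q * β := fun hd => by
            rcases hl.dvd_mul.1 hd with hd | hd
            · exact hl.not_dvd_one ((hαq.gcd_eq_one) ▸ Nat.dvd_gcd hla hd)
            · exact hl.not_dvd_one ((hcop.gcd_eq_one) ▸ Nat.dvd_gcd hla hd)
          simp [Nat.factorization_eq_zero_of_not_dvd this]
        let S : Sylow l L := Sylow.ofCard (R'.subgroupOf L) (by rw [hcardR, hfac])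
        obtain ⟨S', hS'⟩ := (IsPGroup.of_card (p := l) (n := 1) (G := Subgroup.zpowers (⟨z, hzL⟩ : L))
          (by rw [Nat.card_zpowers, Subgroup.orderOf_mk, hz, pow_one])).exists_le_sylow
        obtain ⟨g, hg⟩ := MulAction.exists_smul_eq L S' S
        have hm : g * ⟨z, hzL⟩ * g⁻¹ ∈ (S : Subgroup L) := by
          rw [← hg, Sylow.coe_subgroup_smul]
          exact ⟨_, hS' (Subgroup.mem_zpowers _), rfl⟩
        have hm' : (g : X) * z * (g : X)⁻¹ ∈ D :=
          Subgroup.map_subtype_le (R : Subgroup D) (Subgroup.mem_subgroupOf.1 hm)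
        have hc := Subgroup.mem_centralizer_singleton_iff.1 hm'.2
        refine hz1 (hno ((g : X)⁻¹ * u₀ * g) v z (mul_mem (mul_mem (inv_mem g.2) hu₀L) g.2) ?_ hvL hv
          hzL hzo ?_ hvz)
        · rw [show (g : X)⁻¹ * u₀ * g = (g : X)⁻¹ * u₀ * (g : X)⁻¹⁻¹ by rw [inv_inv],
            Invol.order_conj, hu₀]
        · calc (g : X)⁻¹ * u₀ * g * z = (g : X)⁻¹ * (u₀ * ((g : X) * z * (g : X)⁻¹)) * g := by group
            _ = (g : X)⁻¹ * ((g : X) * z * (g : X)⁻¹ * u₀) * g := by rw [hc]
            _ = z * ((g : X)⁻¹ * u₀ * g) := by group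
    have hdL : Nat.card (T v hv) ∣ 2 * α * (q * β) := hLq ▸ Subgroup.card_dvd_of_le fun z hz => hz.1
    have hc : (Nat.card (T v hv)).Coprime (2 * α * q) := by
      refine Nat.coprime_of_dvd fun l hl hlT hl2 => ?_
      obtain ⟨h1, h2'⟩ := hfree l hl hlT
      rcases hl.dvd_mul.1 hl2 with hd | hd
      · rcases hl.dvd_mul.1 hd with hd | hd
        · exact (hTodd v hv).not_two_dvd_nat (((Nat.prime_dvd_prime_iff_eq hl Nat.prime_two).1 hd) ▸ hlT)
        · exact h2' hd
      · exact h1 hd
    exact hc.dvd_of_dvd_mul_left (by rwa [mul_assoc (2 * α)])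
  refine ⟨α, β, hadd, hβ3, hα2, hcop, hoo, hpart, ⟨uu, vv, huuL, hvvL, huu, hvv, huv, huvc⟩, ?_, ?_,
    ?_, ?_, ?_, ?_, hJcard.ge, houtmany⟩
  · intro u v huL hu hvL hv huv
    obtain ⟨z, hzL, hz1, hzo, hvz⟩ := hz0 v hvL hv
    refine ⟨z, hzL, hz1, hzo, hvz, ?_⟩
    have hu' : u⁻¹ = u := inv_eq_of_mul_eq_one_right (hord2 u hu)
    set z' := u * z * u⁻¹ with hz'
    have hz'L : z' ∈ L := hLn.conj_mem z hzL u
    have hz'o : Odd (orderOf z') := by rw [hz', Invol.order_conj]; exact hzo
    have hvz' : v * z' = z' * v :=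
      ((show Commute v u from huv.symm).mul_right (show Commute v z from hvz)).mul_right
        (show Commute v u from huv.symm).inv_right
    have hcm := hTcomm v z z' hv hzL hz'L hzo hz'o hvz hvz'
    have hw : z * z' = 1 := by
      have hmem : z * z' ∈ T v hv := mul_mem ⟨hzL, hzo, hvz⟩ ⟨hz'L, hz'o, hvz'⟩
      obtain ⟨hwL, hwo, hvw⟩ := hmem
      refine hno u v _ huL hu hvL hv hwL hwo (mul_inv_eq_iff_eq_mul.1 ?_) hvw
      calc u * (z * z') * u⁻¹ = z' * (u * u * z * (u * u)⁻¹) := by rw [hz']; group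
        _ = z' * z := by rw [hord2 u hu, one_mul, inv_one, mul_one]
        _ = z * z' := hcm.eq.symm
    exact eq_inv_of_mul_eq_one_right hw
  · exact fun u z huL hu hzL hzo huz => hpow u hu z α ⟨hzL, hzo, huz⟩ (hTα u hu huL)
  · exact fun v z hvL hv hzL hzo hvz => hpow v hv z β ⟨hzL, hzo, hvz⟩ (hTouter v hv hvL)
  · intro P u huL hu
    have hP2 : Nat.card (P : Subgroup X) ∣ 4 * α := by
      have hfo : ∀ x ∈ (P : Subgroup X), ι x ∈ Cfsg.inndiagPSL 2 F := by
        intro x hx
        rw [mem_inndiag_iff_fld]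
        obtain ⟨k, hk⟩ := P.isPGroup' ⟨x, hx⟩
        have hk' : x ^ 2 ^ k = 1 := congrArg Subtype.val hk
        have h1 : fldHom (ι x) ^ 2 ^ k = 1 := by rw [← map_pow, ← map_pow, hk', map_one, map_one]
        exact orderOf_eq_one_iff.1 (Nat.eq_one_of_dvd_coprimes
          (Nat.Coprime.pow_right k (Nat.coprime_two_right.2 (hfld x))) dvd_rfl
          (orderOf_dvd_of_pow_eq_one h1))
      have hidx : (L.subgroupOf (P : Subgroup X)).index ≤ 2 := by
        by_cases hall : ∀ x ∈ (P : Subgroup X), x ∈ L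
        · rw [Subgroup.subgroupOf_eq_top.2 hall, Subgroup.index_top]; omega
        push Not at hall
        obtain ⟨s, hs, hsL⟩ := hall
        refine le_of_eq (Subgroup.index_eq_two_iff.2 ⟨⟨s, hs⟩, fun b => ?_⟩)
        simp only [Subgroup.mem_subgroupOf, Subgroup.coe_mul]
        rw [hmemL, map_mul, inn_mul_mem hodd (hfo b b.2) (hfo s hs), ← hmemL, ← hmemL]
        by_cases hb : (b : X) ∈ L <;> simp [hb, hsL, Xor']
      have hd1 := Subgroup.card_mul_index (L.subgroupOf (P : Subgroup X))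
      obtain ⟨k, hk⟩ := IsPGroup.iff_card.1 P.isPGroup'
      have hd2 : Nat.card (L.subgroupOf (P : Subgroup X)) ∣ Nat.card L :=
        Subgroup.card_comap_dvd_of_injective L _ (P : Subgroup X).subtype_injective
      have hd3 : Nat.card (P : Subgroup X) ∣ 2 * Nat.card L := by
        have hi0 := Subgroup.index_ne_zero_of_finite (H := L.subgroupOf (P : Subgroup X))
        obtain ⟨d, hd⟩ := hd2
        rcases (show (L.subgroupOf (P : Subgroup X)).index = 1 ∨
            (L.subgroupOf (P : Subgroup X)).index = 2 by omega) with e | e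
        · exact ⟨2 * d, by rw [hd, ← hd1, e]; ring⟩
        · exact ⟨d, by rw [hd, ← hd1, e]; ring⟩
      rw [hLq, show 2 * (2 * α * (q * β)) = q * β * (4 * α) by ring] at hd3
      have hoddqb : Nat.Coprime (2 ^ k) (q * β) := by
        refine Nat.Coprime.pow_left _ (Nat.coprime_two_left.2 (hodd.mul ?_))
        obtain ⟨j, hj⟩ := hαe
        obtain ⟨i, hi⟩ := hodd
        exact ⟨i - j, by omega⟩
      rw [hk] at hd3 ⊢
      exact hoddqb.dvd_of_dvd_mul_left hd3
    have hTc : Nat.card {z : X // z ∈ L ∧ Odd (orderOf z) ∧ u * z = z * u} = Nat.card (T u hu) := rfl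
    rw [hTc]
    obtain ⟨k, hk⟩ := IsPGroup.iff_card.1 P.isPGroup'
    refine Nat.le_of_dvd (by omega) (Nat.Coprime.mul_dvd_of_dvd_of_dvd ?_ hP2
      ((hTα u hu huL).trans (dvd_mul_left α 4)))
    rw [hk]
    exact Nat.Coprime.pow_left _ (Nat.coprime_two_left.2 (hTodd u hu))
  · intro v hvL hv
    exact Nat.le_of_dvd (by omega) (hTouter v hv hvL)
  · intro v w z hv hw hvL hzL hz1 hzo hvz hwz
    by_contra hne
    have hcom : v * w = w * v := hι (by
      rw [map_mul, map_mul]
      exact inndiag_centraliser_comm (hinL z hzL)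
        (fun e => hz1 (eq_one_of_sq_odd (hι (by rw [map_mul, e, map_one])) hzo)) (hinv v hv)
        (hinv w hw) (by rw [← map_mul, ← map_mul, hvz]) (by rw [← map_mul, ← map_mul, hwz]))
    exact hz1 (no_four_cent h hnc hodd L hLs hLnc ι hι hL hfld hv hw (Ne.symm hne) hcom hzL hzo hvz hwz)

end Cfsg.Agent.GW
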