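import Cfsg.Agent.Lib.GW.Setup
import Cfsg.Agent.Lib.FiniteGroup.PermSmall
import Cfsg.Agent.S0253

/-!
Elementary facts for step C: involutions equal modulo an odd subgroup, and subgroups of index at most
five in simple groups.
-/

set_option autoImplicit false
set_option linter.unusedSectionVars false
set_option linter.style.haveILetI false

namespace Cfsg.Agent.GW

universe u

variable {G : Type u} [Group G] [Finite G]

/-- An odd element conjugated to its inverse by an element of odd order is trivial. -/
theorem eq_one_of_odd_conj_inv {o k : G} (ho : Odd (orderOf o)) (hk : Odd (orderOf k))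
    (h : o * k * o⁻¹ = k⁻¹) : k = 1 := by
  have h2 : Commute (o * o) k := by
    refine mul_inv_eq_iff_eq_mul.1 ?_
    calc o * o * k * (o * o)⁻¹ = o * (o * k * o⁻¹) * o⁻¹ := by group
      _ = o * k⁻¹ * o⁻¹ := by rw [h]
      _ = (o * k * o⁻¹)⁻¹ := by group
      _ = k := by rw [h, inv_inv]
  obtain ⟨j, hj⟩ := ho
  have e : o = (o * o) ^ (j + 1) := by
    rw [← pow_two, ← pow_mul, show 2 * (j + 1) = orderOf o + 1 by omega, pow_succ, pow_orderOf_eq_one,
      one_mul]
  have hc : Commute o k := by rw [e]; exact h2.pow_left _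
  rw [hc.eq, mul_inv_cancel_right] at h
  exact Nat.eq_one_of_dvd_coprimes (Nat.coprime_two_left.2 hk)
    (orderOf_dvd_of_pow_eq_one (show k ^ 2 = 1 by rw [pow_two]; exact mul_eq_one_iff_eq_inv.2 h))
    dvd_rfl |> orderOf_eq_one_iff.1

/-- Two involutions whose product has odd order are conjugate by a power of the product. -/
theorem exists_conj_of_odd_mul {v w : G} (hv : v * v = 1) (hw : w * w = 1)
    (ho : Odd (orderOf (v * w))) : ∃ d ∈ Subgroup.zpowers (v * w), d * v * d⁻¹ = w := by
  obtain ⟨j, hj⟩ := ho
  set o := v * w with ho'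
  have hv' : v⁻¹ = v := inv_eq_of_mul_eq_one_right hv
  have hw' : w⁻¹ = w := inv_eq_of_mul_eq_one_right hw
  have hinv : v * o * v⁻¹ = o⁻¹ := by
    calc v * (v * w) * v⁻¹ = (v * v) * w * v⁻¹ := by group
      _ = w⁻¹ * v⁻¹ := by rw [hv, one_mul, hw']
      _ = (v * w)⁻¹ := (mul_inv_rev v w).symm
  refine ⟨(o ^ (j + 1))⁻¹, inv_mem (pow_mem (Subgroup.mem_zpowers o) _), ?_⟩
  have h1 : v * o ^ (j + 1) * v⁻¹ = (o ^ (j + 1))⁻¹ := by rw [← conj_pow, hinv, inv_pow]
  have h2 : o ^ (j + 1) * o ^ (j + 1) = o := by
    rw [← pow_add, show j + 1 + (j + 1) = orderOf o + 1 by omega, pow_succ, pow_orderOf_eq_one, one_mul]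
  calc (o ^ (j + 1))⁻¹ * v * (o ^ (j + 1))⁻¹⁻¹ = (o ^ (j + 1))⁻¹ * (v * o ^ (j + 1) * v⁻¹) * v := by
        group
    _ = (o ^ (j + 1) * o ^ (j + 1))⁻¹ * v := by rw [h1]; group
    _ = w := by rw [h2, ho', mul_inv_rev, hw', hv', mul_assoc, hv, mul_one]

/-- A simple noncommutative group acts faithfully on the cosets of a proper subgroup. -/
theorem toPerm_injective [IsSimpleGroup G] {D : Subgroup G} (hD : D ≠ ⊤) :
    Function.Injective (MulAction.toPermHom G (G ⧸ D)) := by
  rw [← MonoidHom.ker_eq_bot_iff, ← Subgroup.normalCore_eq_ker]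
  rcases D.normalCore_normal.eq_bot_or_eq_top with e | e
  · exact e
  · exact absurd (eq_top_iff.2 (e ▸ D.normalCore_le)) hD

/-- A proper subgroup of index at most five of a simple group is solvable. -/
theorem solvable_of_index_le_five [IsSimpleGroup G] {D : Subgroup G} (hD : D ≠ ⊤) (h5 : D.index ≤ 5) :
    Group.IsSolvable D := by
  classical
  set p : G ⧸ D := ((1 : G) : G ⧸ D) with hp
  have hfix : ∀ d : D, (d : G) • p = p := fun d => by
    rw [hp, MulAction.Quotient.smul_mk, QuotientGroup.eq]
    simp
  let f : D → Equiv.Perm {x : G ⧸ D // x ≠ p} := fun d =>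
    (MulAction.toPermHom G (G ⧸ D) (d : G)).subtypePerm fun x =>
      not_congr ⟨fun e => MulAction.injective (d : G) (e.trans (hfix d).symm), fun e => by
        rw [e]; exact hfix d⟩
  let φ : D →* Equiv.Perm {x : G ⧸ D // x ≠ p} :=
    MonoidHom.mk' f fun a b => Equiv.ext fun x => Subtype.ext (mul_smul (a : G) (b : G) (x : G ⧸ D))
  have hφ : Function.Injective φ := by
    intro a b e
    refine Subtype.ext (toPerm_injective hD (Equiv.ext fun x => ?_))
    by_cases hx : x = p
    · subst hx; exact (hfix a).trans (hfix b).symm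
    · exact congrArg Subtype.val (DFunLike.congr_fun e ⟨x, hx⟩)
  haveI : Group.IsSolvable (Equiv.Perm {x : G ⧸ D // x ≠ p}) := by
    refine Cfsg.Agent.PermSmall.isSolvable_perm_of_card_le_four ?_
    haveI := Fintype.ofFinite (G ⧸ D)
    rw [Nat.card_eq_fintype_card, Fintype.card_subtype_compl, Fintype.card_subtype_eq,
      ← Nat.card_eq_fintype_card, ← Subgroup.index_eq_card]
    omega
  exact Group.isSolvable_of_isSolvable_injective hφ

/-- A simple group with a proper subgroup of index at most five is `A₅`, so a target. -/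
theorem target_of_index_le_five [IsSimpleGroup G] (hnc : ¬ IsMulCommutative G) {D : Subgroup G}
    (hD : D ≠ ⊤) (h5 : D.index ≤ 5) : IsTarget G := by
  classical
  have hns : ¬ Group.IsSolvable G := fun h => by
    haveI := h
    exact hnc ⟨⟨fun a b => IsSimpleGroup.comm_iff_isSolvable.2 h a b⟩⟩
  have hinj := toPerm_injective hD
  set n := D.index with hn
  haveI := Fintype.ofFinite (G ⧸ D)
  have hcard : Nat.card (G ⧸ D) = n := (Subgroup.index_eq_card D).symm
  have hn5 : n = 5 := by
    by_contra hne
    haveI := Cfsg.Agent.PermSmall.isSolvable_perm_of_card_le_four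
      (α := G ⧸ D) (by rw [hcard]; omega)
    exact hns (Group.isSolvable_of_isSolvable_injective hinj)
  let e0 : G ⧸ D ≃ Fin 5 := (Finite.equivFinOfCardEq (hcard.trans hn5))
  let f : G →* Equiv.Perm (Fin 5) := e0.permCongrHom.toMonoidHom.comp (MulAction.toPermHom G (G ⧸ D))
  have hf : Function.Injective f := e0.permCongrHom.injective.comp hinj
  have hA : ∀ g, f g ∈ alternatingGroup (Fin 5) := fun g => by
    rw [Equiv.Perm.mem_alternatingGroup]
    rcases (Equiv.Perm.sign.comp f).normal_ker.eq_bot_or_eq_top with h | h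
    · exfalso
      have h2 := Nat.card_le_card_of_injective _ ((MonoidHom.ker_eq_bot_iff _).1 h)
      refine hns ?_
      haveI : Group.IsSolvable ℤˣ := Group.isSolvable_of_comm fun a b => mul_comm a b
      exact Group.isSolvable_of_isSolvable_injective ((MonoidHom.ker_eq_bot_iff _).1 h)
    · exact MonoidHom.mem_ker.1 (show g ∈ (Equiv.Perm.sign.comp f).ker by rw [h]; trivial)
  let f' := f.codRestrict _ hA
  have hf' : Function.Injective f' := (MonoidHom.injective_codRestrict f _ hA).2 hf
  haveI := alternatingGroup.isSimpleGroup (α := Fin 5) (by simp)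
  haveI : Finite (alternatingGroup (Fin 5)) := inferInstance
  have htop : f'.range = ⊤ := by
    by_contra hne
    have hA5 : Nat.card (alternatingGroup (Fin 5)) = 60 := by
      rw [nat_card_alternatingGroup, Nat.card_eq_fintype_card, Fintype.card_fin]; rfl
    have hidx : f'.range.index ≤ 5 := by
      by_contra hlt
      have h1 := f'.range.card_mul_index
      rw [hA5, ← Nat.card_congr (MonoidHom.ofInjective hf').toEquiv] at h1
      have h3 := D.card_mul_index
      have h4 : 5 ≤ Nat.card G := by
        rw [← h3]; exact hn5 ▸ Nat.le_mul_of_pos_left _ Nat.card_pos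
      have h6 : Nat.card G * 6 ≤ 60 := by rw [← h1]; exact Nat.mul_le_mul_left _ (by omega)
      have h7 : Nat.card D ≤ 2 := by
        rw [← h3, ← hn, hn5] at h6
        omega
      haveI : Group.IsSolvable D := by
        obtain h8 | h8 : Nat.card D = 1 ∨ Nat.card D = 2 := by
          have := Nat.card_pos (α := D); omega
        · haveI := (Nat.card_eq_one_iff_unique.1 h8).1
          exact Group.isSolvable_of_comm fun a b => Subsingleton.elim _ _
        · haveI : Fact (Nat.Prime 2) := ⟨Nat.prime_two⟩
          haveI := isCyclic_of_prime_card h8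
          haveI : IsMulCommutative D := IsCyclic.isMulCommutative
          exact Group.isSolvable_of_comm fun a b => mul_comm' a b
      -- a group of order five or ten
      haveI : Fact (Nat.Prime 5) := ⟨by norm_num⟩
      refine hns ?_
      rcases (show Nat.card D = 1 ∨ Nat.card D = 2 by have := Nat.card_pos (α := D); omega) with h8 | h8
      · exact Char.isSolvable_of_card_pq 5 2 (by norm_num) Nat.prime_two _ G rfl
          ⟨1, 0, by rw [← h3, h8, ← hn, hn5]; rfl⟩
      · exact Char.isSolvable_of_card_pq 5 2 (by norm_num) Nat.prime_two _ G rfl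
          ⟨1, 1, by rw [← h3, h8, ← hn, hn5]; rfl⟩
    haveI := solvable_of_index_le_five hne hidx
    exact hns (Group.isSolvable_of_isSolvable_injective (f := f'.rangeRestrict)
      (MonoidHom.rangeRestrict_injective_iff.2 hf'))
  haveI : Fact (Nat.Prime 5) := ⟨by norm_num⟩
  obtain ⟨e⟩ := Cfsg.Agent.S0253.result (F := ZMod 5) (ZMod.card 5)
  exact Or.inl ⟨ZMod 5, inferInstance, inferInstance, by rw [ZMod.card]; decide, by rw [ZMod.card]; norm_num,
    ⟨(MulEquiv.ofBijective f' ⟨hf', MonoidHom.range_eq_top.1 htop⟩).trans e.symm⟩⟩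

end Cfsg.Agent.GW
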