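import Cfsg.Agent.Lib.GW.StepCPic
import Cfsg.Agent.Lib.GW.StepCSmall
import Cfsg.Agent.Lib.GW.Rot
import Cfsg.Agent.Lib.DGroup.Ratio

/-!
Two commuting involutions that are inner in two different maximal subgroups of the family: each odd core
lies in the other subgroup, and the graph so defined has no triangles.
-/

set_option autoImplicit false
set_option linter.unusedSectionVars false
set_option linter.style.haveILetI false

namespace Cfsg.Agent.GW

open Cfsg.Agent.TwoFus

universe u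

/-- A family of pictures in which every involution is inner exactly once. -/
structure PicFam {G : Type u} [Group G] (ι : Type u) (N S R O : ι → Subgroup G) (α β m : ℕ) : Prop where
  pic : ∀ i, Pic (N i) (S i) (R i) (O i) α β m
  cop : α.Coprime β
  exists_inner : ∀ v : G, orderOf v = 2 → ∃ i, v ∈ S i
  inner_eq : ∀ i j : ι, ∀ v : G, orderOf v = 2 → v ∈ S i → v ∈ S j → i = j

/-- Commuting involutions inner in two different members. -/
structure PicEdge {G : Type u} [Group G] {ι : Type u} (S : ι → Subgroup G) (i j : ι) (t b : G) :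
    Prop where
  ne : i ≠ j
  t_order : orderOf t = 2
  b_order : orderOf b = 2
  t_mem : t ∈ S i
  b_mem : b ∈ S j
  comm : t * b = b * t

theorem PicEdge.symm {G : Type u} [Group G] {ι : Type u} {S : ι → Subgroup G} {i j : ι} {t b : G}
    (e : PicEdge S i j t b) : PicEdge S j i b t :=
  ⟨e.ne.symm, e.b_order, e.t_order, e.b_mem, e.t_mem, e.comm.symm⟩

variable {G : Type u} [Group G] [Finite G]

/-- An inner involution lies in the residual. -/
theorem Pic.inner_mem_R {N S R O : Subgroup G} {α β m : ℕ} (h : Pic N S R O α β m) {v : G}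
    (hv : v ∈ S) (hv2 : orderOf v = 2) : v ∈ R := by
  obtain ⟨r, hr, o, ho, rfl⟩ := h.sup v hv
  obtain ⟨k, hk⟩ := h.odd o ho
  have hc : Commute r o := h.comm_RO r hr o ho
  have h1 : (r * o) ^ orderOf o = r * o := by
    rw [hk, pow_succ, pow_mul, pow_two (r * o), sq_one hv2, one_pow, one_mul]
  rw [← h1, hc.mul_pow, pow_orderOf_eq_one, mul_one]
  exact pow_mem hr _

namespace PicFam

variable {ι : Type u} {N S R O : ι → Subgroup G} {α β m : ℕ} (h : PicFam ι N S R O α β m)

include h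

theorem edge_mem {i j : ι} {t b : G} (e : PicEdge S i j t b) : b ∈ N i ∧ b ∉ S i :=
  ⟨(h.pic i).cent t e.t_mem e.t_order b e.comm.symm,
    fun hb => e.ne (h.inner_eq i j b e.b_order hb e.b_mem)⟩

/-- The common element of an edge. -/
theorem exists_common {i j : ι} {t b : G} (e : PicEdge S i j t b) :
    ∃ y, y ∈ R i ∧ y ∈ O j ∧ y ∉ O i ∧ Odd (orderOf y) ∧ b * y = y * b ∧ t * y * t⁻¹ = y⁻¹ := by
  obtain ⟨hbN, hbS⟩ := h.edge_mem e
  obtain ⟨htN, htS⟩ := h.edge_mem e.symm
  obtain ⟨y, hyR, hyo, hyO, hby, hty⟩ :=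
    (h.pic i).lift t b e.t_mem e.t_order hbN e.b_order hbS e.comm
  have hyN : y ∈ N j := (h.pic j).cent b e.b_mem e.b_order y hby.symm
  have hyS : y ∈ S j := (h.pic j).inverted t y htN hyN (sq_one e.t_order) hyo hty
  have h1 : y ^ α ∈ O j := (h.pic j).ord_inner b y e.b_mem e.b_order hyS hyo hby
  have h2 : y ^ β ∈ O i :=
    (h.pic i).ord_outer b y hbN e.b_order hbS ((h.pic i).RS hyR) hyo hby
  have h3 : y ^ β = 1 := by
    have hc := (h.pic i).cent_O t e.t_mem e.t_order _ h2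
    have hi : t * y ^ β * t⁻¹ = (y ^ β)⁻¹ := by rw [← conj_pow, hty, inv_pow]
    rw [hc, mul_inv_cancel_right] at hi
    exact eq_one_of_sq_odd (mul_eq_one_iff_eq_inv.2 hi) ((h.pic i).odd _ h2)
  obtain ⟨k, hk⟩ := exists_pow_eq_self_of_coprime
    (show α.Coprime (orderOf y) from h.cop.coprime_dvd_right (orderOf_dvd_of_pow_eq_one h3))
  exact ⟨y, hyR, hk ▸ pow_mem h1 k, hyO, hyo, hby, hty⟩

/-- The centraliser of a nontrivial element of the odd core inverted by an outer involution. -/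
theorem cent_le [IsSimpleGroup G] (hnc : ¬ IsMulCommutative G) (hdih : DihSylow G)
    (hK : KnownBelow.{u} (Nat.card G)) {j : ι} {t y : G} (htN : t ∈ N j) (ht : orderOf t = 2)
    (htS : t ∉ S j) (hy : y ∈ O j) (hy1 : y ≠ 1) (hty : t * y * t⁻¹ = y⁻¹) :
    Subgroup.centralizer ({y} : Set G) ≤ N j := by
  classical
  haveI : Fact (Nat.Prime 2) := ⟨Nat.prime_two⟩
  have hp := h.pic j
  set H := Subgroup.centralizer ({y} : Set G) with hH
  have hHtop : H ≠ ⊤ := by
    intro e
    have hc : y ∈ Subgroup.center G := Subgroup.mem_center_iff.2 fun g =>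
      Subgroup.mem_centralizer_singleton_iff.1 (e.ge (Subgroup.mem_top g))
    rcases (Subgroup.center G).normal_of_characteristic.eq_bot_or_eq_top with hb | ht'
    · exact hy1 (Subgroup.mem_bot.1 (hb ▸ hc))
    · exact hnc ⟨⟨fun a b => Subgroup.mem_center_iff.1 (ht' ▸ Subgroup.mem_top b) a⟩⟩
  have hRH : R j ≤ H := fun r hr => Subgroup.mem_centralizer_singleton_iff.2 (hp.comm_RO r hr y hy)
  have hinnerH : ∀ v ∈ S j, orderOf v = 2 → v ∈ H := fun v hv hv2 =>
    Subgroup.mem_centralizer_singleton_iff.2 (hp.cent_O v hv hv2 y hy)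
  obtain ⟨u₁, u₂, hu₁S, hu₂S, hu₁, hu₂, hne, hcom⟩ := hp.four
  have hinn : ∀ v, v ∈ H → v ∈ N j → orderOf v = 2 → v ∈ S j := by
    intro v hvH hvN hv
    by_contra hvS
    obtain ⟨r, hr, o, ho, e⟩ := hp.sup _ (hp.out_mul v t hvN htN hv ht hvS htS)
    have hv' : v = r * o * t := by rw [← e, mul_assoc, sq_one ht, mul_one]
    have hvy : v * y * v⁻¹ = y := by
      rw [Subgroup.mem_centralizer_singleton_iff.1 hvH, mul_inv_cancel_right]
    have hoy : o * y * o⁻¹ = y⁻¹ := by
      have hr' : r⁻¹ * y * r = y := by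
        rw [mul_assoc, ← hp.comm_RO r hr y hy, inv_mul_cancel_left]
      have h1 : o * y⁻¹ * o⁻¹ = y := by
        rw [← hty]
        calc o * (t * y * t⁻¹) * o⁻¹ = r⁻¹ * ((r * o * t) * y * (r * o * t)⁻¹) * r := by group
          _ = r⁻¹ * y * r := by rw [← hv', hvy]
          _ = y := hr'
      calc o * y * o⁻¹ = (o * y⁻¹ * o⁻¹)⁻¹ := by group
        _ = y⁻¹ := by rw [h1]
    exact hy1 (eq_one_of_odd_conj_inv (hp.odd o ho) (hp.odd y hy) hoy)
  -- the odd core of `H`
  have hK4 := klein_closure hu₁ hu₂ hne hcom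
  have hEH : Subgroup.closure ({u₁, u₂} : Set G) ≤ H := (Subgroup.closure_le _).2 (by
    rintro x (rfl | rfl)
    exacts [hinnerH _ hu₁S hu₁, hinnerH _ hu₂S hu₂])
  set D := (Cfsg.oddCore H).map H.subtype with hD
  have hDN : D ≤ N j := by
    set E := Subgroup.closure ({u₁, u₂} : Set G) with hE
    haveI := klein_comm hK4
    have hES : E ≤ S j := (Subgroup.closure_le _).2 (by rintro x (rfl | rfl) <;> assumption)
    have hEn : E ≤ Subgroup.normalizer (D : Set G) := by
      intro x hx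
      refine Subgroup.mem_normalizer_fintype ?_
      rintro _ ⟨d, hd, rfl⟩
      exact ⟨⟨x, hEH hx⟩ * d * ⟨x, hEH hx⟩⁻¹, (oddCore_normal (X := H)).conj_mem d hd _, rfl⟩
    have hcop : (Nat.card E).Coprime (Nat.card D) := by
      rw [hK4.card_four, show 4 = 2 ^ 2 from rfl, hD, Subgroup.card_map_of_injective H.subtype_injective]
      exact Nat.Coprime.pow_left 2 (Nat.coprime_two_left.2 oddCore_odd)
    rw [← CoprimeAct.generated_by_centralizers (A := E) (K := D)
      (by haveI := hK4; exact IsKleinFour.not_isCyclic) hEn hcop]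
    refine iSup₂_le fun a ha => ?_
    obtain ⟨haE, ha1⟩ := ha
    have hao : orderOf a = 2 := Invol.order_two_of_sq
      (congrArg Subtype.val (by haveI := hK4; exact IsKleinFour.mul_self (⟨a, haE⟩ : E))) ha1
    exact fun g hg => hp.cent a (hES haE) hao g (Subgroup.mem_centralizer_singleton_iff.1 hg.2)
  -- the socle of `H`
  have hHd : DihSylow H := hdih.sub H hK4 hEH
  have hHlt : Nat.card H < Nat.card G :=
    lt_of_le_of_ne (Subgroup.card_le_card_group H) fun e => hHtop (Subgroup.card_eq_iff_eq_top _ |>.1 e)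
  have hRperf : (R j) ≤ (res H).map H.subtype := le_res_map hRH hp.perfect
  have hnsH : ¬ Group.IsSolvable H := by
    intro hs
    haveI := hs
    haveI : Group.IsSolvable (R j) :=
      Group.isSolvable_of_isSolvable_injective (f := Subgroup.inclusion hRH)
        (Subgroup.inclusion_injective _)
    haveI : Nontrivial (R j) := (Subgroup.nontrivial_iff_ne_bot _).2 hp.ne_bot
    haveI : Group.IsPerfect (R j) := Subgroup.isPerfect_iff.2 hp.perfect
    exact (Group.IsSolvable.commutator_lt_top_of_nontrivial (R j)).ne Group.IsPerfect.commutator_eq_top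
  obtain ⟨K⟩ := sock_of_not_solvable (shape_mod_core hK hHd hHlt) hnsH
  haveI := K.normal
  haveI := K.simple
  haveI := oddCore_normal (X := H)
  let A : Subgroup (H ⧸ Cfsg.oddCore H) := ((N j).subgroupOf H).map (mo H)
  have hA : ∀ x : H, mo H x ∈ A ↔ (x : G) ∈ N j := by
    intro x
    refine ⟨?_, fun hx => ⟨x, Subgroup.mem_subgroupOf.2 hx, rfl⟩⟩
    rintro ⟨n, hn, e⟩
    have hd : n⁻¹ * x ∈ Cfsg.oddCore H := (mo_ker _).1 (by rw [map_mul, map_inv, e, inv_mul_cancel])
    have := mul_mem (Subgroup.mem_subgroupOf.1 hn) (hDN ⟨_, hd, rfl⟩)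
    rwa [Subgroup.coe_subtype, ← Subgroup.coe_mul, mul_inv_cancel_left] at this
  let D' : Subgroup K.L := A.subgroupOf K.L
  -- lifts of involutions of `D'`
  have hlift : ∀ a : D', orderOf a = 2 → ∃ w : H, orderOf w = 2 ∧ (w : G) ∈ S j ∧
      mo H w = ((a : K.L) : H ⧸ Cfsg.oddCore H) := by
    intro a ha
    obtain ⟨g, hg, e⟩ : ∃ g : H, (g : G) ∈ N j ∧ mo H g = ((a : K.L) : H ⧸ Cfsg.oddCore H) := by
      obtain ⟨g, hg, e⟩ := Subgroup.mem_subgroupOf.1 a.2
      exact ⟨g, Subgroup.mem_subgroupOf.1 hg, e⟩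
    rw [← Subgroup.orderOf_coe, ← Subgroup.orderOf_coe, ← e] at ha
    have hgg := sq_one ha
    obtain ⟨k, hk⟩ := odd_of_mem_core ((mo_ker (g * g)).1 (by rw [map_mul, hgg]))
    have hw : orderOf (g ^ orderOf (g * g)) = 2 ∧ mo H (g ^ orderOf (g * g)) = mo H g := by
      have h1 : mo H (g ^ orderOf (g * g)) = mo H g := by
        rw [map_pow, hk, pow_succ, pow_mul, pow_two, hgg, one_pow, one_mul]
      refine ⟨Invol.order_two_of_sq (by rw [← (Commute.refl g).mul_pow, pow_orderOf_eq_one])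
        (fun e' => ?_), h1⟩
      rw [e', map_one] at h1
      rw [← h1, orderOf_one] at ha
      omega
    refine ⟨_, hw.1, hinn _ (SetLike.coe_mem _) ?_ ?_, hw.2.trans e⟩
    · rw [Subgroup.coe_pow]; exact pow_mem hg _
    · rw [Subgroup.orderOf_coe]; exact hw.1
  have hcentD : ∀ a : D', orderOf a = 2 → ∀ l : K.L, l * (a : K.L) = (a : K.L) * l → l ∈ D' := by
    intro a ha l hl
    obtain ⟨w, hw, hwS, e⟩ := hlift a ha
    obtain ⟨x, hx⟩ := QuotientGroup.mk'_surjective (Cfsg.oddCore H) (l : H ⧸ Cfsg.oddCore H)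
    refine Subgroup.mem_subgroupOf.2 (hx ▸ (hA x).2 ?_)
    set w' := x * w * x⁻¹ with hw'
    have hw'2 : w' * w' = 1 := by
      rw [hw', show x * w * x⁻¹ * (x * w * x⁻¹) = x * (w * w) * x⁻¹ by group, sq_one hw, mul_one,
        mul_inv_cancel]
    have hmem : w' * w ∈ Cfsg.oddCore H := (mo_ker _).1 (by
      have hl' : (l : H ⧸ Cfsg.oddCore H) * mo H w = mo H w * (l : H ⧸ Cfsg.oddCore H) := by
        rw [e]; exact congrArg Subtype.val hl
      rw [map_mul, hw', map_mul, map_mul, map_inv, show mo H x = (l : H ⧸ Cfsg.oddCore H) from hx, hl',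
        mul_inv_cancel_right, ← map_mul, sq_one hw, map_one])
    obtain ⟨d, hd, hde⟩ := exists_conj_of_odd_mul hw'2 (sq_one hw) (odd_of_mem_core hmem)
    have hdN : (d : G) ∈ N j := hDN ⟨d, (Subgroup.zpowers_le.2 hmem) hd, rfl⟩
    have hdx : ((d * x : H) : G) ∈ N j := by
      refine hp.cent w hwS (by rw [Subgroup.orderOf_coe]; exact hw) _ ?_
      have h9 : d * x * w * (d * x)⁻¹ = w := by
        calc d * x * w * (d * x)⁻¹ = d * w' * d⁻¹ := by rw [hw']; group
          _ = w := hde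
      exact congrArg Subtype.val (mul_inv_eq_iff_eq_mul.1 h9)
    have := mul_mem (inv_mem hdN) hdx
    rwa [Subgroup.coe_mul, inv_mul_cancel_left] at this
  have hRL : ∀ r (hr : r ∈ R j), mo H ⟨r, hRH hr⟩ ∈ K.L := by
    intro r hr
    obtain ⟨x, hx, e⟩ := hRperf hr
    refine K.mem_socPre.1 (Subgroup.mem_sup_left ?_)
    rwa [show (⟨r, hRH hr⟩ : H) = x from Subtype.ext e.symm]
  have hone : ∀ a ∈ D', ∀ b ∈ D', orderOf a = 2 → orderOf b = 2 → ∃ k ∈ D', k * a * k⁻¹ = b := by
    intro a ha b hb ha2 hb2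
    obtain ⟨w, hw, hwS, ew⟩ := hlift ⟨a, ha⟩ (by rwa [Subgroup.orderOf_mk])
    obtain ⟨v, hv, hvS, ev⟩ := hlift ⟨b, hb⟩ (by rwa [Subgroup.orderOf_mk])
    obtain ⟨r, hr, hrw⟩ := hp.one_class w v hwS hvS (by rwa [Subgroup.orderOf_coe])
      (by rwa [Subgroup.orderOf_coe])
    refine ⟨⟨_, hRL r hr⟩, Subgroup.mem_subgroupOf.2 ((hA _).2 (hp.SN (hp.RS hr))), Subtype.ext ?_⟩
    show mo H ⟨r, hRH hr⟩ * (a : H ⧸ Cfsg.oddCore H) * (mo H ⟨r, hRH hr⟩)⁻¹ = b
    change mo H w = (a : H ⧸ Cfsg.oddCore H) at ew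
    change mo H v = (b : H ⧸ Cfsg.oddCore H) at ev
    rw [← ew, ← ev, ← map_inv, ← map_mul, ← map_mul]
    exact congrArg _ (Subtype.ext hrw)
  have hD'top : D' = ⊤ := by
    by_contra hne'
    -- an involution of `D'` and a Sylow subgroup through it
    have hu₁R := hp.inner_mem_R hu₁S hu₁
    let w₀ : K.L := ⟨_, hRL u₁ hu₁R⟩
    have hw₀ : orderOf w₀ = 2 := by
      rw [Subgroup.orderOf_mk]; exact invol_mo (by rwa [Subgroup.orderOf_mk])
    have hw₀D : w₀ ∈ D' := Subgroup.mem_subgroupOf.2 ((hA _).2 (hp.SN hu₁S))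
    obtain ⟨P, hP⟩ := (IsPGroup.of_card (p := 2) (n := 1) (G := Subgroup.zpowers w₀)
      (by rw [Nat.card_zpowers, hw₀, pow_one])).exists_le_sylow
    obtain ⟨n, hn, ⟨eP⟩⟩ := ((hHd.quotient _ oddCore_odd).of_normal K.L K.simple K.noncomm).all P
    obtain ⟨d, -⟩ := exists_dih P hn eP
    have hwP : w₀ ∈ (P : Subgroup K.L) := hP (Subgroup.mem_zpowers _)
    have hz : orderOf d.z = 2 := Invol.order_two_of_sq d.zz d.z_ne
    have hzD : d.z ∈ D' :=
      hcentD ⟨w₀, hw₀D⟩ (by rwa [Subgroup.orderOf_mk]) d.z (d.z_comm hwP).symm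
    have hcz : Subgroup.centralizer ({d.z} : Set K.L) ≤ D' := fun l hl =>
      hcentD ⟨d.z, hzD⟩ (by rwa [Subgroup.orderOf_mk]) l (Subgroup.mem_centralizer_singleton_iff.1 hl)
    have hPD : (P : Subgroup K.L) ≤ D' := fun p hp' =>
      hcz (Subgroup.mem_centralizer_singleton_iff.2 (d.z_comm hp'))
    have h5 := DGroup.index_le_five P d
      (fun a b ha hb => BSW.dih_simple_one_class K.noncomm P d a b ha hb) hPD hcz hone
    haveI := solvable_of_index_le_five hne' h5
    -- the image of the residual is a nontrivial perfect subgroup of `D'`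
    let f : R j →* D' := MonoidHom.mk'
      (fun r => ⟨⟨mo H ⟨r, hRH r.2⟩, hRL r r.2⟩, Subgroup.mem_subgroupOf.2 ((hA _).2 (hp.SN (hp.RS r.2)))⟩)
      (fun r r' => Subtype.ext (Subtype.ext (map_mul (mo H) ⟨r, hRH r.2⟩ ⟨r', hRH r'.2⟩)))
    have hf : f ⟨u₁, hu₁R⟩ ≠ 1 := fun e => by
      have e' : w₀ = 1 := congrArg Subtype.val e
      rw [e', orderOf_one] at hw₀
      omega
    haveI : Group.IsPerfect (R j) := Subgroup.isPerfect_iff.2 hp.perfect
    haveI : Group.IsPerfect f.range := Group.IsPerfect.ofSurjective f.rangeRestrict_surjective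
    haveI : Group.IsSolvable f.range :=
      Group.isSolvable_of_isSolvable_injective (f := f.range.subtype) f.range.subtype_injective
    haveI : Nontrivial f.range := (Subgroup.nontrivial_iff_ne_bot _).2 fun e =>
      hf (Subgroup.mem_bot.1 (e ▸ ⟨_, rfl⟩))
    exact (Group.IsSolvable.commutator_lt_top_of_nontrivial f.range).ne Group.IsPerfect.commutator_eq_top
  -- `H` normalises the residual of `N j`
  have hsoc : ∀ x ∈ socPre H, (x : G) ∈ N j := fun x hx => by
    have : (⟨mo H x, K.mem_socPre.1 hx⟩ : K.L) ∈ D' := hD'top ▸ Subgroup.mem_top _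
    exact (hA x).1 (Subgroup.mem_subgroupOf.1 this)
  have hres : (res H).map H.subtype = R j := by
    refine le_antisymm (hp.perf_le _ ?_ (by rw [← Subgroup.map_commutator, res_commutator])) hRperf
    rintro _ ⟨x, hx, rfl⟩
    exact hsoc x (Subgroup.mem_sup_left hx)
  have hRN : N j ≤ Subgroup.normalizer (R j : Set G) := fun g hg => by
    rw [Subgroup.mem_normalizer_iff]
    refine fun x => ⟨hp.norm_R g hg x, fun hx => ?_⟩
    have := hp.norm_R _ (inv_mem hg) _ hx
    rwa [inv_inv, show g⁻¹ * (g * x * g⁻¹) * g = x by group] at this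
  have hne_top : Subgroup.normalizer (R j : Set G) ≠ ⊤ := by
    intro e
    rcases (Subgroup.normalizer_eq_top_iff.1 e).eq_bot_or_eq_top with hb | ht'
    · exact hp.ne_bot hb
    · exact hp.coatom.1 (eq_top_iff.2 (ht' ▸ hp.RS.trans hp.SN))
  rcases hp.coatom.le_iff.1 hRN with e | e
  · exact absurd e hne_top
  intro g hg
  rw [← e]
  haveI : (res H).Normal := by unfold res; infer_instance
  rw [← hres, Subgroup.mem_normalizer_iff]
  refine fun x => ⟨?_, ?_⟩
  · rintro ⟨x, hx, rfl⟩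
    exact ⟨⟨g, hg⟩ * x * ⟨g, hg⟩⁻¹, (inferInstance : (res H).Normal).conj_mem x hx _, rfl⟩
  · rintro ⟨z, hz, e'⟩
    refine ⟨⟨g, hg⟩⁻¹ * z * ⟨g, hg⟩, ?_, ?_⟩
    · simpa using (inferInstance : (res H).Normal).conj_mem z hz ⟨g, hg⟩⁻¹
    · show g⁻¹ * (z : G) * g = x
      rw [show (z : G) = g * x * g⁻¹ from e']
      group

/-- The odd core of one end of an edge lies in the other. -/
theorem core_le [IsSimpleGroup G] (hnc : ¬ IsMulCommutative G) (hdih : DihSylow G)
    (hK : KnownBelow.{u} (Nat.card G)) {i j : ι} {t b : G} (e : PicEdge S i j t b) : O i ≤ N j := by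
  obtain ⟨y, hyR, hyj, hyi, -, -, hty⟩ := h.exists_common e
  obtain ⟨htN, htS⟩ := h.edge_mem e.symm
  intro o ho
  exact h.cent_le hnc hdih hK htN e.t_order htS hyj (fun e1 => hyi (e1 ▸ one_mem _)) hty
    (Subgroup.mem_centralizer_singleton_iff.2 ((h.pic i).comm_RO y hyR o ho).symm)

/-- Few elements of an odd core are inverted by an outer involution. -/
theorem card_inverted [IsSimpleGroup G] (hnc : ¬ IsMulCommutative G) (hdih : DihSylow G)
    (hK : KnownBelow.{u} (Nat.card G)) {i j : ι} {t b : G} (e : PicEdge S i j t b) (T : Finset G)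
    (hT : ∀ o ∈ T, o ∈ O i ∧ b * o * b⁻¹ = o⁻¹) : T.card ≤ β := by
  obtain ⟨htN, htS⟩ := h.edge_mem e.symm
  have hbN : b ∈ N j := (h.pic j).SN e.b_mem
  have hle := h.core_le hnc hdih hK e
  refine (h.pic j).card_outer t htN e.t_order htS T (fun o ho => ?_) fun o ho o' ho' hk => ?_
  · obtain ⟨h1, h2⟩ := hT o ho
    exact ⟨(h.pic j).inverted b o hbN (hle h1) (sq_one e.b_order) ((h.pic i).odd o h1) h2,
      (h.pic i).odd o h1, (h.pic i).cent_O t e.t_mem e.t_order o h1⟩
  · obtain ⟨h1, h2⟩ := hT o ho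
    obtain ⟨h1', h2'⟩ := hT o' ho'
    set k := o⁻¹ * o' with hk'
    have hbk : b * k * b⁻¹ = k := by
      rw [(h.pic j).cent_O b e.b_mem e.b_order k hk, mul_inv_cancel_right]
    have h3 : o⁻¹ * k * o⁻¹⁻¹ = k⁻¹ := by
      have h4 : o⁻¹ * k = k⁻¹ * o⁻¹ := by
        calc o⁻¹ * k = (b * o * b⁻¹) * (b * k * b⁻¹) := by rw [h2, hbk]
          _ = b * o' * b⁻¹ := by rw [hk']; group
          _ = o'⁻¹ := h2'
          _ = k⁻¹ * o⁻¹ := by rw [hk']; group
      rw [h4, mul_inv_cancel_right]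
    have hk1 : k = 1 := eq_one_of_odd_conj_inv (by rw [orderOf_inv]; exact (h.pic i).odd o h1)
      ((h.pic j).odd k hk) h3
    rw [hk', inv_mul_eq_one] at hk1
    exact hk1

/-- Neighbours are separated modulo the odd core. -/
theorem edge_mod {i j : ι} {t t' b c : G} (e : PicEdge S i j t b) (e' : PicEdge S i j t' c) :
    b * c ∈ O i := by
  obtain ⟨y, hyR, hyj, hyi, hyo, hby, -⟩ := h.exists_common e
  obtain ⟨hbN, hbS⟩ := h.edge_mem e
  obtain ⟨hcN, -⟩ := h.edge_mem e'
  have hcy := (h.pic j).cent_O c e'.b_mem e'.b_order y hyj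
  exact (h.pic i).unique b c y hbN e.b_order hbS hcN e'.b_order ((h.pic i).RS hyR) hyo hyi hby (by
    rw [hcy, mul_inv_cancel_right, mul_inv_cancel]; exact one_mem _)

/-- The neighbour depends only on the class modulo the odd core. -/
theorem edge_const [IsSimpleGroup G] (hnc : ¬ IsMulCommutative G) (hdih : DihSylow G)
    (hK : KnownBelow.{u} (Nat.card G)) {i j k : ι} {t t' b c : G} (e : PicEdge S i j t b)
    (e' : PicEdge S i k t' c) (hbc : b * c ∈ O i) : j = k := by
  obtain ⟨d, hd, hdb⟩ := exists_conj_of_odd_mul (sq_one e.b_order) (sq_one e'.b_order)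
    ((h.pic i).odd _ hbc)
  refine h.inner_eq j k c e'.b_order ?_ e'.b_mem
  rw [← hdb]
  exact (h.pic j).norm_S d (h.core_le hnc hdih hK e ((Subgroup.zpowers_le.2 hbc) hd)) b e.b_mem

/-- There are no triangles. -/
theorem no_triangle [IsSimpleGroup G] (hnc : ¬ IsMulCommutative G) (hdih : DihSylow G)
    (hK : KnownBelow.{u} (Nat.card G)) {i j k : ι} {t t' b c s s' : G} (e : PicEdge S i j t b)
    (e' : PicEdge S i k t' c) (e'' : PicEdge S j k s s') : False := by
  obtain ⟨y, hyR, hyj, hyi, hyo, hby, -⟩ := h.exists_common e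
  obtain ⟨z, hzR, hzk, hzi, hzo, hcz, -⟩ := h.exists_common e'
  obtain ⟨hbN, hbS⟩ := h.edge_mem e
  obtain ⟨hcN, hcS⟩ := h.edge_mem e'
  have hjk := h.core_le hnc hdih hK e''
  have hkj := h.core_le hnc hdih hK e''.symm
  set x := y * z * y⁻¹ * z⁻¹ with hx
  have hxj : x ∈ O j := by
    rw [show x = y * (z * y⁻¹ * z⁻¹) by rw [hx]; group]
    exact mul_mem hyj ((h.pic j).norm_O z (hkj hzk) _ (inv_mem hyj))
  have hxk : x ∈ O k := mul_mem ((h.pic k).norm_O y (hjk hyj) _ hzk) (inv_mem hzk)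
  have hyS := (h.pic i).RS hyR
  have hzS := (h.pic i).RS hzR
  have hxS : x ∈ S i := mul_mem (mul_mem (mul_mem hyS hzS) (inv_mem hyS)) (inv_mem hzS)
  have hxb : b * x = x * b := (h.pic j).cent_O b e.b_mem e.b_order x hxj
  have hxc : c * x = x * c := (h.pic k).cent_O c e'.b_mem e'.b_order x hxk
  have hxi : x ∈ O i := by
    by_contra hxi
    refine e''.ne (h.edge_const hnc hdih hK e e' ?_)
    exact (h.pic i).unique b c x hbN e.b_order hbS hcN e'.b_order hxS ((h.pic j).odd x hxj) hxi hxb (by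
      rw [hxc, mul_inv_cancel_right, mul_inv_cancel]; exact one_mem _)
  have hcy := (h.pic i).torus c y z hcN e'.b_order hzS hzo hzi hcz hyS hxi
  refine e''.ne (h.edge_const hnc hdih hK e e' ?_)
  exact (h.pic i).unique b c y hbN e.b_order hbS hcN e'.b_order hyS hyo hyi hby hcy

end PicFam

end Cfsg.Agent.GW
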