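import Cfsg.Agent.Lib.GW.StepCFacts
import Cfsg.Agent.Lib.GW.Local
import Cfsg.Agent.Lib.GW.StepABasic

/-!
The picture of a maximal subgroup with socle `PSL₂(q)` and outer involutions inside the whole group:
the subgroup, the preimage of its socle, its residual and its odd core, with what is used about them.
-/

set_option autoImplicit false
set_option linter.unusedSectionVars false
set_option linter.style.haveILetI false

namespace Cfsg.Agent.GW

universe u

/-- `N` maximal, `S` the preimage of the socle, `R` the residual, `O` the odd core. -/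
structure Pic {G : Type u} [Group G] (N S R O : Subgroup G) (α β m : ℕ) : Prop where
  coatom : IsCoatom N
  RS : R ≤ S
  SN : S ≤ N
  OS : O ≤ S
  norm_S : ∀ g ∈ N, ∀ s ∈ S, g * s * g⁻¹ ∈ S
  norm_R : ∀ g ∈ N, ∀ r ∈ R, g * r * g⁻¹ ∈ R
  norm_O : ∀ g ∈ N, ∀ o ∈ O, g * o * g⁻¹ ∈ O
  sup : ∀ s ∈ S, ∃ r ∈ R, ∃ o ∈ O, s = r * o
  odd : ∀ o ∈ O, Odd (orderOf o)
  perfect : ⁅R, R⁆ = R
  ne_bot : R ≠ ⊥
  perf_le : ∀ K : Subgroup G, K ≤ N → ⁅K, K⁆ = K → K ≤ R
  comm_RO : ∀ r ∈ R, ∀ o ∈ O, r * o = o * r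
  cent : ∀ v ∈ S, orderOf v = 2 → ∀ g : G, g * v = v * g → g ∈ N
  cent_O : ∀ v ∈ S, orderOf v = 2 → ∀ o ∈ O, v * o = o * v
  one_class : ∀ u v : G, u ∈ S → v ∈ S → orderOf u = 2 → orderOf v = 2 → ∃ r ∈ R, r * u * r⁻¹ = v
  out_mul : ∀ u v : G, u ∈ N → v ∈ N → orderOf u = 2 → orderOf v = 2 → u ∉ S → v ∉ S → u * v ∈ S
  inverted : ∀ v y : G, v ∈ N → y ∈ N → v * v = 1 → Odd (orderOf y) → v * y * v⁻¹ = y⁻¹ → y ∈ S
  four : ∃ u v : G, u ∈ S ∧ v ∈ S ∧ orderOf u = 2 ∧ orderOf v = 2 ∧ u ≠ v ∧ u * v = v * u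
  partner : ∀ v : G, v ∈ N → orderOf v = 2 → v ∉ S → ∃ u ∈ S, orderOf u = 2 ∧ u * v = v * u
  lift : ∀ u v : G, u ∈ S → orderOf u = 2 → v ∈ N → orderOf v = 2 → v ∉ S → u * v = v * u →
    ∃ y ∈ R, Odd (orderOf y) ∧ y ∉ O ∧ v * y = y * v ∧ u * y * u⁻¹ = y⁻¹
  ord_inner : ∀ v z : G, v ∈ S → orderOf v = 2 → z ∈ S → Odd (orderOf z) → v * z = z * v → z ^ α ∈ O
  ord_outer : ∀ v z : G, v ∈ N → orderOf v = 2 → v ∉ S → z ∈ S → Odd (orderOf z) → v * z = z * v →
    z ^ β ∈ O
  card_inner : ∀ v : G, v ∈ S → orderOf v = 2 → ∀ T : Finset G,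
    (∀ z ∈ T, z ∈ S ∧ Odd (orderOf z) ∧ v * z = z * v) →
    (∀ z ∈ T, ∀ z' ∈ T, z⁻¹ * z' ∈ O → z = z') → m * T.card ≤ 2 * α
  card_outer : ∀ v : G, v ∈ N → orderOf v = 2 → v ∉ S → ∀ T : Finset G,
    (∀ z ∈ T, z ∈ S ∧ Odd (orderOf z) ∧ v * z = z * v) →
    (∀ z ∈ T, ∀ z' ∈ T, z⁻¹ * z' ∈ O → z = z') → T.card ≤ β
  unique : ∀ v w z : G, v ∈ N → orderOf v = 2 → v ∉ S → w ∈ N → orderOf w = 2 → z ∈ S →
    Odd (orderOf z) → z ∉ O → v * z = z * v → w * z * w⁻¹ * z⁻¹ ∈ O → v * w ∈ O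
  torus : ∀ v y z : G, v ∈ N → orderOf v = 2 → z ∈ S → Odd (orderOf z) → z ∉ O → v * z = z * v →
    y ∈ S → y * z * y⁻¹ * z⁻¹ ∈ O → v * y * v⁻¹ * y⁻¹ ∈ O
  inner : ∃ T : Finset G, (α + β) * β ≤ T.card ∧ ∀ v ∈ T, v ∈ S ∧ orderOf v = 2
  outer : ∃ T : Finset G, (α + β) * α ≤ T.card ∧ (∀ v ∈ T, v ∈ N ∧ orderOf v = 2 ∧ v ∉ S) ∧
    ∀ v ∈ T, ∀ w ∈ T, v * w ∈ O → v = w

/-- Equal modulo the odd core and commuting with the difference: equal. -/
theorem invol_eq_of_comm {Y : Type u} [Group Y] {v w k : Y} (hv : v * v = 1) (hw : w * w = 1)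
    (e : w = v * k) (hc : v * k = k * v) (hk : Odd (orderOf k)) : w = v := by
  have h2 : k * k = 1 := by
    calc k * k = (v * v) * (k * k) := by rw [hv, one_mul]
      _ = v * (v * k) * k := by group
      _ = v * (k * v) * k := by rw [hc]
      _ = v * k * (v * k) := by group
      _ = 1 := by rw [← e, hw]
  rw [e, eq_one_of_sq_odd h2 hk, mul_one]

/-- The product of a preimage of odd order and its power. -/
theorem odd_of_map {Y : Type u} [Group Y] [Finite Y] {Z : Type u} [Group Z] (f : Y →* Z) {y : Y}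
    (h1 : Odd (orderOf (f y))) (h2 : ∀ k : Y, f k = 1 → Odd (orderOf k)) : Odd (orderOf y) := by
  have h3 := h2 (y ^ orderOf (f y)) (by rw [map_pow, pow_orderOf_eq_one])
  refine (h1.mul h3).of_dvd_nat (orderOf_dvd_of_pow_eq_one ?_)
  rw [pow_mul, pow_orderOf_eq_one]

section

variable {G : Type u} [Group G] [Finite G]

/-- The residual of a section whose inner involutions centralise the odd core centralises it. -/
theorem Sock.res_comm_of_cent {X : Type u} [Group X] [Finite X] (K : Sock X) {v : X}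
    (hv : orderOf v = 2) (hv' : v ∈ socPre X)
    (hc : ∀ w ∈ socPre X, orderOf w = 2 → ∀ o ∈ Cfsg.oddCore X, w * o = o * w) :
    ∀ r ∈ res X, ∀ o ∈ Cfsg.oddCore X, r * o = o * r := by
  haveI := oddCore_normal (X := X)
  haveI := K.normal
  haveI := K.simple
  set Ce := Subgroup.centralizer (Cfsg.oddCore X : Set X) with hCe
  haveI : Ce.Normal := inferInstanceAs (Subgroup.centralizer (Cfsg.oddCore X : Set X)).Normal
  haveI : (Ce.map (mo X)).Normal := Subgroup.Normal.map inferInstance _ (QuotientGroup.mk'_surjective _)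
  have hvC : v ∈ Ce := Subgroup.mem_centralizer_iff.2 fun o ho => (hc v hv' hv o ho).symm
  have hLE : K.L ≤ Ce.map (mo X) := by
    rcases (Subgroup.Normal.subgroupOf (inferInstance : (Ce.map (mo X)).Normal) K.L).eq_bot_or_eq_top
      with e | e
    · exfalso
      have hmem : (⟨mo X v, K.mem_socPre.1 hv'⟩ : K.L) ∈ (Ce.map (mo X)).subgroupOf K.L :=
        ⟨v, hvC, rfl⟩
      rw [e, Subgroup.mem_bot] at hmem
      have h1 : mo X v = 1 := congrArg Subtype.val hmem
      have := invol_mo hv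
      rw [h1, orderOf_one] at this
      omega
    · exact Subgroup.subgroupOf_eq_top.1 e
  haveI := quotient_solvable K.cent K.target
  have hres : res X ≤ Ce ⊔ Cfsg.oddCore X := by
    have h := ((res_map_le (mo X)).trans (res_le_of_solvable K.L)).trans hLE
    rwa [Subgroup.map_le_iff_le_comap, Subgroup.comap_map_eq, QuotientGroup.ker_mk'] at h
  have hrE : res X ≤ Ce := by
    set f := QuotientGroup.mk' Ce with hf
    haveI := oddCore_solvable (X := X)
    haveI : Group.IsSolvable ((Cfsg.oddCore X).map f) :=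
      Group.isSolvable_of_surjective (f.subgroupMap_surjective (Cfsg.oddCore X))
    have hle : (res X).map f ≤ (Cfsg.oddCore X).map f := by
      refine (Subgroup.map_mono hres).trans ?_
      rw [Subgroup.map_sup]
      refine sup_le ?_ le_rfl
      rw [(Subgroup.map_eq_bot_iff _).2 (QuotientGroup.ker_mk' Ce).ge]
      exact bot_le
    haveI : Group.IsSolvable ((res X).map f) := Components.isSolvable_mono hle
    have hp : ⁅(res X).map f, (res X).map f⁆ = (res X).map f := by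
      rw [← Subgroup.map_commutator, res_commutator]
    have hb : (res X).map f = ⊥ := by
      by_contra hne
      haveI : Nontrivial ((res X).map f) := (Subgroup.nontrivial_iff_ne_bot _).2 hne
      haveI : Group.IsPerfect ((res X).map f) := Subgroup.isPerfect_iff.2 hp
      exact (Group.IsSolvable.commutator_lt_top_of_nontrivial ((res X).map f)).ne
        Group.IsPerfect.commutator_eq_top
    rwa [Subgroup.map_eq_bot_iff, QuotientGroup.ker_mk'] at hb
  intro r hr o ho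
  exact (Subgroup.mem_centralizer_iff.1 (hrE hr) o ho).symm

/-- The residual is not trivial. -/
theorem Sock.res_ne_bot {X : Type u} [Group X] [Finite X] (K : Sock X) : res X ≠ ⊥ := by
  haveI := K.simple
  intro e
  have hL : K.L = ⊥ := by
    refine le_bot_iff.1 fun y hy => ?_
    obtain ⟨x, rfl⟩ := QuotientGroup.mk'_surjective (Cfsg.oddCore X) y
    have hx : x ∈ socPre X := K.mem_socPre.2 hy
    rw [socPre, e, bot_sup_eq] at hx
    exact Subgroup.mem_bot.2 ((mo_ker x).2 hx)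
  refine K.noncomm ⟨⟨fun a b => Subtype.ext ?_⟩⟩
  have ha : (a : X ⧸ Cfsg.oddCore X) = 1 := Subgroup.mem_bot.1 (hL.le a.2)
  rw [Subgroup.coe_mul, Subgroup.coe_mul, ha, one_mul, mul_one]

/-- A perfect subgroup of `N` lies in the residual of `N`. -/
theorem le_res_map {N K : Subgroup G} (hKN : K ≤ N) (hK : ⁅K, K⁆ = K) :
    K ≤ (res N).map N.subtype := by
  have h1 : (K.subgroupOf N).map N.subtype = K := by
    rw [Subgroup.map_subgroupOf_eq_of_le hKN]
  rw [← h1]
  refine Subgroup.map_mono (perfect_le_res ?_)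
  refine Subgroup.map_injective N.subtype_injective ?_
  rw [Subgroup.map_commutator, h1, hK]

/-- The picture of a maximal subgroup. -/
theorem pic_of_sock {N : Subgroup G} (hN : IsCoatom N) (hdih : DihSylow N) (K : Sock N) {q α β m : ℕ}
    (hf : OuterFacts (N ⧸ Cfsg.oddCore N) K.L q α β)
    (hs : SocleFacts (N ⧸ Cfsg.oddCore N) K.L)
    (hP : ∃ P : Sylow 2 (N ⧸ Cfsg.oddCore N), Nat.card (P : Subgroup (N ⧸ Cfsg.oddCore N)) = 2 * m)
    (hcent : ∀ v : N, v ∈ socPre N → orderOf v = 2 →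
      (∀ o ∈ Cfsg.oddCore N, v * o = o * v) ∧ ∀ g : G, g * (v : G) = (v : G) * g → g ∈ N) :
    Pic N ((socPre N).map N.subtype) ((res N).map N.subtype) ((Cfsg.oddCore N).map N.subtype)
      α β m := by
  classical
  haveI : Fact (Nat.Prime 2) := ⟨Nat.prime_two⟩
  haveI := oddCore_normal (X := N)
  haveI := K.normal
  haveI : (socPre N).Normal := by
    rw [socPre_eq K.normal K.simple K.noncomm K.target K.cent]
    exact Subgroup.Normal.comap K.normal _
  have hinj : Function.Injective N.subtype := N.subtype_injective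
  have hmem : ∀ (H : Subgroup N) (x : N), (x : G) ∈ H.map N.subtype ↔ x ∈ H := fun H x => by
    exact Subgroup.mem_map_iff_mem hinj
  have hnorm : ∀ (H : Subgroup N), H.Normal → ∀ g ∈ N, ∀ s ∈ H.map N.subtype,
      g * s * g⁻¹ ∈ H.map N.subtype := by
    rintro H hH g hg _ ⟨s, hs', rfl⟩
    exact ⟨⟨g, hg⟩ * s * ⟨g, hg⟩⁻¹, hH.conj_mem s hs' _, rfl⟩
  have hodd : ∀ k : N, mo N k = 1 → Odd (orderOf k) := fun k hk => odd_of_mem_core ((mo_ker k).1 hk)
  have hsupN : ∀ s ∈ socPre N, ∃ r ∈ res N, ∃ o ∈ Cfsg.oddCore N, s = r * o := by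
    intro s hs'
    rw [socPre, ← SetLike.mem_coe, Subgroup.mul_normal] at hs'
    obtain ⟨r, hr, o, ho, e⟩ := Set.mem_mul.1 hs'
    exact ⟨r, hr, o, ho, e.symm⟩
  -- lifts of involutions
  have hliftinv : ∀ x : N ⧸ Cfsg.oddCore N, orderOf x = 2 → ∃ v : N, orderOf v = 2 ∧ mo N v = x := by
    intro x hx
    obtain ⟨g, rfl⟩ := QuotientGroup.mk'_surjective (Cfsg.oddCore N) x
    have hxx := sq_one hx
    obtain ⟨k, hk⟩ := hodd (g * g) (by rw [map_mul]; exact hxx)
    refine ⟨g ^ orderOf (g * g), Invol.order_two_of_sq ?_ fun e => ?_, ?_⟩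
    · rw [← (Commute.refl g).mul_pow, pow_orderOf_eq_one]
    · have := congrArg (mo N) e
      rw [map_pow, hk, pow_succ, pow_mul, pow_two, hxx, one_pow, one_mul, map_one] at this
      rw [show (QuotientGroup.mk' (Cfsg.oddCore N)) g = 1 from this, orderOf_one] at hx
      omega
    · rw [map_pow, hk, pow_succ, pow_mul, pow_two, hxx, one_pow, one_mul]
  -- an inner involution is determined by its image
  have hinner : ∀ v w : N, v ∈ socPre N → orderOf v = 2 → w * w = 1 → mo N w = mo N v → w = v := by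
    intro v w hvS hv hw e
    have hk : v⁻¹ * w ∈ Cfsg.oddCore N := (mo_ker _).1 (by rw [map_mul, map_inv, e, inv_mul_cancel])
    exact invol_eq_of_comm (sq_one hv) hw (mul_inv_cancel_left v w).symm
      ((hcent v hvS hv).1 _ hk) (odd_of_mem_core hk)
  have hcommRO : ∀ r ∈ res N, ∀ o ∈ Cfsg.oddCore N, r * o = o * r := by
    obtain ⟨u, v, huL, -, hu, -⟩ := hf.four
    obtain ⟨w, hw, hwe⟩ := hliftinv u hu
    exact K.res_comm_of_cent hw (K.mem_socPre.2 (hwe ▸ huL)) fun x hx hx2 => (hcent x hx hx2).1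
  -- the preimages in the residual of the powers of an element
  have hlift : ∀ z ∈ K.L, ∃ r ∈ res N, mo N r = z := by
    intro z hz
    obtain ⟨s, rfl⟩ := QuotientGroup.mk'_surjective (Cfsg.oddCore N) z
    obtain ⟨r, hr, o, ho, rfl⟩ := hsupN s (K.mem_socPre.2 hz)
    exact ⟨r, hr, by
      show mo N r = mo N (r * o)
      rw [map_mul, (mo_ker o).2 ho, mul_one]⟩
  have hto : ∀ {v : G} (hv : v ∈ N), orderOf v = 2 → orderOf (⟨v, hv⟩ : N) = 2 := fun hv h => by
    rwa [Subgroup.orderOf_mk]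
  have hcinner : ∀ (v : N) (T : Finset G), (∀ z ∈ T, ∃ hz : z ∈ N, (⟨z, hz⟩ : N) ∈ socPre N ∧
      Odd (orderOf z) ∧ (v : G) * z = z * v) →
      (∀ z ∈ T, ∀ z' ∈ T, z⁻¹ * z' ∈ (Cfsg.oddCore N).map N.subtype → z = z') →
      T.card ≤ Nat.card {z : N ⧸ Cfsg.oddCore N //
        z ∈ K.L ∧ Odd (orderOf z) ∧ mo N v * z = z * mo N v} := by
    intro v T hT hdist
    have hmem' : ∀ z : T, ∃ hz : (z : G) ∈ N, (⟨z, hz⟩ : N) ∈ socPre N ∧
        Odd (orderOf (z : G)) ∧ (v : G) * z = z * v := fun z => hT z z.2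
    let f : T → {z : N ⧸ Cfsg.oddCore N // z ∈ K.L ∧ Odd (orderOf z) ∧ mo N v * z = z * mo N v} :=
      fun z => ⟨mo N ⟨z, (hmem' z).fst⟩, K.mem_socPre.1 (hmem' z).snd.1,
        (by rw [Subgroup.orderOf_mk]; exact (hmem' z).snd.2.1 : Odd (orderOf (⟨(z : G), (hmem' z).fst⟩ : N))).of_dvd_nat
          (orderOf_map_dvd _ _),
        by rw [← map_mul, ← map_mul]; exact congrArg _ (Subtype.ext (hmem' z).snd.2.2)⟩
    have hf' : Function.Injective f := by
      intro z z' e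
      have e' := congrArg Subtype.val e
      refine Subtype.ext (hdist z z.2 z' z'.2 ?_)
      exact (hmem (Cfsg.oddCore N) (⟨z, (hmem' z).fst⟩⁻¹ * ⟨z', (hmem' z').fst⟩)).2
        ((mo_ker _).1 (by rw [map_mul, map_inv]; exact inv_mul_eq_one.2 e'))
    have := Nat.card_le_card_of_injective f hf'
    rwa [Nat.card_eq_fintype_card, Fintype.card_coe] at this
  refine
    { coatom := hN
      RS := Subgroup.map_mono le_sup_left
      SN := Subgroup.map_subtype_le _
      OS := Subgroup.map_mono le_sup_right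
      norm_S := hnorm _ inferInstance
      norm_R := hnorm _ (by unfold res; infer_instance)
      norm_O := hnorm _ inferInstance
      sup := ?_, odd := ?_, perfect := ?_, ne_bot := ?_
      perf_le := fun H hH hp => le_res_map hH hp
      comm_RO := ?_, cent := ?_, cent_O := ?_, one_class := ?_, out_mul := ?_, inverted := ?_
      four := ?_, partner := ?_, lift := ?_, ord_inner := ?_, ord_outer := ?_, card_inner := ?_
      card_outer := ?_, unique := ?_, torus := ?_, inner := ?_, outer := ?_ }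
  · rintro _ ⟨s, hs', rfl⟩
    obtain ⟨r, hr, o, ho, rfl⟩ := hsupN s hs'
    exact ⟨r, ⟨r, hr, rfl⟩, o, ⟨o, ho, rfl⟩, rfl⟩
  · rintro _ ⟨o, ho, rfl⟩
    rw [Subgroup.coe_subtype, Subgroup.orderOf_coe]
    exact odd_of_mem_core ho
  · rw [← Subgroup.map_commutator, res_commutator]
  · rw [ne_eq, Subgroup.map_eq_bot_iff_of_injective _ hinj]
    exact K.res_ne_bot
  · rintro _ ⟨r, hr, rfl⟩ _ ⟨o, ho, rfl⟩
    exact congrArg Subtype.val (hcommRO r hr o ho)
  · rintro _ ⟨v, hv, rfl⟩ hv2 g hg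
    rw [Subgroup.coe_subtype, Subgroup.orderOf_coe] at hv2
    exact (hcent v hv hv2).2 g hg
  · rintro _ ⟨v, hv, rfl⟩ hv2 _ ⟨o, ho, rfl⟩
    rw [Subgroup.coe_subtype, Subgroup.orderOf_coe] at hv2
    exact congrArg Subtype.val ((hcent v hv hv2).1 o ho)
  · rintro _ _ ⟨u, hu, rfl⟩ ⟨v, hv, rfl⟩ hu2 hv2
    rw [Subgroup.coe_subtype, Subgroup.orderOf_coe] at hu2 hv2
    obtain ⟨g, hg, e⟩ := K.one_class hdih hu2 hv2 hu hv
    obtain ⟨r, hr, o, ho, rfl⟩ := hsupN g hg
    refine ⟨r, ⟨r, hr, rfl⟩, ?_⟩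
    have h1 : o * u * o⁻¹ = u := by rw [← (hcent u hu hu2).1 o ho, mul_inv_cancel_right]
    have e' : r * u * r⁻¹ = v := by
      rw [← e]
      calc r * u * r⁻¹ = r * (o * u * o⁻¹) * r⁻¹ := by rw [h1]
        _ = r * o * u * (r * o)⁻¹ := by group
    exact congrArg Subtype.val e'
  · intro u v hu hv hu2 hv2 huS hvS
    refine (hmem _ (⟨u, hu⟩ * ⟨v, hv⟩)).2 (K.mem_socPre.2 ?_)
    rw [map_mul]
    exact hf.out_mul _ _ (invol_mo (hto hu hu2)) (invol_mo (hto hv hv2))
      (fun e => huS ((hmem _ ⟨u, hu⟩).2 (K.mem_socPre.2 e)))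
      (fun e => hvS ((hmem _ ⟨v, hv⟩).2 (K.mem_socPre.2 e)))
  · intro v y hv hy hvv hyo hvy
    refine (hmem _ ⟨y, hy⟩).2 (K.mem_socPre.2 (hs.inverted_mem (mo N ⟨v, hv⟩) _ ?_ ?_ ?_))
    · rw [← map_mul, show (⟨v, hv⟩ : N) * ⟨v, hv⟩ = 1 from Subtype.ext hvv, map_one]
    · rw [← Subgroup.orderOf_mk y hy] at hyo
      exact hyo.of_dvd_nat (orderOf_map_dvd _ _)
    · rw [← map_inv, ← map_inv, ← map_mul, ← map_mul]
      exact congrArg _ (Subtype.ext hvy)
  · obtain ⟨u, v, huL, hvL, hu, hv, hne, hc⟩ := hf.four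
    obtain ⟨u', hu', rfl⟩ := hliftinv u hu
    obtain ⟨v', hv', rfl⟩ := hliftinv v hv
    have huS := K.mem_socPre.2 huL
    have hvS := K.mem_socPre.2 hvL
    refine ⟨u', v', (hmem _ u').2 huS, (hmem _ v').2 hvS, by rwa [Subgroup.orderOf_coe],
      by rwa [Subgroup.orderOf_coe], fun e => hne (by rw [Subtype.ext e]), ?_⟩
    have e : v' * u' * v'⁻¹ = u' := hinner u' _ huS hu'
      (by rw [show v' * u' * v'⁻¹ * (v' * u' * v'⁻¹) = v' * (u' * u') * v'⁻¹ by group, sq_one hu',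
        mul_one, mul_inv_cancel])
      (by rw [map_mul, map_mul, map_inv, ← hc, mul_inv_cancel_right])
    exact congrArg Subtype.val (mul_inv_eq_iff_eq_mul.1 e).symm
  · intro v hv hv2 hvS
    obtain ⟨u, huL, hu, huv⟩ := hf.partner _ (invol_mo (hto hv hv2))
    obtain ⟨u', hu', rfl⟩ := hliftinv u hu
    have huS := K.mem_socPre.2 huL
    refine ⟨u', (hmem _ u').2 huS, by rwa [Subgroup.orderOf_coe], ?_⟩
    set v' : N := ⟨v, hv⟩
    have e : v' * u' * v'⁻¹ = u' := hinner u' _ huS hu'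
      (by rw [show v' * u' * v'⁻¹ * (v' * u' * v'⁻¹) = v' * (u' * u') * v'⁻¹ by group, sq_one hu',
        mul_one, mul_inv_cancel])
      (by rw [map_mul, map_mul, map_inv, ← huv, mul_inv_cancel_right])
    exact congrArg Subtype.val (mul_inv_eq_iff_eq_mul.1 e).symm
  · rintro _ v ⟨u, hu, rfl⟩ hu2 hv hv2 hvS huv
    rw [Subgroup.coe_subtype, Subgroup.orderOf_coe] at hu2
    set v' : N := ⟨v, hv⟩
    have hv2' : orderOf v' = 2 := hto hv hv2
    have huv' : Commute u v' := Subtype.ext huv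
    obtain ⟨z, hzL, hz1, hzo, hvz, huz⟩ := hf.lift (mo N u) (mo N v') (K.mem_socPre.1 hu)
      (invol_mo hu2) (fun e => hvS ((hmem _ v').2 (K.mem_socPre.2 e))) (invol_mo hv2')
      (huv'.map (mo N)).eq
    obtain ⟨r, hr, rfl⟩ := hlift z hzL
    haveI : (res N).Normal := by unfold res; infer_instance
    have hR : ∀ g : N, ∀ a ∈ res N, g * a * g⁻¹ ∈ res N :=
      fun g a ha => (inferInstance : (res N).Normal).conj_mem a ha g
    have hab : ∀ a ∈ res N, ∀ b ∈ res N, (∃ i : ℤ, mo N a = mo N r ^ i) →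
        (∃ j : ℤ, mo N b = mo N r ^ j) → Commute a b := by
      rintro a ha b hb ⟨i, hi⟩ ⟨j, hj⟩
      have hka : (r ^ i)⁻¹ * a ∈ Cfsg.oddCore N :=
        (mo_ker _).1 (by rw [map_mul, map_inv, map_zpow, hi, inv_mul_cancel])
      have hkb : (r ^ j)⁻¹ * b ∈ Cfsg.oddCore N :=
        (mo_ker _).1 (by rw [map_mul, map_inv, map_zpow, hj, inv_mul_cancel])
      have h1 : Commute (r ^ i) b := by
        have : Commute (r ^ i) (r ^ j * ((r ^ j)⁻¹ * b)) :=
          ((Commute.refl r).zpow_zpow i j).mul_right (hcommRO _ (zpow_mem hr i) _ hkb)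
        rwa [mul_inv_cancel_left] at this
      have h2 : Commute ((r ^ i)⁻¹ * a) b := (hcommRO b hb _ hka).symm
      have := h1.mul_left h2
      rwa [mul_inv_cancel_left] at this
    set a := v' * r * v'⁻¹ with ha
    have hmoa : mo N a = mo N r := by
      rw [ha, map_mul, map_mul, map_inv, hvz, mul_inv_cancel_right]
    have haR : a ∈ res N := hR v' r hr
    have hra : Commute r a := hab r hr a haR ⟨1, (zpow_one _).symm⟩ ⟨1, by rw [hmoa, zpow_one]⟩
    set y₁ := r * a with hy1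
    have hvv : v' * v' = 1 := sq_one hv2'
    have hvy1 : v' * y₁ * v'⁻¹ = y₁ := by
      calc v' * (r * (v' * r * v'⁻¹)) * v'⁻¹ = a * (v' * v' * r * (v' * v')⁻¹) := by rw [ha]; group
        _ = a * r := by rw [hvv, one_mul, inv_one, mul_one]
        _ = y₁ := hra.eq.symm
    set b := u * y₁ * u⁻¹ with hb
    have hmoy1 : mo N y₁ = mo N r ^ (2 : ℤ) := by rw [hy1, map_mul, hmoa, zpow_two]
    have hy1R : y₁ ∈ res N := mul_mem hr haR
    have hmob : mo N b = mo N r ^ (-2 : ℤ) := by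
      rw [hb, map_mul, map_mul, map_inv, hmoy1, ← conj_zpow, huz, inv_zpow, zpow_neg]
    have hbR : b ∈ res N := hR u y₁ hy1R
    set y := y₁ * b⁻¹ with hy
    have hcy : Commute y₁ b⁻¹ := (hab y₁ hy1R b hbR ⟨2, hmoy1⟩ ⟨-2, hmob⟩).inv_right
    have hmoy : mo N y = mo N r ^ (4 : ℤ) := by
      rw [hy, map_mul, map_inv, hmoy1, hmob, ← zpow_neg, ← zpow_add]
      norm_num
    have hyo : Odd (orderOf y) := by
      refine odd_of_map (mo N) ?_ hodd
      rw [hmoy]
      exact hzo.of_dvd_nat (orderOf_dvd_iff_pow_eq_one.2 (by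
        rw [← zpow_natCast, ← zpow_mul, mul_comm, zpow_mul, zpow_natCast, pow_orderOf_eq_one, one_zpow]))
    refine ⟨y, (hmem _ y).2 (mul_mem hy1R (inv_mem hbR)), by rwa [Subgroup.orderOf_coe], fun hm => ?_,
      ?_, ?_⟩
    · have h4 := (mo_ker y).2 ((hmem _ y).1 hm)
      rw [hmoy, ← orderOf_dvd_iff_zpow_eq_one] at h4
      have h5 : orderOf (mo N r) ∣ 2 ^ 2 := by exact_mod_cast h4
      exact hz1 (orderOf_eq_one_iff.1 (Nat.eq_one_of_dvd_coprimes
        (Nat.Coprime.pow_left 2 (Nat.coprime_two_left.2 hzo)) h5 dvd_rfl))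
    · have hvb : v' * b * v'⁻¹ = b := by
        calc v' * (u * y₁ * u⁻¹) * v'⁻¹ = (v' * u) * y₁ * (v' * u)⁻¹ := by group
          _ = (u * v') * y₁ * (u * v')⁻¹ := by rw [huv'.eq]
          _ = u * (v' * y₁ * v'⁻¹) * u⁻¹ := by group
          _ = b := by rw [hvy1]
      have : v' * y * v'⁻¹ = y := by
        rw [hy, ← conj_mul, hvy1, ← conj_inv, hvb]
      exact congrArg Subtype.val (mul_inv_eq_iff_eq_mul.1 this)
    · have huu := sq_one hu2
      have hub : u * b * u⁻¹ = y₁ := by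
        calc u * b * u⁻¹ = u * u * y₁ * (u * u)⁻¹ := by rw [hb]; group
          _ = y₁ := by rw [huu, one_mul, inv_one, mul_one]
      have : u * y * u⁻¹ = y⁻¹ := by
        calc u * y * u⁻¹ = (u * y₁ * u⁻¹) * (u * b * u⁻¹)⁻¹ := by rw [hy]; group
          _ = b * y₁⁻¹ := by rw [hub, ← hb]
          _ = y⁻¹ := by rw [hy]; group
      exact congrArg Subtype.val this
  · rintro _ _ ⟨v, hv, rfl⟩ hv2 ⟨z, hz, rfl⟩ hzo hvz
    rw [Subgroup.coe_subtype, Subgroup.orderOf_coe] at hv2 hzo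
    have := hf.ord_inner (mo N v) (mo N z) (K.mem_socPre.1 hv) (invol_mo hv2) (K.mem_socPre.1 hz)
      (hzo.of_dvd_nat (orderOf_map_dvd _ _))
      (by rw [← map_mul, ← map_mul]; exact congrArg _ (Subtype.ext hvz))
    exact ⟨z ^ α, (mo_ker _).1 (by rw [map_pow, this]), rfl⟩
  · rintro v _ hv hv2 hvS ⟨z, hz, rfl⟩ hzo hvz
    rw [Subgroup.coe_subtype, Subgroup.orderOf_coe] at hzo
    have := hf.ord_outer (mo N ⟨v, hv⟩) (mo N z) (fun e => hvS ((hmem _ ⟨v, hv⟩).2 (K.mem_socPre.2 e)))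
      (invol_mo (hto hv hv2)) (K.mem_socPre.1 hz)
      (hzo.of_dvd_nat (orderOf_map_dvd _ _))
      (by rw [← map_mul, ← map_mul]; exact congrArg _ (Subtype.ext hvz))
    exact ⟨z ^ β, (mo_ker _).1 (by rw [map_pow, this]), rfl⟩
  · rintro _ ⟨v, hv, rfl⟩ hv2 T hT hdist
    rw [Subgroup.coe_subtype, Subgroup.orderOf_coe] at hv2
    obtain ⟨P, hP⟩ := hP
    have h1 := hcinner v T (fun z hz => ⟨Subgroup.map_subtype_le _ (hT z hz).1,
      (hmem _ ⟨z, Subgroup.map_subtype_le _ (hT z hz).1⟩).1 (hT z hz).1, (hT z hz).2⟩) hdist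
    have h2 := hf.card_inner P (mo N v) (K.mem_socPre.1 hv) (invol_mo hv2)
    rw [hP] at h2
    have := (Nat.mul_le_mul_left (2 * m) h1).trans h2
    rw [show 2 * m * T.card = 2 * (m * T.card) by ring] at this
    omega
  · intro v hv hv2 hvS T hT hdist
    have h1 := hcinner ⟨v, hv⟩ T (fun z hz => ⟨Subgroup.map_subtype_le _ (hT z hz).1,
      (hmem _ ⟨z, Subgroup.map_subtype_le _ (hT z hz).1⟩).1 (hT z hz).1, (hT z hz).2⟩) hdist
    exact h1.trans (hf.card_outer _ (fun e => hvS ((hmem _ ⟨v, hv⟩).2 (K.mem_socPre.2 e)))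
      (invol_mo (hto hv hv2)))
  · rintro v w _ hv hv2 hvS hw hw2 ⟨z, hz, rfl⟩ hzo hzO hvz hwz
    rw [Subgroup.coe_subtype, Subgroup.orderOf_coe] at hzo
    have hwz' : mo N ⟨w, hw⟩ * mo N z = mo N z * mo N ⟨w, hw⟩ := by
      have hm : (⟨w, hw⟩ : N) * z * (⟨w, hw⟩ : N)⁻¹ * z⁻¹ ∈ Cfsg.oddCore N := (hmem _ _).1 hwz
      have := (mo_ker _).2 hm
      rw [map_mul, map_mul, map_mul, map_inv, map_inv, mul_inv_eq_one, mul_inv_eq_iff_eq_mul] at this
      exact this
    have hww := hf.unique (mo N ⟨v, hv⟩) (mo N ⟨w, hw⟩) (mo N z) (invol_mo (hto hv hv2))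
      (invol_mo (hto hw hw2)) (fun e => hvS ((hmem _ ⟨v, hv⟩).2 (K.mem_socPre.2 e))) (K.mem_socPre.1 hz)
      (fun e => hzO ⟨z, (mo_ker _).1 e, rfl⟩) (hzo.of_dvd_nat (orderOf_map_dvd _ _))
      (by rw [← map_mul, ← map_mul]; exact congrArg _ (Subtype.ext hvz)) hwz'
    exact (hmem _ (⟨v, hv⟩ * ⟨w, hw⟩)).2 ((mo_ker _).1 (by
      rw [map_mul, hww, sq_one (invol_mo (hto hv hv2))]))
  · rintro v _ _ hv hv2 ⟨z, hz, rfl⟩ hzo hzO hvz ⟨y, hy, rfl⟩ hyz
    rw [Subgroup.coe_subtype, Subgroup.orderOf_coe] at hzo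
    have hyz' : mo N y * mo N z = mo N z * mo N y := by
      have hm : y * z * y⁻¹ * z⁻¹ ∈ Cfsg.oddCore N := (hmem _ _).1 hyz
      have := (mo_ker _).2 hm
      rw [map_mul, map_mul, map_mul, map_inv, map_inv, mul_inv_eq_one, mul_inv_eq_iff_eq_mul] at this
      exact this
    have := hs.torus (mo N ⟨v, hv⟩) (mo N z) (mo N y) (invol_mo (hto hv hv2)) (K.mem_socPre.1 hz)
      (fun e => hzO ⟨z, (mo_ker _).1 e, rfl⟩) (hzo.of_dvd_nat (orderOf_map_dvd _ _))
      (by rw [← map_mul, ← map_mul]; exact congrArg _ (Subtype.ext hvz)) (K.mem_socPre.1 hy) hyz'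
    exact (hmem _ (⟨v, hv⟩ * y * (⟨v, hv⟩ : N)⁻¹ * y⁻¹)).2 ((mo_ker _).1 (by
      rw [map_mul, map_mul, map_mul, map_inv, map_inv, this, mul_inv_cancel_right, mul_inv_cancel]))
  · have hex : ∀ u : {u : N ⧸ Cfsg.oddCore N // u ∈ K.L ∧ orderOf u = 2},
        ∃ v : N, orderOf v = 2 ∧ mo N v = u.1 := fun u => hliftinv u.1 u.2.2
    choose f hf1 hf2 using hex
    haveI := Fintype.ofFinite {u : N ⧸ Cfsg.oddCore N // u ∈ K.L ∧ orderOf u = 2}
    refine ⟨Finset.univ.image fun u => (f u : G), ?_, ?_⟩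
    · rw [Finset.card_image_of_injective _ (fun a b e => Subtype.ext (by
        rw [← hf2 a, ← hf2 b, Subtype.ext e])), Finset.card_univ, ← Nat.card_eq_fintype_card, hf.add]
      exact hf.inner_many
    · intro v hv
      obtain ⟨u, -, rfl⟩ := Finset.mem_image.1 hv
      exact ⟨(hmem _ (f u)).2 (K.mem_socPre.2 (by rw [hf2 u]; exact u.2.1)),
        by rw [Subgroup.orderOf_coe]; exact hf1 u⟩
  · have hex : ∀ u : {u : N ⧸ Cfsg.oddCore N // u ∉ K.L ∧ orderOf u = 2},
        ∃ v : N, orderOf v = 2 ∧ mo N v = u.1 := fun u => hliftinv u.1 u.2.2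
    choose f hf1 hf2 using hex
    haveI := Fintype.ofFinite {u : N ⧸ Cfsg.oddCore N // u ∉ K.L ∧ orderOf u = 2}
    refine ⟨Finset.univ.image fun u => (f u : G), ?_, ?_, ?_⟩
    · rw [Finset.card_image_of_injective _ (fun a b e => Subtype.ext (by
        rw [← hf2 a, ← hf2 b, Subtype.ext e])), Finset.card_univ, ← Nat.card_eq_fintype_card, hf.add]
      exact hf.outer_many
    · intro v hv
      obtain ⟨u, -, rfl⟩ := Finset.mem_image.1 hv
      refine ⟨(f u).2, by rw [Subgroup.orderOf_coe]; exact hf1 u, fun e => u.2.1 ?_⟩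
      rw [← hf2 u]
      exact K.mem_socPre.1 ((hmem _ (f u)).1 e)
    · intro v hv w hw hvw
      obtain ⟨a, -, rfl⟩ := Finset.mem_image.1 hv
      obtain ⟨b, -, rfl⟩ := Finset.mem_image.1 hw
      have := (mo_ker _).2 ((hmem _ (f a * f b)).1 hvw)
      rw [map_mul, hf2 a, hf2 b, mul_eq_one_iff_eq_inv,
        inv_eq_of_mul_eq_one_right (sq_one b.2.2)] at this
      rw [Subtype.ext this]

/-- Pictures are carried by automorphisms. -/
theorem Pic.map {N S R O : Subgroup G} {α β m : ℕ} (h : Pic N S R O α β m) (e : G ≃* G) :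
    Pic (N.map e.toMonoidHom) (S.map e.toMonoidHom) (R.map e.toMonoidHom) (O.map e.toMonoidHom)
      α β m := by
  classical
  have mm : ∀ (K : Subgroup G) (x : G), x ∈ K.map e.toMonoidHom ↔ e.symm x ∈ K := fun K x =>
    Subgroup.mem_map_equiv
  have ho : ∀ x : G, orderOf (e.symm x) = orderOf x := fun x => MulEquiv.orderOf_eq e.symm x
  have hc : ∀ {x y : G}, x * y = y * x → e.symm x * e.symm y = e.symm y * e.symm x := fun hxy => by
    rw [← map_mul, ← map_mul, hxy]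
  have back : ∀ {x y : G}, e.symm x = e.symm y → x = y := fun hxy => e.symm.injective hxy
  refine
    { coatom := ?_
      RS := Subgroup.map_mono h.RS
      SN := Subgroup.map_mono h.SN
      OS := Subgroup.map_mono h.OS
      norm_S := ?_, norm_R := ?_, norm_O := ?_
      sup := ?_, odd := ?_, perfect := ?_, ne_bot := ?_, perf_le := ?_
      comm_RO := ?_, cent := ?_, cent_O := ?_, one_class := ?_, out_mul := ?_, inverted := ?_
      four := ?_, partner := ?_, lift := ?_, ord_inner := ?_, ord_outer := ?_, card_inner := ?_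
      card_outer := ?_, unique := ?_, torus := ?_, inner := ?_, outer := ?_ }
  · exact (OrderIso.isCoatom_iff (MulEquiv.mapSubgroup e) N).2 h.coatom
  all_goals try simp only [mm]
  · intro g hg s hs; simpa using h.norm_S _ hg _ hs
  · intro g hg s hs; simpa using h.norm_R _ hg _ hs
  · intro g hg s hs; simpa using h.norm_O _ hg _ hs
  · intro s hs
    obtain ⟨r, hr, o, hoO, e'⟩ := h.sup _ hs
    exact ⟨e r, by simpa using hr, e o, by simpa using hoO, back (by simp [e'])⟩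
  · intro o hoO; rw [← ho]; exact h.odd _ hoO
  · rw [← Subgroup.map_commutator, h.perfect]
  · rw [ne_eq, Subgroup.map_eq_bot_iff_of_injective _ e.injective]; exact h.ne_bot
  · intro K hK hp
    have hK' : K.map e.symm.toMonoidHom ≤ N := by
      rintro _ ⟨x, hx, rfl⟩
      exact (mm N x).1 (hK hx)
    have := h.perf_le _ hK' (by rw [← Subgroup.map_commutator, hp])
    intro x hx
    exact (mm R x).2 (this ⟨x, hx, rfl⟩)
  · intro r hr o hoO; exact back (by simpa using h.comm_RO _ hr _ hoO)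
  · intro v hv hv2 g hg; exact h.cent _ hv ((ho v).trans hv2) _ (hc hg)
  · intro v hv hv2 o hoO; exact back (by simpa using h.cent_O _ hv ((ho v).trans hv2) _ hoO)
  · intro u v hu hv hu2 hv2
    obtain ⟨r, hr, e'⟩ := h.one_class _ _ hu hv ((ho u).trans hu2) ((ho v).trans hv2)
    exact ⟨e r, by simpa using hr, back (by simpa using e')⟩
  · intro u v hu hv hu2 hv2 huS hvS
    simpa using h.out_mul _ _ hu hv ((ho u).trans hu2) ((ho v).trans hv2) huS hvS
  · intro v y hv hy hvv hyo hvy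
    exact h.inverted _ _ hv hy (by rw [← map_mul, hvv, map_one]) (by rwa [ho])
      (by rw [← map_inv, ← map_inv, ← map_mul, ← map_mul, hvy])
  · obtain ⟨u, v, hu, hv, hu2, hv2, hne, huv⟩ := h.four
    exact ⟨e u, e v, by simpa using hu, by simpa using hv, by rwa [MulEquiv.orderOf_eq],
      by rwa [MulEquiv.orderOf_eq], fun e' => hne (e.injective e'), by rw [← map_mul, ← map_mul, huv]⟩
  · intro v hv hv2 hvS
    obtain ⟨u, hu, hu2, huv⟩ := h.partner _ hv ((ho v).trans hv2) hvS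
    exact ⟨e u, by simpa using hu, by rwa [MulEquiv.orderOf_eq], back (by simpa using huv)⟩
  · intro u v hu hu2 hv hv2 hvS huv
    obtain ⟨y, hy, hyo, hyO, hvy, huy⟩ :=
      h.lift _ _ hu ((ho u).trans hu2) hv ((ho v).trans hv2) hvS (hc huv)
    exact ⟨e y, by simpa using hy, by rwa [MulEquiv.orderOf_eq], by simpa using hyO,
      back (by simpa using hvy), back (by simpa using huy)⟩
  · intro v z hv hv2 hz hzo hvz
    simpa using h.ord_inner _ _ hv ((ho v).trans hv2) hz (by rwa [ho]) (hc hvz)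
  · intro v z hv hv2 hvS hz hzo hvz
    simpa using h.ord_outer _ _ hv ((ho v).trans hv2) hvS hz (by rwa [ho]) (hc hvz)
  · intro v hv hv2 T hT hd
    rw [← Finset.card_image_of_injective T e.symm.injective]
    refine h.card_inner _ hv ((ho v).trans hv2) _ ?_ ?_
    · intro z hz
      obtain ⟨x, hx, rfl⟩ := Finset.mem_image.1 hz
      obtain ⟨h1, h2, h3⟩ := hT x hx
      exact ⟨h1, by rwa [ho], hc h3⟩
    · intro z hz z' hz' hzz
      obtain ⟨x, hx, rfl⟩ := Finset.mem_image.1 hz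
      obtain ⟨x', hx', rfl⟩ := Finset.mem_image.1 hz'
      rw [hd x hx x' hx' (by simpa using hzz)]
  · intro v hv hv2 hvS T hT hd
    rw [← Finset.card_image_of_injective T e.symm.injective]
    refine h.card_outer _ hv ((ho v).trans hv2) hvS _ ?_ ?_
    · intro z hz
      obtain ⟨x, hx, rfl⟩ := Finset.mem_image.1 hz
      obtain ⟨h1, h2, h3⟩ := hT x hx
      exact ⟨h1, by rwa [ho], hc h3⟩
    · intro z hz z' hz' hzz
      obtain ⟨x, hx, rfl⟩ := Finset.mem_image.1 hz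
      obtain ⟨x', hx', rfl⟩ := Finset.mem_image.1 hz'
      rw [hd x hx x' hx' (by simpa using hzz)]
  · intro v w z hv hv2 hvS hw hw2 hz hzo hzO hvz hwz
    simpa using h.unique _ _ _ hv ((ho v).trans hv2) hvS hw ((ho w).trans hw2) hz (by rwa [ho]) hzO
      (hc hvz) (by simpa using hwz)
  · intro v y z hv hv2 hz hzo hzO hvz hy hyz
    simpa using h.torus _ _ _ hv ((ho v).trans hv2) hz (by rwa [ho]) hzO (hc hvz) hy
      (by simpa using hyz)
  · obtain ⟨T, hT, hT'⟩ := h.inner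
    refine ⟨T.image e, by rwa [Finset.card_image_of_injective T e.injective], fun v hv => ?_⟩
    obtain ⟨x, hx, rfl⟩ := Finset.mem_image.1 hv
    exact ⟨by simpa using (hT' x hx).1, by rw [MulEquiv.orderOf_eq]; exact (hT' x hx).2⟩
  · obtain ⟨T, hT, hT', hd⟩ := h.outer
    refine ⟨T.image e, by rwa [Finset.card_image_of_injective T e.injective], fun v hv => ?_,
      fun v hv w hw hvw => ?_⟩
    · obtain ⟨x, hx, rfl⟩ := Finset.mem_image.1 hv
      obtain ⟨h1, h2, h3⟩ := hT' x hx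
      exact ⟨by simpa using h1, by rwa [MulEquiv.orderOf_eq], by simpa using h3⟩
    · obtain ⟨x, hx, rfl⟩ := Finset.mem_image.1 hv
      obtain ⟨x', hx', rfl⟩ := Finset.mem_image.1 hw
      rw [hd x hx x' hx' (by simpa using hvw)]

end

end Cfsg.Agent.GW
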