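import Cfsg.Agent.Lib.GW.StepCCount
import Cfsg.Agent.Lib.GW.StepA

/-!
The possibilities for a maximal subgroup properly above the centraliser of the central involution.
-/

set_option autoImplicit false
set_option linter.unusedSectionVars false
set_option linter.style.haveILetI false

namespace Cfsg.Agent.GW

open Cfsg.Agent.TwoFus

universe u

variable {G : Type u} [Group G] [Finite G]

namespace Core

variable (c : Core G)

/-- `N` is the configuration with a normal four-group modulo the odd core and two classes. -/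
structure FourCase (N : Subgroup G) : Prop where
  coatom : IsCoatom N
  cent_le : c.C ≤ N
  norm_U : ∀ g ∈ N, ∀ w ∈ c.U, g * w * g⁻¹ ∈ c.U
  m_eq : c.d.m = 4
  refl : ∃ a, c.Refl a ∧ (∀ w ∈ c.U, w * a = a * w) ∧
    ∀ g ∈ N, g * c.d.z * g⁻¹ ≠ c.d.x * a

variable {N : Subgroup G}

/-- The odd core of `N` centralises the central involution. -/
theorem core_le_C (hN : IsCoatom N) (hC : c.C ≤ N) :
    ∀ o ∈ Cfsg.oddCore N, (o : G) * c.d.z = c.d.z * o := by
  classical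
  haveI : Fact (Nat.Prime 2) := ⟨Nat.prime_two⟩
  haveI := c.simple
  haveI := oddCore_normal (X := N)
  have hPN : (c.P : Subgroup G) ≤ N := c.P_le.trans hC
  have hfit : BenderUnique.fitIn N ≤ c.C := by
    refine BenderUnique.fitIn_le_iff.2 fun s hs => ?_
    haveI := Fact.mk hs
    by_cases h2 : s = 2
    · subst h2
      rintro _ ⟨n, hn, rfl⟩
      have := PBasic.pCore_le_sylow (c.P.subtype hPN) hn
      rw [Sylow.coe_subtype, Subgroup.mem_subgroupOf] at this
      exact c.P_le this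
    · exact stepA c.noncomm c.P c.d c.known hN hC s h2
  have hzN : c.d.z ∈ N := hPN c.z_mem
  set X := Cfsg.oddCore N with hX
  set F := (Cfsg.fittingSubgroup X).map X.subtype with hF
  have hFz : ∀ f ∈ Cfsg.fittingSubgroup X, (((f : X) : N) : G) * c.d.z = c.d.z * ((f : X) : N) := by
    intro f hf
    refine c.mem_C.1 (hfit ⟨(f : N), ?_, rfl⟩)
    exact Components.fitting_map_le_of_subnormal (inferInstance : X.Normal).isSubnormal ⟨f, hf, rfl⟩
  haveI : Group.IsSolvable X := oddCore_solvable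
  intro o ho
  set zN : N := ⟨c.d.z, hzN⟩ with hzN'
  have hzz : zN * zN = 1 := Subtype.ext c.d.zz
  have hzinv : zN⁻¹ = zN := inv_eq_of_mul_eq_one_right hzz
  set o' : N := zN * o * zN⁻¹ with ho'
  have ho'X : o' ∈ X := (inferInstance : X.Normal).conj_mem o ho zN
  set i : X := ⟨o⁻¹ * o', mul_mem (inv_mem ho) ho'X⟩ with hi
  have hiF : i ∈ Cfsg.fittingSubgroup X := by
    refine FittingCores.centralizer_fitting_le (Subgroup.mem_centralizer_iff.2 fun f hf => ?_)
    haveI := FittingCores.fitting_normal (G := X)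
    have h1 : Commute zN (f : N) := (Subtype.ext (hFz f hf)).symm
    have hfo : (⟨o, ho⟩ : X) * f * (⟨o, ho⟩ : X)⁻¹ ∈ Cfsg.fittingSubgroup X :=
      (inferInstance : (Cfsg.fittingSubgroup X).Normal).conj_mem f hf _
    have h2 : Commute zN (o * (f : N) * o⁻¹) := (Subtype.ext (hFz _ hfo)).symm
    have h4 : o' * (f : N) * o'⁻¹ = o * (f : N) * o⁻¹ := by
      calc o' * (f : N) * o'⁻¹ = zN * (o * (zN⁻¹ * (f : N) * zN) * o⁻¹) * zN⁻¹ := by rw [ho']; group
        _ = zN * (o * (f : N) * o⁻¹) * zN⁻¹ := by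
          rw [h1.inv_left.eq, inv_mul_cancel_right]
        _ = o * (f : N) * o⁻¹ := by rw [h2.eq, mul_inv_cancel_right]
    refine (Subtype.ext ?_ : f * i = i * f)
    show (f : N) * (o⁻¹ * o') = o⁻¹ * o' * (f : N)
    calc (f : N) * (o⁻¹ * o') = o⁻¹ * (o * (f : N) * o⁻¹) * o' := by group
      _ = o⁻¹ * (o' * (f : N) * o'⁻¹) * o' := by rw [h4]
      _ = o⁻¹ * o' * (f : N) := by group
  have h1 : Commute zN (o⁻¹ * o') := (Subtype.ext (hFz i hiF)).symm
  have hinv : zN * (o⁻¹ * o') * zN⁻¹ = (o⁻¹ * o')⁻¹ := by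
    rw [ho']
    calc zN * (o⁻¹ * (zN * o * zN⁻¹)) * zN⁻¹ = zN * o⁻¹ * zN * o * (zN⁻¹ * zN⁻¹) := by group
      _ = zN * o⁻¹ * zN⁻¹ * o := by rw [hzinv, hzz, mul_one]
      _ = (o⁻¹ * (zN * o * zN⁻¹))⁻¹ := by group
  rw [h1.eq, mul_inv_cancel_right] at hinv
  have h0 : o⁻¹ * o' = 1 :=
    eq_one_of_sq_odd (mul_eq_one_iff_eq_inv.2 hinv) (odd_of_mem_core (i.2))
  rw [inv_mul_eq_one, ho', eq_mul_inv_iff_mul_eq] at h0
  exact congrArg Subtype.val h0

/-- With one class of involutions in `N` the group is a target. -/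
theorem target_of_one_class (hN : IsCoatom N) (hC : c.C ≤ N)
    (h : ∀ a b : G, a ∈ N → b ∈ N → orderOf a = 2 → orderOf b = 2 → ∃ k ∈ N, k * a * k⁻¹ = b) :
    IsTarget G := by
  haveI := c.simple
  exact target_of_index_le_five c.noncomm hN.1
    (DGroup.index_le_five c.P c.d c.one_class (c.P_le.trans hC) hC fun a ha b hb => h a b ha hb)

/-- A four-group of `N` modulo the odd core lying in the image of the Sylow subgroup contains the image of
`z` and of a reflection. -/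
theorem klein_lift (hPN : (c.P : Subgroup G) ≤ N) {V : Subgroup (N ⧸ Cfsg.oddCore N)} (hV : IsKleinFour V)
    (hle : V ≤ ((c.P : Subgroup G).subgroupOf N).map (mo N)) :
    mo N ⟨c.d.z, hPN c.z_mem⟩ ∈ V ∧ ∃ a, ∃ ha : c.Refl a, mo N ⟨a, hPN ha.1⟩ ∈ V := by
  classical
  haveI := oddCore_normal (X := N)
  haveI : Fact (Nat.Prime 2) := ⟨Nat.prime_two⟩
  have htriv : ∀ p : N, (p : G) ∈ (c.P : Subgroup G) → p ∈ Cfsg.oddCore N → p = 1 := by
    intro p hp hp'
    obtain ⟨k, hk⟩ := IsPGroup.iff_orderOf.1 c.P.isPGroup' ⟨p, hp⟩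
    rw [Subgroup.orderOf_mk, Subgroup.orderOf_coe] at hk
    exact orderOf_eq_one_iff.1 (Nat.eq_one_of_dvd_coprimes
      (Nat.Coprime.pow_left k (Nat.coprime_two_left.2 (odd_of_mem_core hp'))) (hk ▸ dvd_rfl) dvd_rfl)
  haveI := hV
  obtain ⟨⟨v₁, hv₁⟩, hv₁1⟩ : ∃ v : V, v ≠ 1 := by
    by_contra hall
    push Not at hall
    haveI : Subsingleton V := ⟨fun a b => (hall a).trans (hall b).symm⟩
    have := hV.card_four
    rw [Nat.card_of_subsingleton (1 : V)] at this
    omega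
  obtain ⟨⟨v₂, hv₂⟩, hv₂1, hv₂v⟩ : ∃ v : V, v ≠ 1 ∧ v ≠ ⟨v₁, hv₁⟩ := by
    by_contra hall
    push Not at hall
    haveI := Fintype.ofFinite V
    have hsub : (Finset.univ : Finset V) ⊆ {1, ⟨v₁, hv₁⟩} := fun σ _ => by
      simp only [Finset.mem_insert, Finset.mem_singleton]
      exact (em (σ = 1)).imp_right (hall σ)
    have := (Finset.card_le_card hsub).trans Finset.card_le_two
    rw [Finset.card_univ, ← Nat.card_eq_fintype_card, hV.card_four] at this
    omega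
  obtain ⟨p₁, hp₁, rfl⟩ := hle hv₁
  obtain ⟨p₂, hp₂, rfl⟩ := hle hv₂
  rw [SetLike.mem_coe, Subgroup.mem_subgroupOf] at hp₁ hp₂
  have hsq : ∀ {p : N}, (p : G) ∈ (c.P : Subgroup G) → mo N p ∈ V → p * p = 1 := fun {p} hp hm =>
    htriv _ (mul_mem hp hp) ((mo_ker _).1 (by
      rw [map_mul]; exact congrArg Subtype.val (IsKleinFour.mul_self (⟨_, hm⟩ : V))))
  have h1 : orderOf p₁ = 2 := Invol.order_two_of_sq (hsq hp₁ hv₁) fun e =>
    hv₁1 (Subtype.ext (show mo N p₁ = 1 by rw [e, map_one]))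
  have h2 : orderOf p₂ = 2 := Invol.order_two_of_sq (hsq hp₂ hv₂) fun e =>
    hv₂1 (Subtype.ext (show mo N p₂ = 1 by rw [e, map_one]))
  have hne : (p₁ : G) ≠ p₂ := fun e => hv₂v (Subtype.ext (congrArg (mo N) (Subtype.ext e).symm))
  have hcomm : p₁ * p₂ = p₂ * p₁ := by
    haveI := klein_comm hV
    have hcV : mo N p₁ * mo N p₂ = mo N p₂ * mo N p₁ :=
      congrArg Subtype.val (mul_comm' (⟨_, hv₁⟩ : V) ⟨_, hv₂⟩)
    have : p₁ * p₂ * (p₂ * p₁)⁻¹ = 1 := htriv _ (mul_mem (mul_mem hp₁ hp₂) (inv_mem (mul_mem hp₂ hp₁)))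
      ((mo_ker _).1 (by rw [map_mul, map_inv, map_mul, map_mul, hcV, mul_inv_cancel]))
    exact mul_inv_eq_one.1 this
  set E := Subgroup.closure ({(p₁ : G), (p₂ : G)} : Set G) with hE
  have hK : IsKleinFour E := klein_closure (by rwa [Subgroup.orderOf_coe]) (by rwa [Subgroup.orderOf_coe])
    hne (congrArg Subtype.val hcomm)
  have hEV : ∀ e ∈ E, ∃ he : e ∈ N, mo N ⟨e, he⟩ ∈ V := by
    intro e he
    have : E ≤ (V.comap (mo N)).map N.subtype := (Subgroup.closure_le _).2 (by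
      rintro x (rfl | rfl)
      exacts [⟨p₁, hv₁, rfl⟩, ⟨p₂, hv₂, rfl⟩])
    obtain ⟨n, hn, rfl⟩ := this he
    exact ⟨n.2, hn⟩
  have hEP : E ≤ (c.P : Subgroup G) := (Subgroup.closure_le _).2 (by
    rintro x (rfl | rfl) <;> assumption)
  obtain ⟨hz, u, huE, hux⟩ := c.d.klein_z_mem hK hEP
  exact ⟨(hEV _ hz).2, u, ⟨hEP huE, hux⟩, (hEV _ huE).2⟩

/-- The image of the Sylow subgroup. -/
theorem exists_image_sylow (hPN : (c.P : Subgroup G) ≤ N) :
    ∃ Q : Sylow 2 (N ⧸ Cfsg.oddCore N),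
      (Q : Subgroup _) = ((c.P : Subgroup G).subgroupOf N).map (mo N) ∧
        Nat.card (Q : Subgroup (N ⧸ Cfsg.oddCore N)) = 2 * c.d.m := by
  haveI := oddCore_normal (X := N)
  haveI : Fact (Nat.Prime 2) := ⟨Nat.prime_two⟩
  refine ⟨(c.P.subtype hPN).mapSurjective (QuotientGroup.mk'_surjective _), by
    rw [Sylow.coe_mapSurjective, Sylow.coe_subtype], ?_⟩
  rw [Sylow.coe_mapSurjective, Sylow.coe_subtype, ← c.d.card,
    ← Nat.card_congr (Subgroup.subgroupOfEquivOfLe hPN).toEquiv]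
  let f := (mo N).subgroupMap ((c.P : Subgroup G).subgroupOf N)
  refine (Nat.card_eq_of_bijective f ⟨(injective_iff_map_eq_one f).2 fun p hp => ?_,
    (mo N).subgroupMap_surjective _⟩).symm
  have h1 : (p : N) ∈ Cfsg.oddCore N := (mo_ker _).1 (congrArg Subtype.val hp)
  obtain ⟨k, hk⟩ := IsPGroup.iff_orderOf.1 c.P.isPGroup' ⟨(p : N), Subgroup.mem_subgroupOf.1 p.2⟩
  rw [Subgroup.orderOf_mk, Subgroup.orderOf_coe] at hk
  exact Subtype.ext (orderOf_eq_one_iff.1 (Nat.eq_one_of_dvd_coprimes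
    (Nat.Coprime.pow_left k (Nat.coprime_two_left.2 (odd_of_mem_core h1))) (hk ▸ dvd_rfl) dvd_rfl))

/-- The case of a simple socle. -/
theorem target_of_sock (hN : IsCoatom N) (hC : c.C ≤ N) (hd : DihSylow N) (K : Sock N) : IsTarget G := by
  classical
  haveI : Fact (Nat.Prime 2) := ⟨Nat.prime_two⟩
  haveI := oddCore_normal (X := N)
  haveI := K.normal
  haveI := K.simple
  haveI := c.simple
  have hPN : (c.P : Subgroup G) ≤ N := c.P_le.trans hC
  by_cases hall : ∀ v : N, orderOf v = 2 → v ∈ socPre N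
  · refine c.target_of_one_class hN hC fun a b ha hb ha2 hb2 => ?_
    obtain ⟨g, -, e⟩ := K.one_class hd (u := ⟨a, ha⟩) (v := ⟨b, hb⟩)
      (by rwa [Subgroup.orderOf_mk]) (by rwa [Subgroup.orderOf_mk])
      (hall _ (by rwa [Subgroup.orderOf_mk])) (hall _ (by rwa [Subgroup.orderOf_mk]))
    exact ⟨g, g.2, congrArg Subtype.val e⟩
  exfalso
  push Not at hall
  obtain ⟨v₀, hv₀, hv₀S⟩ := hall
  have hXd : DihSylow (N ⧸ Cfsg.oddCore N) := hd.quotient _ oddCore_odd
  have hout : mo N v₀ ∉ K.L := fun e => hv₀S (K.mem_socPre.2 e)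
  rcases almost_target hXd K.L K.noncomm K.cent K.target with ⟨htop, -⟩ | ⟨F, _, _, hodd, h3, ι, hι, hL, hfld⟩
  · exact hout (htop ▸ Subgroup.mem_top _)
  haveI : IsSimpleGroup (Matrix.ProjectiveSpecialLinearGroup (Fin 2) F) :=
    Matrix.ProjectiveSpecialLinearGroup.rank_two_simple (by rw [Nat.card_eq_fintype_card]; omega)
  have hnc : ¬ IsMulCommutative (Matrix.ProjectiveSpecialLinearGroup (Fin 2) F) := fun hc => by
    have hbot : K.L.map ι = ⊥ := by
      rw [hL, Cfsg.Inn, MonoidHom.range_eq_bot_iff]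
      ext p x
      simp [hc.is_comm.comm p x]
    rw [Subgroup.map_eq_bot_iff_of_injective _ hι] at hbot
    refine K.noncomm ⟨⟨fun a b => Subtype.ext ?_⟩⟩
    have ha : (a : N ⧸ Cfsg.oddCore N) = 1 := Subgroup.mem_bot.1 (hbot.le a.2)
    rw [Subgroup.coe_mul, Subgroup.coe_mul, ha, one_mul, mul_one]
  have hs := socleFacts hXd hnc hodd h3 K.L K.normal K.simple K.noncomm ι hι hL hfld
  obtain ⟨α, β, hf⟩ := outerFacts hXd hnc hodd h3 K.L K.normal K.simple K.noncomm ι hι hL hfld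
    ⟨mo N v₀, invol_mo hv₀, hout⟩
  -- `z` is inner
  obtain ⟨Q, hQ, hQcard⟩ := c.exists_image_sylow hPN
  have hzS : (⟨c.d.z, hPN c.z_mem⟩ : N) ∈ socPre N := by
    obtain ⟨u, v, huL, hvL, hu, hv, hne, huv⟩ := hf.four
    have hK := klein_closure hu hv hne huv
    obtain ⟨R, hR⟩ := (IsPGroup.of_card (p := 2) (n := 2) hK.card_four).exists_le_sylow
    obtain ⟨g, hg⟩ := MulAction.exists_smul_eq (N ⧸ Cfsg.oddCore N) R Q
    set V := (Subgroup.closure ({u, v} : Set (N ⧸ Cfsg.oddCore N))).map (MulAut.conj g).toMonoidHom with hV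
    have hVQ : V ≤ ((c.P : Subgroup G).subgroupOf N).map (mo N) := by
      rw [← hQ, ← hg, Sylow.coe_subgroup_smul]
      exact Subgroup.map_mono hR
    have hVL : V ≤ K.L := by
      rintro _ ⟨x, hx, rfl⟩
      refine K.normal.conj_mem x ?_ g
      exact (Subgroup.closure_le _).2 (by rintro y (rfl | rfl) <;> assumption) hx
    exact K.mem_socPre.2 (hVL (c.klein_lift hPN (TwoFus.klein_map_conj hK g) hVQ).1)
  have hzo : orderOf (⟨c.d.z, hPN c.z_mem⟩ : N) = 2 := by rw [Subgroup.orderOf_mk]; exact c.z_order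
  have hcore := c.core_le_C hN hC
  have hcent : ∀ v : N, v ∈ socPre N → orderOf v = 2 →
      (∀ o ∈ Cfsg.oddCore N, v * o = o * v) ∧ ∀ g : G, g * (v : G) = (v : G) * g → g ∈ N := by
    intro v hv hv2
    refine ⟨K.core_cent hd hzo hv2 hzS hv fun o ho => Subtype.ext (hcore o ho).symm, fun g hg => ?_⟩
    obtain ⟨k, -, hk⟩ := K.one_class hd hzo hv2 hzS hv
    have hk' : (k : G) * c.d.z * (k : G)⁻¹ = v := congrArg Subtype.val hk
    have hmem : (k : G)⁻¹ * g * k ∈ N := hC (c.mem_C.2 (by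
      calc (k : G)⁻¹ * g * k * c.d.z = (k : G)⁻¹ * (g * ((k : G) * c.d.z * (k : G)⁻¹)) * k := by group
        _ = (k : G)⁻¹ * ((k : G) * c.d.z * (k : G)⁻¹ * g) * k := by rw [hk', hg]
        _ = c.d.z * ((k : G)⁻¹ * g * k) := by group))
    have := mul_mem (mul_mem k.2 hmem) (inv_mem k.2)
    rwa [show (k : G) * ((k : G)⁻¹ * g * k) * (k : G)⁻¹ = g by group] at this
  exact c.false_of_pic hC (pic_of_sock hN hd K hf hs ⟨Q, hQcard⟩ hcent) hf.cop hf.alpha hf.beta
    ⟨_, hzS, rfl⟩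

/-- The possibilities for `N`. -/
theorem shape_cases (hN : IsCoatom N) (hC : c.C < N) : IsTarget G ∨ c.FourCase N := by
  classical
  haveI : Fact (Nat.Prime 2) := ⟨Nat.prime_two⟩
  haveI := oddCore_normal (X := N)
  haveI := c.simple
  have hPN : (c.P : Subgroup G) ≤ N := c.P_le.trans hC.le
  have hy : c.Refl c.d.y := ⟨c.d.hy, c.d.ynot⟩
  have hd : DihSylow N := by
    obtain ⟨V, hVP, hV, -, -⟩ := hy.exists_klein
    exact c.dih.sub N hV (hVP.trans hPN)
  have hlt : Nat.card N < Nat.card G :=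
    lt_of_le_of_ne (Subgroup.card_le_card_group N) fun e => hN.1 ((Subgroup.card_eq_iff_eq_top _).1 e)
  have hcore := c.core_le_C hN hC.le
  have hcoreU : ∀ o ∈ Cfsg.oddCore N, (o : G) ∈ c.U := by
    intro o ho
    obtain ⟨w, hw, s, hs, e⟩ := c.U_sup o (c.mem_C.2 (hcore o ho))
    have h2 : w⁻¹ * (o : G) ∈ (c.P : Subgroup G) := by rwa [e, inv_mul_cancel_left]
    obtain ⟨k, hk⟩ := IsPGroup.iff_orderOf.1 c.P.isPGroup' ⟨_, h2⟩
    rw [Subgroup.orderOf_mk] at hk
    set Uc : Subgroup c.C := c.U.subgroupOf c.C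
    haveI : Uc.Normal := ⟨fun x hx g => Subgroup.mem_subgroupOf.2 (by
      simpa using c.U_conj g g.2 x (Subgroup.mem_subgroupOf.1 hx))⟩
    let oc : c.C := ⟨o, c.mem_C.2 (hcore o ho)⟩
    let sc : c.C := ⟨w⁻¹ * o, c.P_le h2⟩
    have heq : QuotientGroup.mk' Uc oc = QuotientGroup.mk' Uc sc := by
      rw [QuotientGroup.mk'_eq_mk']
      refine ⟨⟨(o : G)⁻¹ * w⁻¹ * o, mul_mem (mul_mem (inv_mem oc.2) (inv_mem (c.U_le hw))) oc.2⟩,
        Subgroup.mem_subgroupOf.2 ?_, Subtype.ext ?_⟩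
      · simpa using c.U_conj (o : G)⁻¹ (inv_mem oc.2) _ (inv_mem hw)
      · show (o : G) * ((o : G)⁻¹ * w⁻¹ * o) = w⁻¹ * o
        group
    have h1 : QuotientGroup.mk' Uc oc = 1 := orderOf_eq_one_iff.1 (Nat.eq_one_of_dvd_coprimes
      (Nat.Coprime.pow_left k (Nat.coprime_two_left.2 (odd_of_mem_core ho)))
      ((heq ▸ (orderOf_map_dvd _ sc)).trans (by rw [Subgroup.orderOf_mk, hk]))
      ((orderOf_map_dvd _ oc).trans (by rw [Subgroup.orderOf_mk, Subgroup.orderOf_coe])))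
    exact Subgroup.mem_subgroupOf.1 ((QuotientGroup.eq_one_iff oc).1 h1)
  have hconjlift : ∀ a b : G, a ∈ N → (hb : b ∈ N) → orderOf a = 2 → orderOf b = 2 → ∀ g : N,
      (ha : a ∈ N) → mo N g * mo N ⟨a, ha⟩ * (mo N g)⁻¹ = mo N ⟨b, hb⟩ → ∃ k ∈ N, k * a * k⁻¹ = b := by
    intro a b _ hb ha2 hb2 g ha e
    set w := g * ⟨a, ha⟩ * g⁻¹ with hw
    have hw2 : w * w = 1 := Subtype.ext (sq_one (by
      rw [hw, Subgroup.coe_mul, Subgroup.coe_mul, InvMemClass.coe_inv, Invol.order_conj, ha2]))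
    have hm : w * ⟨b, hb⟩ ∈ Cfsg.oddCore N := (mo_ker _).1 (by
      rw [map_mul, hw, map_mul, map_mul, map_inv, e, ← map_mul,
        show (⟨b, hb⟩ : N) * ⟨b, hb⟩ = 1 from Subtype.ext (sq_one hb2), map_one])
    obtain ⟨d, -, hde⟩ := exists_conj_of_odd_mul hw2 (Subtype.ext (sq_one hb2)) (odd_of_mem_core hm)
    refine ⟨d * g, mul_mem d.2 g.2, ?_⟩
    have := congrArg Subtype.val hde
    rw [hw] at this
    simpa [mul_assoc] using this
  rcases shape_mod_core c.known hd hlt with h2 | ⟨V, hVn, hV, hVC, hcard⟩ | ⟨L, h1, h2, h3, h4, h5⟩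
  · exfalso
    refine hC.not_ge fun n hn => ?_
    obtain ⟨Q, hQ, -⟩ := c.exists_image_sylow hPN
    have htop : (Q : Subgroup (N ⧸ Cfsg.oddCore N)) = ⊤ := by
      obtain ⟨k, hk⟩ := IsPGroup.iff_card.1 h2
      exact (Q.3 (IsPGroup.of_card (p := 2) (n := k) (by rw [Subgroup.card_top, hk])) le_top).symm
    obtain ⟨p, hp, e⟩ := (hQ ▸ htop.ge (Subgroup.mem_top (mo N ⟨n, hn⟩)) :
      mo N ⟨n, hn⟩ ∈ ((c.P : Subgroup G).subgroupOf N).map (mo N))
    have hd' : p⁻¹ * ⟨n, hn⟩ ∈ Cfsg.oddCore N :=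
      (mo_ker _).1 (by rw [map_mul, map_inv, e, inv_mul_cancel])
    have hpC : (p : G) ∈ c.C := c.P_le (Subgroup.mem_subgroupOf.1 hp)
    have := mul_mem hpC (c.mem_C.2 (hcore _ hd'))
    simpa using this
  swap
  · exact Or.inl (c.target_of_sock hN hC.le hd ⟨L, h1, h2, h3, h4, h5⟩)
  haveI := hV
  haveI := hVn
  have hVsq : ∀ {x}, x ∈ V → x * x = 1 := fun {x} hx =>
    congrArg Subtype.val (IsKleinFour.mul_self (⟨x, hx⟩ : V))
  obtain ⟨Q, hQ, hQcard⟩ := c.exists_image_sylow hPN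
  have hVQ : V ≤ ((c.P : Subgroup G).subgroupOf N).map (mo N) :=
    hQ ▸ IsPGroup.le_sylow_of_normal (IsPGroup.of_card (n := 2) hV.card_four) Q
  obtain ⟨hzV, a, ha, haV⟩ := c.klein_lift hPN hV hVQ
  have hidx : V.index = Nat.card (N ⧸ Cfsg.oddCore N) / 4 := by
    rw [← V.card_mul_index, hV.card_four, Nat.mul_div_cancel_left _ (by norm_num)]
  have h3 : 3 ∣ (Subgroup.centralizer (V : Set (N ⧸ Cfsg.oddCore N))).relIndex
      (Subgroup.normalizer (V : Set (N ⧸ Cfsg.oddCore N))) := by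
    rw [hVC, Subgroup.normalizer_eq_top, Subgroup.relIndex_top_right, hidx]
    rcases hcard with e | e <;> rw [e] <;> norm_num
  have hV1 : ∀ {v : G} (hv : v ∈ N), orderOf v = 2 → mo N ⟨v, hv⟩ ≠ 1 := fun hv hv2 e => by
    have := invol_mo (X := N) (v := ⟨_, hv⟩) (by rw [Subgroup.orderOf_mk]; exact hv2)
    rw [e, orderOf_one] at this
    omega
  rcases hcard with h12 | h24
  · -- the alternating group of degree four: one class
    refine Or.inl (c.target_of_one_class hN hC.le fun p r hp hr hp2 hr2 => ?_)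
    have hmemV : ∀ {v : G} (hv : v ∈ N), orderOf v = 2 → mo N ⟨v, hv⟩ ∈ V := by
      intro v hv hv2
      obtain ⟨R, hR⟩ := (IsPGroup.of_card (p := 2) (n := 1)
        (G := Subgroup.zpowers (mo N ⟨v, hv⟩)) (by
          rw [Nat.card_zpowers, invol_mo (by rwa [Subgroup.orderOf_mk]), pow_one])).exists_le_sylow
      have hVR : V ≤ (R : Subgroup (N ⧸ Cfsg.oddCore N)) :=
        IsPGroup.le_sylow_of_normal (IsPGroup.of_card (n := 2) hV.card_four) R
      have hR4 : Nat.card (R : Subgroup (N ⧸ Cfsg.oddCore N)) = 4 := by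
        rw [Sylow.card_eq_multiplicity, h12, show (12 : ℕ) = 2 ^ 2 * 3 by norm_num,
          Nat.factorization_mul (by norm_num) (by norm_num), Finsupp.add_apply,
          Nat.prime_two.factorization_pow, Finsupp.single_eq_same,
          Nat.factorization_eq_zero_of_not_dvd (by norm_num)]
        norm_num
      rw [Subgroup.eq_of_le_of_card_ge hVR (by rw [hR4, hV.card_four])]
      exact hR (Subgroup.mem_zpowers _)
    obtain ⟨g', -, hg', -⟩ := klein_transitive hV h3 (hmemV hp hp2) (hmemV hr hr2) (hV1 hp hp2) (hV1 hr hr2)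
    obtain ⟨g, rfl⟩ := QuotientGroup.mk'_surjective _ g'
    exact hconjlift p r hp hr hp2 hr2 g hp hg'
  right
  have hm : c.d.m = 4 := by
    have : 2 * c.d.m = 8 := by
      rw [← hQcard, Sylow.card_eq_multiplicity, h24, show (24 : ℕ) = 2 ^ 3 * 3 by norm_num,
        Nat.factorization_mul (by norm_num) (by norm_num), Finsupp.add_apply,
        Nat.prime_two.factorization_pow, Finsupp.single_eq_same,
        Nat.factorization_eq_zero_of_not_dvd (by norm_num)]
      norm_num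
    omega
  obtain ⟨g', -, hg', -⟩ := klein_transitive hV h3 hzV haV (hV1 _ c.z_order) (hV1 _ ha.order)
  obtain ⟨g, rfl⟩ := QuotientGroup.mk'_surjective _ g'
  obtain ⟨k, hkN, hk⟩ := hconjlift c.d.z a (hPN c.z_mem) (hPN ha.1) c.z_order ha.order g (hPN c.z_mem) hg'
  -- the odd part of the centraliser is the odd core
  have hUcore : ∀ {w : G} (hw : w ∈ c.U), (⟨w, hC.le (c.U_le hw)⟩ : N) ∈ Cfsg.oddCore N := by
    intro w hw
    set e : N ⧸ Cfsg.oddCore N := mo N ⟨w, hC.le (c.U_le hw)⟩ with he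
    refine (mo_ker _).1 ?_
    have heo : Odd (orderOf e) := (c.odd_of_mem_U hw).of_dvd_nat (by
      rw [he, ← Subgroup.orderOf_mk w (hC.le (c.U_le hw))]
      exact orderOf_map_dvd _ _)
    set zb := mo N ⟨c.d.z, hPN c.z_mem⟩ with hzb
    set ab := mo N ⟨a, hPN ha.1⟩ with hab
    have hez : e * zb * e⁻¹ = zb := by
      rw [he, hzb, ← map_inv, ← map_mul, ← map_mul]
      exact congrArg _ (Subtype.ext (by
        show w * c.d.z * w⁻¹ = c.d.z
        rw [c.mem_C.1 (c.U_le hw), mul_inv_cancel_right]))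
    have hne : zb ≠ ab := fun e' => by
      have hm' : (⟨c.d.z, hPN c.z_mem⟩ : N) * ⟨a, hPN ha.1⟩ ∈ Cfsg.oddCore N :=
        (mo_ker _).1 (by rw [map_mul, ← hzb, ← hab, ← e']; exact hVsq hzV)
      have h1 : orderOf (c.d.z * a) = 2 := ha.mul_z.order
      have := odd_of_mem_core hm'
      rw [← Subgroup.orderOf_coe] at this
      simp only [Subgroup.coe_mul] at this
      rw [h1] at this
      exact absurd this (by decide)
    have hea : e * e * ab * (e * e)⁻¹ = ab := by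
      have h1 : e * ab * e⁻¹ ∈ V := hVn.conj_mem _ haV e
      haveI := klein_comm hV
      have hall : ∀ x ∈ V, x = 1 ∨ x = zb ∨ x = ab ∨ x = zb * ab := by
        intro x hx
        by_contra hno
        push Not at hno
        haveI := Fintype.ofFinite V
        have hsub : ({1, ⟨zb, hzV⟩, ⟨ab, haV⟩, ⟨zb * ab, mul_mem hzV haV⟩, ⟨x, hx⟩} : Finset V).card ≤ 4 := by
          rw [← hV.card_four, Nat.card_eq_fintype_card]
          exact Finset.card_le_univ _
        have z1 : zb ≠ 1 := hV1 _ c.z_order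
        have a1 : ab ≠ 1 := hV1 _ ha.order
        have za1 : zb * ab ≠ 1 := fun e' => hne (by
          rw [mul_eq_one_iff_eq_inv] at e'; rw [e']; exact inv_eq_of_mul_eq_one_right (hVsq haV))
        rw [Finset.card_insert_of_notMem (by simp [Subtype.ext_iff, z1.symm, a1.symm, za1.symm, hno.1.symm]),
          Finset.card_insert_of_notMem (by simp [Subtype.ext_iff, hne, a1, hno.2.1.symm]),
          Finset.card_insert_of_notMem (by simp [Subtype.ext_iff, z1, hno.2.2.1.symm]),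
          Finset.card_insert_of_notMem (by simp [Subtype.ext_iff, hno.2.2.2.symm])] at hsub
        simp at hsub
      rw [show e * e * ab * (e * e)⁻¹ = e * (e * ab * e⁻¹) * e⁻¹ by group]
      rcases hall _ h1 with e' | e' | e' | e'
      · exact absurd (conj_eq_one_iff.1 e') (hV1 _ ha.order)
      · exact absurd (mul_left_cancel (mul_right_cancel (e'.trans hez.symm))) hne.symm
      · rw [e', e']
      · rw [e', ← conj_mul, hez, e', ← mul_assoc, hVsq hzV, one_mul]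
    have hc : e * e ∈ Subgroup.centralizer (V : Set (N ⧸ Cfsg.oddCore N)) := by
      have hclo : V = Subgroup.closure ({zb, ab} : Set (N ⧸ Cfsg.oddCore N)) := by
        have hle : Subgroup.closure ({zb, ab} : Set (N ⧸ Cfsg.oddCore N)) ≤ V :=
          (Subgroup.closure_le _).2 (by rintro y (rfl | rfl) <;> assumption)
        refine (Subgroup.eq_of_le_of_card_ge hle ?_).symm
        rw [hV.card_four, (klein_closure (Invol.order_two_of_sq (hVsq hzV) (hV1 _ c.z_order))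
          (Invol.order_two_of_sq (hVsq haV) (hV1 _ ha.order)) hne
          (congrArg Subtype.val ((klein_comm hV).is_comm.comm (⟨_, hzV⟩ : V) ⟨_, haV⟩))).card_four]
      rw [hclo, Subgroup.centralizer_closure, Subgroup.mem_centralizer_iff]
      rintro y (rfl | rfl)
      · have h1 : e * e * zb * (e * e)⁻¹ = zb := by
          rw [show e * e * zb * (e * e)⁻¹ = e * (e * zb * e⁻¹) * e⁻¹ by group, hez, hez]
        exact (mul_inv_eq_iff_eq_mul.1 h1).symm
      · exact (mul_inv_eq_iff_eq_mul.1 hea).symm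
    rw [hVC] at hc
    have h4 : (e * e) * (e * e) = 1 := hVsq hc
    exact eq_one_of_sq_odd (eq_one_of_sq_odd h4 (heo.of_dvd_nat (by
      rw [← pow_two]; exact orderOf_pow_dvd 2))) heo
  have hnormU : ∀ g ∈ N, ∀ w ∈ c.U, g * w * g⁻¹ ∈ c.U := fun g hg w hw =>
    hcoreU (⟨g, hg⟩ * ⟨w, hC.le (c.U_le hw)⟩ * ⟨g, hg⟩⁻¹)
      ((inferInstance : (Cfsg.oddCore N).Normal).conj_mem _ (hUcore hw) _)
  refine ⟨hN, hC.le, hnormU, hm, a, ha, fun w hw => ?_, fun g₁ hg₁ e => ?_⟩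
  · have h1 := c.mem_C.1 (c.U_le (hnormU k⁻¹ (inv_mem hkN) w hw))
    rw [inv_inv] at h1
    rw [← hk]
    calc w * (k * c.d.z * k⁻¹) = k * (k⁻¹ * w * k * c.d.z) * k⁻¹ := by group
      _ = k * (c.d.z * (k⁻¹ * w * k)) * k⁻¹ := by rw [h1]
      _ = k * c.d.z * k⁻¹ * w := by group
  · have hxN : c.d.x ∈ N := hPN c.d.hx
    have hx : mo N ⟨c.d.x, hxN⟩ ∈ V := by
      have h1 : mo N (⟨g₁, hg₁⟩ * ⟨c.d.z, hPN c.z_mem⟩ * ⟨g₁, hg₁⟩⁻¹) ∈ V := by
        rw [map_mul, map_mul, map_inv]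
        exact hVn.conj_mem _ hzV _
      rw [show (⟨g₁, hg₁⟩ : N) * ⟨c.d.z, hPN c.z_mem⟩ * ⟨g₁, hg₁⟩⁻¹ =
        ⟨c.d.x, hxN⟩ * ⟨a, hPN ha.1⟩ from Subtype.ext e, map_mul] at h1
      exact (Subgroup.mul_mem_cancel_right _ haV).1 h1
    have hxx : (⟨c.d.x, hxN⟩ : N) * ⟨c.d.x, hxN⟩ ∈ Cfsg.oddCore N :=
      (mo_ker _).1 (by rw [map_mul]; exact hVsq hx)
    have h2 : c.d.x * c.d.x = c.d.z := by rw [Dih.z, hm]; norm_num [pow_two]
    have := odd_of_mem_core hxx
    rw [show (⟨c.d.x, hxN⟩ : N) * ⟨c.d.x, hxN⟩ = ⟨c.d.z, hPN c.z_mem⟩ from Subtype.ext h2,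
      Subgroup.orderOf_mk, c.z_order] at this
    exact absurd this (by decide)

end Core

end Cfsg.Agent.GW
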