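import Cfsg.Agent.Lib.GW.DihBasic
import Cfsg.Agent.Lib.GW.Goal
import Cfsg.Agent.Lib.Components.FStar
import Cfsg.Agent.Lib.Components.Fitting
import Cfsg.Agent.Lib.TwoGroups.ThreeAction
import Cfsg.Agent.S0514

/-!
The structure of a group with dihedral Sylow 2-subgroups and trivial odd core, given the simple case.
-/

set_option autoImplicit false

namespace Cfsg.Agent.GW

universe u

variable {X : Type u} [Group X]

theorem eq_bot_of_odd_normal (hO : Cfsg.oddCore X = ⊥) {N : Subgroup X} (hN : N.Normal)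
    (ho : Odd (Nat.card N)) : N = ⊥ :=
  le_bot_iff.1 (hO ▸ le_sSup (show N ∈ {N : Subgroup X | N.Normal ∧ (Nat.card N).Coprime 2} from
    ⟨hN, (Nat.coprime_two_right).2 ho⟩))

/-- The three shapes. -/
def Shape (X : Type u) [Group X] : Prop :=
  IsPGroup 2 X ∨
    (∃ V : Subgroup X, V.Normal ∧ IsKleinFour V ∧ Subgroup.centralizer (V : Set X) = V ∧
      (Nat.card X = 12 ∨ Nat.card X = 24)) ∨
    ∃ L : Subgroup X, L.Normal ∧ IsSimpleGroup L ∧ ¬ IsMulCommutative L ∧ IsTarget L ∧
      Subgroup.centralizer (L : Set X) = ⊥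

theorem klein_comm {U : Subgroup X} (hU : IsKleinFour U) : IsMulCommutative U := by
  haveI := hU
  refine ⟨⟨fun a b => ?_⟩⟩
  have h1 := IsKleinFour.mul_self (a * b)
  have h2 := IsKleinFour.mul_self a
  have h3 := IsKleinFour.mul_self b
  calc a * b = a * b * ((b * a) * (b * a)) := by rw [IsKleinFour.mul_self, mul_one]
    _ = a * (b * b) * a * (b * a) := by group
    _ = b * a := by rw [h3, mul_one, h2, one_mul]

variable [Finite X]

theorem central_case (h : DihSylow X) (hO : Cfsg.oddCore X = ⊥) {z : X} (hz : orderOf z = 2)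
    (hc : ∀ g : X, g * z = z * g) : IsPGroup 2 X := by
  haveI : Fact (Nat.Prime 2) := ⟨Nat.prime_two⟩
  obtain ⟨P, n, hn, e⟩ := h
  obtain ⟨N, hN, ho, k, hk⟩ := S0514.result P n hn e z hz
  have htop : Subgroup.centralizer ({z} : Set X) = ⊤ := by
    rw [eq_top_iff]
    exact fun g _ => Subgroup.mem_centralizer_singleton_iff.2 (hc g)
  set N' := N.map (Subgroup.centralizer ({z} : Set X)).subtype with hN'
  have hN'n : N'.Normal := ⟨fun y hy g => by
    obtain ⟨y, hy', rfl⟩ := hy
    exact ⟨⟨g, htop ▸ Subgroup.mem_top g⟩ * y * ⟨g, htop ▸ Subgroup.mem_top g⟩⁻¹,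
      hN.conj_mem y hy' _, rfl⟩⟩
  have hN'o : Odd (Nat.card N') := by
    rwa [hN', Subgroup.card_map_of_injective (Subgroup.subtype_injective _)]
  have hbot := eq_bot_of_odd_normal hO hN'n hN'o
  rw [hN', Subgroup.map_eq_bot_iff_of_injective _ (Subgroup.subtype_injective _)] at hbot
  subst hbot
  rw [Subgroup.index_bot, htop, Subgroup.card_top] at hk
  exact IsPGroup.of_card hk

theorem klein_case (h : DihSylow X) (hO : Cfsg.oddCore X = ⊥) (V : Subgroup X) (hVn : V.Normal)
    (hV : IsKleinFour V) : Shape X := by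
  classical
  haveI : Fact (Nat.Prime 2) := ⟨Nat.prime_two⟩
  set C := Subgroup.centralizer (V : Set X) with hC
  haveI := hVn
  haveI := klein_comm hV
  have hVC : V ≤ C := Subgroup.le_centralizer_iff_isMulCommutative.2 inferInstance
  have h2mem : ∀ x ∈ C, (∃ j, orderOf x = 2 ^ j) → x ∈ V := by
    rintro x hxC ⟨j, hj⟩
    have hxn : Subgroup.zpowers x ≤ Subgroup.normalizer (V : Set X) := by
      rw [Subgroup.normalizer_eq_top]; exact le_top
    set A := V ⊔ Subgroup.zpowers x with hA
    have hA2 : IsPGroup 2 A := IsPGroup.to_sup_of_normal_left'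
      (IsPGroup.of_card (n := 2) hV.card_four)
      (IsPGroup.of_card (n := j) (by rw [Nat.card_zpowers, hj])) hxn
    haveI : IsMulCommutative A := Subgroup.le_centralizer_iff_isMulCommutative.1 (by
      refine sup_le ?_ ?_ <;> rw [Subgroup.le_centralizer_iff] <;> refine sup_le ?_ ?_
      · exact hVC
      · exact Subgroup.zpowers_le.2 hxC
      · exact Subgroup.le_centralizer_iff.1 (Subgroup.zpowers_le.2 hxC)
      · exact Subgroup.le_centralizer_iff_isMulCommutative.2 inferInstance)
    rcases h.comm_subgroup hA2 inferInstance with hcyc | hle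
    · exact absurd (Subgroup.isCyclic_of_le (le_sup_left : V ≤ A)) (by
        haveI := hV; exact IsKleinFour.not_isCyclic)
    · have : V = A := Subgroup.eq_of_le_of_card_ge le_sup_left (by rw [hV.card_four]; exact hle)
      rw [this]
      exact Subgroup.mem_sup_right (Subgroup.mem_zpowers x)
  -- the odd elements of `C` form a subgroup
  set V' := V.subgroupOf C with hV'
  have hV'card : Nat.card V' = 4 := by
    rw [hV', Nat.card_congr (Subgroup.subgroupOfEquivOfLe hVC).toEquiv, hV.card_four]
  have hcop : (Nat.card V').Coprime V'.index := by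
    rw [hV'card, show 4 = 2 ^ 2 from rfl]
    refine Nat.Coprime.pow_left 2 ((Nat.Prime.coprime_iff_not_dvd Nat.prime_two).2 fun hd => ?_)
    obtain ⟨R, hR⟩ := (IsPGroup.of_card (p := 2) (n := 2) hV'card).exists_le_sylow
    have hRV : (R : Subgroup C) ≤ V' := fun r hr => by
      rw [hV', Subgroup.mem_subgroupOf]
      obtain ⟨j, hj⟩ := IsPGroup.iff_orderOf.1 R.isPGroup' ⟨r, hr⟩
      rw [← Subgroup.orderOf_coe, ← Subgroup.orderOf_coe] at hj
      exact h2mem _ r.2 ⟨j, hj⟩
    have := R.not_dvd_index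
    rw [le_antisymm hRV hR] at this
    exact this hd
  obtain ⟨H, hH⟩ := Subgroup.exists_right_complement'_of_coprime hcop
  have hHodd : Odd (Nat.card H) := by
    have : Nat.card H = V'.index := hH.symm.index_eq_card.symm
    rw [this, ← Nat.coprime_two_right]
    have := hcop
    rw [hV'card, show 4 = 2 ^ 2 from rfl] at this
    exact ((Nat.coprime_pow_left_iff two_pos _ _).1 this).symm
  have hmemH : ∀ c : C, Odd (orderOf c) → c ∈ H := by
    intro c hc
    obtain ⟨⟨v, y⟩, hvy⟩ := hH.2 c
    simp only at hvy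
    have hcomm : Commute (v : C) (y : C) := Subtype.ext
      (Subgroup.mem_centralizer_iff.1 (y : C).2 (((v : C) : X)) v.2)
    have hpow : c ^ Nat.card H = (v : C) ^ Nat.card H := by
      rw [← hvy, hcomm.mul_pow]
      have : ((y : H) : C) ^ Nat.card H = 1 := by
        rw [← SubmonoidClass.coe_pow, pow_card_eq_one', OneMemClass.coe_one]
      rw [this, mul_one]
    have hv4 : (v : C) ^ 4 = 1 := by
      rw [← SubmonoidClass.coe_pow, ← hV'card, pow_card_eq_one', OneMemClass.coe_one]
    have h1 : c ^ (Nat.card H * 4) = 1 := by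
      rw [pow_mul, hpow, ← pow_mul, mul_comm, pow_mul, hv4, one_pow]
    have h2 : orderOf c ∣ Nat.card H :=
      (Nat.Coprime.pow_right 2 (Nat.coprime_two_right.2 hc)).dvd_of_dvd_mul_right
        (orderOf_dvd_of_pow_eq_one h1)
    have h3 : (v : C) ^ Nat.card H = 1 := by rw [← hpow]; exact orderOf_dvd_iff_pow_eq_one.1 h2
    have h4 : (v : C) = 1 := orderOf_eq_one_iff.1 (Nat.eq_one_of_dvd_coprimes
      (Nat.Coprime.pow_left 2 (Nat.coprime_two_left.2 hHodd)) (orderOf_dvd_of_pow_eq_one hv4)
      (orderOf_dvd_of_pow_eq_one h3))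
    rw [← hvy, h4, one_mul]
    exact y.2
  set H' := H.map C.subtype with hH'
  have hH'n : H'.Normal := ⟨fun y hy g => by
    obtain ⟨y, hy', rfl⟩ := hy
    have hCn : C.Normal := inferInstanceAs (Subgroup.centralizer (V : Set X)).Normal
    refine ⟨⟨g * (y : X) * g⁻¹, hCn.conj_mem _ y.2 g⟩, hmemH _ ?_, rfl⟩
    rw [← Subgroup.orderOf_coe]
    show Odd (orderOf (MulAut.conj g (y : X)))
    rw [MulEquiv.orderOf_eq, Subgroup.orderOf_coe, ← Subgroup.orderOf_mk _ hy']
    exact hHodd.of_dvd_nat (orderOf_dvd_natCard _)⟩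
  have hbot := eq_bot_of_odd_normal hO hH'n
    (by rwa [hH', Subgroup.card_map_of_injective (Subgroup.subtype_injective _)])
  rw [hH', Subgroup.map_eq_bot_iff_of_injective _ (Subgroup.subtype_injective _)] at hbot
  have hVeq : C = V := by
    refine le_antisymm (fun c hc => ?_) hVC
    obtain ⟨⟨v, y⟩, hvy⟩ := hH.2 ⟨c, hc⟩
    have hy : (y : C) = 1 := by
      have := y.2
      simp only [hbot, Subgroup.mem_bot] at this
      exact this
    simp only [hy, mul_one] at hvy
    have hv : ((v : C) : X) = c := congrArg Subtype.val hvy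
    rw [← hv]
    exact v.2
  have hidx : C.index ∣ 6 := by
    have := TwoFus.klein_relIndex_dvd (G := X) hV
    rwa [Subgroup.normalizer_eq_top, Subgroup.relIndex_top_right] at this
  have hcard : Nat.card X = 4 * C.index := by
    rw [← Subgroup.card_mul_index C, hVeq, hV.card_four]
  have : C.index = 1 ∨ C.index = 2 ∨ C.index = 3 ∨ C.index = 6 := by
    have := Nat.le_of_dvd (by norm_num) hidx
    interval_cases C.index <;> omega
  rcases this with e | e | e | e
  · exact Or.inl (IsPGroup.of_card (n := 2) (by rw [hcard, e]; rfl))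
  · exact Or.inl (IsPGroup.of_card (n := 3) (by rw [hcard, e]; rfl))
  · exact Or.inr (Or.inl ⟨V, hVn, hV, hVeq, Or.inl (by rw [hcard, e])⟩)
  · exact Or.inr (Or.inl ⟨V, hVn, hV, hVeq, Or.inr (by rw [hcard, e])⟩)

theorem fitting_case (h : DihSylow X) (hO : Cfsg.oddCore X = ⊥)
    (hF : Cfsg.fittingSubgroup X ≠ ⊥) : Shape X := by
  classical
  haveI : Fact (Nat.Prime 2) := ⟨Nat.prime_two⟩
  set F := Cfsg.fittingSubgroup X with hFdef
  haveI : F.Normal := Components.fittingSubgroup_normal
  haveI : Group.IsNilpotent F := Components.fittingSubgroup_nilpotent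
  haveI : Nontrivial F := (Subgroup.nontrivial_iff_ne_bot F).2 hF
  set Z := (Subgroup.center F).map F.subtype with hZ
  have hZ1 : Z ≠ ⊥ := by
    rw [hZ, ne_eq, Subgroup.map_eq_bot_iff_of_injective _ F.subtype_injective]
    exact Group.IsNilpotent.center_ne_bot _
  have hZn : Z.Normal := inferInstance
  haveI hZc : IsMulCommutative Z := Subgroup.map_isMulCommutative _ _
  have hZcomm : ∀ a ∈ Z, ∀ b ∈ Z, a * b = b * a := fun a ha b hb =>
    congrArg Subtype.val (hZc.is_comm.comm (⟨a, ha⟩ : Z) ⟨b, hb⟩)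
  let E : Subgroup X :=
    { carrier := {a | a ∈ Z ∧ a * a = 1}
      one_mem' := ⟨one_mem Z, one_mul 1⟩
      mul_mem' := fun {a b} ha hb => ⟨mul_mem ha.1 hb.1, by
        rw [mul_assoc, ← mul_assoc b a b, ← hZcomm a ha.1 b hb.1, mul_assoc a b b, hb.2, mul_one, ha.2]⟩
      inv_mem' := fun {a} ha => ⟨inv_mem ha.1, by rw [← mul_inv_rev, ha.2, inv_one]⟩ }
  have hEsq : ∀ a ∈ E, a * a = 1 := fun a ha => ha.2
  have hEn : E.Normal := ⟨fun a ha g => ⟨hZn.conj_mem a ha.1 g, by
    rw [show g * a * g⁻¹ * (g * a * g⁻¹) = g * (a * a) * g⁻¹ by group, ha.2, mul_one,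
      mul_inv_cancel]⟩⟩
  have hEc : IsMulCommutative E := ⟨⟨fun a b => Subtype.ext (hZcomm a a.2.1 b b.2.1)⟩⟩
  have h2Z : 2 ∣ Nat.card Z := by
    by_contra hno
    exact hZ1 (eq_bot_of_odd_normal hO hZn (Nat.odd_iff.2 (by omega)))
  obtain ⟨z, hz⟩ := exists_prime_orderOf_dvd_card' 2 h2Z
  have hzE : (z : X) ∈ E := ⟨z.2, by
    rw [← pow_two, ← SubmonoidClass.coe_pow, ← hz, pow_orderOf_eq_one, OneMemClass.coe_one]⟩
  have hzX : orderOf (z : X) = 2 := by rw [Subgroup.orderOf_coe, hz]
  have hle := h.elementary hEc hEsq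
  obtain ⟨j, hj⟩ := IsPGroup.iff_card.1
    (show IsPGroup 2 E from fun a => ⟨1, Subtype.ext (by rw [pow_one, pow_two]; exact hEsq a a.2)⟩)
  have hj1 : 1 ≤ j := by
    by_contra hj0
    have he : Nat.card E = 1 := by rw [hj, show j = 0 by omega, pow_zero]
    have := (Subgroup.eq_bot_of_card_eq E he) ▸ hzE
    rw [Subgroup.mem_bot] at this
    rw [this, orderOf_one] at hzX
    omega
  have hj2 : j ≤ 2 := (Nat.pow_le_pow_iff_right one_lt_two).1 (by rw [← hj]; exact hle)
  interval_cases j
  · refine Or.inl (central_case h hO hzX fun g => ?_)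
    have hall : Subgroup.zpowers (z : X) = E := Subgroup.eq_of_le_of_card_ge
      (Subgroup.zpowers_le.2 hzE) (by rw [hj, Nat.card_zpowers, hzX, pow_one])
    have hg : g * (z : X) * g⁻¹ ∈ Subgroup.zpowers (z : X) := hall ▸ hEn.conj_mem _ hzE g
    obtain ⟨i, hi⟩ := hg
    simp only at hi
    rw [← mul_inv_eq_iff_eq_mul]
    rcases Int.even_or_odd i with ⟨m, rfl⟩ | ⟨m, rfl⟩
    · exfalso
      rw [← two_mul, zpow_mul, show (2 : ℤ) = ((2 : ℕ) : ℤ) from rfl, zpow_natCast, pow_two, hzE.2,
        one_zpow, eq_comm, conj_eq_one_iff] at hi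
      rw [hi, orderOf_one] at hzX
      omega
    · rw [← hi, zpow_add, zpow_mul, show (2 : ℤ) = ((2 : ℕ) : ℤ) from rfl, zpow_natCast, pow_two,
        hzE.2, one_zpow, one_mul, zpow_one]
  · have hV : IsKleinFour E := ⟨by rw [hj]; rfl, by
      refine ((Monoid.exponent_dvd_iff_forall_pow_eq_one.2 fun a => Subtype.ext (by
        rw [SubmonoidClass.coe_pow, pow_two]; exact hEsq a a.2)).antisymm ?_)
      have := Monoid.order_dvd_exponent (⟨z, hzE⟩ : E)
      rwa [Subgroup.orderOf_mk, hzX] at this⟩
    exact klein_case h hO E hEn hV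

/-- The structure theorem. -/
theorem shape (h : DihSylow X) (hO : Cfsg.oddCore X = ⊥)
    (hK : ∀ L : Subgroup X, L.Normal → IsSimpleGroup L → DihSylow L → IsTarget L) : Shape X := by
  classical
  haveI : Fact (Nat.Prime 2) := ⟨Nat.prime_two⟩
  by_cases hF : Cfsg.fittingSubgroup X = ⊥
  swap
  · exact fitting_case h hO hF
  have hFs : Cfsg.generalizedFittingSubgroup X = Cfsg.layer X := by
    rw [Cfsg.generalizedFittingSubgroup, hF, sup_bot_eq]
  have hZ : ∀ L : Subgroup X, Cfsg.IsComponent L → L ⊓ Subgroup.centralizer (L : Set X) = ⊥ := by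
    intro L hL
    letI : CommGroup ↥(Subgroup.center ↥L) :=
      { (inferInstance : Group ↥(Subgroup.center ↥L)) with
        mul_comm := fun a b => Subtype.ext (Subgroup.mem_center_iff.1 b.2 a) }
    rw [← le_bot_iff, ← hF, ← Components.center_map_subtype]
    exact Components.subnormal_nilpotent_le_fitting
      ((inferInstance : (Subgroup.center ↥L).Normal).isSubnormal.trans' hL.1)
      (Group.nilpotent_of_mulEquiv ((Subgroup.center ↥L).equivMapOfInjective _ L.subtype_injective))
  have hsimple : ∀ L : Subgroup X, Cfsg.IsComponent L → IsSimpleGroup ↥L := by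
    intro L hL
    have hc : Subgroup.center ↥L = ⊥ := by
      rw [← Subgroup.map_eq_bot_iff_of_injective (f := L.subtype) _ L.subtype_injective,
        Components.center_map_subtype, hZ L hL]
    haveI := hL.2.2
    exact ((QuotientGroup.quotientMulEquivOfEq hc).trans
      QuotientGroup.quotientBot).isSimpleGroup_congr.1 inferInstance
  have hklein : ∀ L : Subgroup X, Cfsg.IsComponent L → ∃ U : Subgroup X, U ≤ L ∧ IsKleinFour U := by
    intro L hL
    haveI := hsimple L hL
    obtain ⟨U, hU⟩ := S0204.result (G := L) fun hcyc =>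
      Components.quasisimple_not_commutative hL.2 hcyc.isMulCommutative
    exact ⟨U.map L.subtype, Subgroup.map_subtype_le U, TwoFus.map_klein hU⟩
  have huniq : ∀ L M : Subgroup X, Cfsg.IsComponent L → Cfsg.IsComponent M → L = M := by
    intro L M hL hM
    by_contra hne
    have hcomm := Subgroup.commutator_eq_bot_iff_le_centralizer.1
      (Components.components_commute hL hM hne)
    obtain ⟨U, hUL, hU⟩ := hklein L hL
    obtain ⟨U', hUM, hU'⟩ := hklein M hM
    have hc : U ≤ Subgroup.centralizer (U' : Set X) :=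
      (hUL.trans hcomm).trans (Subgroup.centralizer_le (SetLike.coe_subset_coe.2 hUM))
    haveI := hU
    haveI := hU'
    haveI := klein_comm hU
    haveI := klein_comm hU'
    set A := U ⊔ U' with hA
    haveI hAc : IsMulCommutative A := Subgroup.le_centralizer_iff_isMulCommutative.1 (by
      refine sup_le ?_ ?_ <;> rw [Subgroup.le_centralizer_iff] <;> refine sup_le ?_ ?_
      · exact Subgroup.le_centralizer_iff_isMulCommutative.2 inferInstance
      · exact Subgroup.le_centralizer_iff.1 hc
      · exact hc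
      · exact Subgroup.le_centralizer_iff_isMulCommutative.2 inferInstance)
    have hsq : ∀ a ∈ A, a * a = 1 := by
      intro a ha
      rw [hA, ← SetLike.mem_coe, Subgroup.coe_mul_of_left_le_normalizer_right _ _
        (hc.trans (Subgroup.centralizer_le_normalizer _))] at ha
      obtain ⟨x, hx, y, hy, rfl⟩ := Set.mem_mul.1 ha
      have hxy : y * x = x * y := Subgroup.mem_centralizer_iff.1 (hc hx) y hy
      have ex : x * x = 1 := congrArg Subtype.val (IsKleinFour.mul_self (⟨x, hx⟩ : U))
      have ey : y * y = 1 := congrArg Subtype.val (IsKleinFour.mul_self (⟨y, hy⟩ : U'))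
      rw [mul_assoc, ← mul_assoc y x y, hxy, mul_assoc x y y, ey, mul_one, ex]
    have h4 := h.elementary hAc hsq
    have e1 : U = A := Subgroup.eq_of_le_of_card_ge le_sup_left (by rw [hU.card_four]; exact h4)
    have e2 : U' = A := Subgroup.eq_of_le_of_card_ge le_sup_right (by rw [hU'.card_four]; exact h4)
    have h5 : U ≤ L ⊓ Subgroup.centralizer (L : Set X) := fun a ha => ⟨hUL ha, by
      have haM : a ∈ M := hUM (by rw [e2, ← e1]; exact ha)
      exact (Subgroup.le_centralizer_iff.1 hcomm) haM⟩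
    rw [hZ L hL, le_bot_iff] at h5
    have := hU.card_four
    rw [h5, Subgroup.card_bot] at this
    omega
  rcases (subsingleton_or_nontrivial X) with hsub | hnt
  · exact Or.inl (IsPGroup.of_card (n := 0) (by simp))
  obtain ⟨L, hL⟩ : ∃ L : Subgroup X, Cfsg.IsComponent L := by
    by_contra hno
    push Not at hno
    have hlay : Cfsg.layer X = ⊥ := le_bot_iff.1 (Components.layer_le_iff.2 fun L hL => absurd hL (hno L))
    have := Components.centralizer_generalizedFitting_le (G := X)
    rw [hFs, hlay] at this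
    exact (top_ne_bot (α := Subgroup X)) (le_bot_iff.1 (fun g _ => this
      (Subgroup.mem_centralizer_iff.2 fun a ha => by
        rw [Subgroup.mem_bot.1 ha, one_mul, mul_one])))
  have hLF : Cfsg.layer X = L := le_antisymm
    (Components.layer_le_iff.2 fun M hM => (huniq M L hM hL).le) (Components.component_le_layer hL)
  have hLn : L.Normal := hLF ▸ Components.layer_normal
  have hnc := Components.quasisimple_not_commutative hL.2
  have hd : DihSylow L := h.of_normal L (hsimple L hL) hnc
  refine Or.inr (Or.inr ⟨L, hLn, hsimple L hL, hnc, hK L hLn (hsimple L hL) hd, ?_⟩)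
  have hC := Components.centralizer_generalizedFitting_le (G := X)
  rw [hFs, hLF] at hC
  rw [← le_bot_iff, ← hZ L hL]
  exact le_inf hC le_rfl

end Cfsg.Agent.GW
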