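import Cfsg.Agent.Lib.GW.TorusFacts
import Cfsg.Agent.Lib.GW.TorusSeven
import Cfsg.Agent.Lib.GW.Sock

/-!
In a section, the elements of odd order centralising an inner involution and inverted by some involution
lie in a cyclic group modulo the odd core.
-/

set_option autoImplicit false
set_option linter.unusedSectionVars false
set_option linter.style.haveILetI false

namespace Cfsg.Agent.GW

open Cfsg.Agent.TwoFus Subgroup Matrix Cfsg.Agent.AutPSL

universe u

local notation "P2" F => Matrix.ProjectiveSpecialLinearGroup (Fin 2) F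

variable {X : Type u} [Group X] [Finite X]

theorem Sock.exists_torus (K : Sock X) (h : DihSylow X) {z : X} (hz : orderOf z = 2) (hz' : z ∈ socPre X) :
    ∃ T : Subgroup (X ⧸ Cfsg.oddCore X), IsCyclic T ∧ ∀ w r : X, w * w = 1 → Odd (orderOf r) →
      r * z = z * r → w * r * w⁻¹ = r⁻¹ → mo X r ∈ T := by
  have hd : DihSylow (X ⧸ Cfsg.oddCore X) := h.quotient _ oddCore_odd
  haveI := K.normal
  haveI := K.simple
  rcases almost_target hd K.L K.noncomm K.cent K.target with ⟨-, ⟨e⟩⟩ | ⟨F, _, _, hodd, h3, ι, hι, hL, hfld⟩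
  · obtain ⟨TL, hcyc, -, hmem⟩ := seven_torus e (invol_mo hz)
    refine ⟨TL, hcyc, fun w r _ hr hrz _ => hmem _ ?_ (hr.of_dvd_nat (orderOf_map_dvd _ r))⟩
    rw [← map_mul, ← map_mul, hrz]
  · haveI : IsSimpleGroup (P2 F) :=
      Matrix.ProjectiveSpecialLinearGroup.rank_two_simple (by rw [Nat.card_eq_fintype_card]; omega)
    have hnc : ¬ IsMulCommutative (P2 F) := fun hc => K.noncomm (by
      have hbot : K.L.map ι = ⊥ := by
        rw [hL, Cfsg.Inn, MonoidHom.range_eq_bot_iff]
        ext p x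
        simp [hc.is_comm.comm p x]
      rw [Subgroup.map_eq_bot_iff_of_injective _ hι] at hbot
      rw [hbot]
      exact ⟨⟨fun a b => Subsingleton.elim _ _⟩⟩)
    obtain ⟨TL, -, hcyc, -, -, hoddT, -, -⟩ :=
      torus_sub hd hnc hodd h3 K.L K.normal K.simple K.noncomm ι hι hL hfld (mo X z) (K.mem_socPre.1 hz') (invol_mo hz)
    refine ⟨TL, hcyc, fun w r hw hr hrz hwr => hoddT _ ?_ ?_ (hr.of_dvd_nat (orderOf_map_dvd _ r))⟩
    · exact (socleFacts hd hnc hodd h3 K.L K.normal K.simple K.noncomm ι hι hL hfld).inverted_mem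
        (mo X w) (mo X r) (by rw [← map_mul, hw, map_one]) (hr.of_dvd_nat (orderOf_map_dvd _ r))
        (by rw [← map_inv, ← map_mul, ← map_mul, hwr, map_inv])
    · rw [← map_mul, ← map_mul, hrz]

end Cfsg.Agent.GW
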