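import Cfsg.Agent.Lib.GW.TransBasic
import Cfsg.Agent.Lib.GW.Planar

/-!
A mixed abelian subgroup with normal inverted line and fixed part bigger than a line: impossible.
-/

set_option autoImplicit false
set_option linter.unusedSectionVars false
set_option linter.style.haveILetI false

namespace Cfsg.Agent.GW

open Cfsg.Agent.TwoFus Cfsg.Agent.BenderUnique Subgroup

universe u

/-- The numerical inequality of the translation case with a reflection mixed nowhere. -/
theorem num_tr_inv {q c k M I J : ℕ} (hI : 16 * I ≤ 15 * M ^ 2) (hJ : (c - 1) * (c - 2) ≤ 2 * J)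
    (hq : 3 ≤ q) (hqc : 4 * q ^ 2 ≤ c) (hM : 4 * q ^ 2 * M ≤ (8 * q ^ 3 + c) * c)
    (hk : k ≤ q * (q + 1)) : I * k < q * (q - 1) * (J - 1) * J := by
  have hc : 36 ≤ c := le_trans (by nlinarith) hqc
  have h4 := four_mul_le (by omega) hJ
  -- everything over the reals
  have key : 15 * ((8 * q ^ 3 + c : ℕ) * c) ^ 2 * (q * (q + 1)) <
      64 * q ^ 4 * (q * (q - 1)) * (c * (c - 3) * ((c - 1) * (c - 2))) := by
    have h1 : 3 * q ≤ c := by nlinarith
    have hsq : (8 * q ^ 3 + c) ^ 2 ≤ 2 * (8 * q ^ 3) ^ 2 + 2 * c ^ 2 := by nlinarith [sq_nonneg ((8 * q ^ 3 : ℤ) - c)]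
    have hp : 3 * (q + 1) ≤ 4 * q := by omega
    have hm : 2 * q ≤ 3 * (q - 1) := by omega
    have h6 : 21 * c ^ 4 ≤ 25 * (c * (c - 3) * ((c - 1) * (c - 2))) := by
      obtain ⟨d, rfl⟩ : ∃ d, c = d + 36 := ⟨c - 36, by omega⟩
      rw [show d + 36 - 3 = d + 33 by omega, show d + 36 - 1 = d + 35 by omega,
        show d + 36 - 2 = d + 34 by omega]
      nlinarith [Nat.zero_le (d * d * d), Nat.zero_le (d * d), Nat.zero_le d, Nat.zero_le (d * d * d * d)]
    have hc2 : 16 * q ^ 4 ≤ c ^ 2 := by nlinarith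
    have hq4 : 81 ≤ q ^ 4 := le_trans (by norm_num) (Nat.pow_le_pow_left hq 4)
    -- left side
    have hL : 27 * (15 * ((8 * q ^ 3 + c) * c) ^ 2 * (q * (q + 1))) ≤ (480 + 18) * q ^ 4 * (q * q) * c ^ 4 := by
      calc 27 * (15 * ((8 * q ^ 3 + c) * c) ^ 2 * (q * (q + 1)))
          = 9 * (15 * c ^ 2 * (8 * q ^ 3 + c) ^ 2 * q * (3 * (q + 1))) := by ring
        _ ≤ 9 * (15 * c ^ 2 * (2 * (8 * q ^ 3) ^ 2 + 2 * c ^ 2) * q * (4 * q)) :=
          Nat.mul_le_mul_left _ (Nat.mul_le_mul (Nat.mul_le_mul_right _ (Nat.mul_le_mul_left _ hsq)) hp)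
        _ = 480 * c ^ 2 * (9 * q ^ 4) * (16 * q ^ 4) + 1080 * c ^ 4 * (q * q) := by ring
        _ ≤ 480 * c ^ 2 * (q ^ 4 * (q * q)) * c ^ 2 + 18 * q ^ 4 * c ^ 4 * (q * q) := by
          refine Nat.add_le_add (Nat.mul_le_mul (Nat.mul_le_mul_left _ ?_) hc2)
            (Nat.mul_le_mul_right _ (Nat.mul_le_mul_right _ (by omega)))
          rw [mul_comm 9]
          exact Nat.mul_le_mul_left _ (by nlinarith)
        _ = (480 + 18) * q ^ 4 * (q * q) * c ^ 4 := by ring
    -- right side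
    have hR : 64 * 2 * 21 * q ^ 4 * (q * q) * c ^ 4 ≤
        75 * (64 * q ^ 4 * (q * (q - 1)) * (c * (c - 3) * ((c - 1) * (c - 2)))) := by
      calc 64 * 2 * 21 * q ^ 4 * (q * q) * c ^ 4 = 64 * q ^ 4 * q * (2 * q) * (21 * c ^ 4) := by ring
        _ ≤ 64 * q ^ 4 * q * (3 * (q - 1)) * (25 * (c * (c - 3) * ((c - 1) * (c - 2)))) :=
          Nat.mul_le_mul (Nat.mul_le_mul_left _ hm) h6
        _ = _ := by ring
    have hpos : 0 < q ^ 4 * (q * q) * c ^ 4 := by positivity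
    nlinarith
  have hM2 : (4 * q ^ 2 * M) ^ 2 ≤ ((8 * q ^ 3 + c) * c) ^ 2 := Nat.pow_le_pow_left hM 2
  have hI2 : 256 * q ^ 4 * I ≤ 15 * ((8 * q ^ 3 + c) * c) ^ 2 := by
    calc 256 * q ^ 4 * I = 16 * q ^ 4 * (16 * I) := by ring
      _ ≤ 16 * q ^ 4 * (15 * M ^ 2) := Nat.mul_le_mul_left _ hI
      _ = 15 * (4 * q ^ 2 * M) ^ 2 := by ring
      _ ≤ _ := Nat.mul_le_mul_left _ hM2
  refine Nat.lt_of_mul_lt_mul_left (a := 256 * q ^ 4) ?_
  calc 256 * q ^ 4 * (I * k) = 256 * q ^ 4 * I * k := by ring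
    _ ≤ 15 * ((8 * q ^ 3 + c) * c) ^ 2 * (q * (q + 1)) := Nat.mul_le_mul hI2 hk
    _ < 64 * q ^ 4 * (q * (q - 1)) * (c * (c - 3) * ((c - 1) * (c - 2))) := key
    _ ≤ 64 * q ^ 4 * (q * (q - 1)) * (4 * ((J - 1) * J)) := Nat.mul_le_mul_left _ h4
    _ = 256 * q ^ 4 * (q * (q - 1) * (J - 1) * J) := by ring

namespace Core

variable {G : Type u} [Group G] [Finite G] {c : Core G} {a : G} {q : ℕ} [hq : Fact q.Prime]

/-- The index of `W` in terms of the conjugates of a subgroup centralised by the four-group. -/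
theorem m_mul_relIndex_mul (ha : c.Refl a) {X : Subgroup G}
    (hX : X ≤ centralizer ({c.d.z, a} : Set G)) :
    c.d.m * (c.W a).relIndex c.U * (normalizer (X : Set G)).relIndex (c.W a) =
      2 * (normalizer (X : Set G)).relIndex c.C *
        (centralizer ({a} : Set G)).relIndex (normalizer (X : Set G) ⊓ c.C) := by
  set H := normalizer (X : Set G) with hH
  set K' := centralizer ({c.d.z, a} : Set G) with hK'
  set K := centralizer ({a} : Set G) ⊓ (H ⊓ c.C) with hK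
  have hK'C : K' ≤ c.C := centralizer_le (by simp)
  have hKeq : K = K' ⊓ H := by
    ext g
    rw [hK, hK', mem_inf, mem_inf, mem_inf, mem_centralizer_singleton_iff, c.mem_C, mem_centralizer_iff]
    constructor
    · rintro ⟨h1, h2, h3⟩
      refine ⟨?_, h2⟩
      rintro _ (rfl | rfl)
      exacts [h3.symm, h1.symm]
    · rintro ⟨h1, h2⟩
      exact ⟨(h1 a (Or.inr rfl)).symm, h2, (h1 c.d.z (Or.inl rfl)).symm⟩
  have hzW : H.relIndex K' = H.relIndex (c.W a) := by
    rw [hH, ← card_conjugates_in, ← card_conjugates_in]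
    refine Nat.card_congr (Equiv.subtypeEquivRight fun Q => ⟨?_, ?_⟩)
    · rintro ⟨g, hg, rfl⟩
      obtain ⟨w, hw, v, hv, rfl⟩ := c.klein_cent_eq ha hg
      refine ⟨w, hw, ?_⟩
      rw [← map_conj_mul]
      congr 1
      refine map_conj_eq_self (centralizer_le_normalizer _ (mem_centralizer_iff.2 fun y hy => ?_))
      have h2 : y * c.d.z = c.d.z * y := (mem_centralizer_iff.1 (hX hy) _ (Or.inl rfl)).symm
      have h3 : y * a = a * y := (mem_centralizer_iff.1 (hX hy) _ (Or.inr rfl)).symm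
      rcases hv with rfl | rfl | rfl | rfl
      · rw [mul_one, one_mul]
      · exact h2
      · exact h3
      · exact ((show Commute y c.d.z from h2).mul_right h3).eq
    · rintro ⟨g, hg, rfl⟩
      refine ⟨g, mem_centralizer_iff.2 ?_, rfl⟩
      rintro _ (rfl | rfl)
      exacts [(ha.W_comm hg).1.symm, (ha.W_comm hg).2.1.symm]
  have h1 : K.relIndex (H ⊓ c.C) * (H ⊓ c.C).relIndex c.C = K.relIndex K' * K'.relIndex c.C := by
    rw [relIndex_mul_relIndex _ _ _ inf_le_right inf_le_right,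
      relIndex_mul_relIndex _ _ _ (hKeq ▸ inf_le_left) hK'C]
  rw [show K.relIndex (H ⊓ c.C) = (centralizer ({a} : Set G)).relIndex (H ⊓ c.C) from inf_relIndex_right _ _,
    inf_relIndex_right, show K.relIndex K' = H.relIndex K' by rw [hKeq, inf_relIndex_left], hzW] at h1
  have h2 := relIndex_mul_relIndex (⊥ : Subgroup G) K' c.C bot_le hK'C
  rw [relIndex_bot_left, relIndex_bot_left, c.C_card, hK', c.klein_cent_card ha,
    ← c.relIndex_mul_card_W a, ← hK'] at h2
  have h3 : c.d.m * (c.W a).relIndex c.U = 2 * K'.relIndex c.C :=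
    Nat.eq_of_mul_eq_mul_right (m := 2 * Nat.card (c.W a)) (Nat.mul_pos two_pos Nat.card_pos) (by linarith)
  rw [h3]
  calc 2 * K'.relIndex c.C * H.relIndex (c.W a) = 2 * (H.relIndex (c.W a) * K'.relIndex c.C) := by ring
    _ = 2 * ((centralizer ({a} : Set G)).relIndex (H ⊓ c.C) * H.relIndex c.C) := by rw [h1]
    _ = _ := by ring

namespace NormalLine

variable {A : Subgroup G} {f : G} (L : c.NormalLine a q A f)

include L

theorem disjoint : ∀ y ∈ zpowers f, y ∈ c.W a → y = 1 := by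
  intro y hy hyW
  obtain ⟨i, rfl⟩ := hy
  simp only at hyW ⊢
  have h1 : a * f ^ i * a⁻¹ = (f ^ i)⁻¹ := by rw [← conj_zpow, L.inv, inv_zpow]
  have h2 : a * f ^ i * a⁻¹ = f ^ i := mul_inv_eq_iff_eq_mul.2 ((L.refl.mem_W.1 hyW).2).symm
  exact eq_one_of_sq_odd (by nth_rewrite 1 [h2.symm.trans h1]; rw [inv_mul_cancel])
    (c.odd_of_mem_U (L.refl.W_le hyW))

/-- An element of `W` translating fixes the fixed part. -/
theorem W_trans {w e : G} (hw : w ∈ c.W a) (hwt : w ∈ transBy (A ⊓ c.W a) (zpowers f))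
    (he : e ∈ A ⊓ c.W a) : w * e = e * w :=
  mul_inv_eq_iff_eq_mul.1 (mul_inv_eq_one.1 (L.disjoint _ (hwt.2 e he)
    (mul_mem (mul_mem (mul_mem hw he.2) (inv_mem hw)) (inv_mem he.2))))

theorem trans_false (hS : c.SecAll) (hcard : q < Nat.card (A ⊓ c.W a : Subgroup G))
    (hside : (c.W (c.d.x * a)).relIndex c.U ≤ (c.W a).relIndex c.U ∨ c.NeverMixed (c.d.x * a)) :
    False := by
  classical
  haveI : Finite (Subgroup G) :=
    Finite.of_injective (fun H : Subgroup G => (H : Set G)) SetLike.coe_injective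
  haveI : Fintype (Subgroup G) := Fintype.ofFinite _
  haveI : Fintype G := Fintype.ofFinite G
  have ha := L.refl
  have hq2 := L.ne_two
  have hqp : q.Prime := hq.out
  have hq3 : 3 ≤ q := by
    have := hqp.two_le
    omega
  set E := A ⊓ c.W a with hE
  set Z := zpowers f with hZ
  have hEA : E ≤ A := inf_le_left
  have hZA : Z ≤ A := zpowers_le.2 L.mem
  obtain ⟨e₀, he₀, he₀1⟩ : ∃ e₀ ∈ E, e₀ ≠ 1 := by
    obtain ⟨⟨e, he⟩, he1⟩ := Subgroup.ne_bot_iff_exists_ne_one.1 L.h.fix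
    exact ⟨e, he, fun h => he1 (Subtype.ext h)⟩
  have he₀o : orderOf e₀ = q := L.h.order (hEA he₀) he₀1
  set X := zpowers e₀ with hX
  have hXE : X ≤ E := zpowers_le.2 he₀
  have hX0 : X ≠ ⊥ := fun e => he₀1 (mem_bot.1 (e ▸ mem_zpowers e₀))
  set H := normalizer (X : Set G) with hH
  obtain ⟨hI, hO⟩ := L.h.local_inner ha L.hC hq2 hX0 hXE (H := H) (centralizer_le_normalizer _) le_rfl
  obtain ⟨T, cc, hTc, hTmem, hTcc, horb, -, hbranch⟩ := hS a H ha hI hO
  have hAH : A ≤ H := (L.h.comm.trans (centralizer_le (hXE.trans hEA))).trans (centralizer_le_normalizer _)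
  have hfT : f ∈ T := (hTmem f).2 ⟨hAH L.mem, L.h.le_U hq2 L.mem, L.inv⟩
  set U0 := c.U ⊓ transBy E Z with hU0
  set K := U0 ⊓ centralizer (E : Set G) with hK
  set D := U0 ⊓ centralizer ({e₀} : Set G) with hD
  have hpowZ : ∀ y ∈ Z, y ^ q = 1 := fun y hy => L.h.pow y (hZA hy)
  have hEU : Nat.card E ≤ K.relIndex U0 := by
    have hbot : E ⊓ centralizer (U0 : Set G) = ⊥ := by
      rw [eq_bot_iff]
      rintro e ⟨he, hec⟩
      rw [mem_bot]
      by_contra he1
      obtain ⟨v, hv, hve⟩ := L.moved L.h.mixed he he1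
      exact hve (mem_centralizer_iff.1 hec v hv)
    have := relIndex_cent_le (E := E) (Z := Z) (U := U0) hqp inf_le_right L.card_line
      (hEA.trans L.cent_line) hpowZ
    rwa [← inf_relIndex_left E, hbot, relIndex_bot_left] at this
  have hKD : K ≤ D := inf_le_inf_left _ (centralizer_le (by simpa using he₀))
  have hDU : D.relIndex U0 ≤ q := by
    let g : U0 ⧸ D.subgroupOf U0 → Z :=
      Quotient.lift (fun v : U0 => ⟨(v : G) * e₀ * (v : G)⁻¹ * e₀⁻¹, v.2.2.2 e₀ he₀⟩) fun v v' h => by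
        have hm : (v : G)⁻¹ * v' ∈ D := mem_subgroupOf.1 (QuotientGroup.leftRel_apply.1 h)
        have hc : (v : G)⁻¹ * v' * e₀ = e₀ * ((v : G)⁻¹ * v') := mem_centralizer_singleton_iff.1 hm.2
        refine Subtype.ext ?_
        show (v : G) * e₀ * (v : G)⁻¹ * e₀⁻¹ = (v' : G) * e₀ * (v' : G)⁻¹ * e₀⁻¹
        calc (v : G) * e₀ * (v : G)⁻¹ * e₀⁻¹
            = (v : G) * (e₀ * ((v : G)⁻¹ * v')) * (v' : G)⁻¹ * e₀⁻¹ := by group
          _ = (v' : G) * e₀ * (v' : G)⁻¹ * e₀⁻¹ := by rw [← hc]; group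
    refine le_of_le_of_eq (Nat.card_le_card_of_injective g ?_) L.card_line
    intro p p'
    induction p using QuotientGroup.induction_on with
    | _ v =>
      induction p' using QuotientGroup.induction_on with
      | _ v' =>
        intro h
        have h' : (v : G) * e₀ * (v : G)⁻¹ * e₀⁻¹ = (v' : G) * e₀ * (v' : G)⁻¹ * e₀⁻¹ :=
          congrArg Subtype.val h
        refine QuotientGroup.eq.2 (mem_subgroupOf.2 ⟨U0.mul_mem (U0.inv_mem v.2) v'.2,
          mem_centralizer_singleton_iff.2 ?_⟩)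
        have h2 := mul_right_cancel h'
        calc (v : G)⁻¹ * v' * e₀ = (v : G)⁻¹ * ((v' : G) * e₀ * (v' : G)⁻¹) * v' := by group
          _ = e₀ * ((v : G)⁻¹ * v') := by rw [← h2]; group
  -- a generator of the inverted part
  haveI := hTc
  obtain ⟨⟨g, hgT⟩, hgen⟩ := IsCyclic.exists_generator (α := T)
  have hTg : ∀ t ∈ T, ∃ i : ℤ, g ^ i = t := fun t ht => by
    obtain ⟨i, hi⟩ := hgen ⟨t, ht⟩
    exact ⟨i, congrArg Subtype.val hi⟩
  obtain ⟨hgH, hgU, hgi⟩ := (hTmem g).1 hgT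
  have hgU0 : g ∈ U0 := ⟨hgU, L.inverted_trans hgU hgi⟩
  have hgD : g ∈ D := by
    refine ⟨hgU0, mem_centralizer_singleton_iff.2 (mul_inv_eq_iff_eq_mul.1 (mul_inv_eq_one.1 ?_))⟩
    have hm : g * e₀ * g⁻¹ * e₀⁻¹ ∈ X :=
      mul_mem ((mem_normalizer_iff.1 hgH e₀).1 (mem_zpowers _)) (inv_mem (mem_zpowers _))
    exact L.disjoint _ (hgU0.2.2 e₀ he₀) (hXE hm).2
  have hgqK : g ^ q ∈ K := ⟨pow_mem hgU0 q, trans_pow_cent hgU0.2 hpowZ⟩
  have hKDq : K.relIndex D ≤ q := by
    let F : Fin q → D ⧸ K.subgroupOf D := fun i => QuotientGroup.mk ⟨g ^ (i : ℕ), pow_mem hgD _⟩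
    refine le_of_le_of_eq (Nat.card_le_card_of_surjective F fun p => ?_)
      (by rw [Nat.card_eq_fintype_card, Fintype.card_fin])
    induction p using QuotientGroup.induction_on with
    | _ v =>
      obtain ⟨hv0, hve⟩ := v.2
      obtain ⟨r, hrU, hri, hw, hrz⟩ := ha.decomp hv0.1
      have hrU0 : r ∈ U0 := ⟨hrU, L.inverted_trans hrU hri⟩
      have hae : Commute a e₀ := ((ha.mem_W.1 he₀.2).2).symm
      have hre : r * e₀ = e₀ * r := by
        have hvc : Commute (v : G) e₀ := mem_centralizer_singleton_iff.1 hve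
        have : Commute ((v : G) * (a * (v : G)⁻¹ * a⁻¹)) e₀ :=
          hvc.mul_left ((hae.mul_left hvc.inv_left).mul_left hae.inv_left)
        obtain ⟨i, rfl⟩ := hrz
        exact (this.zpow_left i).eq
      have hrT : r ∈ T := (hTmem r).2 ⟨centralizer_le_normalizer _ (mem_centralizer_iff.2 fun y hy => by
        obtain ⟨i, rfl⟩ := hy
        exact ((show Commute r e₀ from hre).zpow_right i).eq.symm), hrU, hri⟩
      have hwK : r⁻¹ * (v : G) ∈ K := ⟨U0.mul_mem (U0.inv_mem hrU0) hv0, mem_centralizer_iff.2 fun e he =>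
        (L.W_trans hw (mul_mem (inv_mem hrU0.2) hv0.2) he).symm⟩
      obtain ⟨i, hi⟩ := hTg r hrT
      have hqi : (0 : ℤ) < q := by exact_mod_cast hqp.pos
      refine ⟨⟨(i % q).toNat, by have := Int.emod_lt_of_pos i hqi; omega⟩,
        QuotientGroup.eq.2 (mem_subgroupOf.2 ?_)⟩
      show (g ^ (i % q).toNat)⁻¹ * (v : G) ∈ K
      have hpw : (g ^ (i % q).toNat)⁻¹ * r ∈ K := by
        rw [← hi, ← zpow_natCast, ← zpow_neg, ← zpow_add,
          Int.toNat_of_nonneg (Int.emod_nonneg i hqi.ne'),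
          show -(i % (q : ℤ)) + i = (q : ℤ) * (i / q) by linarith [Int.emod_add_mul_ediv i q], zpow_mul,
          zpow_natCast]
        exact zpow_mem hgqK _
      have h5 := mul_mem hpw hwK
      rwa [mul_assoc, mul_inv_cancel_left] at h5
  have hprod : K.relIndex D * D.relIndex U0 = K.relIndex U0 :=
    relIndex_mul_relIndex K D U0 hKD inf_le_left
  obtain ⟨j, hj⟩ : ∃ j, Nat.card E = q ^ j :=
    ((coreIn_pGroup q c.C).to_le (hEA.trans L.h.le)).exists_card_eq
  have hj2 : 2 ≤ j := by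
    by_contra hlt
    have : q ^ j ≤ q ^ 1 := Nat.pow_le_pow_right hqp.pos (by omega)
    rw [pow_one, ← hj] at this
    omega
  have hEq : q ^ 2 ≤ Nat.card E := hj ▸ Nat.pow_le_pow_right hqp.pos hj2
  have hKU : K.relIndex U0 ≤ q ^ 2 := by
    rw [← hprod, pow_two]; exact Nat.mul_le_mul hKDq hDU
  have hE2 : Nat.card E = q ^ 2 := le_antisymm (hEU.trans hKU) hEq
  have hAcard : Nat.card A = q ^ 3 := by
    rw [L.h.card_eq ha hq2 L.mem L.ne_one L.inv L.line, ← hE, hE2]; ring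
  have hKDeq : q ≤ K.relIndex D := by
    refine Nat.le_of_mul_le_mul_right ?_ hqp.pos
    calc q * q = q ^ 2 := (pow_two q).symm
      _ ≤ K.relIndex D * D.relIndex U0 := by rw [hprod]; exact hEq.trans hEU
      _ ≤ K.relIndex D * q := Nat.mul_le_mul_left _ hDU
  have hgK : g ∉ K := by
    intro hgK
    have : K.relIndex D ≤ 1 := by
      refine le_of_eq (relIndex_eq_one.2 fun v hv => ?_)
      obtain ⟨hv0, hve⟩ := hv
      obtain ⟨r, hrU, hri, hw, hrz⟩ := ha.decomp hv0.1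
      have hrU0 : r ∈ U0 := ⟨hrU, L.inverted_trans hrU hri⟩
      have hae : Commute a e₀ := ((ha.mem_W.1 he₀.2).2).symm
      have hre : r * e₀ = e₀ * r := by
        have hvc : Commute v e₀ := mem_centralizer_singleton_iff.1 hve
        have : Commute (v * (a * v⁻¹ * a⁻¹)) e₀ :=
          hvc.mul_left ((hae.mul_left hvc.inv_left).mul_left hae.inv_left)
        obtain ⟨i, rfl⟩ := hrz
        exact (this.zpow_left i).eq
      have hrT : r ∈ T := (hTmem r).2 ⟨centralizer_le_normalizer _ (mem_centralizer_iff.2 fun y hy => by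
        obtain ⟨i, rfl⟩ := hy
        exact ((show Commute r e₀ from hre).zpow_right i).eq.symm), hrU, hri⟩
      obtain ⟨i, hi⟩ := hTg r hrT
      rw [show v = r * (r⁻¹ * v) by group]
      exact mul_mem (hi ▸ zpow_mem hgK i) ⟨U0.mul_mem (U0.inv_mem hrU0) hv0, mem_centralizer_iff.2 fun e he =>
        (L.W_trans hw (mul_mem (inv_mem hrU0.2) hv0.2) he).symm⟩
    omega
  set T' := T ⊓ centralizer (A : Set G) with hT'
  have hfA : f ∈ centralizer (A : Set G) := L.h.comm L.mem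
  have hgT' : g ∉ T' := fun hg => hgK ⟨hgU0, centralizer_le hEA hg.2⟩
  have hgqT' : g ^ q ∈ T' := by
    refine ⟨pow_mem hgT q, mem_centralizer_iff.2 fun y hy => ?_⟩
    obtain ⟨r, hrA, hri, hrw⟩ := L.h.split ha hq2 hy
    have h1 : Commute r (g ^ q) :=
      (show Commute r g from mem_centralizer_iff.1 hgU0.2.1 r (L.line r hrA hri)).pow_right q
    have h2 : Commute (r⁻¹ * y) (g ^ q) := mem_centralizer_iff.1 hgqK.2 _ hrw
    have h3 := h1.mul_left h2
    rwa [mul_inv_cancel_left] at h3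
  have hT'T : q * Nat.card T' ≤ Nat.card T := by
    have h1 := relIndex_mul_relIndex ⊥ T' T bot_le inf_le_left
    rw [relIndex_bot_left, relIndex_bot_left] at h1
    rw [← h1, mul_comm]
    exact Nat.mul_le_mul_left _ (prime_le_relIndex hqp hgT hgT' hgqT')
  have hqT : q ^ 2 ≤ Nat.card T := by
    refine le_trans ?_ hT'T
    rw [pow_two]
    refine Nat.mul_le_mul_left _ ?_
    rw [← L.card_line]
    exact card_le_of_le (zpowers_le.2 ⟨hfT, hfA⟩)
  have hqc : 4 * q ^ 2 ≤ cc := le_trans (Nat.mul_le_mul_left 4 hqT) hTcc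
  rcases hbranch with ⟨hJ, hfix⟩ | ⟨rfl, -, -⟩
  swap
  · nlinarith
  -- the lines of the plane
  set A0 := X ⊔ Z with hA0
  have hA0A : A0 ≤ A := sup_le (hXE.trans hEA) hZA
  have hA0card : Nat.card A0 ≤ q ^ 2 := by
    have hle : Z ≤ normalizer (X : Set G) := hZA.trans hAH
    have := Set.natCard_mul_le (s := (X : Set G)) (t := (Z : Set G))
    rw [← coe_mul_of_right_le_normalizer_left _ _ hle, ← hA0] at this
    refine le_trans this (le_of_eq ?_)
    show Nat.card X * Nat.card Z = q ^ 2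
    rw [hX, Nat.card_zpowers, he₀o, L.card_line, pow_two]
  have hmem : ∀ i : ℕ, e₀ * f ^ i ∈ A := fun i => mul_mem (hEA he₀) (pow_mem L.mem i)
  have hEZ : ∀ y ∈ E, y ∈ Z → y = 1 := fun y hy hyZ => L.disjoint y hyZ hy.2
  have hne1 : ∀ i : ℕ, e₀ * f ^ i ≠ 1 := fun i e => he₀1 (hEZ _ he₀ (by
    rw [eq_inv_of_mul_eq_one_left e]; exact inv_mem (pow_mem (mem_zpowers f) i)))
  set Es : Finset (Subgroup G) := (Finset.range q).image fun i => zpowers (e₀ * f ^ i) with hEs
  have hlines : ∀ Q ∈ Es, Q ≤ A0 ∧ Nat.card Q = q := by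
    intro Q hQ
    obtain ⟨i, -, rfl⟩ := Finset.mem_image.1 hQ
    exact ⟨zpowers_le.2 (mul_mem (mem_sup_left (mem_zpowers _)) (mem_sup_right (pow_mem (mem_zpowers f) i))),
      by rw [Nat.card_zpowers, L.h.order (hmem i) (hne1 i)]⟩
  have hEscard : Es.card = q := by
    rw [hEs, Finset.card_image_of_injOn, Finset.card_range]
    intro i hi j hj e
    simp only [Finset.coe_range, Set.mem_Iio] at hi hj
    have e' : zpowers (e₀ * f ^ i) = zpowers (e₀ * f ^ j) := e
    obtain ⟨n, hn⟩ : e₀ * f ^ i ∈ zpowers (e₀ * f ^ j) := e' ▸ mem_zpowers _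
    have hcm : Commute e₀ (f ^ j) :=
      ((show Commute e₀ f from mem_centralizer_iff.1 hfA e₀ (hEA he₀))).pow_right j
    simp only [hcm.mul_zpow] at hn
    have h1 : e₀ ^ (n - 1) = f ^ i * ((f ^ j) ^ n)⁻¹ := by
      rw [zpow_sub, zpow_one, eq_mul_inv_iff_mul_eq]
      have hc2 : Commute e₀⁻¹ ((f ^ j) ^ n) := (hcm.zpow_right n).inv_left
      rw [mul_assoc, hc2.eq, ← mul_assoc, hn, mul_assoc]
      rw [show f ^ i * e₀⁻¹ = e₀⁻¹ * f ^ i from
        ((((show Commute e₀ f from mem_centralizer_iff.1 hfA e₀ (hEA he₀))).pow_right i).inv_left).eq.symm,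
        mul_inv_cancel_left]
    have h2 : e₀ ^ (n - 1) = 1 := hEZ _ (zpow_mem he₀ _) (h1 ▸
      mul_mem (pow_mem (mem_zpowers f) i) (inv_mem (zpow_mem (pow_mem (mem_zpowers f) j) n)))
    have h3 : f ^ ((i : ℤ) - j * n) = 1 := by
      rw [zpow_sub, zpow_natCast, zpow_mul, zpow_natCast, ← h1, h2]
    have d1 := orderOf_dvd_iff_zpow_eq_one.2 h2
    have d2 := orderOf_dvd_iff_zpow_eq_one.2 h3
    rw [he₀o] at d1
    rw [L.h.order L.mem L.ne_one] at d2
    have d3 : (q : ℤ) ∣ (i : ℤ) - j := by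
      have : (i : ℤ) - j = ((i : ℤ) - j * n) + j * (n - 1) := by ring
      rw [this]; exact dvd_add d2 (Dvd.dvd.mul_left d1 _)
    have d4 := Int.eq_zero_of_abs_lt_dvd d3 (by rw [abs_lt]; omega)
    omega
  have hXEs : X ∈ Es := Finset.mem_image.2 ⟨0, Finset.mem_range.2 hqp.pos, by rw [pow_zero, mul_one]⟩
  have hconj : ∀ Q ∈ Es, ∃ v ∈ normalizer (A0 : Set G), Q = X.map (MulAut.conj v).toMonoidHom := by
    intro Q hQ
    obtain ⟨i, -, rfl⟩ := Finset.mem_image.1 hQ
    obtain ⟨v, hv, hve⟩ := L.moved L.h.mixed he₀ he₀1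
    set d := v * e₀ * v⁻¹ * e₀⁻¹ with hd
    have hdZ : d ∈ Z := hv.2.2 e₀ he₀
    have hd1 : d ≠ 1 := fun e => hve (mul_inv_eq_iff_eq_mul.1 (mul_inv_eq_one.1 e))
    have hzd : zpowers d = Z := eq_of_le_of_card_ge (zpowers_le.2 hdZ)
      (by rw [L.card_line, Nat.card_zpowers, L.h.order (hZA hdZ) hd1])
    obtain ⟨s, hs⟩ : f ^ i ∈ Submonoid.powers d :=
      mem_powers_iff_mem_zpowers.2 (hzd.symm ▸ pow_mem (mem_zpowers f) i)
    have hs' : d ^ s = f ^ i := hs
    have hvs : v ^ s * e₀ * (v ^ s)⁻¹ = e₀ * f ^ i := by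
      rw [trans_pow hv.2 he₀ s, ← hd, hs']
      exact (((show Commute e₀ f from mem_centralizer_iff.1 hfA e₀ (hEA he₀))).pow_right i).eq.symm
    refine ⟨v ^ s, mem_normalizer_fintype fun y hy => ?_, ?_⟩
    · have hle : A0 ≤ A0.comap (MulAut.conj (v ^ s)).toMonoidHom := by
        refine sup_le (zpowers_le.2 ?_) (zpowers_le.2 ?_)
        · show v ^ s * e₀ * (v ^ s)⁻¹ ∈ A0
          rw [hvs]
          exact mul_mem (mem_sup_left (mem_zpowers _)) (mem_sup_right (pow_mem (mem_zpowers f) i))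
        · show v ^ s * f * (v ^ s)⁻¹ ∈ A0
          rw [← (mem_centralizer_iff.1 (pow_mem hv.2.1 s) f (mem_zpowers f)), mul_inv_cancel_right]
          exact mem_sup_right (mem_zpowers f)
      exact hle hy
    · rw [hX, MonoidHom.map_zpowers]
      congr 1
      exact hvs.symm
  have hgen0 : ∀ E1 ∈ Es, ∀ E2 ∈ Es, E1 ≠ E2 → E1 ⊔ E2 = A0 := by
    intro E1 h1 E2 h2 hne
    have hle : E1 ⊔ E2 ≤ A0 := sup_le (hlines _ h1).1 (hlines _ h2).1
    refine eq_of_le_of_card_ge hle ?_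
    have hlt : E1 < E1 ⊔ E2 := lt_of_le_of_ne le_sup_left fun e => hne
      (eq_of_le_of_card_ge (e ▸ le_sup_right : E2 ≤ E1) (by rw [(hlines _ h1).2, (hlines _ h2).2])).symm
    have hdvd : Nat.card (E1 ⊔ E2 : Subgroup G) ∣ q ^ 3 := by
      rw [← hAcard]; exact card_dvd_of_le (hle.trans hA0A)
    obtain ⟨n, -, hnc⟩ := (Nat.dvd_prime_pow hqp).1 hdvd
    have h3 : Nat.card E1 < Nat.card (E1 ⊔ E2 : Subgroup G) :=
      lt_of_not_ge fun hge => hlt.ne (eq_of_le_of_card_ge hlt.le hge)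
    rw [(hlines _ h1).2, hnc] at h3
    rw [hnc]
    refine le_trans hA0card (Nat.pow_le_pow_right hqp.pos ?_)
    by_contra hn2
    have : q ^ n ≤ q ^ 1 := Nat.pow_le_pow_right hqp.pos (by omega)
    rw [pow_one] at this
    omega
  have hA0c : A0 ≤ centralizer (A0 : Set G) :=
    hA0A.trans (L.h.comm.trans (centralizer_le hA0A))
  have hcomm : ∀ v ∈ H, A0.map (MulAut.conj v).toMonoidHom ≤ centralizer (A0 : Set G) → v ∈ c.C := by
    intro v hv hle
    refine hfix f hfT L.ne_one v hv ?_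
    exact (mem_centralizer_iff.1 (hle (mem_map_of_mem _ (mem_sup_right (mem_zpowers f)))) f
      (mem_sup_right (mem_zpowers f))).symm
  have hNC : ∀ v ∈ H, v ∈ c.C → A0.map (MulAut.conj v).toMonoidHom = A0 := by
    intro v hv hvC
    rw [hA0, Subgroup.map_sup, map_conj_eq_self hv, map_conj_eq_self (L.normal hvC)]
  have hrel : (normalizer (A0 : Set G)).relIndex H = c.C.relIndex H := by
    rw [← inf_relIndex_left H, ← inf_relIndex_left H c.C]
    congr 1
    refine le_antisymm (fun v hv => ⟨hv.1, ?_⟩) (fun v hv => ⟨hv.1, ?_⟩)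
    · exact mem_normalizer_of_map_eq (hNC v hv.1 hv.2)
    · refine hcomm v hv.1 ?_
      rw [map_conj_eq_self hv.2]
      exact hA0c
  have hB : Nat.card {Q : Subgroup G // (∃ g ∈ normalizer (X : Set G),
      Q = A0.map (MulAut.conj g).toMonoidHom) ∧ Q ≤ centralizer (A0 : Set G)} ≤ 1 := by
    refine Finite.card_le_one_iff_subsingleton.2 ⟨?_⟩
    rintro ⟨Q, ⟨v, hv, rfl⟩, hle⟩ ⟨Q', ⟨v', hv', rfl⟩, hle'⟩
    exact Subtype.ext ((hNC v hv (hcomm v hv hle)).trans (hNC v' hv' (hcomm v' hv' hle')).symm)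
  have hcount := count_conj A0 X hA0c Es hXEs (fun Q hQ => (hlines Q hQ).1) hconj hgen0 1 hB
  rw [hrel, hEscard] at hcount
  -- the conjugates of `X` under `C`
  set k := H.relIndex c.C with hk
  set kW := H.relIndex (c.W a) with hkW
  have hkW0 : 0 < kW := Nat.pos_of_ne_zero (FiniteIndex.index_ne_zero (H := H.subgroupOf (c.W a)))
  have hk0 : 0 < k := Nat.pos_of_ne_zero (FiniteIndex.index_ne_zero (H := H.subgroupOf c.C))
  have hkq : k ≤ q * (q + 1) := by
    set Os := Finset.univ.filter fun Q : Subgroup G => ∃ v ∈ c.C, Q = X.map (MulAut.conj v).toMonoidHom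
      with hOs
    have hko : k = Os.card := by
      rw [hk, hH, ← card_conjugates_in, Nat.card_eq_fintype_card, Fintype.card_subtype]
    have hO' : ∀ Q ∈ Os, ∃ v ∈ c.C, Q = X.map (MulAut.conj v).toMonoidHom := fun Q hQ =>
      (Finset.mem_filter.1 hQ).2
    have hQ : ∀ Q ∈ Os, ∀ y ∈ Q, y ≠ 1 → y ∈ A ∧ y ∉ Z ∧ zpowers y = Q := by
      intro Q hQ y hy hy1
      obtain ⟨v, hv, rfl⟩ := hO' Q hQ
      have hcard : Nat.card (X.map (MulAut.conj v).toMonoidHom) = q := by
        rw [card_map_of_injective (MulAut.conj v).injective, hX, Nat.card_zpowers, he₀o]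
      obtain ⟨x', hx', rfl⟩ := hy
      have hA' : v * x' * v⁻¹ ∈ A := L.h.conj_mem hv (hEA (hXE hx'))
      refine ⟨hA', fun hZ' => ?_, ?_⟩
      · have h2 : x' ∈ Z := by
          have := (mem_normalizer_iff''.1 (L.normal hv) _).1 hZ'
          rwa [show v⁻¹ * ((MulAut.conj v).toMonoidHom x') * v = x' by simp [mul_assoc]] at this
        exact hy1 (by rw [hEZ x' (hXE hx') h2, map_one])
      · refine eq_of_le_of_card_ge (zpowers_le.2 (mem_map_of_mem _ hx')) ?_
        rw [hcard, Nat.card_zpowers]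
        exact (L.h.order hA' hy1).ge
    let nt : Subgroup G → Finset G := fun Q => Finset.univ.filter fun y => y ∈ Q ∧ y ≠ 1
    have hdis : ∀ Q ∈ Os, ∀ Q' ∈ Os, Q ≠ Q' → Disjoint (nt Q) (nt Q') := by
      intro Q h1 Q' h2 hne
      refine Finset.disjoint_left.2 fun y hy hy' => hne ?_
      obtain ⟨-, hyQ, hy1⟩ := Finset.mem_filter.1 hy
      obtain ⟨-, hyQ', -⟩ := Finset.mem_filter.1 hy'
      exact (hQ Q h1 y hyQ hy1).2.2.symm.trans (hQ Q' h2 y hyQ' hy1).2.2
    have hsub : Os.biUnion nt ⊆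
        (Finset.univ.filter fun y => y ∈ A) \ (Finset.univ.filter fun y => y ∈ Z) := by
      intro y hy
      obtain ⟨Q, hQO, hyQ⟩ := Finset.mem_biUnion.1 hy
      obtain ⟨-, hyQ, hy1⟩ := Finset.mem_filter.1 hyQ
      obtain ⟨h1, h2, -⟩ := hQ Q hQO y hyQ hy1
      simp [h1, h2]
    have hfc : ∀ S : Subgroup G, (Finset.univ.filter fun y => y ∈ S).card = Nat.card S := fun S => by
      rw [Nat.card_eq_fintype_card, Fintype.card_subtype]
    have hnt : ∀ Q ∈ Os, (nt Q).card = q - 1 := by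
      intro Q hQO
      have e : nt Q = (Finset.univ.filter fun y => y ∈ Q).erase 1 := by
        ext y; simp [nt, and_comm]
      rw [e, Finset.card_erase_of_mem (by simp [one_mem]), hfc]
      obtain ⟨v, hv, rfl⟩ := hO' Q hQO
      rw [card_map_of_injective (MulAut.conj v).injective, hX, Nat.card_zpowers, he₀o]
    have hle := Finset.card_le_card hsub
    rw [Finset.card_biUnion hdis, Finset.sum_congr rfl hnt, Finset.sum_const, smul_eq_mul,
      Finset.card_sdiff_of_subset (fun y hy => by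
        rw [Finset.mem_filter] at hy ⊢; exact ⟨hy.1, hZA hy.2⟩), hfc, hfc, hAcard, L.card_line, ← hko] at hle
    refine Nat.le_of_mul_le_mul_right ?_ (show 0 < q - 1 by omega)
    refine hle.trans (le_of_eq ?_)
    obtain ⟨r, rfl⟩ : ∃ r, q = r + 1 := ⟨q - 1, by omega⟩
    simp only [Nat.add_sub_cancel]
    exact Nat.sub_eq_of_eq_add (by ring)
  have hk2 : k ≤ 2 * q * kW := by
    let Orb : Subgroup G → Type u := fun S =>
      {Q : Subgroup G // ∃ v ∈ S, Q = X.map (MulAut.conj v).toMonoidHom}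
    have hex : ∀ Y : Orb (c.W a), ∃ w ∈ c.W a, Y.1 = X.map (MulAut.conj w).toMonoidHom := fun Y => Y.2
    choose w hw hwY using hex
    let F : Fin 2 × Z × Orb (c.W a) → Subgroup G := fun p =>
      (zpowers ((p.2.1 : G) * (w p.2.2 * e₀ * (w p.2.2)⁻¹))).map
        (MulAut.conj (c.d.x ^ (p.1 : ℕ))).toMonoidHom
    have hx2 : c.d.x ^ 2 ∈ H := centralizer_le_normalizer _
      ((centralizer_le (hXE.trans hEA)) (by rw [pow_two]; exact L.x_sq_cent))
    have haH : a ∈ H := hI.a_mem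
    have hP : ∀ s ∈ (c.P : Subgroup G), ∃ i : Fin 2,
        X.map (MulAut.conj s).toMonoidHom = X.map (MulAut.conj (c.d.x ^ (i : ℕ))).toMonoidHom := by
      intro s hs
      have hrot : ∀ t ∈ zpowers c.d.x, ∃ i : Fin 2, (c.d.x ^ (i : ℕ))⁻¹ * t ∈ H := by
        rintro _ ⟨n, rfl⟩
        refine ⟨⟨(n % 2).toNat, by omega⟩, ?_⟩
        show (c.d.x ^ (n % 2).toNat)⁻¹ * c.d.x ^ n ∈ H
        rw [← zpow_natCast, ← zpow_neg, ← zpow_add, Int.toNat_of_nonneg (Int.emod_nonneg n two_ne_zero),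
          show -(n % 2) + n = 2 * (n / 2) by omega, zpow_mul]
        exact zpow_mem (by exact_mod_cast hx2) _
      have hmap : ∀ {s t : G}, t⁻¹ * s ∈ H →
          X.map (MulAut.conj s).toMonoidHom = X.map (MulAut.conj t).toMonoidHom := by
        intro s t h
        have := map_conj_eq_self h
        conv_rhs => rw [← this]
        rw [map_conj_mul, mul_inv_cancel_left]
      by_cases hsx : s ∈ zpowers c.d.x
      · obtain ⟨i, hi⟩ := hrot s hsx
        exact ⟨i, hmap hi⟩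
      · -- `s = a t` with `t` a rotation, so `s = t⁻¹ a`
        have ht := c.d.idx a ha.1 s hs ha.2 hsx
        obtain ⟨i, hi⟩ := hrot _ (inv_mem ht)
        refine ⟨i, hmap ?_⟩
        have e : s = (a⁻¹ * s)⁻¹ * a := by
          obtain ⟨n, hn⟩ := ht
          simp only at hn
          have h1 : a * c.d.x ^ n * a⁻¹ = (c.d.x ^ n)⁻¹ := by rw [← conj_zpow, ha.inv_x, inv_zpow]
          rw [← hn, ← h1, inv_mul_cancel_right, hn, mul_inv_cancel_left]
        rw [e, ← mul_assoc]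
        exact mul_mem hi haH
    have hcover : ∀ Q : Orb c.C, ∃ p, F p = Q.1 := by
      rintro ⟨Q, v, hv, rfl⟩
      obtain ⟨u, hu, s, hs, rfl⟩ := c.U_sup v hv
      obtain ⟨i, hi⟩ := hP s hs
      set t := c.d.x ^ (i : ℕ) with ht
      have htC : t ∈ c.C := pow_mem (c.P_le c.d.hx) _
      have hu' : t⁻¹ * u * t ∈ c.U := by
        have := c.U_conj t⁻¹ (inv_mem htC) u hu
        rwa [inv_inv] at this
      obtain ⟨r, hrU, hri, hrw, -⟩ := ha.decomp hu'
      let Y : Orb (c.W a) := ⟨X.map (MulAut.conj (r⁻¹ * (t⁻¹ * u * t))).toMonoidHom, _, hrw, rfl⟩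
      have hy : w Y * e₀ * (w Y)⁻¹ ∈ E :=
        ⟨L.h.conj_mem (c.U_le (ha.W_le (hw Y))) (hEA he₀),
          (c.W a).mul_mem ((c.W a).mul_mem (hw Y) he₀.2) ((c.W a).inv_mem (hw Y))⟩
      have hrt := (L.inverted_trans hrU hri).2 _ hy
      refine ⟨(i, ⟨_, hrt⟩, Y), ?_⟩
      show (zpowers (r * (w Y * e₀ * (w Y)⁻¹) * r⁻¹ * (w Y * e₀ * (w Y)⁻¹)⁻¹ *
        (w Y * e₀ * (w Y)⁻¹))).map (MulAut.conj t).toMonoidHom = _
      have hY' : zpowers (w Y * e₀ * (w Y)⁻¹) = X.map (MulAut.conj (w Y)).toMonoidHom := by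
        rw [hX, MonoidHom.map_zpowers]; rfl
      rw [inv_mul_cancel_right,
        show zpowers (r * (w Y * e₀ * (w Y)⁻¹) * r⁻¹) =
          (zpowers (w Y * e₀ * (w Y)⁻¹)).map (MulAut.conj r).toMonoidHom by
            rw [MonoidHom.map_zpowers]; rfl,
        hY', ← hwY Y]
      show (Subgroup.map _ (X.map (MulAut.conj (r⁻¹ * (t⁻¹ * u * t))).toMonoidHom)).map _ =
        X.map (MulAut.conj (u * s)).toMonoidHom
      rw [map_conj_mul, map_conj_mul, ← map_conj_mul X u s, hi, map_conj_mul]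
      congr 2
      group
    choose p hp using hcover
    have hinj : Function.Injective p := fun Q Q' e => Subtype.ext (by rw [← hp Q, ← hp Q', e])
    have h1 := Nat.card_le_card_of_injective p hinj
    simp only [Orb] at h1
    rw [Nat.card_prod, Nat.card_prod, card_conjugates_in, card_conjugates_in, L.card_line, ← hH, ← hk,
      ← hkW, Nat.card_eq_fintype_card (α := Fin 2), Fintype.card_fin] at h1
    calc k ≤ 2 * (q * kW) := h1
      _ = 2 * q * kW := by ring
  have hmn : c.d.m * (c.W a).relIndex c.U * kW ≤ k * cc := by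
    rw [hkW, hH, c.m_mul_relIndex_mul ha, ← hH, ← hk, mul_comm 2 k, mul_assoc]
    · exact Nat.mul_le_mul_left k horb
    · intro y hy
      rw [mem_centralizer_iff]
      rintro _ (rfl | rfl)
      exacts [(ha.W_comm (hXE hy).2).1.symm, (ha.W_comm (hXE hy).2).2.1.symm]
  have hna : c.d.m * (c.W a).relIndex c.U ≤ 2 * q * cc := by
    refine Nat.le_of_mul_le_mul_right ?_ hkW0
    calc c.d.m * (c.W a).relIndex c.U * kW ≤ k * cc := hmn
      _ ≤ 2 * q * kW * cc := Nat.mul_le_mul_right _ hk2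
      _ = 2 * q * cc * kW := by ring
  have hI16 := c.index_bound ha
  set b := c.d.x * a with hb
  set M := c.d.m * ((c.W a).relIndex c.U + (c.W b).relIndex c.U) with hM
  have hIk := index_mul_relIndex H c.C
  rw [← hk] at hIk
  have hfinal : q * (q - 1) * (c.C.relIndex H - 1) * c.C.relIndex H ≤ c.C.index * k := by
    rw [← hIk]
    exact Nat.mul_le_mul_right _ hcount
  refine absurd hfinal (not_le.2 ?_)
  rcases hside with hle | hn
  · refine num_tr (Q := q ^ 2) hI16 hJ hq3 le_rfl hqc ?_ hk0 ?_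
    · calc M ≤ c.d.m * ((c.W a).relIndex c.U + (c.W a).relIndex c.U) :=
            Nat.mul_le_mul_left _ (Nat.add_le_add_left hle _)
        _ = 2 * (c.d.m * (c.W a).relIndex c.U) := by ring
        _ ≤ 2 * (2 * q * cc) := Nat.mul_le_mul_left _ hna
        _ = 4 * q * cc := by ring
    · calc (q - 1) * k ≤ (q - 1) * (q * (q + 1)) := Nat.mul_le_mul_left _ hkq
        _ = q * (q ^ 2 - 1) := by
          obtain ⟨r, rfl⟩ : ∃ r, q = r + 1 := ⟨q - 1, by omega⟩
          rw [show (r + 1) ^ 2 = (r * r + 2 * r) + 1 by ring, Nat.add_sub_cancel, Nat.add_sub_cancel]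
          ring
  refine num_tr_inv hI16 hJ hq3 hqc ?_ hkq
  have hbR : c.Refl b := c.x_mul_refl ha
  have hbH : b ∈ H := by
    refine mem_normalizer_fintype fun y hy => ?_
    show b * y * b⁻¹ ∈ X
    rcases hn.dichotomy hbR q hq2 with hd | hd
    · rwa [hd y (L.h.le (hEA (hXE hy)))]
    · rw [hd y (L.h.le (hEA (hXE hy)))]; exact inv_mem hy
  have hPH : (c.P : Subgroup G) ≤ H := by
    have hxH : c.d.x ∈ H := by
      have e : c.d.x = b * a := by rw [hb, mul_assoc, ha.sq, mul_one]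
      rw [e]; exact mul_mem hbH hI.a_mem
    intro s hs
    by_cases hsx : s ∈ zpowers c.d.x
    · exact (zpowers_le.2 hxH) hsx
    · have h1 := mul_mem hI.a_mem ((zpowers_le.2 hxH) (c.d.idx a ha.1 s hs ha.2 hsx))
      rwa [mul_inv_cancel_left] at h1
  have hkU : k = H.relIndex c.U := by
    rw [hk, hH, ← card_conjugates_in, ← card_conjugates_in]
    refine Nat.card_congr (Equiv.subtypeEquivRight fun Q => ⟨?_, fun ⟨v, hv, e⟩ => ⟨v, c.U_le hv, e⟩⟩)
    rintro ⟨v, hv, rfl⟩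
    obtain ⟨u, hu, s, hs, rfl⟩ := c.U_sup v hv
    exact ⟨u, hu, by rw [← map_conj_mul, map_conj_eq_self (hPH hs)]⟩
  have hTk : Nat.card T * k ≤ kW * (c.W a).relIndex c.U := by
    calc Nat.card T * k ≤ (c.W a).relIndex (c.U ⊓ H) * H.relIndex c.U :=
          hkU ▸ Nat.mul_le_mul_right _ (ha.card_T_le hTmem)
      _ = (c.W a ⊓ H).relIndex (c.U ⊓ H) * (c.U ⊓ H).relIndex c.U := by
          rw [inf_relIndex_left c.U H, ← inf_relIndex_right (c.W a) (c.U ⊓ H),
            ← inf_relIndex_right (c.W a ⊓ H) (c.U ⊓ H)]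
          congr 2
          exact le_antisymm (le_inf (le_inf inf_le_left (inf_le_right.trans inf_le_right)) inf_le_right)
            (inf_le_inf_right _ inf_le_left)
      _ = (c.W a ⊓ H).relIndex c.U :=
          relIndex_mul_relIndex _ _ _ (inf_le_inf_right _ ha.W_le) inf_le_left
      _ = (c.W a ⊓ H).relIndex (c.W a) * (c.W a).relIndex c.U :=
          (relIndex_mul_relIndex _ _ _ inf_le_left ha.W_le).symm
      _ = kW * (c.W a).relIndex c.U := by rw [inf_relIndex_left]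
  have hmT : c.d.m * Nat.card T ≤ cc := by
    refine Nat.le_of_mul_le_mul_right ?_ hk0
    calc c.d.m * Nat.card T * k = c.d.m * (Nat.card T * k) := mul_assoc _ _ _
      _ ≤ c.d.m * (kW * (c.W a).relIndex c.U) := Nat.mul_le_mul_left _ hTk
      _ = c.d.m * (c.W a).relIndex c.U * kW := by ring
      _ ≤ k * cc := hmn
      _ = cc * k := mul_comm _ _
  have hnb := ha.other_bound hbR rfl hn L.hC hS hq2 L.h.mixed L.h.le le_rfl (T := T')
    (H := centralizer (A : Set G)) fun y => by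
      constructor
      · rintro ⟨hyT, hyA⟩
        exact ⟨hyA, ((hTmem y).1 hyT).2⟩
      · rintro ⟨hyA, hy⟩
        exact ⟨(hTmem y).2 ⟨centralizer_le_normalizer _ ((centralizer_le (hXE.trans hEA)) hyA), hy⟩, hyA⟩
  calc 4 * q ^ 2 * M
      = 4 * q ^ 2 * (c.d.m * (c.W a).relIndex c.U) + 4 * q ^ 2 * (c.d.m * (c.W b).relIndex c.U) := by
        rw [hM]; ring
    _ ≤ 4 * q ^ 2 * (2 * q * cc) + 4 * q ^ 2 * (c.d.m * Nat.card T' ^ 2) :=
        Nat.add_le_add (Nat.mul_le_mul_left _ hna) (Nat.mul_le_mul_left _ (Nat.mul_le_mul_left _ hnb))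
    _ = 8 * q ^ 3 * cc + c.d.m * (q * Nat.card T') * (4 * (q * Nat.card T')) := by ring
    _ ≤ 8 * q ^ 3 * cc + cc * cc := Nat.add_le_add_left (Nat.mul_le_mul
        ((Nat.mul_le_mul_left _ hT'T).trans hmT) ((Nat.mul_le_mul_left 4 hT'T).trans hTcc)) _
    _ = (8 * q ^ 3 + cc) * cc := by ring

end NormalLine

end Core

end Cfsg.Agent.GW
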