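import Cfsg.Agent.Lib.GW.OtherSide

/-!
A mixed abelian subgroup whose inverted line is normal in `C`: the action of `C` by translations.
-/

set_option autoImplicit false
set_option linter.unusedSectionVars false
set_option linter.style.haveILetI false

namespace Cfsg.Agent.GW

open Cfsg.Agent.TwoFus Cfsg.Agent.BenderUnique Subgroup

universe u

variable {G : Type u} [Group G]

/-- The elements centralising `Z` and moving `E` only by `Z`. -/
def transBy (E Z : Subgroup G) : Subgroup G where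
  carrier := {g | g ∈ centralizer (Z : Set G) ∧ ∀ e ∈ E, g * e * g⁻¹ * e⁻¹ ∈ Z}
  one_mem' := ⟨one_mem _, fun e _ => by simp⟩
  mul_mem' := fun {g h} hg hh => ⟨mul_mem hg.1 hh.1, fun e he => by
    have h1 : g * (h * e * h⁻¹ * e⁻¹) = h * e * h⁻¹ * e⁻¹ * g :=
      (mem_centralizer_iff.1 hg.1 _ (hh.2 e he)).symm
    rw [show g * h * e * (g * h)⁻¹ * e⁻¹ = g * (h * e * h⁻¹ * e⁻¹) * g⁻¹ * (g * e * g⁻¹ * e⁻¹) by group,
      h1, mul_inv_cancel_right]
    exact mul_mem (hh.2 e he) (hg.2 e he)⟩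
  inv_mem' := fun {g} hg => ⟨inv_mem hg.1, fun e he => by
    have h2 := inv_mem (hg.2 e he)
    have h1 : g * (g * e * g⁻¹ * e⁻¹)⁻¹ = (g * e * g⁻¹ * e⁻¹)⁻¹ * g :=
      (mem_centralizer_iff.1 hg.1 _ h2).symm
    rw [inv_inv, show g⁻¹ * e * g * e⁻¹ = g⁻¹ * ((g * e * g⁻¹ * e⁻¹)⁻¹ * g) by group, ← h1,
      inv_mul_cancel_left]
    exact h2⟩

theorem mem_transBy {E Z : Subgroup G} {g : G} :
    g ∈ transBy E Z ↔ g ∈ centralizer (Z : Set G) ∧ ∀ e ∈ E, g * e * g⁻¹ * e⁻¹ ∈ Z := Iff.rfl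

/-- An element outside a subgroup with its `q`-th power inside gives `q` cosets. -/
theorem prime_le_relIndex [Finite G] {D D' : Subgroup G} {v : G} {q : ℕ} (hq : q.Prime) (hv' : v ∈ D')
    (hv : v ∉ D) (hvq : v ^ q ∈ D) : q ≤ D.relIndex D' := by
  let f : Fin q → D' ⧸ D.subgroupOf D' := fun i => QuotientGroup.mk ⟨v ^ (i : ℕ), pow_mem hv' _⟩
  have key : ∀ i j : Fin q, (i : ℕ) < j → f i ≠ f j := by
    intro i j hij e
    simp only [f, QuotientGroup.eq, mem_subgroupOf] at e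
    have e' : v ^ ((j : ℕ) - i) ∈ D := by
      have h1 : (v ^ (i : ℕ))⁻¹ * v ^ (j : ℕ) = v ^ ((j : ℕ) - i) := by
        rw [inv_mul_eq_iff_eq_mul, ← pow_add]; congr 1; omega
      rw [← h1]; exact e
    have hcop : Nat.Coprime ((j : ℕ) - i) q := by
      refine (hq.coprime_iff_not_dvd.2 fun hd => ?_).symm
      have := Nat.le_of_dvd (by omega) hd
      omega
    obtain ⟨s, t, hst⟩ : ∃ s t : ℤ, (((j : ℕ) - i : ℕ) : ℤ) * s + (q : ℤ) * t = 1 :=
      ⟨_, _, (Nat.gcd_eq_gcd_ab _ q).symm.trans (by rw [hcop.gcd_eq_one]; rfl)⟩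
    refine hv ?_
    rw [← zpow_one v, ← hst, zpow_add, zpow_mul, zpow_mul, zpow_natCast, zpow_natCast]
    exact mul_mem (zpow_mem e' s) (zpow_mem hvq t)
  have := Nat.card_le_card_of_injective f fun i j e => by
    rcases lt_trichotomy (i : ℕ) j with h | h | h
    · exact absurd e (key i j h)
    · exact Fin.ext h
    · exact absurd e.symm (key j i h)
  rwa [Nat.card_eq_fintype_card, Fintype.card_fin] at this

theorem trans_pow {E Z : Subgroup G} {v e : G} (hv : v ∈ transBy E Z) (he : e ∈ E) (n : ℕ) :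
    v ^ n * e * (v ^ n)⁻¹ = (v * e * v⁻¹ * e⁻¹) ^ n * e := by
  induction n with
  | zero => simp
  | succ n ih =>
    have hc : v * ((v * e * v⁻¹ * e⁻¹) ^ n) = (v * e * v⁻¹ * e⁻¹) ^ n * v :=
      (mem_centralizer_iff.1 hv.1 _ (pow_mem (hv.2 e he) n)).symm
    rw [pow_succ' v, mul_inv_rev,
      show v * v ^ n * e * ((v ^ n)⁻¹ * v⁻¹) = v * (v ^ n * e * (v ^ n)⁻¹) * v⁻¹ by group, ih,
      pow_succ, ← mul_assoc v, hc]
    group

theorem trans_pow_cent {E Z : Subgroup G} {v : G} {q : ℕ} (hv : v ∈ transBy E Z)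
    (hpow : ∀ z ∈ Z, z ^ q = 1) : v ^ q ∈ centralizer (E : Set G) :=
  mem_centralizer_iff.2 fun e he => by
    have := trans_pow hv he q
    rw [hpow _ (hv.2 e he), one_mul, mul_inv_eq_iff_eq_mul] at this
    exact this.symm

/-- A pairing into a group of prime order is no bigger on the left than on the right. -/
theorem relIndex_cent_le [Finite G] {E Z U : Subgroup G} {q : ℕ} (hq : q.Prime) (hU : U ≤ transBy E Z)
    (hZ : Nat.card Z = q) (hEc : E ≤ centralizer (Z : Set G)) (hpow : ∀ z ∈ Z, z ^ q = 1) :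
    (centralizer (U : Set G)).relIndex E ≤ (U ⊓ centralizer (E : Set G)).relIndex U := by
  classical
  haveI : Finite (Subgroup G) :=
    Finite.of_injective (fun H : Subgroup G => (H : Set G)) SetLike.coe_injective
  set K := U ⊓ centralizer (E : Set G) with hK
  have hvq : ∀ v ∈ U, v ^ q ∈ K := fun v hv => ⟨pow_mem hv q, trans_pow_cent (hU hv) hpow⟩
  let S : Set (Subgroup G) :=
    {D | K ≤ D ∧ D ≤ U ∧ (centralizer (D : Set G)).relIndex E ≤ K.relIndex D}
  have hK0 : K ∈ S := by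
    refine ⟨le_rfl, inf_le_left, ?_⟩
    rw [relIndex_self]
    refine le_of_eq (relIndex_eq_one.2 fun e he => mem_centralizer_iff.2 fun k hk => ?_)
    exact (mem_centralizer_iff.1 hk.2 e he).symm
  obtain ⟨D, ⟨hKD, hDU, hD⟩, hmax⟩ := (Set.toFinite S).exists_maximal ⟨K, hK0⟩
  suffices hDeq : D = U by rw [hDeq] at hD; exact hD
  refine le_antisymm hDU fun v hv => by_contra fun hvD => ?_
  set D' := D ⊔ zpowers v with hD'
  have hD'U : D' ≤ U := sup_le hDU (zpowers_le.2 hv)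
  have hlt : D < D' := lt_of_le_of_ne le_sup_left fun e =>
    hvD (e.symm ▸ mem_sup_right (mem_zpowers v))
  refine hlt.not_ge (hmax ⟨hKD.trans le_sup_left, hD'U, ?_⟩ le_sup_left)
  set E1 := E ⊓ centralizer (D : Set G) with hE1
  have h1 : (centralizer (D' : Set G)).relIndex E1 ≤ q := by
    let f : E1 ⧸ (centralizer (D' : Set G)).subgroupOf E1 → Z :=
      Quotient.lift (fun e : E1 => ⟨v * (e : G) * v⁻¹ * (e : G)⁻¹, (hU hv).2 e e.2.1⟩) fun e e' h => by
        have hm : (e : G)⁻¹ * e' ∈ centralizer (D' : Set G) :=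
          mem_subgroupOf.1 (QuotientGroup.leftRel_apply.1 h)
        have hc : v * ((e : G)⁻¹ * e') = (e : G)⁻¹ * e' * v :=
          mem_centralizer_iff.1 hm v (mem_sup_right (mem_zpowers v))
        refine Subtype.ext ?_
        show v * (e : G) * v⁻¹ * (e : G)⁻¹ = v * (e' : G) * v⁻¹ * (e' : G)⁻¹
        calc v * (e : G) * v⁻¹ * (e : G)⁻¹
            = v * (e : G) * v⁻¹ * (v * ((e : G)⁻¹ * e') * v⁻¹) * (e' : G)⁻¹ := by
              rw [hc, mul_inv_cancel_right]; group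
          _ = v * (e' : G) * v⁻¹ * (e' : G)⁻¹ := by group
    refine le_of_le_of_eq (Nat.card_le_card_of_injective f ?_) hZ
    intro p p'
    induction p using QuotientGroup.induction_on with
    | _ e =>
      induction p' using QuotientGroup.induction_on with
      | _ e' =>
        intro h
        have h' : v * (e : G) * v⁻¹ * (e : G)⁻¹ = v * (e' : G) * v⁻¹ * (e' : G)⁻¹ := congrArg Subtype.val h
        set d := v * (e : G) * v⁻¹ * (e : G)⁻¹ with hd
        have hdZ : d ∈ Z := (hU hv).2 e e.2.1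
        refine QuotientGroup.eq.2 (mem_subgroupOf.2 ?_)
        show (e : G)⁻¹ * e' ∈ centralizer (D' : Set G)
        rw [show centralizer (D' : Set G) = centralizer ((D : Set G) ∪ {v}) by
          rw [hD', zpowers_eq_closure, ← centralizer_closure ((D : Set G) ∪ {v}), Subgroup.closure_union, Subgroup.closure_eq]]
        refine mem_centralizer_iff.2 fun g hg => ?_
        rcases hg with hg | hg
        · exact mem_centralizer_iff.1 (mul_mem (inv_mem e.2.2) e'.2.2) g hg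
        · rw [Set.mem_singleton_iff.1 hg]
          refine mul_inv_eq_iff_eq_mul.1 ?_
          have e1 : v * (e : G) * v⁻¹ = d * e := by rw [hd]; group
          have e2 : v * (e' : G) * v⁻¹ = d * e' := by rw [h']; group
          calc v * ((e : G)⁻¹ * e') * v⁻¹ = (v * (e : G) * v⁻¹)⁻¹ * (v * (e' : G) * v⁻¹) := by group
            _ = (e : G)⁻¹ * e' := by rw [e1, e2]; group
  have h2 : (centralizer (D' : Set G)).relIndex E =
      (centralizer (D' : Set G)).relIndex E1 * (centralizer (D : Set G)).relIndex E := by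
    have hle : E ⊓ centralizer (D' : Set G) ≤ E1 :=
      inf_le_inf_left _ (centralizer_le (SetLike.coe_subset_coe.2 le_sup_left))
    have := relIndex_mul_relIndex (E ⊓ centralizer (D' : Set G)) E1 E hle inf_le_left
    rw [hE1, inf_relIndex_left E (centralizer (D : Set G))] at this
    rw [← inf_relIndex_left E (centralizer (D' : Set G)), ← this]
    congr 1
    rw [← inf_relIndex_left E1 (centralizer (D' : Set G)), hE1]
    congr 1
    exact le_antisymm (le_inf hle inf_le_right) (inf_le_inf_right _ inf_le_left)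
  rw [h2]
  calc (centralizer (D' : Set G)).relIndex E1 * (centralizer (D : Set G)).relIndex E
      ≤ D.relIndex D' * K.relIndex D := Nat.mul_le_mul
        (h1.trans (prime_le_relIndex hq (mem_sup_right (mem_zpowers v)) hvD (hKD (hvq v hv)))) hD
    _ = K.relIndex D' := by rw [mul_comm]; exact relIndex_mul_relIndex K D D' hKD le_sup_left

variable [Finite G]

namespace Core

variable {c : Core G} {a : G} {q : ℕ} [hq : Fact q.Prime] {A : Subgroup G}

/-- The data of the translation case. -/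
structure NormalLine (c : Core G) (a : G) (q : ℕ) (A : Subgroup G) (f : G) : Prop where
  h : c.MixAb a q A
  refl : c.Refl a
  hC : IsCoatom c.C
  ne_two : q ≠ 2
  mem : f ∈ A
  ne_one : f ≠ 1
  inv : a * f * a⁻¹ = f⁻¹
  line : ∀ y ∈ A, a * y * a⁻¹ = y⁻¹ → y ∈ zpowers f
  normal : c.C ≤ normalizer (zpowers f : Set G)

namespace NormalLine

variable {f : G} (L : c.NormalLine a q A f)

include L

theorem card_line : Nat.card (zpowers f) = q := by rw [Nat.card_zpowers, L.h.order L.mem L.ne_one]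

theorem cent_line : A ≤ centralizer (zpowers f : Set G) :=
  L.h.comm.trans (centralizer_le (zpowers_le.2 L.mem))

/-- The square of an element of `C` inverted by `a` translates. -/
theorem sq_trans {g : G} (hg : g ∈ c.C) (hgi : a * g * a⁻¹ = g⁻¹) :
    g * g ∈ transBy (A ⊓ c.W a) (zpowers f) := by
  obtain ⟨i, hi⟩ : g * f * g⁻¹ ∈ zpowers f := (mem_normalizer_iff.1 (L.normal hg) f).1 (mem_zpowers f)
  simp only at hi
  have hi' : g⁻¹ * f * g = f ^ i := by
    have h1 : a * (g * f * g⁻¹) * a⁻¹ = (g⁻¹ * f * g)⁻¹ := by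
      calc a * (g * f * g⁻¹) * a⁻¹ = (a * g * a⁻¹) * (a * f * a⁻¹) * (a * g * a⁻¹)⁻¹ := by group
        _ = (g⁻¹ * f * g)⁻¹ := by rw [hgi, L.inv]; group
    rw [← hi, ← conj_zpow, L.inv, inv_zpow] at h1
    exact (inv_inj.1 h1).symm
  have hff : g * g * f * (g * g)⁻¹ = f := by
    calc g * g * f * (g * g)⁻¹ = g * (g * f * g⁻¹) * g⁻¹ := by group
      _ = g * (g⁻¹ * f * g) * g⁻¹ := by rw [← hi, hi']
      _ = f := by group
  refine mem_transBy.2 ⟨mem_centralizer_iff.2 ?_, fun e he => ?_⟩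
  · rintro _ ⟨j, rfl⟩
    exact (((show Commute (g * g) f from mul_inv_eq_iff_eq_mul.1 hff)).zpow_right j).eq.symm
  have hgA : g * e * g⁻¹ ∈ A := L.h.conj_mem hg he.1
  obtain ⟨d, hdA, hdi, hd⟩ := L.h.split L.refl L.ne_two hgA
  set e' := d⁻¹ * (g * e * g⁻¹) with he'
  obtain ⟨j, hj⟩ := L.line d hdA hdi
  simp only at hj
  have hd1 : g * e * g⁻¹ = d * e' := by rw [he', mul_inv_cancel_left]
  have hd2 : g⁻¹ * e * g = d⁻¹ * e' := by
    have hae : a * e * a⁻¹ = e := mul_inv_eq_iff_eq_mul.2 ((L.refl.mem_W.1 he.2).2).symm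
    have hae' : a * e' * a⁻¹ = e' := mul_inv_eq_iff_eq_mul.2 ((L.refl.mem_W.1 hd.2).2).symm
    calc g⁻¹ * e * g = (a * g * a⁻¹) * (a * e * a⁻¹) * (a * g * a⁻¹)⁻¹ := by rw [hgi, hae, inv_inv]
      _ = a * (g * e * g⁻¹) * a⁻¹ := by group
      _ = (a * d * a⁻¹) * (a * e' * a⁻¹) := by rw [hd1]; group
      _ = d⁻¹ * e' := by rw [hdi, hae']
  have hd3 : g * e' * g⁻¹ = (g * d * g⁻¹) * e := by
    have : e = g * (g⁻¹ * e * g) * g⁻¹ := by group
    rw [hd2] at this
    nth_rewrite 1 [this]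
    group
  have hgd : g * d * g⁻¹ ∈ zpowers f :=
    (mem_normalizer_iff.1 (L.normal hg) d).1 (L.line d hdA hdi)
  rw [show g * g * e * (g * g)⁻¹ * e⁻¹ = g * (g * e * g⁻¹) * g⁻¹ * e⁻¹ by group, hd1,
    show g * (d * e') * g⁻¹ * e⁻¹ = (g * d * g⁻¹) * (g * e' * g⁻¹) * e⁻¹ by group, hd3, mul_assoc,
    mul_inv_cancel_right]
  exact mul_mem hgd hgd

/-- Inverted elements of `U` translate. -/
theorem inverted_trans {r : G} (hr : r ∈ c.U) (hri : a * r * a⁻¹ = r⁻¹) :
    r ∈ transBy (A ⊓ c.W a) (zpowers f) := by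
  obtain ⟨j, hj⟩ := c.odd_of_mem_U hr
  have e : r = (r * r) ^ (j + 1) := by
    rw [← pow_two, ← pow_mul, show 2 * (j + 1) = orderOf r + 1 by omega, pow_succ, pow_orderOf_eq_one,
      one_mul]
  rw [e]
  exact pow_mem (L.sq_trans (c.U_le hr) hri) _

/-- The square of the rotation centralises `A`. -/
theorem x_sq_cent : c.d.x * c.d.x ∈ centralizer (A : Set G) := by
  haveI : Fact (Nat.Prime 2) := ⟨Nat.prime_two⟩
  have ht := L.sq_trans (c.P_le c.d.hx) L.refl.inv_x
  set s := c.d.x * c.d.x with hs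
  have hsC : s ∈ c.C := c.P_le (mul_mem c.d.hx c.d.hx)
  obtain ⟨k, hk⟩ := c.P.isPGroup' ⟨s, mul_mem c.d.hx c.d.hx⟩
  have hsk : s ^ 2 ^ k = 1 := congrArg Subtype.val hk
  have hE : ∀ e ∈ A ⊓ c.W a, s * e * s⁻¹ = e := by
    intro e he
    have hd := ht.2 e he
    set d := s * e * s⁻¹ * e⁻¹ with hdd
    have key : ∀ n : ℕ, s ^ n * e * (s ^ n)⁻¹ = d ^ n * e := fun n => trans_pow ht he n
    have h1 := key (2 ^ k)
    rw [hsk, one_mul, inv_one, mul_one, right_eq_mul] at h1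
    have hdA : d ∈ A := (zpowers_le.2 L.mem) hd
    have h2 : d = 1 := orderOf_eq_one_iff.1 (Nat.eq_one_of_dvd_coprimes
      (Nat.Coprime.pow_left k ((Nat.coprime_primes Nat.prime_two hq.out).2 (Ne.symm L.ne_two)))
      (orderOf_dvd_of_pow_eq_one h1) (orderOf_dvd_of_pow_eq_one (L.h.pow d hdA)))
    rw [hdd, mul_inv_eq_one] at h2
    exact h2
  refine mem_centralizer_iff.2 fun y hy => ?_
  obtain ⟨r, hrA, hri, hrw⟩ := L.h.split L.refl L.ne_two hy
  have h1 : Commute r s := mem_centralizer_iff.1 ht.1 r (L.line r hrA hri)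
  have h2 : Commute (r⁻¹ * y) s := (mul_inv_eq_iff_eq_mul.1 (hE _ hrw)).symm
  have h3 := h1.mul_left h2
  rwa [mul_inv_cancel_left] at h3

/-- The rotation normalises the fixed part. -/
theorem x_norm : ∀ e ∈ A ⊓ c.W a, c.d.x * e * c.d.x⁻¹ ∈ A ⊓ c.W a := by
  intro e he
  have hA' : c.d.x * e * c.d.x⁻¹ ∈ A := L.h.conj_mem (c.P_le c.d.hx) he.1
  refine ⟨hA', L.refl.mem_W.2 ⟨L.h.le_U L.ne_two hA', ?_⟩⟩
  have hae : a * e * a⁻¹ = e := mul_inv_eq_iff_eq_mul.2 ((L.refl.mem_W.1 he.2).2).symm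
  have hx2 : c.d.x * c.d.x * e = e * (c.d.x * c.d.x) := (mem_centralizer_iff.1 L.x_sq_cent e he.1).symm
  refine (mul_inv_eq_iff_eq_mul.1 ?_).symm
  calc a * (c.d.x * e * c.d.x⁻¹) * a⁻¹
      = (a * c.d.x * a⁻¹) * (a * e * a⁻¹) * (a * c.d.x * a⁻¹)⁻¹ := by group
    _ = c.d.x⁻¹ * (e * (c.d.x * c.d.x)) * c.d.x⁻¹ := by rw [L.refl.inv_x, hae]; group
    _ = c.d.x * e * c.d.x⁻¹ := by rw [← hx2]; group

/-- Every element of the fixed part is moved by a translation. -/
theorem moved (hm : c.Mixed a q) {e : G} (he : e ∈ A ⊓ c.W a) (he1 : e ≠ 1) :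
    ∃ v ∈ c.U ⊓ transBy (A ⊓ c.W a) (zpowers f), v * e ≠ e * v := by
  by_contra hno
  push Not at hno
  set E := A ⊓ c.W a with hE
  set U0 := c.U ⊓ transBy E (zpowers f) with hU0
  set Y := E ⊓ centralizer (U0 : Set G) with hY
  refine L.refl.no_normal L.hC L.ne_two hm (Y := Y) (s := q) (fun e0 => ?_)
    (inf_le_left.trans (inf_le_inf_right _ L.h.le)) ?_
  · have : e ∈ Y := ⟨he, mem_centralizer_iff.2 fun v hv => hno v hv⟩
    rw [e0, mem_bot] at this
    exact he1 this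
  have hP : ∀ s ∈ c.C, (∀ y ∈ E, s * y * s⁻¹ ∈ E) → ∀ y ∈ Y, s * y * s⁻¹ ∈ Y := by
    intro s hsC hsE y hy
    refine ⟨hsE y hy.1, mem_centralizer_iff.2 fun v hv => ?_⟩
    have hv' : s⁻¹ * v * s ∈ U0 := by
      refine ⟨?_, mem_transBy.2 ⟨mem_centralizer_iff.2 fun d hd => ?_, fun y' hy' => ?_⟩⟩
      · have := c.U_conj s⁻¹ (inv_mem hsC) v hv.1
        rwa [inv_inv] at this
      · have h1 : s * d * s⁻¹ * v = v * (s * d * s⁻¹) :=
          mem_centralizer_iff.1 hv.2.1 _ ((mem_normalizer_iff.1 (L.normal hsC) d).1 hd)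
        calc d * (s⁻¹ * v * s) = s⁻¹ * (s * d * s⁻¹ * v) * s := by group
          _ = s⁻¹ * v * s * d := by rw [h1]; group
      · have h2 := hv.2.2 _ (hsE y' hy')
        have h3 := (mem_normalizer_iff''.1 (L.normal hsC) _).1 h2
        rwa [show s⁻¹ * v * s * y' * (s⁻¹ * v * s)⁻¹ * y'⁻¹ =
          s⁻¹ * (v * (s * y' * s⁻¹) * v⁻¹ * (s * y' * s⁻¹)⁻¹) * s by group]
    have h1 : s⁻¹ * v * s * y = y * (s⁻¹ * v * s) := mem_centralizer_iff.1 hy.2 _ hv'
    calc v * (s * y * s⁻¹) = s * (s⁻¹ * v * s * y) * s⁻¹ := by group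
      _ = s * y * s⁻¹ * v := by rw [h1]; group
  intro g hg
  refine mem_normalizer_fintype fun y hy => ?_
  have haE : ∀ y ∈ E, a * y * a⁻¹ ∈ E := fun y hy => by
    rw [mul_inv_eq_iff_eq_mul.2 ((L.refl.mem_W.1 hy.2).2).symm]; exact hy
  have haY : a ∈ normalizer (Y : Set G) :=
    mem_normalizer_fintype (hP a L.refl.mem_C haE)
  have hxY : c.d.x ∈ normalizer (Y : Set G) :=
    mem_normalizer_fintype (hP _ (c.P_le c.d.hx) L.x_norm)
  have hUY : ∀ u ∈ c.U, u ∈ normalizer (Y : Set G) := by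
    intro u hu
    obtain ⟨r, hrU, hri, hw, -⟩ := L.refl.decomp hu
    rw [show u = r * (r⁻¹ * u) by group]
    refine mul_mem (mem_normalizer_fintype fun y hy => ?_) (mem_normalizer_fintype ?_)
    · show r * y * r⁻¹ ∈ Y
      rw [mem_centralizer_iff.1 hy.2 r ⟨hrU, L.inverted_trans hrU hri⟩, mul_inv_cancel_right]
      exact hy
    · refine hP _ (c.U_le (L.refl.W_le hw)) fun y hy => ⟨L.h.conj_mem (c.U_le (L.refl.W_le hw)) hy.1,
        L.refl.mem_W.2 ⟨L.h.le_U L.ne_two (L.h.conj_mem (c.U_le (L.refl.W_le hw)) hy.1), ?_⟩⟩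
      exact (((show Commute (r⁻¹ * u) a from (L.refl.mem_W.1 hw).2).mul_left (L.refl.mem_W.1 hy.2).2).mul_left
        (show Commute (r⁻¹ * u) a from (L.refl.mem_W.1 hw).2).inv_left).eq
  suffices g ∈ normalizer (Y : Set G) from (mem_normalizer_iff.1 this y).1 hy
  obtain ⟨u, hu, s, hs, rfl⟩ := c.U_sup g hg
  refine mul_mem (hUY u hu) ?_
  by_cases hsx : s ∈ zpowers c.d.x
  · exact (zpowers_le.2 hxY) hsx
  · have h1 := mul_mem haY ((zpowers_le.2 hxY) (c.d.idx a L.refl.1 s hs L.refl.2 hsx))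
    rwa [mul_inv_cancel_left] at h1

end NormalLine

end Core

end Cfsg.Agent.GW
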